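import Mathlib.AlgebraicGeometry.Gluing
import Mathlib.AlgebraicGeometry.AffineScheme
import Mathlib.AlgebraicGeometry.Restrict

/-!
# Glueing morphisms defined on the preimages of the affine opens of the base (helper42)

Let `p : P ⟶ Y` and let `e U hU : p⁻¹(U) ⟶ Z` be a family of morphisms indexed by the affine opens
of `Y`, compatible with restriction to basic opens.  Then the `e U hU` glue to a unique morphism
`P ⟶ Z`.  (The intersection of two affine opens is covered by opens that are basic in both.)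
-/

set_option autoImplicit false

universe u

namespace Groth.Agent.Lib.Helper42.RelProjGlue

open CategoryTheory CategoryTheory.Limits AlgebraicGeometry TopologicalSpace Opposite

variable {P Y Z : Scheme.{u}} (p : P ⟶ Y)

/-- transport of a family indexed by affine opens along an equality of opens. -/
lemma family_congr
    (e : ∀ (U : Y.Opens), IsAffineOpen U → (((p ⁻¹ᵁ U : P.Opens) : Scheme.{u}) ⟶ Z))
    {W W' : Y.Opens} (h : W = W') (hW : IsAffineOpen W) (hW' : IsAffineOpen W') :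
    e W hW = (P.isoOfEq (congrArg (fun U => p ⁻¹ᵁ U) h)).hom ≫ e W' hW' := by
  subst h
  rw [Scheme.isoOfEq_rfl]
  exact (Category.id_comp _).symm

/-- the members of a compatible family agree on overlaps, locally. -/
lemma family_agree
    (e : ∀ (U : Y.Opens), IsAffineOpen U → (((p ⁻¹ᵁ U : P.Opens) : Scheme.{u}) ⟶ Z))
    (hcompat : ∀ (U : Y.Opens) (hU : IsAffineOpen U) (r : Γ(Y, U)),
      P.homOfLE (p.preimage_mono (Y.basicOpen_le r)) ≫ e U hU =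
        e (Y.basicOpen r) (hU.basicOpen r))
    {U V : Y.Opens} (hU : IsAffineOpen U) (hV : IsAffineOpen V) (x : P)
    (hxU : x ∈ p ⁻¹ᵁ U) (hxV : x ∈ p ⁻¹ᵁ V) :
    ∃ (W : Y.Opens) (hWU : W ≤ U) (hWV : W ≤ V), x ∈ p ⁻¹ᵁ W ∧
      P.homOfLE (p.preimage_mono hWU) ≫ e U hU = P.homOfLE (p.preimage_mono hWV) ≫ e V hV := by
  obtain ⟨r, r', hrr', hx⟩ := exists_basicOpen_le_affine_inter hU hV (p x) ⟨hxU, hxV⟩
  refine ⟨Y.basicOpen r, Y.basicOpen_le r, hrr' ▸ Y.basicOpen_le r', hx, ?_⟩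
  rw [hcompat U hU r, family_congr p e hrr' (hU.basicOpen r) (hV.basicOpen r'),
    ← hcompat V hV r', ← Category.assoc]
  congr 1
  rw [← cancel_mono (p ⁻¹ᵁ V).ι, Category.assoc, Scheme.homOfLE_ι, Scheme.isoOfEq_hom_ι,
    Scheme.homOfLE_ι]

/-- compatible families glue. -/
theorem exists_glue
    (e : ∀ (U : Y.Opens), IsAffineOpen U → (((p ⁻¹ᵁ U : P.Opens) : Scheme.{u}) ⟶ Z))
    (hcompat : ∀ (U : Y.Opens) (hU : IsAffineOpen U) (r : Γ(Y, U)),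
      P.homOfLE (p.preimage_mono (Y.basicOpen_le r)) ≫ e U hU =
        e (Y.basicOpen r) (hU.basicOpen r)) :
    ∃ g : P ⟶ Z, ∀ (U : Y.Opens) (hU : IsAffineOpen U), (p ⁻¹ᵁ U).ι ≫ g = e U hU := by
  have hcov : IsOpenCover (fun i : Y.affineOpens => p ⁻¹ᵁ (i : Y.Opens)) := by
    change (⨆ i : Y.affineOpens, p ⁻¹ᵁ (i : Y.Opens)) = ⊤
    rw [← Scheme.Hom.preimage_iSup, iSup_affineOpens_eq_top]
    rfl
  let 𝒰 := P.openCoverOfIsOpenCover _ hcov
  have key : ∀ (i j : Y.affineOpens),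
      pullback.fst (p ⁻¹ᵁ (i : Y.Opens)).ι (p ⁻¹ᵁ (j : Y.Opens)).ι ≫ e i.1 i.2 =
        pullback.snd (p ⁻¹ᵁ (i : Y.Opens)).ι (p ⁻¹ᵁ (j : Y.Opens)).ι ≫ e j.1 j.2 := by
    intro i j
    have hpb := isPullback_opens_inf (p ⁻¹ᵁ (i : Y.Opens)) (p ⁻¹ᵁ (j : Y.Opens))
    have h1 : pullback.fst (p ⁻¹ᵁ (i : Y.Opens)).ι (p ⁻¹ᵁ (j : Y.Opens)).ι =
        hpb.isoPullback.inv ≫ P.homOfLE inf_le_left := by
      rw [Iso.eq_inv_comp]; exact hpb.isoPullback_hom_fst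
    have h2 : pullback.snd (p ⁻¹ᵁ (i : Y.Opens)).ι (p ⁻¹ᵁ (j : Y.Opens)).ι =
        hpb.isoPullback.inv ≫ P.homOfLE inf_le_right := by
      rw [Iso.eq_inv_comp]; exact hpb.isoPullback_hom_snd
    rw [h1, h2, Category.assoc, Category.assoc]
    congr 1
    refine Scheme.hom_ext_of_forall _ _ (fun x => ?_)
    obtain ⟨W, hWU, hWV, hxW, hW⟩ := family_agree p e hcompat i.2 j.2 x.1 x.2.1 x.2.2
    let X : P.Opens := p ⁻¹ᵁ (i : Y.Opens) ⊓ p ⁻¹ᵁ (j : Y.Opens)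
    let O : X.toScheme.Opens := X.ι ⁻¹ᵁ (p ⁻¹ᵁ W)
    refine ⟨O, hxW, ?_⟩
    have hrange : Set.range (O.ι ≫ X.ι) ⊆ Set.range (p ⁻¹ᵁ W).ι := by
      rintro _ ⟨y, rfl⟩
      have : (O.ι ≫ X.ι) y ∈ p ⁻¹ᵁ W := y.2
      rw [Scheme.Opens.range_ι]
      exact this
    let t : O.toScheme ⟶ (p ⁻¹ᵁ W).toScheme :=
      IsOpenImmersion.lift (p ⁻¹ᵁ W).ι (O.ι ≫ X.ι) hrange
    have ht : t ≫ (p ⁻¹ᵁ W).ι = O.ι ≫ X.ι := IsOpenImmersion.lift_fac _ _ _
    have e1 : O.ι ≫ P.homOfLE (inf_le_left : X ≤ p ⁻¹ᵁ (i : Y.Opens)) =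
        t ≫ P.homOfLE (p.preimage_mono hWU) := by
      rw [← cancel_mono (p ⁻¹ᵁ (i : Y.Opens)).ι, Category.assoc, Category.assoc,
        Scheme.homOfLE_ι, Scheme.homOfLE_ι, ht]
    have e2 : O.ι ≫ P.homOfLE (inf_le_right : X ≤ p ⁻¹ᵁ (j : Y.Opens)) =
        t ≫ P.homOfLE (p.preimage_mono hWV) := by
      rw [← cancel_mono (p ⁻¹ᵁ (j : Y.Opens)).ι, Category.assoc, Category.assoc,
        Scheme.homOfLE_ι, Scheme.homOfLE_ι, ht]
    rw [← Category.assoc, ← Category.assoc, e1, e2, Category.assoc, Category.assoc, hW]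
  refine ⟨𝒰.glueMorphisms (fun i : Y.affineOpens => e i.1 i.2) key, ?_⟩
  intro U hU
  exact 𝒰.ι_glueMorphisms (fun i : Y.affineOpens => e i.1 i.2) key ⟨U, hU⟩

/-- morphisms out of `P` are determined on the preimages of the affine opens. -/
theorem hom_ext_affineOpens {g g' : P ⟶ Z}
    (h : ∀ (U : Y.Opens) (_ : IsAffineOpen U), (p ⁻¹ᵁ U).ι ≫ g = (p ⁻¹ᵁ U).ι ≫ g') : g = g' := by
  refine Scheme.hom_ext_of_forall _ _ (fun x => ?_)
  obtain ⟨U, hU, hxU, -⟩ := TopologicalSpace.Opens.isBasis_iff_nbhd.mp Y.isBasis_affineOpens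
    (show p x ∈ (⊤ : Y.Opens) from trivial)
  exact ⟨p ⁻¹ᵁ U, hxU, h U hU⟩

/-- compatible families glue uniquely. -/
theorem existsUnique_glue
    (e : ∀ (U : Y.Opens), IsAffineOpen U → (((p ⁻¹ᵁ U : P.Opens) : Scheme.{u}) ⟶ Z))
    (hcompat : ∀ (U : Y.Opens) (hU : IsAffineOpen U) (r : Γ(Y, U)),
      P.homOfLE (p.preimage_mono (Y.basicOpen_le r)) ≫ e U hU =
        e (Y.basicOpen r) (hU.basicOpen r)) :
    ∃! g : P ⟶ Z, ∀ (U : Y.Opens) (hU : IsAffineOpen U), (p ⁻¹ᵁ U).ι ≫ g = e U hU := by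
  obtain ⟨g, hg⟩ := exists_glue p e hcompat
  refine ⟨g, hg, fun g' hg' => ?_⟩
  exact hom_ext_affineOpens p (fun U hU => by rw [hg U hU, hg' U hU])

end Groth.Agent.Lib.Helper42.RelProjGlue
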