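import Groth.Agent.Lib.Helper42.ProjLoc

/-!
# Closed immersions of homogeneous spectra (helper42)

A graded homomorphism `ψ : 𝒜 → ℬ` which is surjective in positive degrees induces a closed
immersion `Proj ℬ ⟶ Proj 𝒜`; a graded ring generated by its parts of degree `0` and `1` is
generated in positive degrees by degree one.
-/

set_option autoImplicit false

universe u

namespace Groth.Agent.Lib.Helper42.ProjClosed

open CategoryTheory CategoryTheory.Limits AlgebraicGeometry TopologicalSpace Opposite
open HomogeneousLocalization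

variable {A B σ τ : Type u} [CommRing A] [SetLike σ A] [AddSubgroupClass σ A]
  {𝒜 : ℕ → σ} [GradedRing 𝒜]
  [CommRing B] [SetLike τ B] [AddSubgroupClass τ B] {ℬ : ℕ → τ} [GradedRing ℬ]

/-- in a graded ring generated by its parts of degree `0` and `1`, the part of degree `n ≥ 1` lies
in any multiplicative family of additive subgroups containing the part of degree one. -/
theorem grade_le_of_genDegOne
    (hgen : Subring.closure ((ℬ 0 : Set B) ∪ (ℬ 1 : Set B)) = ⊤)
    (N : ℕ → AddSubgroup B) (h1 : ∀ x ∈ ℬ 1, x ∈ N 1)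
    (hmul : ∀ (i j : ℕ) (x y : B), x ∈ N i → y ∈ N j → x * y ∈ N (i + j)) :
    ∀ n : ℕ, 1 ≤ n → ∀ s ∈ ℬ n, s ∈ N n := by
  classical
  -- the subgroups `K n` of elements all of whose multiples by degree-zero elements lie in `N n`
  let K : ℕ → AddSubgroup B := fun n =>
    { carrier := {x | ∀ a ∈ ℬ 0, a * x ∈ N n}
      add_mem' := fun {x y} hx hy a ha => by
        rw [mul_add]; exact (N n).add_mem (hx a ha) (hy a ha)
      zero_mem' := fun a _ => by rw [mul_zero]; exact (N n).zero_mem
      neg_mem' := fun {x} hx a ha => by rw [mul_neg]; exact (N n).neg_mem (hx a ha) }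
  have hone : (1 : B) ∈ ℬ 0 := SetLike.GradedOne.one_mem
  have hKN : ∀ n x, x ∈ K n → x ∈ N n := fun n x hx => by
    have := hx 1 hone
    rwa [one_mul] at this
  have hK1 : ∀ x ∈ ℬ 1, x ∈ K 1 := fun x hx a ha => by
    have h : a * x ∈ ℬ (0 + 1) := SetLike.mul_mem_graded ha hx
    rw [zero_add] at h
    exact h1 _ h
  have hKmul : ∀ (i j : ℕ) (x y : B), x ∈ K i → y ∈ K j → x * y ∈ K (i + j) :=
    fun i j x y hx hy a ha => by
      rw [← mul_assoc]
      exact hmul i j _ _ (hx a ha) (hKN j y hy)
  have hK0 : ∀ (n : ℕ) (a x : B), a ∈ ℬ 0 → x ∈ K n → a * x ∈ K n := fun n a x ha hx a' ha' => by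
    rw [← mul_assoc]
    have h : a' * a ∈ ℬ (0 + 0) := SetLike.mul_mem_graded ha' ha
    rw [zero_add] at h
    exact hx _ h
  have key : ∀ s : B, ∀ n : ℕ, 1 ≤ n → ((DirectSum.decompose ℬ s n : ℬ n) : B) ∈ K n := by
    intro s
    have hs : s ∈ Subring.closure ((ℬ 0 : Set B) ∪ (ℬ 1 : Set B)) := by rw [hgen]; trivial
    induction hs using Subring.closure_induction with
    | mem x hx =>
      intro n hn
      rcases hx with hx | hx
      · rw [DirectSum.decompose_of_mem_ne ℬ hx (by omega : (0 : ℕ) ≠ n)]
        exact (K n).zero_mem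
      · by_cases h : n = 1
        · subst h
          rw [DirectSum.decompose_of_mem_same ℬ hx]
          exact hK1 x hx
        · rw [DirectSum.decompose_of_mem_ne ℬ hx (fun h' => h h'.symm)]
          exact (K n).zero_mem
    | zero =>
      intro n _
      rw [DirectSum.decompose_zero]
      exact (K n).zero_mem
    | one =>
      intro n hn
      rw [DirectSum.decompose_of_mem_ne ℬ hone (by omega : (0 : ℕ) ≠ n)]
      exact (K n).zero_mem
    | add x y _ _ hx hy =>
      intro n hn
      rw [DirectSum.decompose_add]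
      exact (K n).add_mem (hx n hn) (hy n hn)
    | neg x _ hx =>
      intro n hn
      rw [DirectSum.decompose_neg]
      exact (K n).neg_mem (hx n hn)
    | mul x y _ _ hx hy =>
      intro n hn
      rw [DirectSum.decompose_mul, DirectSum.coe_mul_apply_eq_sum_antidiagonal]
      refine (K n).sum_mem (fun ij hij => ?_)
      obtain ⟨i, j⟩ := ij
      have hsum : i + j = n := Finset.mem_antidiagonal.mp hij
      change ((DirectSum.decompose ℬ x i : ℬ i) : B) * ((DirectSum.decompose ℬ y j : ℬ j) : B) ∈ K n
      subst hsum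
      by_cases h1 : i = 0
      · subst h1
        have := hK0 j _ _ (SetLike.coe_mem (DirectSum.decompose ℬ x 0)) (hy j (by omega))
        rw [zero_add]
        exact this
      · by_cases h2 : j = 0
        · subst h2
          rw [mul_comm, add_zero]
          exact hK0 i _ _ (SetLike.coe_mem (DirectSum.decompose ℬ y 0)) (hx i (by omega))
        · exact hKmul i j _ _ (hx i (by omega)) (hy j (by omega))
  intro n hn s hs
  have := key s n hn
  rw [DirectSum.decompose_of_mem_same ℬ hs] at this
  exact hKN n s this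

section closed

variable (ψ : 𝒜 →+*ᵍ ℬ)
  (hirr : HomogeneousIdeal.irrelevant ℬ ≤ (HomogeneousIdeal.irrelevant 𝒜).map ψ)
  (hpos : ∀ n : ℕ, 1 ≤ n → ∀ s ∈ ℬ n, ∃ t ∈ 𝒜 n, ψ t = s)

include hpos in
/-- a graded homomorphism surjective in positive degrees is surjective on the degree-zero
localizations at homogeneous elements of positive degree. -/
theorem awayMap_surjective {d : ℕ} (hd : 0 < d) {g : A} (hg : g ∈ 𝒜 d) :
    Function.Surjective (Away.map ψ g) := by
  intro z
  obtain ⟨n, s, hs, rfl⟩ := Away.mk_surjective ℬ (GradedFunLike.map_mem ψ hg) z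
  have hsg : s * ψ g ∈ ℬ ((n + 1) • d) := by
    have h := SetLike.mul_mem_graded hs (GradedFunLike.map_mem ψ hg)
    have e : n • d + d = (n + 1) • d := by rw [add_smul, one_smul]
    rw [e] at h
    exact h
  have hpos' : 1 ≤ (n + 1) • d := by
    rw [smul_eq_mul]
    exact Nat.succ_le_of_lt (Nat.mul_pos (Nat.succ_pos n) hd)
  obtain ⟨t, ht, hts⟩ := hpos _ hpos' _ hsg
  refine ⟨Away.mk 𝒜 hg (n + 1) t ht, ?_⟩
  rw [Away.map_mk]
  ext
  simp only [Away.val_mk]
  rw [Localization.mk_eq_mk_iff, Localization.r_iff_exists]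
  refine ⟨1, ?_⟩
  simp only [OneMemClass.coe_one, one_mul, hts]
  ring

include hpos in
/-- a graded homomorphism surjective in positive degrees induces a closed immersion of homogeneous
spectra. -/
theorem isClosedImmersion_map : IsClosedImmersion (Proj.map ψ hirr) := by
  refine LocalGlue.of_family_isPullback (Q := @IsClosedImmersion) (Proj.map ψ hirr)
    (J := ProjDom.Idx 𝒜) (fun j => Spec (CommRingCat.of (Away 𝒜 j.f)))
    (fun j => Proj.awayι 𝒜 j.f j.hf j.hd) ProjLoc.awayι_covers
    (fun j => Spec (CommRingCat.of (Away ℬ (ψ j.f))))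
    (fun j => Proj.awayι ℬ (ψ j.f) (GradedFunLike.map_mem ψ j.hf) j.hd)
    (fun j => Spec.map (CommRingCat.ofHom (Away.map ψ j.f)))
    (fun j => ProjLoc.isPullback_awayι ψ hirr j.hd j.hf) (fun j => ?_)
  exact IsClosedImmersion.spec_of_surjective _ (awayMap_surjective ψ hpos j.hd j.hf)

end closed

end Groth.Agent.Lib.Helper42.ProjClosed
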