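import Groth.Agent.Lib.Helper42.ProjQAffine
import Mathlib.AlgebraicGeometry.Morphisms.ClosedImmersion

/-!
# Local properties of `Proj(u)` read on the standard charts (helper42)

For a graded `g`-morphism `u : 𝒮 → 𝒮'` and the morphism `v : G(u) ⟶ Proj(𝒮)` it induces: over an
affine pair `(U, U')` with `U' = g⁻¹(U)`, the standard chart of `G(u)` at `(U, U', f)` is the
pullback along `v` of the standard chart `D_+(f)` of `Proj(𝒮)` over `U`; consequently a property of
morphisms local on the target holds for `v` as soon as it holds for the morphisms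
`Spec 𝒮'(U')_(u f) ⟶ Spec 𝒮(U)_(f)`.
-/

set_option autoImplicit false

universe v u

namespace Groth.Agent.Lib.Helper42.LocalGlue

open CategoryTheory CategoryTheory.Limits AlgebraicGeometry TopologicalSpace Opposite

/-- a property local on the target holds for `v` when it holds for the base changes of `v` along a
jointly surjective family of open immersions, these base changes being given by pullback squares. -/
theorem of_family_isPullback {Q : MorphismProperty Scheme.{u}} [IsZariskiLocalAtTarget Q]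
    {T Z : Scheme.{u}} (v : T ⟶ Z) {J : Type v} (X : J → Scheme.{u}) (c : ∀ j, X j ⟶ Z)
    [∀ j, IsOpenImmersion (c j)] (hcov : ∀ z : Z, ∃ j, z ∈ Set.range (c j).base)
    (X' : J → Scheme.{u}) (c' : ∀ j, X' j ⟶ T) (w : ∀ j, X' j ⟶ X j)
    (hpb : ∀ j, IsPullback (c' j) (w j) v (c j)) (hw : ∀ j, Q (w j)) : Q v := by
  let 𝒰 : Z.OpenCover := Scheme.Cover.mkOfCovers J X c (fun t => by
    obtain ⟨j, y, hy⟩ := hcov t
    exact ⟨j, y, hy⟩)
  rw [IsZariskiLocalAtTarget.iff_of_openCover (P := Q) 𝒰]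
  intro j
  change Q (pullback.snd v (c j))
  have h2 : (hpb j).isoPullback.hom ≫ pullback.snd v (c j) = w j := (hpb j).isoPullback_hom_snd
  have h3 : pullback.snd v (c j) = (hpb j).isoPullback.inv ≫ w j := (Iso.eq_inv_comp _).2 h2
  rw [h3]
  exact (MorphismProperty.cancel_left_of_respectsIso Q _ _).mpr (hw j)

end Groth.Agent.Lib.Helper42.LocalGlue

namespace Groth.Agent.Lib.Helper42.ProjQ

open CategoryTheory CategoryTheory.Limits AlgebraicGeometry TopologicalSpace Opposite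
open HomogeneousLocalization

/-- index type of the standard charts of a relative `Proj`. -/
structure PIdx {Y : Scheme.{u}} (𝒮 : RelProj.QCGrAlg Y) where
  U : Y.Opens
  hU : IsAffineOpen U
  d : ℕ
  hd : 0 < d
  f : 𝒮.presheaf.obj (op U)
  hf : f ∈ 𝒮.deg U hU d

variable {Y Y' : Scheme.{u}} {g : Y' ⟶ Y} {𝒮 : RelProj.QCGrAlg Y} {𝒮' : RelProj.QCGrAlg Y'}
  {u : RelProj.QGrHom g 𝒮 𝒮'}
  {P : Scheme.{u}} {p : P ⟶ Y}
  {chart : ∀ (U : Y.Opens) (hU : IsAffineOpen U), (((p ⁻¹ᵁ U : P.Opens) : Scheme.{u}) ≅ Proj (𝒮.deg U hU))}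
  {P' : Scheme.{u}} {p' : P' ⟶ Y'}
  {chart' : ∀ (U' : Y'.Opens) (hU' : IsAffineOpen U'),
    (((p' ⁻¹ᵁ U' : P'.Opens) : Scheme.{u}) ≅ Proj (𝒮'.deg U' hU'))}

variable (p chart) in
/-- the standard chart `Spec 𝒮(U)_(f) ⟶ P` of a relative `Proj`. -/
noncomputable def PIdx.pchart (i : PIdx 𝒮) : Spec (CommRingCat.of (Away (𝒮.deg i.U i.hU) i.f)) ⟶ P :=
  Proj.awayι (𝒮.deg i.U i.hU) i.f i.hf i.hd ≫ RelProj.emb p chart i.U i.hU

instance (i : PIdx 𝒮) : IsOpenImmersion (i.pchart p chart) := by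
  unfold PIdx.pchart
  infer_instance

/-- the standard charts cover a relative `Proj`. -/
theorem pchart_covers (x : P) : ∃ i : PIdx 𝒮, x ∈ Set.range (i.pchart p chart).base := by
  obtain ⟨U, hU, hxU⟩ : ∃ U : Y.Opens, IsAffineOpen U ∧ p.base x ∈ U := by
    obtain ⟨_, ⟨V, hV, rfl⟩, hxV, -⟩ := (Y.isBasis_affineOpens).exists_subset_of_mem_open
      (Set.mem_univ (p.base x)) isOpen_univ
    exact ⟨V, hV, hxV⟩
  have hx : x ∈ Set.range (RelProj.emb p chart U hU).base := by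
    rw [range_emb]; exact hxU
  obtain ⟨y₀, rfl⟩ := hx
  obtain ⟨d, hd, f, hf, hy₀⟩ := ProjDom.exists_mem_basicOpen (𝒜 := 𝒮.deg U hU) y₀
  obtain ⟨z, hz⟩ := (Proj.opensRange_awayι (𝒮.deg U hU) f hf hd).ge hy₀
  refine ⟨⟨U, hU, d, hd, f, hf⟩, z, ?_⟩
  unfold PIdx.pchart
  rw [Scheme.Hom.comp_base, TopCat.coe_comp, Function.comp_apply]
  exact congrArg _ hz

/-- over an affine pair `(U, U')` with `U' = g⁻¹(U)`, the preimage under `Proj(u)` of the standard
chart `D_+(f)` over `U` is the standard chart of `G(u)` at `(U, U', f)`. -/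
theorem preimage_opensRange_chart (hP : RelProj.IsRelProj 𝒮 p chart)
    (hP' : RelProj.IsRelProj 𝒮' p' chart')
    {v : ((RelProj.domQ u p' chart' : P'.Opens) : Scheme.{u}) ⟶ P}
    (hv : RelProj.IsProjQMapOn u p chart p' chart' (RelProj.domQ u p' chart') v)
    (U : Y.Opens) (hU : IsAffineOpen U) (U' : Y'.Opens) (hU' : IsAffineOpen U')
    (hle : U' ≤ g ⁻¹ᵁ U) (hge : g ⁻¹ᵁ U ≤ U') {d : ℕ} (hd : 0 < d) {f : 𝒮.presheaf.obj (op U)}
    (hf : f ∈ 𝒮.deg U hU d) :
    v ⁻¹ᵁ (PIdx.pchart p chart ⟨U, hU, d, hd, f, hf⟩).opensRange =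
      (QIdx.emb u p' chart' ⟨U, hU, U', hU', hle, d, hd, f, hf⟩).opensRange := by
  ext t
  constructor
  · rintro ⟨z₀, hz₀⟩
    have hz₀' : (RelProj.emb p chart U hU).base
        ((Proj.awayι (𝒮.deg U hU) f hf hd).base z₀) = v.base t := hz₀
    have hcomp := isProjQMapOn_comp hP hP' hv
    have htU : p'.base ((RelProj.domQ u p' chart').ι.base t) ∈ U' := by
      apply hge
      change g.base (p'.base ((RelProj.domQ u p' chart').ι.base t)) ∈ U
      have h1 : p.base (v.base t) ∈ U := by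
        have h2 : v.base t ∈ Set.range (RelProj.emb p chart U hU).base := ⟨_, hz₀'⟩
        rw [range_emb] at h2
        exact h2
      have h3 := congrArg (fun ψ => ψ.base t) hcomp
      simp only [Scheme.Hom.comp_base, TopCat.comp_app] at h3
      rw [h3] at h1
      exact h1
    exact mem_range_emb_of_map_mem hP hP' hv U hU U' hU' hle hd hf t htU
      ((Proj.awayι (𝒮.deg U hU) f hf hd).base z₀)
      ((Proj.opensRange_awayι (𝒮.deg U hU) f hf hd).le ⟨z₀, rfl⟩) hz₀'.symm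
  · rintro ⟨z, rfl⟩
    have h1 := hv U hU U' hU' hle d hd f hf
      (RelProj.range_awayEmb_subset_domQ u p' chart' U hU U' hU' hle hd f hf)
    have h2 := congrArg (fun ψ => ψ.base z) h1
    exact ⟨(Spec.map (CommRingCat.ofHom (Away.map (u.gradedAt U hU U' hU' hle) f))).base z, h2.symm⟩

/-- over an affine pair `(U, U')` with `U' = g⁻¹(U)`, the standard chart of `G(u)` at `(U, U', f)`
is the pullback along `Proj(u)` of the standard chart `D_+(f)` over `U`. -/
theorem isPullback_chart (hP : RelProj.IsRelProj 𝒮 p chart)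
    (hP' : RelProj.IsRelProj 𝒮' p' chart')
    {v : ((RelProj.domQ u p' chart' : P'.Opens) : Scheme.{u}) ⟶ P}
    (hv : RelProj.IsProjQMapOn u p chart p' chart' (RelProj.domQ u p' chart') v)
    (U : Y.Opens) (hU : IsAffineOpen U) (U' : Y'.Opens) (hU' : IsAffineOpen U')
    (hle : U' ≤ g ⁻¹ᵁ U) (hge : g ⁻¹ᵁ U ≤ U') {d : ℕ} (hd : 0 < d) {f : 𝒮.presheaf.obj (op U)}
    (hf : f ∈ 𝒮.deg U hU d) :
    IsPullback (QIdx.emb u p' chart' ⟨U, hU, U', hU', hle, d, hd, f, hf⟩)
      (Spec.map (CommRingCat.ofHom (Away.map (u.gradedAt U hU U' hU' hle) f))) v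
      (PIdx.pchart p chart ⟨U, hU, d, hd, f, hf⟩) :=
  (IsOpenImmersion.isPullback
    (Spec.map (CommRingCat.ofHom (Away.map (u.gradedAt U hU U' hU' hle) f)))
    (QIdx.emb u p' chart' ⟨U, hU, U', hU', hle, d, hd, f, hf⟩)
    (PIdx.pchart p chart ⟨U, hU, d, hd, f, hf⟩) v
    (hv U hU U' hU' hle d hd f hf
      (RelProj.range_awayEmb_subset_domQ u p' chart' U hU U' hU' hle hd f hf))
    (preimage_opensRange_chart hP hP' hv U hU U' hU' hle hge hd hf)).flip

/-- a property of morphisms local on the target holds for `Proj(u) : G(u) ⟶ Proj(𝒮)`, `g` having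
affine preimages of affine opens, as soon as it holds for the morphisms
`Spec 𝒮'(g⁻¹U)_(u f) ⟶ Spec 𝒮(U)_(f)`. -/
theorem of_charts {Q : MorphismProperty Scheme.{u}} [IsZariskiLocalAtTarget Q]
    (hP : RelProj.IsRelProj 𝒮 p chart) (hP' : RelProj.IsRelProj 𝒮' p' chart')
    {v : ((RelProj.domQ u p' chart' : P'.Opens) : Scheme.{u}) ⟶ P}
    (hv : RelProj.IsProjQMapOn u p chart p' chart' (RelProj.domQ u p' chart') v)
    (hg : ∀ U : Y.Opens, IsAffineOpen U → IsAffineOpen (g ⁻¹ᵁ U))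
    (H : ∀ (U : Y.Opens) (hU : IsAffineOpen U) (d : ℕ) (_ : 0 < d) (f : 𝒮.presheaf.obj (op U))
      (_ : f ∈ 𝒮.deg U hU d), Q (Spec.map (CommRingCat.ofHom
        (Away.map (u.gradedAt U hU (g ⁻¹ᵁ U) (hg U hU) le_rfl) f)))) : Q v :=
  LocalGlue.of_family_isPullback v (J := PIdx 𝒮)
    (fun i => Spec (CommRingCat.of (Away (𝒮.deg i.U i.hU) i.f))) (fun i => i.pchart p chart)
    (pchart_covers (p := p) (chart := chart))
    (fun i => Spec (CommRingCat.of (Away (𝒮'.deg (g ⁻¹ᵁ i.U) (hg i.U i.hU))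
      (u.gradedAt i.U i.hU (g ⁻¹ᵁ i.U) (hg i.U i.hU) le_rfl i.f))))
    (fun i => QIdx.emb u p' chart' ⟨i.U, i.hU, g ⁻¹ᵁ i.U, hg i.U i.hU, le_rfl, i.d, i.hd, i.f, i.hf⟩)
    (fun i => Spec.map (CommRingCat.ofHom
        (Away.map (u.gradedAt i.U i.hU (g ⁻¹ᵁ i.U) (hg i.U i.hU) le_rfl) i.f)))
    (fun i => isPullback_chart hP hP' hv i.U i.hU (g ⁻¹ᵁ i.U) (hg i.U i.hU) le_rfl le_rfl i.hd i.hf)
    (fun i => H i.U i.hU i.d i.hd i.f i.hf)

/-- a morphism `h : P' ⟶ P` satisfying the chart equations everywhere restricts to a morphism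
satisfying them on `G(u)`. -/
theorem isProjQMapOn_of_isProjQMap {h : P' ⟶ P} (hh : RelProj.IsProjQMap u p chart p' chart' h) :
    RelProj.IsProjQMapOn u p chart p' chart' (RelProj.domQ u p' chart')
      ((RelProj.domQ u p' chart').ι ≫ h) := by
  intro U hU U' hU' hle d hd f hf hW
  rw [← Category.assoc, IsOpenImmersion.lift_fac]
  exact hh.2 U hU U' hU' hle d hd f hf

/-- the inclusion of `G(u)` is an isomorphism when `G(u)` is everything. -/
theorem isIso_ι_of_eq_top (htop : RelProj.domQ u p' chart' = ⊤) :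
    IsIso (RelProj.domQ u p' chart').ι := by
  rw [htop]
  exact (Scheme.topIso P').isIso_hom

/-- a property of morphisms local on the target holds for an everywhere defined `Proj(u)`, `g`
having affine preimages of affine opens, as soon as it holds for the morphisms
`Spec 𝒮'(g⁻¹U)_(u f) ⟶ Spec 𝒮(U)_(f)`. -/
theorem of_charts_top {Q : MorphismProperty Scheme.{u}} [IsZariskiLocalAtTarget Q]
    (hP : RelProj.IsRelProj 𝒮 p chart) (hP' : RelProj.IsRelProj 𝒮' p' chart')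
    {h : P' ⟶ P} (hh : RelProj.IsProjQMap u p chart p' chart' h)
    (hg : ∀ U : Y.Opens, IsAffineOpen U → IsAffineOpen (g ⁻¹ᵁ U))
    (H : ∀ (U : Y.Opens) (hU : IsAffineOpen U) (d : ℕ) (_ : 0 < d) (f : 𝒮.presheaf.obj (op U))
      (_ : f ∈ 𝒮.deg U hU d), Q (Spec.map (CommRingCat.ofHom
        (Away.map (u.gradedAt U hU (g ⁻¹ᵁ U) (hg U hU) le_rfl) f)))) : Q h := by
  have h1 : Q ((RelProj.domQ u p' chart').ι ≫ h) :=
    of_charts hP hP' (isProjQMapOn_of_isProjQMap hh) hg H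
  have : IsIso (RelProj.domQ u p' chart').ι := isIso_ι_of_eq_top hh.1
  exact (MorphismProperty.cancel_left_of_respectsIso Q _ _).mp h1

/-- `G(u)` is everything when, `g` having affine preimages of affine opens, the morphisms of
homogeneous spectra over the affine opens of the base are everywhere defined. -/
theorem domQ_eq_top_of_forall (hg : ∀ U : Y.Opens, IsAffineOpen U → IsAffineOpen (g ⁻¹ᵁ U))
    (H : ∀ (U : Y.Opens) (hU : IsAffineOpen U),
      RelCone.domOpen (u.gradedAt U hU (g ⁻¹ᵁ U) (hg U hU) le_rfl) = ⊤) :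
    RelProj.domQ u p' chart' = ⊤ := by
  rw [eq_top_iff]
  intro x _
  obtain ⟨U, hU, hxU⟩ : ∃ U : Y.Opens, IsAffineOpen U ∧ g.base (p'.base x) ∈ U := by
    obtain ⟨_, ⟨V, hV, rfl⟩, hxV, -⟩ := (Y.isBasis_affineOpens).exists_subset_of_mem_open
      (Set.mem_univ (g.base (p'.base x))) isOpen_univ
    exact ⟨V, hV, hxV⟩
  have hx : x ∈ Set.range (RelProj.emb p' chart' (g ⁻¹ᵁ U) (hg U hU)).base := by
    rw [range_emb]; exact hxU
  obtain ⟨y, rfl⟩ := hx
  refine TopologicalSpace.Opens.mem_iSup.mpr ⟨⟨(⟨U, hU⟩, ⟨g ⁻¹ᵁ U, hg U hU⟩), le_rfl⟩, ?_⟩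
  refine ⟨y, ?_, rfl⟩
  change y ∈ RelCone.domOpen (u.gradedAt U hU (g ⁻¹ᵁ U) (hg U hU) le_rfl)
  rw [H U hU]
  trivial

end Groth.Agent.Lib.Helper42.ProjQ
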