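import Groth.Agent.Lib.Helper42.ProjDomAffine
import Groth.Agent.Lib.Helper42.ProjQLocal

/-!
# Proj of a localization at a degree-zero element (helper42)

Let `ψ : 𝒜 →+*ᵍ ℬ` be a graded homomorphism making `ℬ` the localization of `𝒜` at an element `c` of
degree zero.  Then `ℬ_(ψ f)` is the localization of `𝒜_(f)` at `c / 1`, the morphism
`Proj ℬ ⟶ Proj 𝒜` is an open immersion, and its image is the locus where `c` is invertible.
-/

set_option autoImplicit false

universe u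

namespace Groth.Agent.Lib.Helper42.ProjLoc

open CategoryTheory CategoryTheory.Limits AlgebraicGeometry TopologicalSpace Opposite
open HomogeneousLocalization

variable {A B σ τ : Type u} [CommRing A] [SetLike σ A] [AddSubgroupClass σ A]
  {𝒜 : ℕ → σ} [GradedRing 𝒜]
  [CommRing B] [SetLike τ B] [AddSubgroupClass τ B] {ℬ : ℕ → τ} [GradedRing ℬ]

/-- the inverse of a unit of degree zero has degree zero. -/
theorem inv_mem_zero {u v : B} (hu : u ∈ ℬ 0) (huv : u * v = 1) : v ∈ ℬ 0 := by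
  classical
  have h1 : ((DirectSum.decompose ℬ (u * v) (0 + 0) : ℬ (0 + 0)) : B) =
      u * ((DirectSum.decompose ℬ v 0 : ℬ 0) : B) :=
    DirectSum.coe_decompose_mul_add_of_left_mem ℬ hu
  have h2 : ((DirectSum.decompose ℬ (1 : B) 0 : ℬ 0) : B) = 1 :=
    DirectSum.decompose_of_mem_same ℬ (SetLike.GradedOne.one_mem)
  have h3 : u * ((DirectSum.decompose ℬ v 0 : ℬ 0) : B) = 1 := by
    rw [← h1, huv]
    exact h2
  have h4 : v = ((DirectSum.decompose ℬ v 0 : ℬ 0) : B) := by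
    calc v = v * (u * ((DirectSum.decompose ℬ v 0 : ℬ 0) : B)) := by rw [h3, mul_one]
      _ = (u * v) * ((DirectSum.decompose ℬ v 0 : ℬ 0) : B) := by ring
      _ = ((DirectSum.decompose ℬ v 0 : ℬ 0) : B) := by rw [huv, one_mul]
  rw [h4]
  exact SetLike.coe_mem _

section loc

variable (ψ : 𝒜 →+*ᵍ ℬ) {c : A} (hc : c ∈ 𝒜 0)
  (hunit : IsUnit (ψ c))
  (hsurj : ∀ b : B, ∃ (a : A) (m : ℕ), b * ψ c ^ m = ψ a)
  (hker : ∀ a : A, ψ a = 0 → ∃ m : ℕ, c ^ m * a = 0)

/-- the element `c / 1` of `𝒜_(f)`. -/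
noncomputable abbrev cElem {d : ℕ} {f : A} (hf : f ∈ 𝒜 d) : Away 𝒜 f :=
  Away.mk 𝒜 hf 0 c (by rw [zero_smul]; exact hc)

include hunit hsurj hker in
/-- `ℬ_(ψ f)` is the localization of `𝒜_(f)` at `c / 1`. -/
theorem isLocalization_away_map {d : ℕ} {f : A} (hf : f ∈ 𝒜 d) :
    letI := (Away.map ψ f).toAlgebra
    IsLocalization.Away (cElem hc hf) (Away ℬ (ψ f)) := by
  classical
  letI := (Away.map ψ f).toAlgebra
  have hψc : ψ c ∈ ℬ 0 := GradedFunLike.map_mem ψ hc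
  obtain ⟨v, hv⟩ := isUnit_iff_exists_inv.mp hunit
  have hv0 : v ∈ ℬ 0 := inv_mem_zero hψc hv
  constructor; constructor
  · rintro ⟨r, n, rfl⟩
    rw [map_pow, RingHom.algebraMap_toAlgebra]
    let z : Away ℬ (ψ f) := Away.mk ℬ (GradedFunLike.map_mem ψ hf) 0 v
      (by rw [zero_smul]; exact hv0)
    refine (isUnit_iff_exists_inv.mpr ⟨z, ?_⟩).pow _
    rw [Away.map_mk]
    ext
    simp only [val_mul, val_one, Away.val_mk, z, Localization.mk_mul]
    rw [← Localization.mk_one, Localization.mk_eq_mk_iff, Localization.r_iff_exists]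
    use 1
    simp only [OneMemClass.coe_one, one_mul, Submonoid.coe_mul, mul_one, pow_zero, hv]
  · intro z
    obtain ⟨n, s, hs, rfl⟩ := Away.mk_surjective ℬ (GradedFunLike.map_mem ψ hf) z
    obtain ⟨a, m, ham⟩ := hsurj s
    have hsm : s * ψ c ^ m ∈ ℬ (n • d) := by
      have h1 : ψ c ^ m ∈ ℬ (m • 0) := SetLike.pow_mem_graded m hψc
      have h2 := SetLike.mul_mem_graded hs h1
      simpa using h2
    have ha' : ψ ((DirectSum.decompose 𝒜 a (n • d) : 𝒜 (n • d)) : A) = s * ψ c ^ m := by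
      rw [GradedRingHom.map_directSumDecompose, ← ham, DirectSum.decompose_of_mem_same _ hsm]
    refine ⟨⟨Away.mk 𝒜 hf n ((DirectSum.decompose 𝒜 a (n • d) : 𝒜 (n • d)) : A)
      (SetLike.coe_mem _), ⟨_, ⟨m, rfl⟩⟩⟩, ?_⟩
    ext
    simp only [RingHom.algebraMap_toAlgebra, map_pow, Away.map_mk, val_mul, val_mk, val_pow,
      Away.val_mk, Localization.mk_pow, Localization.mk_mul]
    rw [Localization.mk_eq_mk_iff, Localization.r_iff_exists]
    refine ⟨1, ?_⟩
    simp only [OneMemClass.coe_one, one_mul, Submonoid.coe_mul, SubmonoidClass.coe_pow, pow_zero,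
      one_pow, mul_one, ha']
  · intro a b e
    obtain ⟨n, a, ha, rfl⟩ := Away.mk_surjective 𝒜 hf a
    obtain ⟨m, b, hb, rfl⟩ := Away.mk_surjective 𝒜 hf b
    replace e := congr_arg val e
    simp only [RingHom.algebraMap_toAlgebra, Away.map_mk, Away.val_mk,
      Localization.mk_eq_mk_iff, Localization.r_iff_exists] at e
    obtain ⟨⟨_, k, rfl⟩, he⟩ := e
    simp only at he
    have h0 : ψ (f ^ k * (f ^ m * a) - f ^ k * (f ^ n * b)) = 0 := by
      simp only [map_sub, map_mul, map_pow]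
      rw [sub_eq_zero]
      exact he
    obtain ⟨l, hl⟩ := hker _ h0
    refine ⟨⟨_, l, rfl⟩, ?_⟩
    ext
    simp only [val_mul, val_pow, Away.val_mk, Localization.mk_pow, Localization.mk_mul]
    rw [Localization.mk_eq_mk_iff, Localization.r_iff_exists]
    refine ⟨⟨f ^ k, k, rfl⟩, ?_⟩
    simp only [Submonoid.coe_mul, SubmonoidClass.coe_pow, pow_zero, one_pow, one_mul]
    linear_combination hl

end loc

section geom

variable (ψ : 𝒜 →+*ᵍ ℬ)
  (hirr : HomogeneousIdeal.irrelevant ℬ ≤ (HomogeneousIdeal.irrelevant 𝒜).map ψ)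

/-- the square of standard charts of `Proj.map ψ` is a pullback. -/
theorem isPullback_awayι {d : ℕ} (hd : 0 < d) {f : A} (hf : f ∈ 𝒜 d) :
    IsPullback (Proj.awayι ℬ (ψ f) (GradedFunLike.map_mem ψ hf) hd)
      (Spec.map (CommRingCat.ofHom (Away.map ψ f))) (Proj.map ψ hirr)
      (Proj.awayι 𝒜 f hf hd) := by
  refine (IsOpenImmersion.isPullback _ (Proj.awayι ℬ (ψ f) (GradedFunLike.map_mem ψ hf) hd)
    (Proj.awayι 𝒜 f hf hd) (Proj.map ψ hirr) (Proj.awayι_comp_map ψ hirr hd f hf) ?_).flip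
  rw [Proj.opensRange_awayι, Proj.opensRange_awayι, Proj.map_preimage_basicOpen]

theorem awayι_covers (x : Proj 𝒜) :
    ∃ j : ProjDom.Idx 𝒜, x ∈ Set.range (Proj.awayι 𝒜 j.f j.hf j.hd).base := by
  obtain ⟨d, hd, f, hf, hx⟩ := ProjDom.exists_mem_basicOpen x
  refine ⟨⟨d, f, hd, hf⟩, ?_⟩
  have h := Proj.opensRange_awayι 𝒜 f hf hd
  exact (h.ge hx : x ∈ (Proj.awayι 𝒜 f hf hd).opensRange)

variable {c : A} (hc : c ∈ 𝒜 0)
  (hunit : IsUnit (ψ c))
  (hsurj : ∀ b : B, ∃ (a : A) (m : ℕ), b * ψ c ^ m = ψ a)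
  (hker : ∀ a : A, ψ a = 0 → ∃ m : ℕ, c ^ m * a = 0)

include hc hunit hsurj hker in
/-- `Proj ℬ ⟶ Proj 𝒜` is an open immersion when `ℬ` is the localization of `𝒜` at an element of
degree zero. -/
theorem isOpenImmersion_map : IsOpenImmersion (Proj.map ψ hirr) := by
  refine LocalGlue.of_family_isPullback (Q := @IsOpenImmersion) (Proj.map ψ hirr)
    (J := ProjDom.Idx 𝒜) (fun j => Spec (CommRingCat.of (Away 𝒜 j.f)))
    (fun j => Proj.awayι 𝒜 j.f j.hf j.hd) awayι_covers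
    (fun j => Spec (CommRingCat.of (Away ℬ (ψ j.f))))
    (fun j => Proj.awayι ℬ (ψ j.f) (GradedFunLike.map_mem ψ j.hf) j.hd)
    (fun j => Spec.map (CommRingCat.ofHom (Away.map ψ j.f)))
    (fun j => isPullback_awayι ψ hirr j.hd j.hf) (fun j => ?_)
  letI := (Away.map ψ j.f).toAlgebra
  have hloc := isLocalization_away_map ψ hc hunit hsurj hker j.hf
  exact IsOpenImmersion.of_isLocalization (cElem hc j.hf)

include hunit hsurj hker in
/-- the points of `Proj 𝒜` where `c` is invertible come from `Proj ℬ`. -/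
theorem mem_range_map {R : Type u} [CommRing R] (sA : R →+* 𝒜 0) (r : R)
    (hcr : ((sA r : 𝒜 0) : A) = c) (x : Proj 𝒜)
    (hx : (Proj.toSpecZero 𝒜 ≫ Spec.map (CommRingCat.ofHom sA)).base x ∈
      PrimeSpectrum.basicOpen r) :
    x ∈ Set.range (Proj.map ψ hirr).base := by
  have hc : c ∈ 𝒜 0 := hcr ▸ (sA r).2
  obtain ⟨⟨d, f, hd, hf⟩, x', rfl⟩ := awayι_covers x
  have h1 : (Proj.awayι 𝒜 f hf hd ≫ Proj.toSpecZero 𝒜 ≫
      Spec.map (CommRingCat.ofHom sA)).base x' ∈ PrimeSpectrum.basicOpen r := hx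
  rw [Proj.awayι_toSpecZero_assoc] at h1
  have h2 : fromZeroRingHom 𝒜 (Submonoid.powers f) (sA r) ∉ x'.asIdeal := h1
  have h3 : fromZeroRingHom 𝒜 (Submonoid.powers f) (sA r) = cElem hc hf := by
    apply HomogeneousLocalization.val_injective
    change Localization.mk ((sA r : 𝒜 0) : A) 1 = Localization.mk c ⟨f ^ 0, _⟩
    rw [Localization.mk_eq_mk_iff, Localization.r_iff_exists]
    exact ⟨1, by simp [hcr]⟩
  rw [h3] at h2
  letI := (Away.map ψ f).toAlgebra
  have hloc := isLocalization_away_map ψ hc hunit hsurj hker hf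
  have h4 : x' ∈ Set.range (PrimeSpectrum.comap (algebraMap (Away 𝒜 f) (Away ℬ (ψ f)))) := by
    rw [PrimeSpectrum.localization_away_comap_range (Away ℬ (ψ f)) (cElem hc hf)]
    exact h2
  obtain ⟨y', hy'⟩ := h4
  refine ⟨(Proj.awayι ℬ (ψ f) (GradedFunLike.map_mem ψ hf) hd).base y', ?_⟩
  have h5 : (Proj.map ψ hirr).base ((Proj.awayι ℬ (ψ f) (GradedFunLike.map_mem ψ hf) hd).base y') =
      (Proj.awayι 𝒜 f hf hd).base ((Spec.map (CommRingCat.ofHom (Away.map ψ f))).base y') :=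
    congrArg (fun φ => φ.base y') (Proj.awayι_comp_map ψ hirr hd f hf)
  exact h5.trans (congrArg (Proj.awayι 𝒜 f hf hd).base hy')

/-- `Proj.map ψ` lies over the map of degree-zero parts. -/
theorem map_toSpecZero {R R' : Type u} [CommRing R] [CommRing R'] (sA : R →+* 𝒜 0)
    (sB : R' →+* ℬ 0) (ρ : R →+* R') (hs : ∀ r, ψ ((sA r : 𝒜 0) : A) = ((sB (ρ r) : ℬ 0) : B)) :
    Proj.map ψ hirr ≫ Proj.toSpecZero 𝒜 ≫ Spec.map (CommRingCat.ofHom sA) =
      Proj.toSpecZero ℬ ≫ Spec.map (CommRingCat.ofHom sB) ≫ Spec.map (CommRingCat.ofHom ρ) := by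
  refine LocalGlue.hom_ext_of_family (J := ProjDom.Idx 𝒜)
    (fun j => Spec (CommRingCat.of (Away ℬ (ψ j.f))))
    (fun j => Proj.awayι ℬ (ψ j.f) (GradedFunLike.map_mem ψ j.hf) j.hd) ?_ (fun j => ?_)
  · intro y
    have hy : ¬ (HomogeneousIdeal.irrelevant ℬ).toIdeal ≤ y.asHomogeneousIdeal.toIdeal :=
      y.not_irrelevant_le
    have h1 : ¬ (HomogeneousIdeal.irrelevant 𝒜).toIdeal ≤
        y.asHomogeneousIdeal.toIdeal.comap ψ := by
      intro hle
      apply hy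
      refine le_trans (show (HomogeneousIdeal.irrelevant ℬ).toIdeal ≤
        ((HomogeneousIdeal.irrelevant 𝒜).map ψ).toIdeal from hirr) ?_
      exact Ideal.map_le_iff_le_comap.mpr hle
    obtain ⟨a, ha, hay⟩ := SetLike.not_le_iff_exists.mp h1
    obtain ⟨d, hd, fd, hfd, hfdy⟩ := ProjQ.exists_homogeneous_notMem ψ
      y.asHomogeneousIdeal.toIdeal ha hay
    refine ⟨⟨d, fd, hd, hfd⟩, ?_⟩
    have h := Proj.opensRange_awayι ℬ (ψ fd) (GradedFunLike.map_mem ψ hfd) hd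
    have hyb : y ∈ Proj.basicOpen ℬ (ψ fd) := hfdy
    exact (h.ge hyb : y ∈ (Proj.awayι ℬ (ψ fd) (GradedFunLike.map_mem ψ hfd) hd).opensRange)
  · obtain ⟨d, f, hd, hf⟩ := j
    dsimp only
    rw [← Category.assoc, Proj.awayι_comp_map ψ hirr hd f hf, Category.assoc,
      Proj.awayι_toSpecZero_assoc, Proj.awayι_toSpecZero_assoc]
    rw [← Spec.map_comp, ← Spec.map_comp, ← Spec.map_comp, ← Spec.map_comp]
    congr 1
    ext r
    exact congrArg HomogeneousLocalization.val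
      (ProjDom.awayMap_fromZero ψ sA (sB.comp ρ) hs f r)

end geom

end Groth.Agent.Lib.Helper42.ProjLoc
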