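import Groth.Prelude.Def_RelSpec

/-!
# Quasi-coherent algebras from data on the affine opens (helper42)

A presheaf of rings `F` on the affine Zariski site of `S` with a structure map `α` from the
structure sheaf which is coequifibered (`F(D(r)) = F(U)_r`) gives a quasi-coherent algebra
`alg H` in the sense of the frozen `RelSpec.QCAlg` (the direct image of the structure sheaf of the
scheme glued from the `Spec F(U)`), together with identifications `sec H U hU : (alg H)(U) ≅ F(U)`
over the affine opens, natural in `U` and compatible with the structure maps.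
-/

set_option autoImplicit false

universe u

namespace Groth.Agent.Lib.Helper42.AffAlg

open CategoryTheory CategoryTheory.Limits AlgebraicGeometry TopologicalSpace Opposite

variable {S : Scheme.{u}} {F : S.AffineZariskiSiteᵒᵖ ⥤ CommRingCat.{u}}
  {α : (Scheme.AffineZariskiSite.toOpensFunctor S).op ⋙ S.presheaf ⟶ F} (H : α.Coequifibered)

/-- the relative gluing datum. -/
noncomputable def gd : (Scheme.AffineZariskiSite.directedCover S).RelativeGluingData :=
  Scheme.AffineZariskiSite.relativeGluingData H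

instance : ((gd H).functor ⋙ Scheme.forget).IsLocallyDirected :=
  Scheme.Cover.RelativeGluingData.instIsLocallyDirectedI₀CompFunctorForgetOfIsThin ..

/-- the scheme glued from the `Spec F(U)`. -/
noncomputable def V : Scheme.{u} := (gd H).glued

/-- the structure morphism. -/
noncomputable def π : V H ⟶ S := (gd H).toBase

/-- the chart over an affine open. -/
noncomputable def chart (U : S.Opens) (hU : IsAffineOpen U) :
    Spec (F.obj (op ⟨U, hU⟩)) ⟶ V H :=
  (gd H).cover.f ⟨U, hU⟩

variable (U : S.Opens) (hU : IsAffineOpen U)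

instance : IsOpenImmersion (chart H U hU) := (gd H).cover.map_prop _

theorem chart_π :
    chart H U hU ≫ π H = Spec.map (α.app (op ⟨U, hU⟩)) ≫ hU.fromSpec :=
  colimit.ι_desc _ _

theorem π_preimage : π H ⁻¹ᵁ U = (chart H U hU).opensRange := by
  simpa using! (gd H).toBase_preimage_eq_opensRange_ι ⟨U, hU⟩

theorem chart_res {U W : S.AffineZariskiSite} (i : W ⟶ U) :
    Spec.map (F.map i.op) ≫ chart H U.1 U.2 = chart H W.1 W.2 :=
  colimit.w (gd H).functor i

theorem top_le_preimage :
    (⊤ : (Spec (F.obj (op ⟨U, hU⟩))).Opens) ≤ chart H U hU ⁻¹ᵁ (π H ⁻¹ᵁ U) := by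
  have h1 := congrArg (fun f => f ⁻¹ᵁ U) (chart_π H U hU)
  have h2 : hU.fromSpec ⁻¹ᵁ U = ⊤ := hU.fromSpec_preimage_self
  have h : chart H U hU ⁻¹ᵁ (π H ⁻¹ᵁ U) = ⊤ :=
    calc chart H U hU ⁻¹ᵁ (π H ⁻¹ᵁ U)
        = (Spec.map (α.app (op ⟨U, hU⟩))) ⁻¹ᵁ (hU.fromSpec ⁻¹ᵁ U) := h1
      _ = (Spec.map (α.app (op ⟨U, hU⟩))) ⁻¹ᵁ ⊤ := congrArg _ h2
      _ = ⊤ := rfl
  exact h.ge

instance isAffineHom_π : IsAffineHom (π H) where
  isAffine_preimage U hU := by
    rw [π_preimage H U hU]
    exact isAffineOpen_opensRange (chart H U hU)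

/-- the quasi-coherent algebra attached to the data `(F, α)`. -/
noncomputable def alg : RelSpec.QCAlg S := RelSpec.QCAlg.directImage (π H)

/-- over an affine open `U`: the identification of `(alg H)(U)` with `F(U)`. -/
noncomputable def sec : Γ(V H, π H ⁻¹ᵁ U) ⟶ F.obj (op ⟨U, hU⟩) :=
  (chart H U hU).appLE (π H ⁻¹ᵁ U) ⊤ (top_le_preimage H U hU) ≫
    (Scheme.ΓSpecIso (F.obj (op ⟨U, hU⟩))).hom

set_option backward.isDefEq.respectTransparency false in
theorem sec_naturality {U W : S.AffineZariskiSite} (i : W ⟶ U) :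
    (V H).presheaf.map (homOfLE ((π H).preimage_mono
        (Scheme.AffineZariskiSite.toOpens_mono i.le))).op ≫ sec H W.1 W.2 =
      sec H U.1 U.2 ≫ F.map i.op := by
  simp only [sec, Category.assoc, ← Scheme.ΓSpecIso_naturality]
  simp only [← Category.assoc]
  congr 1
  simp only [Scheme.Hom.appTop, Scheme.Hom.appLE, Category.assoc]
  have h1 := (Scheme.Hom.comp_app (Spec.map (F.map i.op)) (chart H U.1 U.2) (π H ⁻¹ᵁ U.1)).symm
  rw [Scheme.Hom.naturality_assoc, Scheme.Hom.naturality, reassoc_of% h1,
    Scheme.Hom.congr_app (chart_res H i), Category.assoc, ← Functor.map_comp, ← Functor.map_comp]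
  rfl

theorem isIso_sec : IsIso (sec H U hU) := by
  unfold sec
  have h1 : IsIso ((chart H U hU).appLE (π H ⁻¹ᵁ U) ⊤ (top_le_preimage H U hU)) := by
    have h2 := Scheme.Hom.appLE_appIso_inv (chart H U hU) (top_le_preimage H U hU)
    have h3 : (chart H U hU) ''ᵁ ⊤ = π H ⁻¹ᵁ U := by
      rw [π_preimage H U hU]; exact (Scheme.Hom.image_top_eq_opensRange (chart H U hU))
    have h4 : IsIso ((V H).presheaf.map (homOfLE (((chart H U hU).image_mono
        (top_le_preimage H U hU)).trans
          ((chart H U hU).image_preimage_eq_opensRange_inf (π H ⁻¹ᵁ U) ▸ inf_le_right))).op) := by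
      have : IsIso (homOfLE (((chart H U hU).image_mono (top_le_preimage H U hU)).trans
          ((chart H U hU).image_preimage_eq_opensRange_inf (π H ⁻¹ᵁ U) ▸ inf_le_right))) := by
        refine ⟨⟨homOfLE h3.ge, rfl, rfl⟩⟩
      infer_instance
    rw [← h2] at h4
    exact IsIso.of_isIso_comp_right _ ((chart H U hU).appIso ⊤).inv
  infer_instance

set_option backward.isDefEq.respectTransparency false in
/-- the identifications are compatible with the structure maps. -/
theorem π_app_sec : (π H).app U ≫ sec H U hU = α.app (op ⟨U, hU⟩) := by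
  have h1 := Scheme.Hom.congr_app (chart_π H U hU) U
  have h2 := (Scheme.Hom.comp_app (chart H U hU) (π H) U).symm
  have hk : ∀ k : (op ⊤ : (Spec (F.obj (op ⟨U, hU⟩))).Opensᵒᵖ) ⟶ op ⊤,
      (Spec (F.obj (op ⟨U, hU⟩))).presheaf.map k = 𝟙 _ := fun k => by
    rw [Subsingleton.elim k (𝟙 _)]; exact CategoryTheory.Functor.map_id _ _
  simp only [sec, Scheme.Hom.appLE, Category.assoc]
  rw [reassoc_of% h2, h1, Scheme.Hom.comp_app, hU.fromSpec_app_self]
  simp only [Category.assoc]
  rw [Scheme.Hom.naturality_assoc]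
  simp only [← Functor.map_comp_assoc]
  erw [hk, Category.id_comp]
  rw [← cancel_epi (Scheme.ΓSpecIso Γ(S, U)).hom, Iso.hom_inv_id_assoc]
  erw [Scheme.ΓSpecIso_naturality]
  rfl

section homs

variable (A B : RelSpec.QCAlg S)

/-- homomorphisms of quasi-coherent algebras are determined by their values over the affine
opens. -/
theorem hom_ext_affine {A B : RelSpec.QCAlg S} {ψ₁ ψ₂ : A ⟶ B}
    (h : ∀ (U : S.Opens) (_ : IsAffineOpen U), ψ₁.hom.app (op U) = ψ₂.hom.app (op U)) :
    ψ₁ = ψ₂ := by
  apply RelSpec.QCAlg.hom_ext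
  apply (Functor.IsCoverDense.restrictHomEquivHom (G := Scheme.AffineZariskiSite.toOpensFunctor S)
    (K := Opens.grothendieckTopology S) (ℱ := A.presheaf)
    (ℱ' := (⟨B.presheaf, B.isSheaf⟩ : TopCat.Sheaf CommRingCat.{u} S.carrier))).symm.injective
  ext U : 2
  exact h U.unop.1 U.unop.2

/-- a homomorphism of quasi-coherent algebras from a natural family of ring homomorphisms over
the affine opens, compatible with the structure maps. -/
noncomputable def homOfAffine
    (τ : (Scheme.AffineZariskiSite.toOpensFunctor S).op ⋙ A.presheaf ⟶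
      (Scheme.AffineZariskiSite.toOpensFunctor S).op ⋙ B.presheaf)
    (hτ : ∀ U : S.AffineZariskiSite, A.str.app (op U.1) ≫ τ.app (op U) = B.str.app (op U.1)) :
    A ⟶ B where
  hom := Functor.IsCoverDense.restrictHomEquivHom (G := Scheme.AffineZariskiSite.toOpensFunctor S)
    (K := Opens.grothendieckTopology S) (ℱ := A.presheaf)
    (ℱ' := (⟨B.presheaf, B.isSheaf⟩ : TopCat.Sheaf CommRingCat.{u} S.carrier)) τ
  comm := by
    apply (Functor.IsCoverDense.restrictHomEquivHom
      (G := Scheme.AffineZariskiSite.toOpensFunctor S)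
      (K := Opens.grothendieckTopology S) (ℱ := S.presheaf)
      (ℱ' := (⟨B.presheaf, B.isSheaf⟩ : TopCat.Sheaf CommRingCat.{u} S.carrier))).symm.injective
    ext U : 2
    have h1 := NatTrans.congr_app
      ((Functor.IsCoverDense.restrictHomEquivHom
        (G := Scheme.AffineZariskiSite.toOpensFunctor S)
        (K := Opens.grothendieckTopology S) (ℱ := A.presheaf)
        (ℱ' := (⟨B.presheaf, B.isSheaf⟩ :
          TopCat.Sheaf CommRingCat.{u} S.carrier))).symm_apply_apply τ) U
    change A.str.app (op U.unop.1) ≫ _ = B.str.app (op U.unop.1)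
    rw [← hτ U.unop]
    exact congrArg (fun m => A.str.app (op U.unop.1) ≫ m) h1

theorem homOfAffine_app
    (τ : (Scheme.AffineZariskiSite.toOpensFunctor S).op ⋙ A.presheaf ⟶
      (Scheme.AffineZariskiSite.toOpensFunctor S).op ⋙ B.presheaf)
    (hτ : ∀ U : S.AffineZariskiSite, A.str.app (op U.1) ≫ τ.app (op U) = B.str.app (op U.1))
    (U : S.AffineZariskiSite) :
    (homOfAffine A B τ hτ).hom.app (op U.1) = τ.app (op U) :=
  NatTrans.congr_app
    ((Functor.IsCoverDense.restrictHomEquivHom
      (G := Scheme.AffineZariskiSite.toOpensFunctor S)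
      (K := Opens.grothendieckTopology S) (ℱ := A.presheaf)
      (ℱ' := (⟨B.presheaf, B.isSheaf⟩ :
        TopCat.Sheaf CommRingCat.{u} S.carrier))).symm_apply_apply τ) (op U)

end homs

section algHom

/-- the identifications `sec` as a natural transformation on the affine opens. -/
noncomputable def secNat :
    (Scheme.AffineZariskiSite.toOpensFunctor S).op ⋙ (alg H).presheaf ⟶ F where
  app U := sec H U.unop.1 U.unop.2
  naturality _ _ i := sec_naturality H i.unop

instance (U : S.AffineZariskiSiteᵒᵖ) : IsIso ((secNat H).app U) := isIso_sec H U.unop.1 U.unop.2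

instance : IsIso (secNat H) := NatIso.isIso_of_isIso_app _

theorem str_secNat :
    (Scheme.AffineZariskiSite.toOpensFunctor S).op.whiskerLeft (alg H).str ≫ secNat H = α := by
  ext U : 2
  exact π_app_sec H U.unop.1 U.unop.2

/-- a homomorphism out of `alg H` from a natural family of ring homomorphisms `F(U) ⟶ B(U)`
compatible with the structure maps. -/
noncomputable def algHom (B : RelSpec.QCAlg S)
    (τ : F ⟶ (Scheme.AffineZariskiSite.toOpensFunctor S).op ⋙ B.presheaf)
    (hτ : α ≫ τ = (Scheme.AffineZariskiSite.toOpensFunctor S).op.whiskerLeft B.str) :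
    alg H ⟶ B :=
  homOfAffine (alg H) B (secNat H ≫ τ) (fun W => by
    have h1 := NatTrans.congr_app (str_secNat H) (op W)
    have h2 := NatTrans.congr_app hτ (op W)
    change (alg H).str.app (op W.1) ≫ (secNat H).app (op W) ≫ τ.app (op W) = B.str.app (op W.1)
    exact (Category.assoc _ _ _).symm.trans
      ((congrArg (fun m => m ≫ τ.app (op W)) h1).trans h2))

theorem algHom_app (B : RelSpec.QCAlg S)
    (τ : F ⟶ (Scheme.AffineZariskiSite.toOpensFunctor S).op ⋙ B.presheaf)
    (hτ : α ≫ τ = (Scheme.AffineZariskiSite.toOpensFunctor S).op.whiskerLeft B.str) :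
    (algHom H B τ hτ).hom.app (op U) = sec H U hU ≫ τ.app (op ⟨U, hU⟩) :=
  homOfAffine_app (alg H) B (secNat H ≫ τ) _ ⟨U, hU⟩

end algHom

end Groth.Agent.Lib.Helper42.AffAlg
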