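import Groth.Agent.Lib.Helper42.AffAlg

/-!
# Pushouts of quasi-coherent algebras are detected over the affine opens (helper42)
-/

set_option autoImplicit false

universe u

namespace Groth.Agent.Lib.Helper42.AffAlg

open CategoryTheory CategoryTheory.Limits AlgebraicGeometry TopologicalSpace Opposite

variable {S : Scheme.{u}} {A0 A1 A2 A3 : RelSpec.QCAlg S}
  (a1 : A0 ⟶ A1) (a2 : A0 ⟶ A2) (b1 : A1 ⟶ A3) (b2 : A2 ⟶ A3)
  (h : ∀ (U : S.Opens) (_ : IsAffineOpen U),
    IsPushout (a1.hom.app (op U)) (a2.hom.app (op U)) (b1.hom.app (op U)) (b2.hom.app (op U)))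

section desc

variable {B : RelSpec.QCAlg S} (c1 : A1 ⟶ B) (c2 : A2 ⟶ B) (hc : a1 ≫ c1 = a2 ≫ c2)

include hc in
theorem desc_cond (U : S.Opens) :
    a1.hom.app (op U) ≫ c1.hom.app (op U) = a2.hom.app (op U) ≫ c2.hom.app (op U) :=
  congrArg (fun m => m.hom.app (op U)) hc

theorem desc_natural (U V : S.Opens) (hU : IsAffineOpen U) (hV : IsAffineOpen V)
    (m : op U ⟶ op V) :
    A3.presheaf.map m ≫ (h V hV).desc (c1.hom.app (op V)) (c2.hom.app (op V))
        (desc_cond a1 a2 c1 c2 hc V) =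
      (h U hU).desc (c1.hom.app (op U)) (c2.hom.app (op U)) (desc_cond a1 a2 c1 c2 hc U) ≫
        B.presheaf.map m := by
  refine (h U hU).hom_ext ?_ ?_
  · rw [← Category.assoc, ← Category.assoc, (h U hU).inl_desc, ← b1.hom.naturality m,
      Category.assoc, (h V hV).inl_desc]
    exact c1.hom.naturality m
  · rw [← Category.assoc, ← Category.assoc, (h U hU).inr_desc, ← b2.hom.naturality m,
      Category.assoc, (h V hV).inr_desc]
    exact c2.hom.naturality m

/-- the family of maps out of the pushouts over the affine opens. -/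
noncomputable def descτ :
    (Scheme.AffineZariskiSite.toOpensFunctor S).op ⋙ A3.presheaf ⟶
      (Scheme.AffineZariskiSite.toOpensFunctor S).op ⋙ B.presheaf where
  app U := (h U.unop.1 U.unop.2).desc (c1.hom.app (op U.unop.1)) (c2.hom.app (op U.unop.1))
    (desc_cond a1 a2 c1 c2 hc U.unop.1)
  naturality U V i := desc_natural a1 a2 b1 b2 h c1 c2 hc U.unop.1 V.unop.1 U.unop.2 V.unop.2
    ((Scheme.AffineZariskiSite.toOpensFunctor S).op.map i)

theorem desc_str (U : S.Opens) (hU : IsAffineOpen U) :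
    A3.str.app (op U) ≫ (h U hU).desc (c1.hom.app (op U)) (c2.hom.app (op U))
      (desc_cond a1 a2 c1 c2 hc U) = B.str.app (op U) := by
  have e1 : A3.str.app (op U) = A1.str.app (op U) ≫ b1.hom.app (op U) := by
    rw [← NatTrans.comp_app, b1.comm]
  have e2 : A1.str.app (op U) ≫ c1.hom.app (op U) = B.str.app (op U) := by
    rw [← NatTrans.comp_app, c1.comm]
  rw [e1, Category.assoc, (h U hU).inl_desc]
  exact e2

theorem descτ_str (U : S.AffineZariskiSite) :
    A3.str.app (op U.1) ≫ (descτ a1 a2 b1 b2 h c1 c2 hc).app (op U) = B.str.app (op U.1) :=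
  desc_str a1 a2 b1 b2 h c1 c2 hc U.1 U.2

/-- the map out of the pushout. -/
noncomputable def desc : A3 ⟶ B :=
  homOfAffine A3 B (descτ a1 a2 b1 b2 h c1 c2 hc) (descτ_str a1 a2 b1 b2 h c1 c2 hc)

theorem desc_app (U : S.Opens) (hU : IsAffineOpen U) :
    (desc a1 a2 b1 b2 h c1 c2 hc).hom.app (op U) =
      (h U hU).desc (c1.hom.app (op U)) (c2.hom.app (op U)) (desc_cond a1 a2 c1 c2 hc U) :=
  homOfAffine_app A3 B _ _ ⟨U, hU⟩

theorem inl_desc : b1 ≫ desc a1 a2 b1 b2 h c1 c2 hc = c1 := by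
  refine hom_ext_affine (fun U hU => ?_)
  change b1.hom.app (op U) ≫ (desc a1 a2 b1 b2 h c1 c2 hc).hom.app (op U) = _
  rw [desc_app a1 a2 b1 b2 h c1 c2 hc U hU, (h U hU).inl_desc]

theorem inr_desc : b2 ≫ desc a1 a2 b1 b2 h c1 c2 hc = c2 := by
  refine hom_ext_affine (fun U hU => ?_)
  change b2.hom.app (op U) ≫ (desc a1 a2 b1 b2 h c1 c2 hc).hom.app (op U) = _
  rw [desc_app a1 a2 b1 b2 h c1 c2 hc U hU, (h U hU).inr_desc]

end desc

include h in
/-- a square of quasi-coherent algebras which is a pushout of rings over every affine open is a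
pushout. -/
theorem isPushout_of_affine : IsPushout a1 a2 b1 b2 := by
  have w : a1 ≫ b1 = a2 ≫ b2 := by
    refine hom_ext_affine (fun U hU => ?_)
    exact (h U hU).w
  refine ⟨⟨w⟩, ⟨PushoutCocone.IsColimit.mk w
    (fun s => desc a1 a2 b1 b2 h s.inl s.inr s.condition)
    (fun s => inl_desc a1 a2 b1 b2 h s.inl s.inr s.condition)
    (fun s => inr_desc a1 a2 b1 b2 h s.inl s.inr s.condition) ?_⟩⟩
  intro s m hm1 hm2
  refine hom_ext_affine (fun U hU => ?_)
  refine (h U hU).hom_ext ?_ ?_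
  · rw [desc_app a1 a2 b1 b2 h s.inl s.inr s.condition U hU, (h U hU).inl_desc]
    exact congrArg (fun m => m.hom.app (op U)) hm1
  · rw [desc_app a1 a2 b1 b2 h s.inl s.inr s.condition U hU, (h U hU).inr_desc]
    exact congrArg (fun m => m.hom.app (op U)) hm2

end Groth.Agent.Lib.Helper42.AffAlg
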