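import Groth.Agent.Lib.Proj.AwayBaseChange

/-!
# Homogeneous localization commutes with base change, for gradings by additive subgroups (helper42)

The lead's `Lib/Proj/AwayBaseChange` proves `R ⊗[R'] B_(g) ≃ A_(φ g)` for gradings by submodules.  The
relative `Proj` of the Prelude uses gradings by additive subgroups; this file redoes the argument in that
generality (same proof), and packages the result as a pushout square in `CommRingCat` and a cartesian
square of homogeneous spectra.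

ns `Groth.Agent.Lib.Helper42.AwayBC`.
-/

set_option autoImplicit false

universe u

open HomogeneousLocalization TensorProduct CategoryTheory CategoryTheory.Limits AlgebraicGeometry

namespace Groth.Agent.Lib.Helper42.AwayBC

open Groth.Agent.Lib.Proj.AwayBaseChange (mkp val_mkp mkp_add mkp_zero mkp_of_mem mkp_proj
  mkp_pow_mul fromZero_mul_mkp map_mkp fromZero_eq_mk)

section zOf

variable {k C : Type u} [CommRing k] [CommRing C] {σ : Type*} [SetLike σ C] [AddSubgroupClass σ C]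
  (𝒞 : ℕ → σ) [GradedRing 𝒞]

/-- a ring map landing in degree zero, corestricted to the degree-zero subring -/
def zOf (ι : k →+* C) (hι : ∀ r, ι r ∈ 𝒞 0) : k →+* 𝒞 0 where
  toFun r := ⟨ι r, hι r⟩
  map_one' := Subtype.ext (map_one _)
  map_mul' a b := Subtype.ext (map_mul _ a b)
  map_zero' := Subtype.ext (map_zero _)
  map_add' a b := Subtype.ext (map_add _ a b)

@[simp] lemma coe_zOf (ι : k →+* C) (hι : ∀ r, ι r ∈ 𝒞 0) (r : k) : ((zOf 𝒞 ι hι r : 𝒞 0) : C) = ι r :=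
  rfl

/-- the projection onto a graded piece, as an additive map -/
noncomputable def projAdd (i : ℕ) : C →+ C where
  toFun c := (DirectSum.decompose 𝒞 c i : C)
  map_zero' := by
    rw [DirectSum.decompose_zero, DirectSum.zero_apply, ZeroMemClass.coe_zero]
  map_add' a b := by
    rw [DirectSum.decompose_add, DirectSum.add_apply, AddMemClass.coe_add]

end zOf

section BaseChange

variable {R R' A B : Type u} [CommRing R'] [CommRing R] [Algebra R' R]
  [CommRing B] [Algebra R' B] {σ : Type*} [SetLike σ B] [AddSubgroupClass σ B] (ℬ : ℕ → σ)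
  [GradedRing ℬ]
  [CommRing A] [Algebra R A] [Algebra R' A] [IsScalarTower R' R A] {τ : Type*} [SetLike τ A]
  [AddSubgroupClass τ A] (𝒜 : ℕ → τ) [GradedRing 𝒜]
  [Algebra B A] [IsScalarTower R' B A] [Algebra.IsPushout R' R B A]
  (zB : R' →+* ℬ 0) (hzB : ∀ r, ((zB r : ℬ 0) : B) = algebraMap R' B r)
  (zA : R →+* 𝒜 0) (hzA : ∀ r, ((zA r : 𝒜 0) : A) = algebraMap R A r)
  (φ : ℬ →+*ᵍ 𝒜) (hφA : ∀ b : B, φ b = algebraMap B A b) {d : ℕ} {g : B} (hg : g ∈ ℬ d)
  [Algebra R' (Away ℬ g)]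
  (hD : ∀ r, algebraMap R' (Away ℬ g) r = fromZeroRingHom ℬ (Submonoid.powers g) (zB r))
  [Algebra R' (Away 𝒜 (φ g))]
  (hE : ∀ r, algebraMap R' (Away 𝒜 (φ g)) r =
    fromZeroRingHom 𝒜 (Submonoid.powers (φ g)) (zA (algebraMap R' R r)))

/-- the ring map `R → A_(a)` -/
noncomputable def iR (a : A) : R →+* Away 𝒜 a :=
  (fromZeroRingHom 𝒜 (Submonoid.powers a)).comp zA

include hzB hD in
/-- `b ↦ b_{md} / g^m` as an `R'`-linear map -/
noncomputable def μ' (m : ℕ) : B →ₗ[R'] Away ℬ g where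
  toFun := mkp ℬ hg m
  map_add' := mkp_add ℬ hg m
  map_smul' r b := by
    show mkp ℬ hg m (r • b) = r • mkp ℬ hg m b
    rw [Algebra.smul_def, Algebra.smul_def, hD, ← hzB]
    exact (fromZero_mul_mkp ℬ hg m (zB r) b).symm

include hzB in
/-- the projection onto a graded piece, as an `R'`-linear map -/
noncomputable def projL (i : ℕ) : B →ₗ[R'] B where
  toFun c := (DirectSum.decompose ℬ c i : B)
  map_add' a b := by
    rw [DirectSum.decompose_add, DirectSum.add_apply, AddMemClass.coe_add]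
  map_smul' r b := by
    show ((DirectSum.decompose ℬ (r • b) i : ℬ i) : B) = r • ((DirectSum.decompose ℬ b i : ℬ i) : B)
    rw [Algebra.smul_def, Algebra.smul_def, ← hzB,
      DirectSum.coe_decompose_mul_of_left_mem_zero ℬ (zB r).2]

/-- `id ⊗ μ'` -/
noncomputable def M (m : ℕ) : R ⊗[R'] B →ₗ[R'] R ⊗[R'] Away ℬ g :=
  LinearMap.lTensor R (μ' ℬ zB hzB hg hD m)

/-- multiplication by `g^k` on `R ⊗ B` -/
noncomputable def G (g : B) (k : ℕ) : R ⊗[R'] B →ₗ[R'] R ⊗[R'] B :=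
  LinearMap.lTensor R (LinearMap.mulLeft R' (g ^ k))

/-- the projection onto degree `i` on `R ⊗ B` -/
noncomputable def P (i : ℕ) : R ⊗[R'] B →ₗ[R'] R ⊗[R'] B :=
  LinearMap.lTensor R (projL ℬ zB hzB i)

lemma M_G (m k : ℕ) (s : R ⊗[R'] B) :
    M ℬ zB hzB hg hD (m + k) (G (R := R) g k s) = M ℬ zB hzB hg hD m s := by
  have h : μ' ℬ zB hzB hg hD (m + k) ∘ₗ LinearMap.mulLeft R' (g ^ k) = μ' ℬ zB hzB hg hD m := by
    refine LinearMap.ext fun b => ?_
    exact mkp_pow_mul ℬ hg m k b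
  unfold M G
  rw [← LinearMap.comp_apply, ← LinearMap.lTensor_comp, h]

lemma M_P (m : ℕ) (s : R ⊗[R'] B) :
    M ℬ zB hzB hg hD m (P (R := R) ℬ zB hzB (m • d) s) = M ℬ zB hzB hg hD m s := by
  have h : μ' ℬ zB hzB hg hD m ∘ₗ projL ℬ zB hzB (m • d) = μ' ℬ zB hzB hg hD m := by
    refine LinearMap.ext fun b => ?_
    exact mkp_proj ℬ hg m b
  unfold M P
  rw [← LinearMap.comp_apply, ← LinearMap.lTensor_comp, h]

/-- every element of `R ⊗ B_(g)` comes from `R ⊗ B` -/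
lemma exists_M (t : R ⊗[R'] Away ℬ g) :
    ∃ (m : ℕ) (s : R ⊗[R'] B), M ℬ zB hzB hg hD m s = t := by
  induction t using TensorProduct.induction_on with
  | zero => exact ⟨0, 0, map_zero _⟩
  | tmul r x =>
    obtain ⟨m, b, hb, rfl⟩ := Away.mk_surjective ℬ hg x
    refine ⟨m, r ⊗ₜ b, ?_⟩
    show r ⊗ₜ[R'] (mkp ℬ hg m b) = _
    rw [mkp_of_mem ℬ hg m b hb]
  | add t₁ t₂ h₁ h₂ =>
    obtain ⟨m₁, s₁, rfl⟩ := h₁
    obtain ⟨m₂, s₂, rfl⟩ := h₂
    refine ⟨m₁ + m₂, G g m₂ s₁ + G g m₁ s₂, ?_⟩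
    rw [map_add, M_G]
    rw [add_comm m₁ m₂, M_G]

include hzB hzA hφA hg hD hE in
lemma map_algebraMap (r : R') :
    Away.map φ g (algebraMap R' (Away ℬ g) r) = algebraMap R' (Away 𝒜 (φ g)) r := by
  rw [hD, hE, fromZero_eq_mk ℬ hg, fromZero_eq_mk 𝒜 (GradedFunLike.map_mem φ hg), Away.map_mk]
  congr 1
  rw [hzB, hzA, hφA, ← IsScalarTower.algebraMap_apply, ← IsScalarTower.algebraMap_apply]

include hE in
/-- `R → A_(φ g)` as an `R'`-algebra map -/
noncomputable def iRₐ : R →ₐ[R'] Away 𝒜 (φ g) :=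
  { iR 𝒜 zA (φ g) with commutes' := fun r => (hE r).symm }

/-- `B_(g) → A_(φ g)` as an `R'`-algebra map -/
noncomputable def mapₐ : Away ℬ g →ₐ[R'] Away 𝒜 (φ g) :=
  { Away.map φ g with commutes' := map_algebraMap ℬ 𝒜 zB hzB zA hzA φ hφA hg hD hE }

/-- the comparison map `R ⊗ B_(g) → A_(φ g)` -/
noncomputable def Γ : R ⊗[R'] Away ℬ g →ₐ[R'] Away 𝒜 (φ g) :=
  Algebra.TensorProduct.productMap (iRₐ ℬ 𝒜 zA φ hE) (mapₐ ℬ 𝒜 zB hzB zA hzA φ hφA hg hD hE)

lemma Γ_tmul (r : R) (x : Away ℬ g) :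
    Γ ℬ 𝒜 zB hzB zA hzA φ hφA hg hD hE (r ⊗ₜ x) = iR 𝒜 zA (φ g) r * Away.map φ g x :=
  Algebra.TensorProduct.productMap_apply_tmul ..

/-- the key formula -/
lemma Γ_M (m : ℕ) (s : R ⊗[R'] B) :
    Γ ℬ 𝒜 zB hzB zA hzA φ hφA hg hD hE (M ℬ zB hzB hg hD m s) =
      mkp 𝒜 (GradedFunLike.map_mem φ hg) m (Algebra.IsPushout.equiv R' R B A s) := by
  induction s using TensorProduct.induction_on with
  | zero => rw [map_zero, map_zero, map_zero, mkp_zero]
  | tmul r b =>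
    have h1 : M ℬ zB hzB hg hD m (r ⊗ₜ[R'] b) = r ⊗ₜ[R'] mkp ℬ hg m b := rfl
    rw [h1, Γ_tmul, map_mkp, Algebra.IsPushout.equiv_tmul, ← hφA, ← hzA]
    exact fromZero_mul_mkp 𝒜 (GradedFunLike.map_mem φ hg) m (zA r) (φ b)
  | add s₁ s₂ h₁ h₂ => rw [map_add, map_add, map_add, mkp_add, h₁, h₂]

include hφA in
lemma equiv_G (k : ℕ) (s : R ⊗[R'] B) :
    Algebra.IsPushout.equiv R' R B A (G g k s) =
      φ g ^ k * Algebra.IsPushout.equiv R' R B A s := by
  induction s using TensorProduct.induction_on with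
  | zero => rw [map_zero, map_zero, mul_zero]
  | tmul r b =>
    have h1 : G g k (r ⊗ₜ[R'] b) = r ⊗ₜ[R'] (g ^ k * b) := rfl
    rw [h1, Algebra.IsPushout.equiv_tmul, Algebra.IsPushout.equiv_tmul, map_mul, map_pow,
      ← hφA]
    ring
  | add s₁ s₂ h₁ h₂ => simp only [map_add]; rw [mul_add, h₁, h₂]

include hφA hzA in
lemma equiv_P (i : ℕ) (s : R ⊗[R'] B) :
    Algebra.IsPushout.equiv R' R B A (P ℬ zB hzB i s) =
      (DirectSum.decompose 𝒜 (Algebra.IsPushout.equiv R' R B A s) i : A) := by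
  induction s using TensorProduct.induction_on with
  | zero =>
    rw [map_zero, map_zero, DirectSum.decompose_zero, DirectSum.zero_apply,
      ZeroMemClass.coe_zero]
  | tmul r b =>
    have h1 : P ℬ zB hzB i (r ⊗ₜ[R'] b) = r ⊗ₜ[R'] ((DirectSum.decompose ℬ b i : B)) := rfl
    rw [h1, Algebra.IsPushout.equiv_tmul, Algebra.IsPushout.equiv_tmul, ← hφA, ← hφA,
      GradedRingHom.map_directSumDecompose _ _ φ, ← hzA,
      DirectSum.coe_decompose_mul_of_left_mem_zero 𝒜 (zA r).2]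
  | add s₁ s₂ h₁ h₂ =>
    simp only [map_add]
    rw [h₁, h₂, DirectSum.decompose_add, DirectSum.add_apply, AddMemClass.coe_add]

include hφA in
theorem Γ_injective : Function.Injective (Γ ℬ 𝒜 zB hzB zA hzA φ hφA hg hD hE) := by
  rw [injective_iff_map_eq_zero]
  intro t ht
  obtain ⟨m, s, rfl⟩ := exists_M ℬ zB hzB hg hD t
  rw [Γ_M] at ht
  have h1 := congrArg HomogeneousLocalization.val ht
  rw [val_mkp, HomogeneousLocalization.val_zero, Localization.mk_eq_mk',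
    IsLocalization.mk'_eq_zero_iff] at h1
  obtain ⟨⟨_, N, rfl⟩, hN⟩ := h1
  rw [← M_G ℬ zB hzB hg hD m N s, ← M_P ℬ zB hzB hg hD (m + N)]
  have h2 : P (R := R) ℬ zB hzB ((m + N) • d) (G g N s) = 0 := by
    apply (Algebra.IsPushout.equiv R' R B A).injective
    rw [map_zero, equiv_P ℬ 𝒜 zB hzB zA hzA φ hφA, equiv_G ℬ 𝒜 φ hφA]
    have h3 : (m + N) • d = N • d + m • d := by rw [add_smul, add_comm]
    rw [h3, DirectSum.coe_decompose_mul_add_of_left_mem 𝒜
      (SetLike.pow_mem_graded N (GradedFunLike.map_mem φ hg))]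
    exact hN
  rw [h2, map_zero]

theorem Γ_surjective : Function.Surjective (Γ ℬ 𝒜 zB hzB zA hzA φ hφA hg hD hE) := by
  intro y
  obtain ⟨m, a, ha, rfl⟩ := Away.mk_surjective 𝒜 (GradedFunLike.map_mem φ hg) y
  refine ⟨M ℬ zB hzB hg hD m ((Algebra.IsPushout.equiv R' R B A).symm a), ?_⟩
  rw [Γ_M, AlgEquiv.apply_symm_apply, mkp_of_mem 𝒜 _ m a ha]

/-- **homogeneous localization commutes with base change** -/
noncomputable def ringEquiv : R ⊗[R'] Away ℬ g ≃+* Away 𝒜 (φ g) :=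
  RingEquiv.ofBijective (Γ ℬ 𝒜 zB hzB zA hzA φ hφA hg hD hE)
    ⟨Γ_injective ℬ 𝒜 zB hzB zA hzA φ hφA hg hD hE, Γ_surjective ℬ 𝒜 zB hzB zA hzA φ hφA hg hD hE⟩

lemma ringEquiv_tmul (r : R) (x : Away ℬ g) :
    ringEquiv ℬ 𝒜 zB hzB zA hzA φ hφA hg hD hE (r ⊗ₜ x) = iR 𝒜 zA (φ g) r * Away.map φ g x :=
  Γ_tmul ℬ 𝒜 zB hzB zA hzA φ hφA hg hD hE r x

include hzB hzA hφA hg hD hE in
/-- the affine-local pushout square of rings -/
theorem isPushout_away_aux :
    IsPushout (CommRingCat.ofHom (algebraMap R' (Away ℬ g))) (CommRingCat.ofHom (algebraMap R' R))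
      (CommRingCat.ofHom (Away.map φ g)) (CommRingCat.ofHom (iR 𝒜 zA (φ g))) := by
  have h0 := (CommRingCat.isPushout_tensorProduct R' R (Away ℬ g)).flip
  refine h0.of_iso (Iso.refl _) (Iso.refl _) (Iso.refl _)
    (ringEquiv ℬ 𝒜 zB hzB zA hzA φ hφA hg hD hE).toCommRingCatIso ?_ ?_ ?_ ?_
  · simp
  · simp
  · refine CommRingCat.hom_ext (RingHom.ext fun x => ?_)
    show ringEquiv ℬ 𝒜 zB hzB zA hzA φ hφA hg hD hE ((1 : R) ⊗ₜ[R'] x) = Away.map φ g x
    rw [ringEquiv_tmul, map_one, one_mul]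
  · refine CommRingCat.hom_ext (RingHom.ext fun r => ?_)
    show ringEquiv ℬ 𝒜 zB hzB zA hzA φ hφA hg hD hE (r ⊗ₜ[R'] (1 : Away ℬ g)) = iR 𝒜 zA (φ g) r
    rw [ringEquiv_tmul, map_one, mul_one]

end BaseChange

section Wrapper

variable {R' R B A : Type u} [CommRing R'] [CommRing R] [CommRing B] [CommRing A]
  {σ : Type*} [SetLike σ B] [AddSubgroupClass σ B] (ℬ : ℕ → σ) [GradedRing ℬ]
  {τ : Type*} [SetLike τ A] [AddSubgroupClass τ A] (𝒜 : ℕ → τ) [GradedRing 𝒜]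
  (ρ : R' →+* R) (ιB : R' →+* B) (hιB : ∀ r, ιB r ∈ ℬ 0) (ιA : R →+* A) (hιA : ∀ r, ιA r ∈ 𝒜 0)
  (φ : ℬ →+*ᵍ 𝒜)
  (hpo : IsPushout (CommRingCat.ofHom ρ) (CommRingCat.ofHom ιB) (CommRingCat.ofHom ιA)
    (CommRingCat.ofHom φ.toRingHom))

include hpo in
/-- **homogeneous localization commutes with base change**, as a pushout square of commutative rings,
for ring maps with no algebra instances -/
theorem isPushout_away {d : ℕ} {g : B} (hg : g ∈ ℬ d) :
    IsPushout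
      (CommRingCat.ofHom ((fromZeroRingHom ℬ (Submonoid.powers g)).comp (zOf ℬ ιB hιB)))
      (CommRingCat.ofHom ρ) (CommRingCat.ofHom (Away.map φ g))
      (CommRingCat.ofHom ((fromZeroRingHom 𝒜 (Submonoid.powers (φ g))).comp (zOf 𝒜 ιA hιA))) := by
  letI : Algebra R' R := ρ.toAlgebra
  letI : Algebra R' B := ιB.toAlgebra
  letI : Algebra R A := ιA.toAlgebra
  letI : Algebra B A := φ.toRingHom.toAlgebra
  letI : Algebra R' A := (φ.toRingHom.comp ιB).toAlgebra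
  haveI : IsScalarTower R' B A := IsScalarTower.of_algebraMap_eq (fun r => rfl)
  have hw : ∀ r, ιA (ρ r) = φ (ιB r) := fun r => congrArg (fun f => f.hom r) hpo.w
  haveI : IsScalarTower R' R A := IsScalarTower.of_algebraMap_eq (fun r => (hw r).symm)
  haveI : Algebra.IsPushout R' R B A := CommRingCat.isPushout_iff_isPushout.mp hpo
  letI : Algebra R' (Away ℬ g) :=
    ((fromZeroRingHom ℬ (Submonoid.powers g)).comp (zOf ℬ ιB hιB)).toAlgebra
  letI : Algebra R' (Away 𝒜 (φ g)) :=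
    (((fromZeroRingHom 𝒜 (Submonoid.powers (φ g))).comp (zOf 𝒜 ιA hιA)).comp ρ).toAlgebra
  exact isPushout_away_aux ℬ 𝒜 (zOf ℬ ιB hιB) (fun _ => rfl) (zOf 𝒜 ιA hιA) (fun _ => rfl) φ
    (fun _ => rfl) hg (fun _ => rfl) (fun _ => rfl)

end Wrapper

end Groth.Agent.Lib.Helper42.AwayBC
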