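import Groth.Agent.Lib.Cohomology.helper5_ColimCompactQS
import Groth.Agent.Lib.Helper47.FilCol5

/-!
# Sections of a filtered colimit of abelian sheaves over a quasi-compact quasi-separated open
(helper42; elementwise consequences of helper47 `FilCol` and helper5 `ColimCompactQS`)

* `exists_rep_site`, `exists_map_eq_zero_site`: on a site with a family `B` of objects having
  finite covers (helper47's hypotheses), a section over `U ∈ B` of a filtered colimit of abelian
  sheaves comes from a stage, and a section of a stage dying in the colimit dies at a later stage.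
* `exists_rep_top`, `exists_map_eq_zero_top`: the same on a prespectral space, for `U` a compact
  quasi-separated open.
-/

set_option autoImplicit false
set_option linter.unusedSectionVars false
set_option linter.unusedVariables false

universe u

namespace Groth.Agent.Lib.Helper42.ColimSections

open CategoryTheory CategoryTheory.Limits Opposite TopologicalSpace
open Groth.Agent.Lib.Helper47.FilCol

section Site

variable {C : Type u} [SmallCategory C] [HasPullbacks C] {J : GrothendieckTopology C}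
  {I : Type u} [SmallCategory I] [IsFiltered I]
  (B : Set C) (Cov : ∀ (U : C) (ι : Type u), (ι → Over U) → Prop)
  (h1 : ∀ (U : C) (ι : Type u) (Y : ι → Over U), Cov U ι Y → Finite ι ∧ U ∈ B ∧
    Sieve.ofArrows (fun i => (Y i).left) (fun i => (Y i).hom) ∈ J U ∧
    ∀ (p : ℕ) (a : Fin (p + 1) → ι), (∏ᶜ fun k => Y (a k)).left ∈ B)
  (h2 : ∀ U ∈ B, ∀ T ∈ J U, ∃ (ι : Type u) (Y : ι → Over U), Cov U ι Y ∧ ∀ i, T.arrows (Y i).hom)

include h1 h2 in
theorem exists_rep_site (F : I ⥤ Sheaf J AddCommGrpCat.{u}) (U : C) (hU : U ∈ B)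
    (s : (colimit F).obj.obj (op U)) :
    ∃ (i : I) (t : (F.obj i).obj.obj (op U)), (colimit.ι F i).hom.app (op U) t = s := by
  have hE : IsColimit (preCocone F) := colimit.isColimit _
  obtain ⟨t0, ht0⟩ := (toSheafify_colimit_bijective hE B Cov h1 h2 U hU).2
    ((shfIso F).inv.hom.app (op U) s)
  obtain ⟨i, ti, rfl⟩ := exists_rep hE U t0
  refine ⟨i, ti, ?_⟩
  have h4 := ιs_hom_app F i U ti
  have h5 : (colimit.ι F i).hom.app (op U) ti =
      (shfIso F).hom.hom.app (op U) ((ιs F i).hom.app (op U) ti) := by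
    rw [← ι_shfIso F i]
    rfl
  rw [h5, h4, ht0]
  have h6 := congrArg (fun φ => φ.hom.app (op U) s) (shfIso F).inv_hom_id
  exact h6

include h1 h2 in
theorem exists_map_eq_zero_site (F : I ⥤ Sheaf J AddCommGrpCat.{u}) (U : C) (hU : U ∈ B)
    (i : I) (t : (F.obj i).obj.obj (op U)) (ht : (colimit.ι F i).hom.app (op U) t = 0) :
    ∃ (k : I) (f : i ⟶ k), (F.map f).hom.app (op U) t = 0 := by
  have hE : IsColimit (preCocone F) := colimit.isColimit _
  have h4 := ιs_hom_app F i U t
  have h0 : (ιs F i).hom.app (op U) t = 0 := by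
    rw [ιs_eq]
    change (shfIso F).inv.hom.app (op U) ((colimit.ι F i).hom.app (op U) t) = 0
    rw [ht, map_zero]
  have h5 : (toSheafify J (preCocone F).pt).app (op U)
      (((preCocone F).ι.app i).app (op U) t) = 0 := h4.symm.trans h0
  have h6 : ((preCocone F).ι.app i).app (op U) t = 0 :=
    (toSheafify_colimit_bijective hE B Cov h1 h2 U hU).1 (h5.trans (map_zero _).symm)
  exact exists_map_eq_zero hE U i t h6

end Site

section Top

open Groth.Agent.Lib.Cohomology.ColimCompactQS

variable {X : TopCat.{u}} [PrespectralSpace X] (U : Opens X) (hU : IsCompact (U : Set X))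
  (hqs : IsQuasiSeparated (U : Set X))
  {I : Type u} [SmallCategory I] [IsFiltered I]

/-- the compact opens inside `U`. -/
def BU : Set (Opens X) := {V | IsCompact (V : Set X) ∧ V ≤ U}

/-- the finite covers by compact opens. -/
def CovU : ∀ (V : Opens X) (κ : Type u), (κ → Over V) → Prop := fun V κ Y =>
  Finite κ ∧ V ∈ BU U ∧ (∀ i, IsCompact (((Y i).left : Opens X) : Set X)) ∧
    Sieve.ofArrows (fun i => (Y i).left) (fun i => (Y i).hom) ∈ Opens.grothendieckTopology X V

include hqs in
theorem h1U : ∀ (V : Opens X) (κ : Type u) (Y : κ → Over V), CovU U V κ Y → Finite κ ∧ V ∈ BU U ∧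
    Sieve.ofArrows (fun i => (Y i).left) (fun i => (Y i).hom) ∈ Opens.grothendieckTopology X V ∧
    ∀ (p : ℕ) (a : Fin (p + 1) → κ), (∏ᶜ fun k => Y (a k)).left ∈ BU U := by
  intro V κ Y hY
  obtain ⟨hfin, hV, hc, hcov⟩ := hY
  refine ⟨hfin, hV, hcov, ?_⟩
  intro p a
  show IsCompact (((∏ᶜ fun k => Y (a k)).left : Opens X) : Set X) ∧
    (∏ᶜ fun k => Y (a k)).left ≤ U
  rw [prod_left_eq V p (fun k => Y (a k))]
  exact isCompact_inf' U hqs _ _ _
    (fun k => ⟨hc (a k), le_trans (Y (a k)).hom.le hV.2⟩)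

theorem h2U : ∀ V ∈ BU U, ∀ T ∈ Opens.grothendieckTopology X V,
    ∃ (κ : Type u) (Y : κ → Over V), CovU U V κ Y ∧ ∀ i, T.arrows (Y i).hom := by
  classical
  intro V hV T hT
  have hT' : ∀ x ∈ V, ∃ (W : Opens X) (f : W ⟶ V), T f ∧ x ∈ W := hT
  have key : ∀ x : V, ∃ (W : Opens X), IsCompact (W : Set X) ∧ (x : X) ∈ W ∧
      ∃ (h : W ≤ V), T.arrows (homOfLE h) := by
    intro x
    obtain ⟨W, f, hf, hx⟩ := hT' x.1 x.2
    obtain ⟨v, ⟨hvo, hvc⟩, hxv, hvW⟩ :=
      (PrespectralSpace.isTopologicalBasis (X := X)).exists_subset_of_mem_open hx W.isOpen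
    refine ⟨⟨v, hvo⟩, hvc, hxv, le_trans hvW f.le, ?_⟩
    have : (homOfLE (le_trans hvW f.le) : (⟨v, hvo⟩ : Opens X) ⟶ V) =
        (homOfLE hvW : (⟨v, hvo⟩ : Opens X) ⟶ W) ≫ f := Subsingleton.elim _ _
    rw [this]
    exact T.downward_closed hf _
  choose W hWc hxW hWV hWT using key
  obtain ⟨t, ht⟩ := hV.1.elim_finite_subcover (fun x : V => ((W x : Opens X) : Set X))
    (fun x => (W x).isOpen) (fun x hx => Set.mem_iUnion.mpr ⟨⟨x, hx⟩, hxW ⟨x, hx⟩⟩)
  refine ⟨{x // x ∈ t}, fun i => Over.mk (homOfLE (hWV i.1)), ⟨?_, hV, ?_, ?_⟩, ?_⟩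
  · infer_instance
  · intro i
    exact hWc i.1
  · intro x hx
    have := ht hx
    simp only [Set.mem_iUnion] at this
    obtain ⟨i, hi, hxi⟩ := this
    exact ⟨W i, homOfLE (hWV i), Sieve.ofArrows_mk _ _ (⟨i, hi⟩ : {x // x ∈ t}), hxi⟩
  · intro i
    exact hWT i.1

include hU hqs in
/-- a section over a compact quasi-separated open of a filtered colimit of abelian sheaves comes
from a stage. -/
theorem exists_rep_top (F : I ⥤ Sheaf (Opens.grothendieckTopology X) AddCommGrpCat.{u})
    (s : (colimit F).obj.obj (op U)) :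
    ∃ (i : I) (t : (F.obj i).obj.obj (op U)), (colimit.ι F i).hom.app (op U) t = s :=
  exists_rep_site (BU U) (CovU U) (h1U U hqs) (h2U U) F U ⟨hU, le_rfl⟩ s

include hU hqs in
/-- a section of a stage over a compact quasi-separated open which dies in the filtered colimit
dies at a later stage. -/
theorem exists_map_eq_zero_top (F : I ⥤ Sheaf (Opens.grothendieckTopology X) AddCommGrpCat.{u})
    (i : I) (t : (F.obj i).obj.obj (op U)) (ht : (colimit.ι F i).hom.app (op U) t = 0) :
    ∃ (k : I) (f : i ⟶ k), (F.map f).hom.app (op U) t = 0 :=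
  exists_map_eq_zero_site (BU U) (CovU U) (h1U U hqs) (h2U U) F U ⟨hU, le_rfl⟩ i t ht

end Top

end Groth.Agent.Lib.Helper42.ColimSections
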