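import Groth.Agent.Lib.Helper42.ConeBase

/-!
# The pointed affine cone over a general base (helper42)

`E ⊆ C = Spec(𝒮)`: the part of `E` over an affine open `U` of the base is the image under the chart
of the complement of `V(𝒮(U)_+)` in `Spec 𝒮(U)`.
-/

set_option autoImplicit false

universe u

namespace Groth.Agent.Lib.Helper42.Cone

open CategoryTheory CategoryTheory.Limits AlgebraicGeometry TopologicalSpace Opposite

/-- a graded homomorphism maps the irrelevant ideal into the irrelevant ideal. -/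
theorem irrelevant_le_comap {A B σ τ : Type u} [CommRing A] [SetLike σ A] [AddSubgroupClass σ A]
    {𝒜 : ℕ → σ} [GradedRing 𝒜] [CommRing B] [SetLike τ B] [AddSubgroupClass τ B] {ℬ : ℕ → τ}
    [GradedRing ℬ] (ψ : 𝒜 →+*ᵍ ℬ) :
    (HomogeneousIdeal.irrelevant 𝒜).toIdeal ≤
      ((HomogeneousIdeal.irrelevant ℬ).toIdeal).comap ψ := by
  rw [HomogeneousIdeal.toIdeal_irrelevant_le]
  intro i hi a ha
  exact HomogeneousIdeal.mem_irrelevant_of_mem ℬ hi (GradedFunLike.map_mem ψ ha)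

theorem mem_vertexCompl {R : CommRingCat.{u}} (𝒜 : ℕ → AddSubgroup R) [GradedRing 𝒜]
    (q : Spec R) :
    q ∈ RelCone.vertexCompl 𝒜 ↔ ¬ ((HomogeneousIdeal.irrelevant 𝒜).toIdeal ≤ q.asIdeal) := by
  exact Iff.rfl

variable {Y : Scheme.{u}} (𝒮 : RelProj.QCGrAlg Y)

/-- the complement of the vertex is compatible with restriction to a basic open. -/
theorem vertexCompl_res_iff (U : Y.Opens) (hU : IsAffineOpen U) (r : Γ(Y, U))
    (qW : Spec (𝒮.presheaf.obj (op (Y.basicOpen r)))) :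
    (Spec.map (𝒮.presheaf.map (homOfLE (Y.basicOpen_le r)).op)).base qW ∈
        RelCone.vertexCompl (𝒮.deg U hU) ↔
      qW ∈ RelCone.vertexCompl (𝒮.deg (Y.basicOpen r) (hU.basicOpen r)) := by
  rw [mem_vertexCompl, mem_vertexCompl, not_iff_not]
  have hcomap : ((Spec.map (𝒮.presheaf.map (homOfLE (Y.basicOpen_le r)).op)).base qW).asIdeal =
      qW.asIdeal.comap (𝒮.res hU (hU.basicOpen r) (Y.basicOpen_le r)) := rfl
  rw [hcomap]
  constructor
  · intro h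
    have h1 : ((HomogeneousIdeal.irrelevant (𝒮.deg U hU)).toIdeal).map
        (𝒮.res hU (hU.basicOpen r) (Y.basicOpen_le r)) ≤ qW.asIdeal :=
      Ideal.map_le_iff_le_comap.mpr h
    exact le_trans (𝒮.irrelevant_le_map U hU r) h1
  · intro h
    exact le_trans (irrelevant_le_comap (𝒮.res hU (hU.basicOpen r) (Y.basicOpen_le r)))
      (Ideal.comap_mono h)

/-- the complement of the vertex is compatible with restriction to an open basic in `U`. -/
theorem vertexCompl_res_iff' (U : Y.Opens) (hU : IsAffineOpen U) (W : Y.Opens)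
    (hW : IsAffineOpen W) (r : Γ(Y, U)) (hr : Y.basicOpen r = W) (hWU : W ≤ U)
    (qW : Spec (𝒮.presheaf.obj (op W))) :
    (Spec.map (𝒮.presheaf.map (homOfLE hWU).op)).base qW ∈ RelCone.vertexCompl (𝒮.deg U hU) ↔
      qW ∈ RelCone.vertexCompl (𝒮.deg W hW) := by
  subst hr
  exact vertexCompl_res_iff 𝒮 U hU r qW

/-- the chart over an open basic in `U` factors through the chart over `U`. -/
theorem ι_res_apply (U : Y.Opens) (hU : IsAffineOpen U) (W : Y.Opens)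
    (hW : IsAffineOpen W) (r : Γ(Y, U)) (hr : Y.basicOpen r = W) (hWU : W ≤ U)
    (qW : Spec (𝒮.presheaf.obj (op W))) :
    (𝒮.toQCAlg.ι U hU).base ((Spec.map (𝒮.presheaf.map (homOfLE hWU).op)).base qW) =
      (𝒮.toQCAlg.ι W hW).base qW := by
  let W' : Y.AffineZariskiSite := ⟨W, hW⟩
  let U' : Y.AffineZariskiSite := ⟨U, hU⟩
  have hle : W' ≤ U' := ⟨r, hr⟩
  have h := 𝒮.toQCAlg.ι_res (U := U') (V := W') (homOfLE hle)
  exact congrArg (fun φ => φ.base qW) h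

/-- the part of the pointed affine cone over an affine open `U` of the base. -/
theorem pointedCone_inf_preimage (U : Y.Opens) (hU : IsAffineOpen U) :
    RelCone.pointedCone 𝒮 ⊓ 𝒮.toQCAlg.π ⁻¹ᵁ U =
      (𝒮.toQCAlg.ι U hU) ''ᵁ RelCone.vertexCompl (𝒮.deg U hU) := by
  ext t
  constructor
  · rintro ⟨ht1, ht2⟩
    unfold RelCone.pointedCone at ht1
    obtain ⟨V, hV⟩ := TopologicalSpace.Opens.mem_iSup.mp ht1
    obtain ⟨U₁, hU₁0⟩ := V
    have hU₁ : IsAffineOpen U₁ := hU₁0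
    change t ∈ (𝒮.toQCAlg.ι U₁ hU₁) ''ᵁ RelCone.vertexCompl (𝒮.deg U₁ hU₁) at hV
    obtain ⟨q₁, hq₁, rfl⟩ := hV
    have ht3 : 𝒮.toQCAlg.π.base ((𝒮.toQCAlg.ι U₁ hU₁).base q₁) ∈ U₁ := by
      have : (𝒮.toQCAlg.ι U₁ hU₁).base q₁ ∈ 𝒮.toQCAlg.π ⁻¹ᵁ U₁ := by
        rw [𝒮.toQCAlg.π_preimage U₁ hU₁]; exact ⟨q₁, rfl⟩
      exact this
    obtain ⟨s₁, s, hs, hxs⟩ := exists_basicOpen_le_affine_inter hU₁ hU _ ⟨ht3, ht2⟩
    have hW : IsAffineOpen (Y.basicOpen s₁) := hU₁.basicOpen s₁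
    have htW : (𝒮.toQCAlg.ι U₁ hU₁).base q₁ ∈ 𝒮.toQCAlg.π ⁻¹ᵁ (Y.basicOpen s₁) := hxs
    rw [𝒮.toQCAlg.π_preimage _ hW] at htW
    obtain ⟨qW, hqW⟩ := htW
    have h1 := ι_res_apply 𝒮 U₁ hU₁ _ hW s₁ rfl (Y.basicOpen_le s₁) qW
    have hq₁' : (Spec.map (𝒮.presheaf.map (homOfLE (Y.basicOpen_le s₁)).op)).base qW = q₁ :=
      (𝒮.toQCAlg.ι U₁ hU₁).isOpenEmbedding.injective (h1.trans hqW)
    have hqWv : qW ∈ RelCone.vertexCompl (𝒮.deg _ hW) := by
      rw [← vertexCompl_res_iff' 𝒮 U₁ hU₁ _ hW s₁ rfl (Y.basicOpen_le s₁) qW, hq₁']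
      exact hq₁
    have hWU : Y.basicOpen s₁ ≤ U := hs ▸ Y.basicOpen_le s
    refine ⟨(Spec.map (𝒮.presheaf.map (homOfLE hWU).op)).base qW, ?_, ?_⟩
    · exact (vertexCompl_res_iff' 𝒮 U hU _ hW s hs.symm hWU qW).mpr hqWv
    · exact (ι_res_apply 𝒮 U hU _ hW s hs.symm hWU qW).trans hqW
  · rintro ⟨q, hq, rfl⟩
    refine ⟨?_, ?_⟩
    · unfold RelCone.pointedCone
      refine TopologicalSpace.Opens.mem_iSup.mpr ⟨⟨U, hU⟩, ?_⟩
      exact ⟨q, hq, rfl⟩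
    · change (𝒮.toQCAlg.ι U hU).base q ∈ 𝒮.toQCAlg.π ⁻¹ᵁ U
      rw [𝒮.toQCAlg.π_preimage U hU]
      exact ⟨q, rfl⟩

end Groth.Agent.Lib.Helper42.Cone
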