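import Mathlib.RingTheory.GradedAlgebra.RingHom
import Mathlib.RingTheory.GradedAlgebra.HomogeneousLocalization
import Mathlib.Algebra.Polynomial.AlgebraMap
import Mathlib.Algebra.Polynomial.Div

/-!
# Graded rings obtained by adjoining one variable of degree one (helper42)

`ℬ = 𝒜[z]`: a graded homomorphism `ι : 𝒜 →+*ᵍ ℬ` and `z ∈ ℬ 1` such that `𝒜[X] → ℬ`, `X ↦ z`, is
bijective.  The coefficient maps `ℬ → 𝒜` lower degrees as expected; in particular "`z ↦ 0`" is a
graded retraction of `ι`, every element of `ℬ` differs from the image of its constant coefficient by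
a multiple of `z`, and "`z ↦ 1`" is injective on every graded piece.
-/

set_option autoImplicit false
set_option linter.unusedSectionVars false

universe u

namespace Groth.Agent.Lib.Helper42.PolyGraded

open DirectSum

variable {A B σ τ : Type u} [CommRing A] [SetLike σ A] [AddSubgroupClass σ A]
  {𝒜 : ℕ → σ} [GradedRing 𝒜]
  [CommRing B] [SetLike τ B] [AddSubgroupClass τ B] {ℬ : ℕ → τ} [GradedRing ℬ]
  (ι : 𝒜 →+*ᵍ ℬ) {z : B} (hz : z ∈ ℬ 1)
  (hbij : Function.Bijective (Polynomial.eval₂RingHom ι.toRingHom z))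

/-- the presentation `𝒜[X] ≃ ℬ`. -/
noncomputable def polyEquiv : Polynomial A ≃+* B := RingEquiv.ofBijective _ hbij

theorem polyEquiv_apply (P : Polynomial A) :
    polyEquiv ι hbij P = Polynomial.eval₂ ι.toRingHom z P := rfl

theorem polyEquiv_monomial (l : ℕ) (a : A) :
    polyEquiv ι hbij (Polynomial.monomial l a) = ι a * z ^ l := by
  rw [polyEquiv_apply, Polynomial.eval₂_monomial]
  rfl

/-- the `j`-th coefficient of an element of `ℬ`. -/
noncomputable def coeffHom (j : ℕ) : B →+ A :=
  (Polynomial.lcoeff A j).toAddMonoidHom.comp (polyEquiv ι hbij).symm.toAddMonoidHom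

theorem coeffHom_apply (j : ℕ) (b : B) :
    coeffHom ι hbij j b = ((polyEquiv ι hbij).symm b).coeff j := rfl

theorem coeffHom_mul_pow (j l : ℕ) (a : A) :
    coeffHom ι hbij j (ι a * z ^ l) = if l = j then a else 0 := by
  rw [coeffHom_apply, ← polyEquiv_monomial ι hbij l a, RingEquiv.symm_apply_apply,
    Polynomial.coeff_monomial]

include hz in
theorem mul_pow_mem {i l : ℕ} {a : A} (ha : a ∈ 𝒜 i) : ι a * z ^ l ∈ ℬ (i + l) := by
  have h1 : z ^ l ∈ ℬ (l • 1) := SetLike.pow_mem_graded l hz
  rw [smul_eq_mul, mul_one] at h1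
  exact SetLike.mul_mem_graded (GradedFunLike.map_mem ι ha) h1

include hz in
/-- the coefficient maps are compatible with the projections onto the graded pieces. -/
theorem proj_coeffHom (j m : ℕ) (b : B) :
    GradedRing.proj 𝒜 m (coeffHom ι hbij j b) =
      coeffHom ι hbij j (GradedRing.proj ℬ (m + j) b) := by
  classical
  have key : ((GradedRing.proj 𝒜 m).comp (coeffHom ι hbij j)).comp
        (polyEquiv ι hbij).toAddMonoidHom =
      ((coeffHom ι hbij j).comp (GradedRing.proj ℬ (m + j))).comp
        (polyEquiv ι hbij).toAddMonoidHom := by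
    apply Polynomial.addHom_ext
    intro l a
    have hhom : ∀ (i : ℕ) (a : A), a ∈ 𝒜 i →
        GradedRing.proj 𝒜 m (coeffHom ι hbij j (ι a * z ^ l)) =
          coeffHom ι hbij j (GradedRing.proj ℬ (m + j) (ι a * z ^ l)) := by
      intro i a ha
      have hmem := mul_pow_mem ι hz (l := l) ha
      rw [coeffHom_mul_pow, GradedRing.proj_apply, GradedRing.proj_apply]
      by_cases hlj : l = j
      · subst hlj
        rw [if_pos rfl]
        by_cases him : i = m
        · subst him
          rw [decompose_of_mem_same 𝒜 ha, decompose_of_mem_same ℬ hmem, coeffHom_mul_pow,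
            if_pos rfl]
        · rw [decompose_of_mem_ne 𝒜 ha him,
            decompose_of_mem_ne ℬ hmem (by omega : i + l ≠ m + l), map_zero]
      · rw [if_neg hlj, decompose_zero, DirectSum.zero_apply, ZeroMemClass.coe_zero]
        by_cases h2 : i + l = m + j
        · rw [h2] at hmem
          rw [decompose_of_mem_same ℬ hmem, coeffHom_mul_pow, if_neg hlj]
        · rw [decompose_of_mem_ne ℬ hmem h2, map_zero]
    change GradedRing.proj 𝒜 m (coeffHom ι hbij j (polyEquiv ι hbij (Polynomial.monomial l a))) =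
      coeffHom ι hbij j (GradedRing.proj ℬ (m + j) (polyEquiv ι hbij (Polynomial.monomial l a)))
    rw [polyEquiv_monomial]
    rw [← DirectSum.sum_support_decompose 𝒜 a]
    simp only [map_sum, Finset.sum_mul]
    refine Finset.sum_congr rfl (fun i _ => ?_)
    exact hhom i _ (SetLike.coe_mem _)
  have h2 := DFunLike.congr_fun key ((polyEquiv ι hbij).symm b)
  simpa using h2

include hz in
/-- the `j`-th coefficient of an element of degree `k` has degree `k - j`. -/
theorem coeffHom_mem {j k : ℕ} (hjk : j ≤ k) {b : B} (hb : b ∈ ℬ k) :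
    coeffHom ι hbij j b ∈ 𝒜 (k - j) := by
  classical
  have h := proj_coeffHom ι hz hbij j (k - j) b
  rw [GradedRing.proj_apply, GradedRing.proj_apply, Nat.sub_add_cancel hjk,
    decompose_of_mem_same ℬ hb] at h
  rw [← h]
  exact SetLike.coe_mem _

include hz in
/-- the `j`-th coefficient of an element of degree `k < j` vanishes. -/
theorem coeffHom_eq_zero {j k : ℕ} (hjk : k < j) {b : B} (hb : b ∈ ℬ k) :
    coeffHom ι hbij j b = 0 := by
  classical
  rw [← DirectSum.sum_support_decompose 𝒜 (coeffHom ι hbij j b)]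
  refine Finset.sum_eq_zero (fun m _ => ?_)
  have h := proj_coeffHom ι hz hbij j m b
  rw [GradedRing.proj_apply, GradedRing.proj_apply,
    decompose_of_mem_ne ℬ hb (by omega : k ≠ m + j), map_zero] at h
  exact h

/-- "`z ↦ 0`", the graded retraction of `ι`. -/
noncomputable def evalZero : ℬ →+*ᵍ 𝒜 where
  toRingHom := (Polynomial.constantCoeff).comp (polyEquiv ι hbij).symm.toRingHom
  map_mem := by
    intro k b hb
    have h := coeffHom_mem ι hz hbij (Nat.zero_le k) hb
    rw [Nat.sub_zero] at h
    exact h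

theorem evalZero_apply (b : B) :
    evalZero ι hz hbij b = ((polyEquiv ι hbij).symm b).coeff 0 := rfl

theorem evalZero_ι (a : A) : evalZero ι hz hbij (ι a) = a := by
  have e : polyEquiv ι hbij (Polynomial.C a) = ι a := by
    rw [polyEquiv_apply, Polynomial.eval₂_C]
    rfl
  rw [evalZero_apply, ← e, RingEquiv.symm_apply_apply, Polynomial.coeff_C_zero]

theorem evalZero_z : evalZero ι hz hbij z = 0 := by
  have e : polyEquiv ι hbij Polynomial.X = z := by
    rw [polyEquiv_apply, Polynomial.eval₂_X]
  have e' : (polyEquiv ι hbij).symm z = Polynomial.X := by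
    rw [RingEquiv.symm_apply_eq]; exact e.symm
  rw [evalZero_apply, e', Polynomial.coeff_X_zero]

/-- every element differs from the image of its constant coefficient by a multiple of `z`. -/
theorem sub_evalZero_mem_span (b : B) : b - ι (evalZero ι hz hbij b) ∈ Ideal.span {z} := by
  have h1 := Polynomial.divX_mul_X_add ((polyEquiv ι hbij).symm b)
  have h2 := congrArg (polyEquiv ι hbij) h1
  rw [RingEquiv.apply_symm_apply, map_add, map_mul] at h2
  have e1 : polyEquiv ι hbij Polynomial.X = z := by
    rw [polyEquiv_apply, Polynomial.eval₂_X]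
  have e2 : polyEquiv ι hbij (Polynomial.C (((polyEquiv ι hbij).symm b).coeff 0)) =
      ι (evalZero ι hz hbij b) := by
    rw [polyEquiv_apply, Polynomial.eval₂_C]
    rfl
  rw [e1, e2] at h2
  rw [Ideal.mem_span_singleton']
  refine ⟨polyEquiv ι hbij ((polyEquiv ι hbij).symm b).divX, ?_⟩
  rw [eq_sub_iff_add_eq]
  exact h2

/-- "`z ↦ 1`". -/
noncomputable def evalOne : B →+* A :=
  (Polynomial.evalRingHom 1).comp (polyEquiv ι hbij).symm.toRingHom

theorem evalOne_apply (b : B) :
    evalOne ι hbij b = ((polyEquiv ι hbij).symm b).eval 1 := rfl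

include hz in
/-- the coefficients of an element of degree `k` are the homogeneous components of its image under
"`z ↦ 1`". -/
theorem coeffHom_eq_proj_evalOne {j k : ℕ} (hjk : j ≤ k) {b : B} (hb : b ∈ ℬ k) :
    coeffHom ι hbij j b = GradedRing.proj 𝒜 (k - j) (evalOne ι hbij b) := by
  classical
  rw [evalOne_apply, Polynomial.eval_eq_sum_range' (Nat.lt_succ_self _)]
  simp only [one_pow, mul_one, map_sum]
  rw [Finset.sum_eq_single j]
  · have h := coeffHom_mem ι hz hbij hjk hb
    rw [GradedRing.proj_apply, ← coeffHom_apply, decompose_of_mem_same 𝒜 h]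
  · intro l _ hlj
    rw [GradedRing.proj_apply, ← coeffHom_apply]
    by_cases hlk : l ≤ k
    · have h := coeffHom_mem ι hz hbij hlk hb
      rw [decompose_of_mem_ne 𝒜 h (by omega : k - l ≠ k - j)]
    · rw [coeffHom_eq_zero ι hz hbij (by omega : k < l) hb, decompose_zero,
        DirectSum.zero_apply, ZeroMemClass.coe_zero]
  · intro hj
    rw [Finset.mem_range, not_lt] at hj
    have h0 : ((polyEquiv ι hbij).symm b).coeff j = 0 := by
      apply Polynomial.coeff_eq_zero_of_natDegree_lt
      omega
    rw [h0, map_zero]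

include hz in
/-- "`z ↦ 1`" is injective on every graded piece. -/
theorem eq_zero_of_evalOne_eq_zero {k : ℕ} {b : B} (hb : b ∈ ℬ k)
    (h : evalOne ι hbij b = 0) : b = 0 := by
  have h1 : (polyEquiv ι hbij).symm b = 0 := by
    ext j
    rw [Polynomial.coeff_zero, ← coeffHom_apply]
    by_cases hjk : j ≤ k
    · rw [coeffHom_eq_proj_evalOne ι hz hbij hjk hb, h, map_zero]
    · exact coeffHom_eq_zero ι hz hbij (by omega) hb
  have h2 := congrArg (polyEquiv ι hbij) h1
  rwa [RingEquiv.apply_symm_apply, map_zero] at h2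

theorem evalOne_ι (a : A) : evalOne ι hbij (ι a) = a := by
  have e : polyEquiv ι hbij (Polynomial.C a) = ι a := by
    rw [polyEquiv_apply, Polynomial.eval₂_C]
    rfl
  rw [evalOne_apply, ← e, RingEquiv.symm_apply_apply, Polynomial.eval_C]

theorem evalOne_z : evalOne ι hbij z = 1 := by
  have e : polyEquiv ι hbij Polynomial.X = z := by
    rw [polyEquiv_apply, Polynomial.eval₂_X]
  have e' : (polyEquiv ι hbij).symm z = Polynomial.X := by
    rw [RingEquiv.symm_apply_eq]; exact e.symm
  rw [evalOne_apply, e', Polynomial.eval_X]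

include hz in
/-- every element of `𝒜` is the image under "`z ↦ 1`" of a homogeneous element of `ℬ`. -/
theorem exists_homogeneous_evalOne_eq (a : A) :
    ∃ (N : ℕ) (b : B), b ∈ ℬ N ∧ evalOne ι hbij b = a := by
  classical
  refine ⟨(DirectSum.decompose 𝒜 a).support.sup id,
    ∑ i ∈ (DirectSum.decompose 𝒜 a).support,
      ι (DirectSum.decompose 𝒜 a i : A) * z ^ ((DirectSum.decompose 𝒜 a).support.sup id - i), ?_, ?_⟩
  · refine sum_mem (fun i hi => ?_)
    have h1 := mul_pow_mem ι hz (l := (DirectSum.decompose 𝒜 a).support.sup id - i)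
      (SetLike.coe_mem (DirectSum.decompose 𝒜 a i))
    have h2 : i ≤ (DirectSum.decompose 𝒜 a).support.sup id := Finset.le_sup (f := id) hi
    rwa [Nat.add_sub_cancel' h2] at h1
  · rw [map_sum]
    conv_rhs => rw [← DirectSum.sum_support_decompose 𝒜 a]
    refine Finset.sum_congr rfl (fun i _ => ?_)
    rw [map_mul, map_pow, evalOne_ι, evalOne_z, one_pow, mul_one]

end Groth.Agent.Lib.Helper42.PolyGraded
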