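import Groth.Agent.Lib.Helper42.ProjQLocal
import Groth.Agent.Lib.Helper42.PolyGraded

/-!
# Projective cones over a general base: the pointed projective cone and its retraction (helper42)

For `𝒮h = 𝒮[z]` (frozen `RelCone.IsPolyOver`): the pointed projective cone `Ê ⊆ Ĉ = Proj(𝒮h)` is the
open of definition `G(ι)` of the morphism induced by `ι : 𝒮 → 𝒮h`; standard charts of `Ê`;
transport of the frozen chart equations along equalities of opens.
-/

set_option autoImplicit false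

universe u

namespace Groth.Agent.Lib.Helper42.Cone

open CategoryTheory CategoryTheory.Limits AlgebraicGeometry TopologicalSpace Opposite
open HomogeneousLocalization

section general

variable {Y : Scheme.{u}} {𝒜 ℬ : RelProj.QCGrAlg Y} (φ : 𝒜.toQCAlg ⟶ ℬ.toQCAlg)
  (hφ : RelProj.IsGradedHom φ)
  {PB : Scheme.{u}} {pB : PB ⟶ Y}
  {chartB : ∀ (U : Y.Opens) (hU : IsAffineOpen U),
    (((pB ⁻¹ᵁ U : PB.Opens) : Scheme.{u}) ≅ Proj (ℬ.deg U hU))}

/-- over the pair `(U, U)` a graded homomorphism regarded as a graded morphism over the identity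
gives back the graded homomorphism over `U`. -/
theorem ofHom_gradedAt_apply (U : Y.Opens) (hU : IsAffineOpen U) (hle : U ≤ (𝟙 Y : Y ⟶ Y) ⁻¹ᵁ U)
    (x : 𝒜.presheaf.obj (op U)) :
    (RelProj.QGrHom.ofHom φ hφ).gradedAt U hU U hU hle x = RelProj.gradedHomAt φ hφ U hU x := by
  change (ℬ.presheaf.map (homOfLE hle).op).hom ((φ.hom.app (op U)).hom x) =
    (φ.hom.app (op U)).hom x
  have h1 : (homOfLE hle).op = 𝟙 (op U) := Subsingleton.elim _ _
  rw [h1]
  exact congrArg (fun ψ => ψ.hom ((φ.hom.app (op U)).hom x)) (ℬ.presheaf.map_id (op U))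

theorem ofHom_gradedAt_eq (U : Y.Opens) (hU : IsAffineOpen U) (hle : U ≤ (𝟙 Y : Y ⟶ Y) ⁻¹ᵁ U) :
    (RelProj.QGrHom.ofHom φ hφ).gradedAt U hU U hU hle = RelProj.gradedHomAt φ hφ U hU :=
  DFunLike.ext _ _ (ofHom_gradedAt_apply φ hφ U hU hle)

/-- the part over an affine open `U` of the open of definition of the morphism induced by a graded
homomorphism. -/
theorem domQ_ofHom_inf_preimage (hB : RelProj.IsRelProj ℬ pB chartB) (U : Y.Opens)
    (hU : IsAffineOpen U) :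
    RelProj.domQ (RelProj.QGrHom.ofHom φ hφ) pB chartB ⊓ pB ⁻¹ᵁ U =
      (RelProj.emb pB chartB U hU) ''ᵁ RelCone.domOpen (RelProj.gradedHomAt φ hφ U hU) := by
  rw [← ofHom_gradedAt_eq φ hφ U hU (le_refl U)]
  exact ProjQ.domQ_inf_preimage (u := RelProj.QGrHom.ofHom φ hφ) hB U hU U hU
    (le_refl U : U ≤ (𝟙 Y : Y ⟶ Y) ⁻¹ᵁ U)

end general

section cone

variable {Y : Scheme.{u}} {𝒮 𝒮h : RelProj.QCGrAlg Y} {ι : 𝒮.toQCAlg ⟶ 𝒮h.toQCAlg}
  {z : 𝒮h.presheaf.obj (op ⊤)} (hz : RelCone.IsPolyOver 𝒮 𝒮h ι z)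
  {PC : Scheme.{u}} {pC : PC ⟶ Y}
  {chartC : ∀ (U : Y.Opens) (hU : IsAffineOpen U),
    (((pC ⁻¹ᵁ U : PC.Opens) : Scheme.{u}) ≅ Proj (𝒮h.deg U hU))}

/-- the pointed projective cone is the open of definition of the morphism induced by `ι`. -/
theorem pointedProjCone_eq_domQ (hPC : RelProj.IsRelProj 𝒮h pC chartC) :
    RelCone.pointedProjCone 𝒮 hz pC chartC =
      RelProj.domQ (RelProj.QGrHom.ofHom ι hz.graded) pC chartC := by
  apply le_antisymm
  · unfold RelCone.pointedProjCone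
    refine iSup_le (fun U => ?_)
    obtain ⟨U, hU0⟩ := U
    have hU : IsAffineOpen U := hU0
    change (RelProj.emb pC chartC U hU) ''ᵁ
      RelCone.domOpen (RelProj.gradedHomAt ι hz.graded U hU) ≤ _
    rw [← domQ_ofHom_inf_preimage ι hz.graded hPC U hU]
    exact inf_le_left
  · intro x hx
    obtain ⟨U, hU, hxU⟩ : ∃ U : Y.Opens, IsAffineOpen U ∧ pC.base x ∈ U := by
      obtain ⟨_, ⟨V, hV, rfl⟩, hxV, -⟩ := (Y.isBasis_affineOpens).exists_subset_of_mem_open
        (Set.mem_univ (pC.base x)) isOpen_univ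
      exact ⟨V, hV, hxV⟩
    have h1 : x ∈ RelProj.domQ (RelProj.QGrHom.ofHom ι hz.graded) pC chartC ⊓ pC ⁻¹ᵁ U :=
      ⟨hx, hxU⟩
    rw [domQ_ofHom_inf_preimage ι hz.graded hPC U hU] at h1
    unfold RelCone.pointedProjCone
    exact TopologicalSpace.Opens.mem_iSup.mpr ⟨⟨U, hU⟩, h1⟩

end cone


section transport

variable {Y Y' : Scheme.{u}} {g : Y' ⟶ Y} {𝒮 : RelProj.QCGrAlg Y} {𝒮' : RelProj.QCGrAlg Y'}
  {u : RelProj.QGrHom g 𝒮 𝒮'}
  {P : Scheme.{u}} {p : P ⟶ Y}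
  {chart : ∀ (U : Y.Opens) (hU : IsAffineOpen U), (((p ⁻¹ᵁ U : P.Opens) : Scheme.{u}) ≅ Proj (𝒮.deg U hU))}
  {P' : Scheme.{u}} {p' : P' ⟶ Y'}
  {chart' : ∀ (U' : Y'.Opens) (hU' : IsAffineOpen U'),
    (((p' ⁻¹ᵁ U' : P'.Opens) : Scheme.{u}) ≅ Proj (𝒮'.deg U' hU'))}

/-- the frozen chart equations are transported along an equality of opens. -/
theorem isProjQMapOn_of_eq {W W' : P'.Opens} (e : W = W') {r : (W' : Scheme.{u}) ⟶ P}
    (hr : RelProj.IsProjQMapOn u p chart p' chart' W' r) :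
    RelProj.IsProjQMapOn u p chart p' chart' W ((P'.isoOfEq e).hom ≫ r) := by
  subst e
  have h : (P'.isoOfEq (rfl : W = W)).hom = 𝟙 _ := by
    rw [← cancel_mono W.ι, Scheme.isoOfEq_hom_ι, Category.id_comp]
  rw [h, Category.id_comp]
  exact hr

end transport

section retraction

variable {Y : Scheme.{u}} {𝒮 𝒮h : RelProj.QCGrAlg Y} {ι : 𝒮.toQCAlg ⟶ 𝒮h.toQCAlg}
  {z : 𝒮h.presheaf.obj (op ⊤)} (hz : RelCone.IsPolyOver 𝒮 𝒮h ι z)
  {PC : Scheme.{u}} {pC : PC ⟶ Y}
  {chartC : ∀ (U : Y.Opens) (hU : IsAffineOpen U),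
    (((pC ⁻¹ᵁ U : PC.Opens) : Scheme.{u}) ≅ Proj (𝒮h.deg U hU))}
  {P : Scheme.{u}} {p : P ⟶ Y}
  {chart : ∀ (U : Y.Opens) (hU : IsAffineOpen U), (((p ⁻¹ᵁ U : P.Opens) : Scheme.{u}) ≅ Proj (𝒮.deg U hU))}

/-- the standard charts `D_+(ι f)` over `U` land in the pointed projective cone. -/
theorem range_chart_subset (U : Y.Opens) (hU : IsAffineOpen U) {d : ℕ} (hd : 0 < d)
    {f : 𝒮.presheaf.obj (op U)} (hf : f ∈ 𝒮.deg U hU d) :
    Set.range (Proj.awayι (𝒮h.deg U hU) ((RelProj.gradedHomAt ι hz.graded U hU) f)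
      ((RelProj.gradedHomAt ι hz.graded U hU).2 hf) hd ≫ RelProj.emb pC chartC U hU).base ⊆
      Set.range (RelCone.pointedProjCone 𝒮 hz pC chartC).ι.base := by
  rw [Scheme.Opens.range_ι]
  rintro _ ⟨y, rfl⟩
  have hb : (Proj.awayι (𝒮h.deg U hU) ((RelProj.gradedHomAt ι hz.graded U hU) f)
      ((RelProj.gradedHomAt ι hz.graded U hU).2 hf) hd).base y ∈
        Proj.basicOpen (𝒮h.deg U hU) ((RelProj.gradedHomAt ι hz.graded U hU) f) :=
    (Proj.opensRange_awayι (𝒮h.deg U hU) _ ((RelProj.gradedHomAt ι hz.graded U hU).2 hf) hd).le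
      ⟨y, rfl⟩
  have hy : (Proj.awayι (𝒮h.deg U hU) ((RelProj.gradedHomAt ι hz.graded U hU) f)
      ((RelProj.gradedHomAt ι hz.graded U hU).2 hf) hd).base y ∈
        RelCone.domOpen (RelProj.gradedHomAt ι hz.graded U hU) :=
    (RelCone.mem_domOpen _ _).mpr
      ⟨f, HomogeneousIdeal.mem_irrelevant_of_mem _ hd hf,
        (ProjectiveSpectrum.mem_basicOpen _ _ _).mp hb⟩
  unfold RelCone.pointedProjCone
  refine TopologicalSpace.Opens.mem_iSup.mpr ⟨⟨U, hU⟩, ?_⟩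
  exact ⟨_, hy, rfl⟩

/-- the standard chart `Spec 𝒮h(U)_(ι f) ⟶ Ê`. -/
noncomputable def coneChart (i : ProjQ.PIdx 𝒮) :
    Spec (CommRingCat.of (Away (𝒮h.deg i.U i.hU) ((RelProj.gradedHomAt ι hz.graded i.U i.hU) i.f))) ⟶
      ((RelCone.pointedProjCone 𝒮 hz pC chartC : PC.Opens) : Scheme.{u}) :=
  IsOpenImmersion.lift (RelCone.pointedProjCone 𝒮 hz pC chartC).ι
    (Proj.awayι (𝒮h.deg i.U i.hU) ((RelProj.gradedHomAt ι hz.graded i.U i.hU) i.f)
      ((RelProj.gradedHomAt ι hz.graded i.U i.hU).2 i.hf) i.hd ≫ RelProj.emb pC chartC i.U i.hU)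
    (range_chart_subset hz i.U i.hU i.hd i.hf)

theorem coneChart_ι (i : ProjQ.PIdx 𝒮) :
    coneChart hz (pC := pC) (chartC := chartC) i ≫ (RelCone.pointedProjCone 𝒮 hz pC chartC).ι =
      Proj.awayι (𝒮h.deg i.U i.hU) ((RelProj.gradedHomAt ι hz.graded i.U i.hU) i.f)
        ((RelProj.gradedHomAt ι hz.graded i.U i.hU).2 i.hf) i.hd ≫ RelProj.emb pC chartC i.U i.hU :=
  IsOpenImmersion.lift_fac _ _ _

instance (i : ProjQ.PIdx 𝒮) : IsOpenImmersion (coneChart hz (pC := pC) (chartC := chartC) i) := by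
  have h3 : IsOpenImmersion (coneChart hz (pC := pC) (chartC := chartC) i ≫
      (RelCone.pointedProjCone 𝒮 hz pC chartC).ι) := by
    rw [coneChart_ι]; infer_instance
  exact IsOpenImmersion.of_comp _ (RelCone.pointedProjCone 𝒮 hz pC chartC).ι

/-- the standard charts cover the pointed projective cone. -/
theorem coneChart_covers
    (t : ((RelCone.pointedProjCone 𝒮 hz pC chartC : PC.Opens) : Scheme.{u})) :
    ∃ i : ProjQ.PIdx 𝒮, t ∈ Set.range (coneChart hz (pC := pC) (chartC := chartC) i).base := by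
  have ht : (RelCone.pointedProjCone 𝒮 hz pC chartC).ι.base t ∈
      RelCone.pointedProjCone 𝒮 hz pC chartC := t.2
  unfold RelCone.pointedProjCone at ht
  obtain ⟨V, hV⟩ := TopologicalSpace.Opens.mem_iSup.mp ht
  obtain ⟨U, hU0⟩ := V
  have hU : IsAffineOpen U := hU0
  change (RelCone.pointedProjCone 𝒮 hz pC chartC).ι.base t ∈
    (RelProj.emb pC chartC U hU) ''ᵁ RelCone.domOpen (RelProj.gradedHomAt ι hz.graded U hU) at hV
  obtain ⟨y, hy, hyt⟩ := hV
  obtain ⟨f, hf, hfy⟩ := (RelCone.mem_domOpen _ _).mp hy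
  obtain ⟨d, hd, fd, hfd, hfdy⟩ := ProjQ.exists_homogeneous_notMem
    (RelProj.gradedHomAt ι hz.graded U hU) y.asHomogeneousIdeal.toIdeal hf hfy
  refine ⟨⟨U, hU, d, hd, fd, hfd⟩, ?_⟩
  have hyb : y ∈ Proj.basicOpen (𝒮h.deg U hU) ((RelProj.gradedHomAt ι hz.graded U hU) fd) := hfdy
  obtain ⟨w, hw⟩ := (Proj.opensRange_awayι (𝒮h.deg U hU) _
    ((RelProj.gradedHomAt ι hz.graded U hU).2 hfd) hd).ge hyb
  refine ⟨w, ?_⟩
  apply (RelCone.pointedProjCone 𝒮 hz pC chartC).ι.isOpenEmbedding.injective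
  rw [← Scheme.Hom.comp_apply, coneChart_ι, Scheme.Hom.comp_apply]
  exact (congrArg _ hw).trans hyt

variable (p chart) in
/-- the chart equations pinning the canonical retraction `Ê ⟶ Proj(𝒮)` on the standard charts over
the pairs `(U, U)` (the form used by the frozen statements). -/
def IsRetr (r : ((RelCone.pointedProjCone 𝒮 hz pC chartC : PC.Opens) : Scheme.{u}) ⟶ P) : Prop :=
  ∀ (U : Y.Opens) (hU : IsAffineOpen U) (d : ℕ) (hd : 0 < d) (f : 𝒮.presheaf.obj (op U))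
    (hf : f ∈ 𝒮.deg U hU d)
    (g : Spec (CommRingCat.of (HomogeneousLocalization.Away (𝒮h.deg U hU)
        ((RelProj.gradedHomAt ι hz.graded U hU) f))) ⟶
      ((RelCone.pointedProjCone 𝒮 hz pC chartC : PC.Opens) : Scheme.{u})),
    g ≫ (RelCone.pointedProjCone 𝒮 hz pC chartC).ι =
        Proj.awayι (𝒮h.deg U hU) ((RelProj.gradedHomAt ι hz.graded U hU) f)
          ((RelProj.gradedHomAt ι hz.graded U hU).2 hf) hd ≫ RelProj.emb pC chartC U hU →
      g ≫ r =
        Spec.map (CommRingCat.ofHom (HomogeneousLocalization.Away.map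
          (RelProj.gradedHomAt ι hz.graded U hU) f)) ≫
          Proj.awayι (𝒮.deg U hU) f hf hd ≫ RelProj.emb p chart U hU

/-- the chart equations determine the retraction. -/
theorem isRetr_unique {r₁ r₂ : ((RelCone.pointedProjCone 𝒮 hz pC chartC : PC.Opens) : Scheme.{u}) ⟶ P}
    (h₁ : IsRetr hz p chart r₁) (h₂ : IsRetr hz p chart r₂) : r₁ = r₂ := by
  refine LocalGlue.hom_ext_of_family (J := ProjQ.PIdx 𝒮) _
    (fun i => coneChart hz (pC := pC) (chartC := chartC) i) (coneChart_covers hz) (fun i => ?_)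
  rw [h₁ i.U i.hU i.d i.hd i.f i.hf _ (coneChart_ι hz i),
    h₂ i.U i.hU i.d i.hd i.f i.hf _ (coneChart_ι hz i)]

/-- auxiliary form of the chart equations with the graded homomorphism over `U` as a variable. -/
theorem retr_aux
    {r : ((RelCone.pointedProjCone 𝒮 hz pC chartC : PC.Opens) : Scheme.{u}) ⟶ P}
    (hr : RelProj.IsProjQMapOn (RelProj.QGrHom.ofHom ι hz.graded) p chart pC chartC
      (RelCone.pointedProjCone 𝒮 hz pC chartC) r)
    (U : Y.Opens) (hU : IsAffineOpen U) (hle : U ≤ (𝟙 Y : Y ⟶ Y) ⁻¹ᵁ U)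
    (ψ : 𝒮.deg U hU →+*ᵍ 𝒮h.deg U hU)
    (hψ : ψ = (RelProj.QGrHom.ofHom ι hz.graded).gradedAt U hU U hU hle)
    (d : ℕ) (hd : 0 < d) (f : 𝒮.presheaf.obj (op U)) (hf : f ∈ 𝒮.deg U hU d)
    (g : Spec (CommRingCat.of (HomogeneousLocalization.Away (𝒮h.deg U hU) (ψ f))) ⟶
      ((RelCone.pointedProjCone 𝒮 hz pC chartC : PC.Opens) : Scheme.{u}))
    (hg : g ≫ (RelCone.pointedProjCone 𝒮 hz pC chartC).ι =
        Proj.awayι (𝒮h.deg U hU) (ψ f) (ψ.2 hf) hd ≫ RelProj.emb pC chartC U hU) :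
    g ≫ r = Spec.map (CommRingCat.ofHom (HomogeneousLocalization.Away.map ψ f)) ≫
          Proj.awayι (𝒮.deg U hU) f hf hd ≫ RelProj.emb p chart U hU := by
  subst hψ
  have hg' : g ≫ (RelCone.pointedProjCone 𝒮 hz pC chartC).ι =
      RelProj.awayEmb (RelProj.QGrHom.ofHom ι hz.graded) pC chartC U hU U hU hle hd f hf := hg
  have hW : Set.range (RelProj.awayEmb (RelProj.QGrHom.ofHom ι hz.graded) pC chartC U hU U hU hle
      hd f hf).base ⊆ Set.range (RelCone.pointedProjCone 𝒮 hz pC chartC).ι.base := by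
    rw [← hg', Scheme.Hom.comp_base, TopCat.coe_comp]
    exact Set.range_comp_subset_range _ _
  have h1 := hr U hU U hU hle d hd f hf hW
  have h2 : g = IsOpenImmersion.lift (RelCone.pointedProjCone 𝒮 hz pC chartC).ι
      (RelProj.awayEmb (RelProj.QGrHom.ofHom ι hz.graded) pC chartC U hU U hU hle hd f hf) hW := by
    rw [← cancel_mono (RelCone.pointedProjCone 𝒮 hz pC chartC).ι, IsOpenImmersion.lift_fac]
    exact hg'
  rw [h2]
  exact h1

/-- a morphism satisfying the frozen chart equations `IsProjQMapOn` on the pointed projective cone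
satisfies the chart equations over the pairs `(U, U)`. -/
theorem isRetr_of_isProjQMapOn
    {r : ((RelCone.pointedProjCone 𝒮 hz pC chartC : PC.Opens) : Scheme.{u}) ⟶ P}
    (hr : RelProj.IsProjQMapOn (RelProj.QGrHom.ofHom ι hz.graded) p chart pC chartC
      (RelCone.pointedProjCone 𝒮 hz pC chartC) r) : IsRetr hz p chart r := by
  intro U hU d hd f hf g hg
  exact retr_aux hz hr U hU (le_refl U) (RelProj.gradedHomAt ι hz.graded U hU)
    (ofHom_gradedAt_eq ι hz.graded U hU (le_refl U)).symm d hd f hf g hg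

/-- existence of the canonical retraction, in the strong form `IsProjQMapOn`. -/
theorem exists_isProjQMapOn (hPC : RelProj.IsRelProj 𝒮h pC chartC)
    (hP : RelProj.IsRelProj 𝒮 p chart) :
    ∃ r : ((RelCone.pointedProjCone 𝒮 hz pC chartC : PC.Opens) : Scheme.{u}) ⟶ P,
      RelProj.IsProjQMapOn (RelProj.QGrHom.ofHom ι hz.graded) p chart pC chartC
        (RelCone.pointedProjCone 𝒮 hz pC chartC) r ∧
      ∃ v : ((RelProj.domQ (RelProj.QGrHom.ofHom ι hz.graded) pC chartC : PC.Opens) : Scheme.{u}) ⟶ P,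
        RelProj.IsProjQMapOn (RelProj.QGrHom.ofHom ι hz.graded) p chart pC chartC
          (RelProj.domQ (RelProj.QGrHom.ofHom ι hz.graded) pC chartC) v ∧
        r = (PC.isoOfEq (pointedProjCone_eq_domQ hz hPC)).hom ≫ v := by
  obtain ⟨v, hv, -⟩ := ProjQ.existsUnique_isProjQMapOn
    (u := RelProj.QGrHom.ofHom ι hz.graded) hP hPC
  exact ⟨_, isProjQMapOn_of_eq (pointedProjCone_eq_domQ hz hPC) hv, v, hv, rfl⟩

/-- the chart equations over the pairs `(U, U)` imply the frozen chart equations `IsProjQMapOn`. -/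
theorem isProjQMapOn_of_isRetr (hPC : RelProj.IsRelProj 𝒮h pC chartC)
    (hP : RelProj.IsRelProj 𝒮 p chart)
    {r : ((RelCone.pointedProjCone 𝒮 hz pC chartC : PC.Opens) : Scheme.{u}) ⟶ P}
    (hr : IsRetr hz p chart r) :
    RelProj.IsProjQMapOn (RelProj.QGrHom.ofHom ι hz.graded) p chart pC chartC
      (RelCone.pointedProjCone 𝒮 hz pC chartC) r := by
  obtain ⟨r₀, hr₀, -⟩ := exists_isProjQMapOn hz hPC hP
  rw [isRetr_unique hz hr (isRetr_of_isProjQMapOn hz hr₀)]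
  exact hr₀

/-- existence and uniqueness of the canonical retraction of the pointed projective cone. -/
theorem existsUnique_isRetr (hPC : RelProj.IsRelProj 𝒮h pC chartC)
    (hP : RelProj.IsRelProj 𝒮 p chart) :
    ∃! r : ((RelCone.pointedProjCone 𝒮 hz pC chartC : PC.Opens) : Scheme.{u}) ⟶ P,
      IsRetr hz p chart r := by
  obtain ⟨r₀, hr₀, -⟩ := exists_isProjQMapOn hz hPC hP
  exact ⟨r₀, isRetr_of_isProjQMapOn hz hr₀, fun r hr =>
    isRetr_unique hz hr (isRetr_of_isProjQMapOn hz hr₀)⟩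

end retraction

end Groth.Agent.Lib.Helper42.Cone
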