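import Groth.Agent.Lib.Helper42.ConeQMap

/-!
# Morphisms of projective cones: local analysis on standard charts (helper42)
-/

set_option autoImplicit false

universe u

namespace Groth.Agent.Lib.Helper42.Cone

open CategoryTheory CategoryTheory.Limits AlgebraicGeometry TopologicalSpace Opposite
open HomogeneousLocalization

/-- transport of a morphism into a standard chart along an equality of graded homomorphisms. -/
theorem exists_bridge {A B σ τ : Type u} [CommRing A] [SetLike σ A] [AddSubgroupClass σ A]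
    {𝒜 : ℕ → σ} [GradedRing 𝒜] [CommRing B] [SetLike τ B] [AddSubgroupClass τ B] {ℬ : ℕ → τ}
    [GradedRing ℬ] (ψ₁ ψ₂ : 𝒜 →+*ᵍ ℬ) (h : ψ₁ = ψ₂) {d : ℕ} (hd : 0 < d) {f : A} (hf : f ∈ 𝒜 d)
    {W : Scheme.{u}} (β₁ : W ⟶ Spec (CommRingCat.of (Away ℬ (ψ₁ f)))) :
    ∃ β₂ : W ⟶ Spec (CommRingCat.of (Away ℬ (ψ₂ f))),
      β₂ ≫ Proj.awayι ℬ (ψ₂ f) (GradedFunLike.map_mem ψ₂ hf) hd =
        β₁ ≫ Proj.awayι ℬ (ψ₁ f) (GradedFunLike.map_mem ψ₁ hf) hd ∧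
      β₂ ≫ Spec.map (CommRingCat.ofHom (Away.map ψ₂ f)) =
        β₁ ≫ Spec.map (CommRingCat.ofHom (Away.map ψ₁ f)) := by
  subst h
  exact ⟨β₁, rfl, rfl⟩

variable {Y Y' : Scheme.{u}} {q : Y' ⟶ Y}
  {𝒮 : RelProj.QCGrAlg Y}
  {𝒮h : RelProj.QCGrAlg Y} {ι : 𝒮.toQCAlg ⟶ 𝒮h.toQCAlg} {z : 𝒮h.presheaf.obj (op ⊤)}
  (hz : RelCone.IsPolyOver 𝒮 𝒮h ι z)
  {𝒮h' : RelProj.QCGrAlg Y'}
  {uh : RelProj.QGrHom q 𝒮h 𝒮h'}
  {PC : Scheme.{u}} {pC : PC ⟶ Y}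
  {chartC : ∀ (U : Y.Opens) (hU : IsAffineOpen U),
    (((pC ⁻¹ᵁ U : PC.Opens) : Scheme.{u}) ≅ Proj (𝒮h.deg U hU))}
  {PC' : Scheme.{u}} {pC' : PC' ⟶ Y'}
  {chartC' : ∀ (U : Y'.Opens) (hU : IsAffineOpen U),
    (((pC' ⁻¹ᵁ U : PC'.Opens) : Scheme.{u}) ≅ Proj (𝒮h'.deg U hU))}

/-- a point of `G(uh)` sent into the pointed projective cone `Ê` lies in a standard chart of `G(uh)`
at an element `ι f`, `f ∈ 𝒮(U)` homogeneous of positive degree. -/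
theorem exists_chart_of_map_mem_pointed (hC : RelProj.IsRelProj 𝒮h pC chartC)
    (hC' : RelProj.IsRelProj 𝒮h' pC' chartC')
    {Φh : ((RelProj.domQ uh pC' chartC' : PC'.Opens) : Scheme.{u}) ⟶ PC}
    (hΦh : RelProj.IsProjQMapOn uh pC chartC pC' chartC' (RelProj.domQ uh pC' chartC') Φh)
    (t : ((RelProj.domQ uh pC' chartC' : PC'.Opens) : Scheme.{u}))
    (ht : Φh.base t ∈ RelCone.pointedProjCone 𝒮 hz pC chartC) :
    ∃ (U : Y.Opens) (hU : IsAffineOpen U) (U' : Y'.Opens) (hU' : IsAffineOpen U')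
      (hle : U' ≤ q ⁻¹ᵁ U) (d : ℕ) (hd : 0 < d) (f : 𝒮.presheaf.obj (op U))
      (hf : f ∈ 𝒮.deg U hU d),
      t ∈ Set.range (ProjQ.QIdx.emb uh pC' chartC' ⟨U, hU, U', hU', hle, d, hd,
        RelProj.gradedHomAt ι hz.graded U hU f,
        GradedFunLike.map_mem (RelProj.gradedHomAt ι hz.graded U hU) hf⟩).base := by
  have hcomp := ProjQ.isProjQMapOn_comp hC hC' hΦh
  unfold RelCone.pointedProjCone at ht
  obtain ⟨V, hV⟩ := TopologicalSpace.Opens.mem_iSup.mp ht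
  obtain ⟨U, hU0⟩ := V
  have hU : IsAffineOpen U := hU0
  change Φh.base t ∈ (RelProj.emb pC chartC U hU) ''ᵁ
    RelCone.domOpen (RelProj.gradedHomAt ι hz.graded U hU) at hV
  obtain ⟨y₀, hy₀, hy₀e⟩ := hV
  obtain ⟨f, hf, hfy⟩ := (RelCone.mem_domOpen _ _).mp hy₀
  obtain ⟨d, hd, fd, hfd, hfdy⟩ := ProjQ.exists_homogeneous_notMem
    (RelProj.gradedHomAt ι hz.graded U hU) y₀.asHomogeneousIdeal.toIdeal hf hfy
  have hpt : pC'.base ((RelProj.domQ uh pC' chartC').ι.base t) ∈ q ⁻¹ᵁ U := by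
    change q.base (pC'.base ((RelProj.domQ uh pC' chartC').ι.base t)) ∈ U
    have h1 : pC.base (Φh.base t) ∈ U := by
      have h2 : Φh.base t ∈ Set.range (RelProj.emb pC chartC U hU).base := ⟨y₀, hy₀e⟩
      rw [ProjQ.range_emb] at h2
      exact h2
    have h3 := congrArg (fun ψ => ψ.base t) hcomp
    simp only [Scheme.Hom.comp_base, TopCat.comp_app] at h3
    rw [h3] at h1
    exact h1
  obtain ⟨_, ⟨U', hU'0, rfl⟩, hxU', hU'le⟩ := (Y'.isBasis_affineOpens).exists_subset_of_mem_open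
    hpt (q ⁻¹ᵁ U).2
  have hU' : IsAffineOpen U' := hU'0
  exact ⟨U, hU, U', hU', hU'le, d, hd, fd, hfd,
    ProjQ.mem_range_emb_of_map_mem hC hC' hΦh U hU U' hU'
      hU'le hd (GradedFunLike.map_mem (RelProj.gradedHomAt ι hz.graded U hU) hfd) t hxU' y₀
      hfdy hy₀e.symm⟩

end Groth.Agent.Lib.Helper42.Cone
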