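import Groth.Agent.Lib.Helper42.PolyGraded3
import Groth.Agent.Lib.Helper42.ConeQMap2

/-!
# The canonical immersion of the affine cone into the projective cone (helper42)

Ring level: for `ℬ = 𝒜[z]`, the point of `Proj ℬ` under a point `q` of `Spec 𝒜` (through
`ℬ_(z) ≅ 𝒜` and `D_+(z) ⊆ Proj ℬ`), and the standard opens containing it.
General base: the frozen `RelCone.IsConeImm` on points; the cone immersion lies over the base.
-/

set_option autoImplicit false
set_option linter.unusedSectionVars false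

universe u

namespace Groth.Agent.Lib.Helper42.PolyGraded

open CategoryTheory AlgebraicGeometry HomogeneousLocalization

variable {A B σ τ : Type u} [CommRing A] [SetLike σ A] [AddSubgroupClass σ A]
  {𝒜 : ℕ → σ} [GradedRing 𝒜]
  [CommRing B] [SetLike τ B] [AddSubgroupClass τ B] {ℬ : ℕ → τ} [GradedRing ℬ]
  (ι : 𝒜 →+*ᵍ ℬ) {z : B} (hz : z ∈ ℬ 1)
  (hbij : Function.Bijective (Polynomial.eval₂RingHom ι.toRingHom z))

/-- the point of `Proj ℬ`, in `D_+(z)`, under a point of `Spec 𝒜`. -/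
noncomputable def conePoint (q : Spec (CommRingCat.of A)) : Proj ℬ :=
  (Proj.awayι ℬ z hz one_pos).base ((Spec.map (CommRingCat.ofHom (awayZ ι hbij))).base q)

/-- the standard opens `D_+(b)`, `b` homogeneous of positive degree, containing `conePoint q`. -/
theorem conePoint_mem_basicOpen_iff {k : ℕ} (hk : 0 < k) {b : B} (hb : b ∈ ℬ k)
    (q : Spec (CommRingCat.of A)) :
    conePoint ι hz hbij q ∈ Proj.basicOpen ℬ b ↔ evalOne ι hbij b ∉ q.asIdeal := by
  have h1 : conePoint ι hz hbij q ∈ Proj.basicOpen ℬ b ↔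
      (Spec.map (CommRingCat.ofHom (awayZ ι hbij))).base q ∈
        Proj.awayι ℬ z hz one_pos ⁻¹ᵁ Proj.basicOpen ℬ b := Iff.rfl
  rw [h1, Proj.awayι_preimage_basicOpen ℬ hz one_pos hb hk]
  have h2 : (Spec.map (CommRingCat.ofHom (awayZ ι hbij))).base q ∈
      PrimeSpectrum.basicOpen (Away.isLocalizationElem hz hb) ↔
      awayZ ι hbij (Away.isLocalizationElem hz hb) ∉ q.asIdeal := Iff.rfl
  have h3 : awayZ ι hbij (Away.isLocalizationElem hz hb) = evalOne ι hbij b := by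
    have := awayZ_mk ι hz hbij k (b ^ 1)
      (by convert SetLike.pow_mem_graded 1 hb using 2; exact mul_comm _ _)
    exact this.trans (congrArg _ (pow_one b))
  rw [h3] at h2
  exact h2

/-- a point of `Proj 𝒜` is determined by the homogeneous elements of positive degree it
contains. -/
theorem proj_ext_of_pos (y y' : ProjectiveSpectrum 𝒜)
    (h : ∀ (e : ℕ), 0 < e → ∀ g ∈ 𝒜 e,
      g ∈ y.asHomogeneousIdeal ↔ g ∈ y'.asHomogeneousIdeal) : y = y' := by
  apply ProjectiveSpectrum.ext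
  apply HomogeneousIdeal.ext'
  intro n a ha
  by_cases hn : n = 0
  · subst hn
    obtain ⟨g0, hg0, hg0y⟩ := SetLike.not_le_iff_exists.mp y.not_irrelevant_le
    obtain ⟨e, he, g, hg, hgy⟩ := Groth.Agent.Lib.Helper42.ProjDom.exists_pos_deg_notMem
      (𝒜 := 𝒜) y.asHomogeneousIdeal.toIdeal hg0 hg0y
    have hgy' : g ∉ y'.asHomogeneousIdeal := fun hc => hgy ((h e he g hg).mpr hc)
    have hag : a * g ∈ 𝒜 (0 + e) := SetLike.mul_mem_graded ha hg
    rw [zero_add] at hag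
    constructor
    · intro hay
      have h1 : a * g ∈ y'.asHomogeneousIdeal :=
        (h e he _ hag).mp (Ideal.mul_mem_right _ _ hay)
      exact (y'.isPrime.mem_or_mem h1).resolve_right hgy'
    · intro hay
      have h1 : a * g ∈ y.asHomogeneousIdeal :=
        (h e he _ hag).mpr (Ideal.mul_mem_right _ _ hay)
      exact (y.isPrime.mem_or_mem h1).resolve_right hgy
  · exact h n (Nat.pos_of_ne_zero hn) a ha

end Groth.Agent.Lib.Helper42.PolyGraded

namespace Groth.Agent.Lib.Helper42.Cone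

open CategoryTheory CategoryTheory.Limits AlgebraicGeometry TopologicalSpace Opposite
open HomogeneousLocalization

variable {Y : Scheme.{u}} {𝒮 𝒮h : RelProj.QCGrAlg Y} {ι : 𝒮.toQCAlg ⟶ 𝒮h.toQCAlg}
  {z : 𝒮h.presheaf.obj (op ⊤)} (hz : RelCone.IsPolyOver 𝒮 𝒮h ι z)
  {PC : Scheme.{u}} {pC : PC ⟶ Y}
  {chartC : ∀ (U : Y.Opens) (hU : IsAffineOpen U),
    (((pC ⁻¹ᵁ U : PC.Opens) : Scheme.{u}) ≅ Proj (𝒮h.deg U hU))}

/-- the frozen `awayZToBase` is `PolyGraded.awayZ`. -/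
theorem awayZToBase_eq (U : Y.Opens) (hU : IsAffineOpen U) :
    hz.awayZToBase U hU =
      PolyGraded.awayZ (RelProj.gradedHomAt ι hz.graded U hU) (hz.bij U hU) := rfl

theorem awayZToBase_bijective (U : Y.Opens) (hU : IsAffineOpen U) :
    Function.Bijective (hz.awayZToBase U hU) :=
  PolyGraded.awayZ_bijective (RelProj.gradedHomAt ι hz.graded U hU) (hz.deg_z U hU) (hz.bij U hU)

/-- the cone immersion on points. -/
theorem coneImm_apply {i : 𝒮.toQCAlg.spec ⟶ PC} (hi : RelCone.IsConeImm 𝒮 hz pC chartC i)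
    (U : Y.Opens) (hU : IsAffineOpen U) (q : Spec (𝒮.presheaf.obj (op U))) :
    i.base ((𝒮.toQCAlg.ι U hU).base q) =
      (RelProj.emb pC chartC U hU).base
        (PolyGraded.conePoint (RelProj.gradedHomAt ι hz.graded U hU) (hz.deg_z U hU)
          (hz.bij U hU) q) :=
  congrArg (fun φ => φ.base q) (hi U hU)

/-- the cone immersion lies over the base. -/
theorem coneImm_comp (hPC : RelProj.IsRelProj 𝒮h pC chartC) {i : 𝒮.toQCAlg.spec ⟶ PC}
    (hi : RelCone.IsConeImm 𝒮 hz pC chartC i) : i ≫ pC = 𝒮.toQCAlg.π := by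
  refine LocalGlue.hom_ext_of_family (J := {U : Y.Opens // IsAffineOpen U})
    (fun U => Spec (𝒮.presheaf.obj (op U.1))) (fun U => 𝒮.toQCAlg.ι U.1 U.2)
    (fun t => ?_) (fun U => ?_)
  · obtain ⟨U, hU, hxU⟩ : ∃ U : Y.Opens, IsAffineOpen U ∧ 𝒮.toQCAlg.π.base t ∈ U := by
      obtain ⟨_, ⟨V, hV, rfl⟩, hxV, -⟩ := (Y.isBasis_affineOpens).exists_subset_of_mem_open
        (Set.mem_univ (𝒮.toQCAlg.π.base t)) isOpen_univ
      exact ⟨V, hV, hxV⟩
    refine ⟨⟨U, hU⟩, ?_⟩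
    have h1 : t ∈ 𝒮.toQCAlg.π ⁻¹ᵁ U := hxU
    rw [𝒮.toQCAlg.π_preimage U hU] at h1
    exact h1
  · obtain ⟨U, hU⟩ := U
    change 𝒮.toQCAlg.ι U hU ≫ i ≫ pC = 𝒮.toQCAlg.ι U hU ≫ 𝒮.toQCAlg.π
    rw [← Category.assoc, hi U hU, 𝒮.toQCAlg.ι_π U hU]
    simp only [Category.assoc]
    rw [ProjQ.emb_comp hPC U hU, ← Category.assoc (Proj.awayι _ _ _ _), Proj.awayι_toSpecZero,
      ← Category.assoc (Spec.map _) (Spec.map _), ← Spec.map_comp,
      ← Category.assoc (Spec.map _) (Spec.map _), ← Spec.map_comp]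
    refine congrArg (fun φ => φ ≫ hU.fromSpec) ?_
    refine congrArg Spec.map ?_
    ext r
    change hz.awayZToBase U hU (fromZeroRingHom (𝒮h.deg U hU) _ ((𝒮h.strZero U hU).hom r)) =
      (𝒮.str.app (op U)).hom r
    have h1 : (fromZeroRingHom (𝒮h.deg U hU) (Submonoid.powers (RelCone.restrictTop 𝒮h z U))
        ((𝒮h.strZero U hU).hom r)).val =
        Localization.mk ((𝒮h.str.app (op U)).hom r)
          ⟨RelCone.restrictTop 𝒮h z U ^ 0, pow_mem (Submonoid.mem_powers _) 0⟩ := by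
      rw [fromZeroRingHom]
      simp only [pow_zero]
      rfl
    rw [hz.awayZToBase_of_val U hU _ _ 0 h1]
    have h2 : (𝒮h.str.app (op U)).hom r = (ι.hom.app (op U)).hom ((𝒮.str.app (op U)).hom r) := by
      have := congrArg (fun φ => (φ.app (op U)).hom r) ι.comm
      exact this.symm
    rw [h2, hz.evalOne_ι]

/-- the standard opens `D_+(ι f)` containing the image of a point of the affine cone. -/
theorem conePoint_mem_basicOpen_ι_iff (U : Y.Opens) (hU : IsAffineOpen U) {d : ℕ} (hd : 0 < d)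
    {f : 𝒮.presheaf.obj (op U)} (hf : f ∈ 𝒮.deg U hU d) (q : Spec (𝒮.presheaf.obj (op U))) :
    PolyGraded.conePoint (RelProj.gradedHomAt ι hz.graded U hU) (hz.deg_z U hU) (hz.bij U hU) q ∈
        Proj.basicOpen (𝒮h.deg U hU) ((RelProj.gradedHomAt ι hz.graded U hU) f) ↔
      f ∉ q.asIdeal := by
  have h := PolyGraded.conePoint_mem_basicOpen_iff (RelProj.gradedHomAt ι hz.graded U hU)
    (hz.deg_z U hU) (hz.bij U hU) hd
    (GradedFunLike.map_mem (RelProj.gradedHomAt ι hz.graded U hU) hf) q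
  have h1 : PolyGraded.evalOne (RelProj.gradedHomAt ι hz.graded U hU) (hz.bij U hU)
      ((RelProj.gradedHomAt ι hz.graded U hU) f) = f :=
    PolyGraded.evalOne_ι (RelProj.gradedHomAt ι hz.graded U hU) (hz.bij U hU) f
  rw [h1] at h
  exact h

/-- the cone immersion maps the pointed affine cone into the pointed projective cone. -/
theorem pointedCone_le_preimage {i : 𝒮.toQCAlg.spec ⟶ PC}
    (hi : RelCone.IsConeImm 𝒮 hz pC chartC i) :
    RelCone.pointedCone 𝒮 ≤ i ⁻¹ᵁ (RelCone.pointedProjCone 𝒮 hz pC chartC) := by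
  intro t ht
  unfold RelCone.pointedCone at ht
  obtain ⟨V, hV⟩ := TopologicalSpace.Opens.mem_iSup.mp ht
  obtain ⟨U, hU0⟩ := V
  have hU : IsAffineOpen U := hU0
  change t ∈ (𝒮.toQCAlg.ι U hU) ''ᵁ RelCone.vertexCompl (𝒮.deg U hU) at hV
  obtain ⟨q, hq, rfl⟩ := hV
  have hq' := (mem_vertexCompl (𝒮.deg U hU) q).mp hq
  obtain ⟨f, hf, hfq⟩ := SetLike.not_le_iff_exists.mp hq'
  obtain ⟨d, hd, fd, hfd, hfdq⟩ := ProjDom.exists_pos_deg_notMem (𝒜 := 𝒮.deg U hU) q.asIdeal hf hfq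
  change i.base ((𝒮.toQCAlg.ι U hU).base q) ∈ RelCone.pointedProjCone 𝒮 hz pC chartC
  rw [coneImm_apply hz hi U hU q]
  have h1 := (conePoint_mem_basicOpen_ι_iff hz U hU hd hfd q).mpr hfdq
  obtain ⟨w, hw⟩ := (Proj.opensRange_awayι (𝒮h.deg U hU) _
    ((RelProj.gradedHomAt ι hz.graded U hU).2 hfd) hd).ge h1
  have h2 := range_chart_subset hz (pC := pC) (chartC := chartC) U hU hd hfd
  rw [Scheme.Opens.range_ι] at h2
  apply h2
  refine ⟨w, ?_⟩
  rw [Scheme.Hom.comp_base, TopCat.coe_comp, Function.comp_apply]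
  exact congrArg _ hw

section retr

variable {P : Scheme.{u}} {p : P ⟶ Y}
  {chart : ∀ (U : Y.Opens) (hU : IsAffineOpen U), (((p ⁻¹ᵁ U : P.Opens) : Scheme.{u}) ≅ Proj (𝒮.deg U hU))}

/-- the composite `E ⟶ Ê ⟶ X` of the cone immersion and the canonical retraction, on points. -/
theorem exists_retr_apply {i : 𝒮.toQCAlg.spec ⟶ PC} (hi : RelCone.IsConeImm 𝒮 hz pC chartC i)
    {r : ((RelCone.pointedProjCone 𝒮 hz pC chartC : PC.Opens) : Scheme.{u}) ⟶ P}
    (hr : IsRetr hz p chart r)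
    {i' : ((RelCone.pointedCone 𝒮 : 𝒮.toQCAlg.spec.Opens) : Scheme.{u}) ⟶
      ((RelCone.pointedProjCone 𝒮 hz pC chartC : PC.Opens) : Scheme.{u})}
    (hi' : i' ≫ (RelCone.pointedProjCone 𝒮 hz pC chartC).ι = (RelCone.pointedCone 𝒮).ι ≫ i)
    (t : ((RelCone.pointedCone 𝒮 : 𝒮.toQCAlg.spec.Opens) : Scheme.{u}))
    (U : Y.Opens) (hU : IsAffineOpen U) (q : Spec (𝒮.presheaf.obj (op U)))
    (hq : (RelCone.pointedCone 𝒮).ι.base t = (𝒮.toQCAlg.ι U hU).base q)
    {d : ℕ} (hd : 0 < d) {f : 𝒮.presheaf.obj (op U)} (hf : f ∈ 𝒮.deg U hU d)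
    (hfq : f ∉ q.asIdeal) :
    ∃ w : Spec (CommRingCat.of (Away (𝒮h.deg U hU) ((RelProj.gradedHomAt ι hz.graded U hU) f))),
      (Proj.awayι (𝒮h.deg U hU) ((RelProj.gradedHomAt ι hz.graded U hU) f)
        ((RelProj.gradedHomAt ι hz.graded U hU).2 hf) hd).base w =
        PolyGraded.conePoint (RelProj.gradedHomAt ι hz.graded U hU) (hz.deg_z U hU)
          (hz.bij U hU) q ∧
      (i' ≫ r).base t = (RelProj.emb p chart U hU).base ((Proj.awayι (𝒮.deg U hU) f hf hd).base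
        ((Spec.map (CommRingCat.ofHom (Away.map (RelProj.gradedHomAt ι hz.graded U hU) f))).base
          w)) := by
  have h1 := (conePoint_mem_basicOpen_ι_iff hz U hU hd hf q).mpr hfq
  obtain ⟨w, hw⟩ := (Proj.opensRange_awayι (𝒮h.deg U hU) _
    ((RelProj.gradedHomAt ι hz.graded U hU).2 hf) hd).ge h1
  refine ⟨w, hw, ?_⟩
  have h2 : (coneChart hz (pC := pC) (chartC := chartC) ⟨U, hU, d, hd, f, hf⟩).base w =
      i'.base t := by
    apply (RelCone.pointedProjCone 𝒮 hz pC chartC).ι.isOpenEmbedding.injective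
    have e1 := congrArg (fun φ => φ.base w)
      (coneChart_ι hz (pC := pC) (chartC := chartC) ⟨U, hU, d, hd, f, hf⟩)
    have e2 := congrArg (fun φ => φ.base t) hi'
    simp only [Scheme.Hom.comp_base, TopCat.comp_app] at e1 e2
    rw [e1, e2, hq, coneImm_apply hz hi U hU q]
    exact congrArg _ hw
  have h3 := congrArg (fun φ => φ.base w)
    (hr U hU d hd f hf _ (coneChart_ι hz (pC := pC) (chartC := chartC) ⟨U, hU, d, hd, f, hf⟩))
  simp only [Scheme.Hom.comp_base, TopCat.comp_app] at h3 ⊢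
  rw [← h2]
  exact h3

/-- the standard opens over `U` containing the image of a point of `E` under `E ⟶ Ê ⟶ X`. -/
theorem retr_apply_mem_iff {i : 𝒮.toQCAlg.spec ⟶ PC} (hi : RelCone.IsConeImm 𝒮 hz pC chartC i)
    {r : ((RelCone.pointedProjCone 𝒮 hz pC chartC : PC.Opens) : Scheme.{u}) ⟶ P}
    (hr : IsRetr hz p chart r)
    {i' : ((RelCone.pointedCone 𝒮 : 𝒮.toQCAlg.spec.Opens) : Scheme.{u}) ⟶
      ((RelCone.pointedProjCone 𝒮 hz pC chartC : PC.Opens) : Scheme.{u})}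
    (hi' : i' ≫ (RelCone.pointedProjCone 𝒮 hz pC chartC).ι = (RelCone.pointedCone 𝒮).ι ≫ i)
    (t : ((RelCone.pointedCone 𝒮 : 𝒮.toQCAlg.spec.Opens) : Scheme.{u}))
    (U : Y.Opens) (hU : IsAffineOpen U) (q : Spec (𝒮.presheaf.obj (op U)))
    (hq : (RelCone.pointedCone 𝒮).ι.base t = (𝒮.toQCAlg.ι U hU).base q)
    (hqv : q ∈ RelCone.vertexCompl (𝒮.deg U hU))
    {e : ℕ} (he : 0 < e) {g : 𝒮.presheaf.obj (op U)} (hg : g ∈ 𝒮.deg U hU e) :
    (∃ y ∈ Proj.basicOpen (𝒮.deg U hU) g, (RelProj.emb p chart U hU).base y = (i' ≫ r).base t) ↔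
      g ∉ q.asIdeal := by
  have hq' := (mem_vertexCompl (𝒮.deg U hU) q).mp hqv
  obtain ⟨f₀, hf₀, hf₀q⟩ := SetLike.not_le_iff_exists.mp hq'
  obtain ⟨d, hd, f, hf, hfq⟩ := ProjDom.exists_pos_deg_notMem (𝒜 := 𝒮.deg U hU) q.asIdeal hf₀ hf₀q
  obtain ⟨w, hw, hπ⟩ := exists_retr_apply hz hi hr hi' t U hU q hq hd hf hfq
  have key := ProjDom.awayι_map_mem_basicOpen_iff (RelProj.gradedHomAt ι hz.graded U hU)
    hf hd hg he w
  have key2 := conePoint_mem_basicOpen_ι_iff hz U hU he hg q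
  constructor
  · rintro ⟨y, hy, hye⟩
    rw [hπ] at hye
    have hy' := ProjQ.emb_injective (p := p) (chart := chart) U hU hye
    rw [hy'] at hy
    have h1 := key.mp hy
    rw [hw] at h1
    exact key2.mp h1
  · intro hgq
    have h1 := key2.mpr hgq
    rw [← hw] at h1
    exact ⟨_, key.mpr h1, hπ.symm⟩

end retr

end Groth.Agent.Lib.Helper42.Cone
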