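import Groth.Agent.Lib.Helper42.ConeImm

/-!
# The vertex section of the affine cone and of the projective cone (helper42)

For `𝒮` with `𝒮_0 = O_Y` and augmentation `aug`: the primes of `𝒮(U)` containing `𝒮(U)_+` are the
images of the primes of `O_Y(U)` under `Spec(aug_U)`; the points of `Proj 𝒮h(U)` outside the open
of definition of `ι_U` are the images of these under the cone immersion.
-/

set_option autoImplicit false
set_option linter.unusedSectionVars false

universe u

namespace Groth.Agent.Lib.Helper42.PolyGraded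

open CategoryTheory AlgebraicGeometry HomogeneousLocalization

variable {A B σ τ : Type u} [CommRing A] [SetLike σ A] [AddSubgroupClass σ A]
  {𝒜 : ℕ → σ} [GradedRing 𝒜]
  [CommRing B] [SetLike τ B] [AddSubgroupClass τ B] {ℬ : ℕ → τ} [GradedRing ℬ]
  (ι : 𝒜 →+*ᵍ ℬ) {z : B} (hz : z ∈ ℬ 1)
  (hbij : Function.Bijective (Polynomial.eval₂RingHom ι.toRingHom z))

include hz in
/-- every point of `D_+(z) ⊆ Proj ℬ` comes from a point of `Spec 𝒜`. -/
theorem exists_conePoint_eq (y : Proj ℬ) (hy : z ∉ y.asHomogeneousIdeal) :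
    ∃ q : Spec (CommRingCat.of A), conePoint ι hz hbij q = y := by
  have hy' : y ∈ Proj.basicOpen ℬ z := (ProjectiveSpectrum.mem_basicOpen _ _ _).mpr hy
  obtain ⟨w, hw⟩ := (Proj.opensRange_awayι ℬ z hz one_pos).ge hy'
  let e : Away ℬ z ≃+* A := RingEquiv.ofBijective (awayZ ι hbij) (awayZ_bijective ι hz hbij)
  refine ⟨(Spec.map (CommRingCat.ofHom e.symm.toRingHom)).base w, ?_⟩
  have h1 : Spec.map (CommRingCat.ofHom e.symm.toRingHom) ≫
      Spec.map (CommRingCat.ofHom (awayZ ι hbij)) = 𝟙 _ := by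
    rw [← Spec.map_comp, ← CommRingCat.ofHom_comp]
    have h2 : (e.symm.toRingHom).comp (awayZ ι hbij) = RingHom.id _ := by
      refine RingHom.ext (fun x => ?_)
      exact e.symm_apply_apply x
    rw [h2]
    exact Spec.map_id _
  have h3 := congrArg (fun φ => φ.base w) h1
  simp only [Scheme.Hom.comp_base, TopCat.comp_app] at h3
  unfold conePoint
  rw [h3]
  exact hw

include hz hbij in
/-- a point of `Proj ℬ` containing the image of the irrelevant ideal of `𝒜` does not contain `z`. -/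
theorem z_notMem_of_forall (y : Proj ℬ)
    (hy : (HomogeneousIdeal.irrelevant 𝒜).toIdeal ≤ y.asHomogeneousIdeal.toIdeal.comap ι) :
    z ∉ y.asHomogeneousIdeal := by
  intro hzy
  exact y.not_irrelevant_le (irrelevant_le_of_z_mem ι hz hbij _ hzy hy)

/-- the point `conePoint q` lies in the open of definition of `ι` iff `q` does not contain the
irrelevant ideal. -/
theorem conePoint_mem_domOpen_iff (q : Spec (CommRingCat.of A)) :
    conePoint ι hz hbij q ∈ RelCone.domOpen ι ↔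
      ¬ (HomogeneousIdeal.irrelevant 𝒜).toIdeal ≤ q.asIdeal := by
  constructor
  · intro h hle
    obtain ⟨f, hf, hfy⟩ := (RelCone.mem_domOpen _ _).mp h
    obtain ⟨d, hd, fd, hfd, hfdy⟩ := Groth.Agent.Lib.Helper42.ProjQ.exists_homogeneous_notMem ι
      (conePoint ι hz hbij q).asHomogeneousIdeal.toIdeal hf hfy
    have h1 : conePoint ι hz hbij q ∈ Proj.basicOpen ℬ (ι fd) :=
      (ProjectiveSpectrum.mem_basicOpen _ _ _).mpr hfdy
    have h2 := (conePoint_mem_basicOpen_iff ι hz hbij hd (GradedFunLike.map_mem ι hfd) q).mp h1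
    rw [evalOne_ι] at h2
    exact h2 (hle (HomogeneousIdeal.mem_irrelevant_of_mem _ hd hfd))
  · intro h
    obtain ⟨f, hf, hfq⟩ := SetLike.not_le_iff_exists.mp h
    obtain ⟨d, hd, fd, hfd, hfdq⟩ := Groth.Agent.Lib.Helper42.ProjDom.exists_pos_deg_notMem
      (𝒜 := 𝒜) q.asIdeal hf hfq
    have h2 : evalOne ι hbij (ι fd) ∉ q.asIdeal := by rw [evalOne_ι]; exact hfdq
    have h1 := (conePoint_mem_basicOpen_iff ι hz hbij hd (GradedFunLike.map_mem ι hfd) q).mpr h2
    exact (RelCone.mem_domOpen _ _).mpr ⟨fd, HomogeneousIdeal.mem_irrelevant_of_mem _ hd hfd,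
      (ProjectiveSpectrum.mem_basicOpen _ _ _).mp h1⟩

include hz in
/-- the points of `Proj ℬ` outside the open of definition of `ι` are the images of the primes of
`𝒜` containing the irrelevant ideal. -/
theorem notMem_domOpen_iff (y : Proj ℬ) :
    y ∉ RelCone.domOpen ι ↔ ∃ q : Spec (CommRingCat.of A),
      (HomogeneousIdeal.irrelevant 𝒜).toIdeal ≤ q.asIdeal ∧ conePoint ι hz hbij q = y := by
  constructor
  · intro h
    have hle : (HomogeneousIdeal.irrelevant 𝒜).toIdeal ≤ y.asHomogeneousIdeal.toIdeal.comap ι := by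
      intro f hf
      by_contra hfy
      exact h ((RelCone.mem_domOpen _ _).mpr ⟨f, hf, hfy⟩)
    obtain ⟨q, hq⟩ := exists_conePoint_eq ι hz hbij y (z_notMem_of_forall ι hz hbij y hle)
    refine ⟨q, ?_, hq⟩
    by_contra hq'
    have := (conePoint_mem_domOpen_iff ι hz hbij q).mpr hq'
    rw [hq] at this
    exact h this
  · rintro ⟨q, hq, rfl⟩ h
    exact (conePoint_mem_domOpen_iff ι hz hbij q).mp h hq

end Groth.Agent.Lib.Helper42.PolyGraded

namespace Groth.Agent.Lib.Helper42.Cone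

open CategoryTheory CategoryTheory.Limits AlgebraicGeometry TopologicalSpace Opposite
open HomogeneousLocalization

section affineCone

variable {Y : Scheme.{u}} (𝒮 : RelProj.QCGrAlg Y)

/-- the augmentation kills the irrelevant ideal. -/
theorem aug_eq_zero_of_mem_irrelevant {aug : 𝒮.toQCAlg ⟶ RelSpec.QCAlg.unit Y}
    (haug : RelCone.IsAugmentation 𝒮 aug) (U : Y.Opens) (hU : IsAffineOpen U)
    {a : 𝒮.presheaf.obj (op U)} (ha : a ∈ (HomogeneousIdeal.irrelevant (𝒮.deg U hU)).toIdeal) :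
    (aug.hom.app (op U)).hom a = 0 := by
  have h1 : (HomogeneousIdeal.irrelevant (𝒮.deg U hU)).toIdeal ≤
      RingHom.ker (aug.hom.app (op U)).hom := by
    rw [HomogeneousIdeal.toIdeal_irrelevant_le]
    intro i hi a ha
    obtain ⟨d, rfl⟩ : ∃ d, i = d + 1 := ⟨i - 1, by omega⟩
    exact haug U hU d a ha
  exact h1 ha

/-- the augmentation is a retraction of the structure map. -/
theorem aug_str (aug : 𝒮.toQCAlg ⟶ RelSpec.QCAlg.unit Y) (U : Y.Opens) (r : Γ(Y, U)) :
    (aug.hom.app (op U)).hom ((𝒮.str.app (op U)).hom r) = r := by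
  have h := congrArg (fun φ => (φ.app (op U)).hom r) aug.comm
  exact h

/-- every section differs from the image of its augmentation by an element of the irrelevant
ideal. -/
theorem sub_str_aug_mem (h0 : RelCone.StrZeroBij 𝒮) {aug : 𝒮.toQCAlg ⟶ RelSpec.QCAlg.unit Y}
    (haug : RelCone.IsAugmentation 𝒮 aug) (U : Y.Opens) (hU : IsAffineOpen U)
    (a : 𝒮.presheaf.obj (op U)) :
    a - (𝒮.str.app (op U)).hom ((aug.hom.app (op U)).hom a) ∈
      (HomogeneousIdeal.irrelevant (𝒮.deg U hU)).toIdeal := by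
  classical
  obtain ⟨r, hr⟩ := (h0 U hU).2 ⟨GradedRing.proj (𝒮.deg U hU) 0 a, by
    rw [GradedRing.proj_apply]; exact SetLike.coe_mem _⟩
  have hr' : (𝒮.str.app (op U)).hom r = GradedRing.proj (𝒮.deg U hU) 0 a :=
    congrArg Subtype.val hr
  have h1 : a - GradedRing.proj (𝒮.deg U hU) 0 a ∈
      (HomogeneousIdeal.irrelevant (𝒮.deg U hU)).toIdeal := by
    change a - GradedRing.proj (𝒮.deg U hU) 0 a ∈ HomogeneousIdeal.irrelevant (𝒮.deg U hU)
    rw [HomogeneousIdeal.mem_irrelevant_iff, map_sub, sub_eq_zero]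
    have h2 : GradedRing.proj (𝒮.deg U hU) 0 a ∈ 𝒮.deg U hU 0 := by
      rw [GradedRing.proj_apply]; exact SetLike.coe_mem _
    rw [GradedRing.proj_apply (𝒮.deg U hU) 0 (GradedRing.proj (𝒮.deg U hU) 0 a),
      DirectSum.decompose_of_mem_same _ h2]
  have h3 : (aug.hom.app (op U)).hom a = r := by
    have h4 : a = (a - GradedRing.proj (𝒮.deg U hU) 0 a) + (𝒮.str.app (op U)).hom r := by
      rw [hr']; ring
    rw [h4, map_add, aug_eq_zero_of_mem_irrelevant 𝒮 haug U hU h1, zero_add, aug_str]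
  rw [h3, hr']
  exact h1

/-- the primes of `𝒮(U)` containing the irrelevant ideal are the images of the primes of `O_Y(U)`
under `Spec` of the augmentation. -/
theorem vertex_iff (h0 : RelCone.StrZeroBij 𝒮) {aug : 𝒮.toQCAlg ⟶ RelSpec.QCAlg.unit Y}
    (haug : RelCone.IsAugmentation 𝒮 aug) (U : Y.Opens) (hU : IsAffineOpen U)
    (q : Spec (𝒮.presheaf.obj (op U))) :
    (HomogeneousIdeal.irrelevant (𝒮.deg U hU)).toIdeal ≤ q.asIdeal ↔
      ∃ 𝔭 : Spec Γ(Y, U), (Spec.map (aug.hom.app (op U))).base 𝔭 = q := by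
  constructor
  · intro hq
    refine ⟨(Spec.map (𝒮.str.app (op U))).base q, ?_⟩
    apply PrimeSpectrum.ext
    ext a
    change (𝒮.str.app (op U)).hom ((aug.hom.app (op U)).hom a) ∈ q.asIdeal ↔ a ∈ q.asIdeal
    have h1 := hq (sub_str_aug_mem 𝒮 h0 haug U hU a)
    constructor
    · intro h2
      have := q.asIdeal.add_mem h1 h2
      rwa [sub_add_cancel] at this
    · intro h2
      have := q.asIdeal.sub_mem h2 h1
      rwa [sub_sub_cancel] at this
  · rintro ⟨𝔭, rfl⟩ a ha
    change (aug.hom.app (op U)).hom a ∈ 𝔭.asIdeal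
    rw [aug_eq_zero_of_mem_irrelevant 𝒮 haug U hU ha]
    exact 𝔭.asIdeal.zero_mem

/-- the points of the vertex section on the chart over `U`. -/
theorem mem_range_vertex_iff {aug : 𝒮.toQCAlg ⟶ RelSpec.QCAlg.unit Y}
    {ε : Y ⟶ 𝒮.toQCAlg.spec} (hε : RelCone.IsVertex 𝒮 aug ε) (U : Y.Opens) (hU : IsAffineOpen U)
    (q : Spec (𝒮.presheaf.obj (op U))) :
    (𝒮.toQCAlg.ι U hU).base q ∈ Set.range ε.base ↔
      ∃ 𝔭 : Spec Γ(Y, U), (Spec.map (aug.hom.app (op U))).base 𝔭 = q := by
  constructor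
  · rintro ⟨s, hs⟩
    have hsU : s ∈ U := by
      have h1 := congrArg (fun φ => φ.base s) hε.comp_π
      simp only [Scheme.Hom.comp_base, TopCat.comp_app] at h1
      rw [hs] at h1
      have h2 : (𝒮.toQCAlg.ι U hU).base q ∈ 𝒮.toQCAlg.π ⁻¹ᵁ U := by
        rw [𝒮.toQCAlg.π_preimage U hU]; exact ⟨q, rfl⟩
      have h3 : 𝒮.toQCAlg.π.base ((𝒮.toQCAlg.ι U hU).base q) ∈ U := h2
      rw [h1] at h3
      exact h3
    have hs' : s ∈ Set.range hU.fromSpec.base := by
      rw [hU.range_fromSpec]; exact hsU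
    obtain ⟨𝔭, rfl⟩ := hs'
    refine ⟨𝔭, ?_⟩
    have h4 : ε.base (hU.fromSpec.base 𝔭) =
        (𝒮.toQCAlg.ι U hU).base ((Spec.map (aug.hom.app (op U))).base 𝔭) :=
      congrArg (fun φ => φ.base 𝔭) (hε.chart U hU)
    apply (𝒮.toQCAlg.ι U hU).isOpenEmbedding.injective
    exact h4.symm.trans hs
  · rintro ⟨𝔭, rfl⟩
    have h4 : ε.base (hU.fromSpec.base 𝔭) =
        (𝒮.toQCAlg.ι U hU).base ((Spec.map (aug.hom.app (op U))).base 𝔭) :=
      congrArg (fun φ => φ.base 𝔭) (hε.chart U hU)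
    exact ⟨hU.fromSpec.base 𝔭, h4⟩

end affineCone

end Groth.Agent.Lib.Helper42.Cone
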