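import Groth.Agent.Lib.Helper42.ProjQLocal

/-!
# Morphisms out of a relative spectrum (helper42)

Glueing of morphisms `Spec(𝒜) ⟶ Z` from compatible morphisms on the charts `Spec 𝒜(U)`; morphisms
from a relative spectrum to a relative homogeneous spectrum over the base, chart by chart.
-/

set_option autoImplicit false

universe u

namespace Groth.Agent.Lib.Helper42.RelSpecGlue

open CategoryTheory CategoryTheory.Limits AlgebraicGeometry TopologicalSpace Opposite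

variable {Y : Scheme.{u}} (𝒜 : RelSpec.QCAlg Y)

/-- the charts cover a relative spectrum. -/
theorem chart_covers (t : 𝒜.spec) :
    ∃ U : {U : Y.Opens // IsAffineOpen U}, t ∈ Set.range (𝒜.ι U.1 U.2).base := by
  obtain ⟨U, hU, hxU⟩ : ∃ U : Y.Opens, IsAffineOpen U ∧ 𝒜.π.base t ∈ U := by
    obtain ⟨_, ⟨V, hV, rfl⟩, hxV, -⟩ := (Y.isBasis_affineOpens).exists_subset_of_mem_open
      (Set.mem_univ (𝒜.π.base t)) isOpen_univ
    exact ⟨V, hV, hxV⟩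
  refine ⟨⟨U, hU⟩, ?_⟩
  have h1 : t ∈ 𝒜.π ⁻¹ᵁ U := hxU
  rw [𝒜.π_preimage U hU] at h1
  exact h1

/-- morphisms out of a relative spectrum agreeing on the charts are equal. -/
theorem hom_ext {Z : Scheme.{u}} {i i' : 𝒜.spec ⟶ Z}
    (h : ∀ (U : Y.Opens) (hU : IsAffineOpen U), 𝒜.ι U hU ≫ i = 𝒜.ι U hU ≫ i') : i = i' :=
  LocalGlue.hom_ext_of_family (J := {U : Y.Opens // IsAffineOpen U})
    (fun U => Spec (𝒜.presheaf.obj (op U.1))) (fun U => 𝒜.ι U.1 U.2) (chart_covers 𝒜)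
    (fun U => h U.1 U.2)

/-- restriction of the chart morphisms to an open basic in `U`. -/
theorem res_of_basic {Z : Scheme.{u}}
    (φ : ∀ (U : Y.Opens) (_ : IsAffineOpen U), Spec (𝒜.presheaf.obj (op U)) ⟶ Z)
    (hφ : ∀ (U : Y.Opens) (hU : IsAffineOpen U) (r : Γ(Y, U)),
      Spec.map (𝒜.presheaf.map (homOfLE (Y.basicOpen_le r)).op) ≫ φ U hU =
        φ (Y.basicOpen r) (hU.basicOpen r))
    (U : Y.Opens) (hU : IsAffineOpen U) (W : Y.Opens) (hW : IsAffineOpen W)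
    (r : Γ(Y, U)) (hr : Y.basicOpen r = W) (hWU : W ≤ U) :
    Spec.map (𝒜.presheaf.map (homOfLE hWU).op) ≫ φ U hU = φ W hW ∧
    Spec.map (𝒜.presheaf.map (homOfLE hWU).op) ≫ 𝒜.ι U hU = 𝒜.ι W hW := by
  subst hr
  refine ⟨hφ U hU r, ?_⟩
  let W' : Y.AffineZariskiSite := ⟨Y.basicOpen r, hW⟩
  let U' : Y.AffineZariskiSite := ⟨U, hU⟩
  have hle : W' ≤ U' := ⟨r, rfl⟩
  exact 𝒜.ι_res (U := U') (V := W') (homOfLE hle)

/-- morphisms out of a relative spectrum are glued from morphisms on the charts compatible with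
restriction to basic opens. -/
theorem existsUnique_desc {Z : Scheme.{u}}
    (φ : ∀ (U : Y.Opens) (_ : IsAffineOpen U), Spec (𝒜.presheaf.obj (op U)) ⟶ Z)
    (hφ : ∀ (U : Y.Opens) (hU : IsAffineOpen U) (r : Γ(Y, U)),
      Spec.map (𝒜.presheaf.map (homOfLE (Y.basicOpen_le r)).op) ≫ φ U hU =
        φ (Y.basicOpen r) (hU.basicOpen r)) :
    ∃! i : 𝒜.spec ⟶ Z, ∀ (U : Y.Opens) (hU : IsAffineOpen U), 𝒜.ι U hU ≫ i = φ U hU := by
  have key : ∃! i : 𝒜.spec ⟶ Z, ∀ (U : {U : Y.Opens // IsAffineOpen U}),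
      𝒜.ι U.1 U.2 ≫ i = φ U.1 U.2 := by
    refine LocalGlue.existsUnique_glue (J := {U : Y.Opens // IsAffineOpen U})
      (fun U => Spec (𝒜.presheaf.obj (op U.1))) (fun U => 𝒜.ι U.1 U.2) (chart_covers 𝒜)
      (fun U => φ U.1 U.2) ?_
    rintro ⟨U₁, hU₁⟩ ⟨U₂, hU₂⟩ t ht₁ ht₂
    have h1 : 𝒜.π.base t ∈ U₁ := by
      have : t ∈ 𝒜.π ⁻¹ᵁ U₁ := by rw [𝒜.π_preimage U₁ hU₁]; exact ht₁
      exact this
    have h2 : 𝒜.π.base t ∈ U₂ := by
      have : t ∈ 𝒜.π ⁻¹ᵁ U₂ := by rw [𝒜.π_preimage U₂ hU₂]; exact ht₂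
      exact this
    obtain ⟨r₁, r₂, hr, hxr⟩ := exists_basicOpen_le_affine_inter hU₁ hU₂ _ ⟨h1, h2⟩
    have hW : IsAffineOpen (Y.basicOpen r₁) := hU₁.basicOpen r₁
    have hWU₂ : Y.basicOpen r₁ ≤ U₂ := hr ▸ Y.basicOpen_le r₂
    obtain ⟨e1, e2⟩ := res_of_basic 𝒜 φ hφ U₁ hU₁ _ hW r₁ rfl (Y.basicOpen_le r₁)
    obtain ⟨e3, e4⟩ := res_of_basic 𝒜 φ hφ U₂ hU₂ _ hW r₂ hr.symm hWU₂
    refine ⟨⟨Y.basicOpen r₁, hW⟩, Spec.map (𝒜.presheaf.map (homOfLE (Y.basicOpen_le r₁)).op),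
      Spec.map (𝒜.presheaf.map (homOfLE hWU₂).op), ?_, e2, e4, e1.trans e3.symm⟩
    have h3 : t ∈ 𝒜.π ⁻¹ᵁ (Y.basicOpen r₁) := hxr
    rw [𝒜.π_preimage _ hW] at h3
    exact h3
  obtain ⟨i, hi, huniq⟩ := key
  exact ⟨i, fun U hU => hi ⟨U, hU⟩, fun i' hi' => huniq i' (fun U => hi' U.1 U.2)⟩

section toRelProj

variable {Sh : RelProj.QCGrAlg Y} {P : Scheme.{u}} {p : P ⟶ Y}
  {chart : ∀ (U : Y.Opens) (hU : IsAffineOpen U),
    (((p ⁻¹ᵁ U : P.Opens) : Scheme.{u}) ≅ Proj (Sh.deg U hU))}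

/-- a morphism over the base from a relative spectrum to a relative homogeneous spectrum given
chartwise: the chart of the source is the pullback of the chart of the target. -/
theorem isPullback_chart {i : 𝒜.spec ⟶ P} (hcomp : i ≫ p = 𝒜.π)
    (w : ∀ (U : Y.Opens) (hU : IsAffineOpen U), Spec (𝒜.presheaf.obj (op U)) ⟶ Proj (Sh.deg U hU))
    (hi : ∀ (U : Y.Opens) (hU : IsAffineOpen U),
      𝒜.ι U hU ≫ i = w U hU ≫ RelProj.emb p chart U hU)
    (U : Y.Opens) (hU : IsAffineOpen U) :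
    IsPullback (𝒜.ι U hU) (w U hU) i (RelProj.emb p chart U hU) := by
  refine (IsOpenImmersion.isPullback _ (𝒜.ι U hU) (RelProj.emb p chart U hU) i (hi U hU) ?_).flip
  ext t
  have h1 : t ∈ i ⁻¹ᵁ (RelProj.emb p chart U hU).opensRange ↔ p.base (i.base t) ∈ U := by
    change i.base t ∈ Set.range (RelProj.emb p chart U hU).base ↔ _
    rw [ProjQ.range_emb]
    exact Iff.rfl
  have h2 : p.base (i.base t) = 𝒜.π.base t := congrArg (fun φ => φ.base t) hcomp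
  have h3 : t ∈ (𝒜.ι U hU).opensRange ↔ 𝒜.π.base t ∈ U := by
    rw [← 𝒜.π_preimage U hU]
    exact Iff.rfl
  rw [SetLike.mem_coe, SetLike.mem_coe, h1, h2, h3]

/-- a property local on the target holds for a morphism over the base from a relative spectrum to
a relative homogeneous spectrum as soon as it holds chartwise. -/
theorem of_charts {Q : MorphismProperty Scheme.{u}} [IsZariskiLocalAtTarget Q]
    {i : 𝒜.spec ⟶ P} (hcomp : i ≫ p = 𝒜.π)
    (w : ∀ (U : Y.Opens) (hU : IsAffineOpen U), Spec (𝒜.presheaf.obj (op U)) ⟶ Proj (Sh.deg U hU))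
    (hi : ∀ (U : Y.Opens) (hU : IsAffineOpen U),
      𝒜.ι U hU ≫ i = w U hU ≫ RelProj.emb p chart U hU)
    (hw : ∀ (U : Y.Opens) (hU : IsAffineOpen U), Q (w U hU)) : Q i := by
  refine LocalGlue.of_family_isPullback (Q := Q) i (J := {U : Y.Opens // IsAffineOpen U})
    (fun U => Proj (Sh.deg U.1 U.2)) (fun U => RelProj.emb p chart U.1 U.2) ?_
    (fun U => Spec (𝒜.presheaf.obj (op U.1))) (fun U => 𝒜.ι U.1 U.2)
    (fun U => w U.1 U.2) (fun U => isPullback_chart 𝒜 hcomp w hi U.1 U.2) (fun U => hw U.1 U.2)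
  intro x
  obtain ⟨U, hU, hxU⟩ : ∃ U : Y.Opens, IsAffineOpen U ∧ p.base x ∈ U := by
    obtain ⟨_, ⟨V, hV, rfl⟩, hxV, -⟩ := (Y.isBasis_affineOpens).exists_subset_of_mem_open
      (Set.mem_univ (p.base x)) isOpen_univ
    exact ⟨V, hV, hxV⟩
  refine ⟨⟨U, hU⟩, ?_⟩
  rw [ProjQ.range_emb]
  exact hxU

end toRelProj

end Groth.Agent.Lib.Helper42.RelSpecGlue
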