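import Groth.Agent.Lib.Helper42.PolyGraded4
import Groth.Agent.Lib.Helper42.ConeVertex
import Groth.Agent.Lib.Helper42.RelSpecGlue
import Mathlib.AlgebraicGeometry.IdealSheaf.Basic

/-!
# The canonical immersion of the affine cone into the projective cone, II (helper42)

`D_+(z)` is schematically dense in `Proj 𝒜[z]`; existence and properties of the cone immersion.
-/

set_option autoImplicit false
set_option linter.unusedSectionVars false

universe u

namespace Groth.Agent.Lib.Helper42.PolyGraded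

open CategoryTheory CategoryTheory.Limits AlgebraicGeometry HomogeneousLocalization

variable {A B σ τ : Type u} [CommRing A] [SetLike σ A] [AddSubgroupClass σ A]
  {𝒜 : ℕ → σ} [GradedRing 𝒜]
  [CommRing B] [SetLike τ B] [AddSubgroupClass τ B] {ℬ : ℕ → τ} [GradedRing ℬ]
  (ι : 𝒜 →+*ᵍ ℬ) {z : B} (hz : z ∈ ℬ 1)
  (hbij : Function.Bijective (Polynomial.eval₂RingHom ι.toRingHom z))

/-- the kernel of `Spec` of an injective ring homomorphism is zero. -/
theorem ker_specMap_of_injective {R S : CommRingCat.{u}} (φ : R ⟶ S)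
    (hφ : Function.Injective φ.hom) :
    (Spec.map φ).ker.ideal ⟨⊤, isAffineOpen_top _⟩ = ⊥ := by
  rw [Scheme.Hom.ker_apply]
  rw [← RingHom.injective_iff_ker_eq_bot]
  have h1 := Scheme.ΓSpecIso_naturality φ
  have h2 : (Spec.map φ).appTop = (Scheme.ΓSpecIso R).hom ≫ φ ≫ (Scheme.ΓSpecIso S).inv := by
    rw [← Category.assoc, ← h1, Category.assoc, Iso.hom_inv_id, Category.comp_id]
  change Function.Injective (Spec.map φ).appTop.hom
  rw [h2]
  simp only [CommRingCat.hom_comp, RingHom.coe_comp]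
  exact ((ConcreteCategory.bijective_of_isIso (Scheme.ΓSpecIso S).inv).1.comp hφ).comp
    (ConcreteCategory.bijective_of_isIso (Scheme.ΓSpecIso R).hom).1

include hbij in
/-- `D_+(z)` is schematically dense in `Proj ℬ`, `ℬ = 𝒜[z]`. -/
theorem ker_awayι_z : (Proj.awayι ℬ z hz one_pos).ker = ⊥ := by
  have : IsAffineHom (Proj.awayι ℬ z hz one_pos) := by
    have : IsAffineHom (Proj.awayι ℬ z hz one_pos ≫ Proj.toSpecZero ℬ) := by
      rw [Proj.awayι_toSpecZero]; infer_instance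
    exact IsAffineHom.of_comp (Proj.awayι ℬ z hz one_pos) (Proj.toSpecZero ℬ)
  refine Scheme.IdealSheafData.ext_of_iSup_eq_top
    (ι := {j : ℕ × B // 0 < j.1 ∧ j.2 ∈ ℬ j.1})
    (fun j => ⟨Proj.awayι ℬ j.1.2 j.2.2 j.2.1 ''ᵁ ⊤,
      (isAffineOpen_top _).image_of_isOpenImmersion _⟩) ?_ ?_
  · rw [eq_top_iff]
    intro y _
    obtain ⟨d, hd, g, hg, hy⟩ := Groth.Agent.Lib.Helper42.ProjDom.exists_mem_basicOpen (𝒜 := ℬ) y
    obtain ⟨w, hw⟩ := (Proj.opensRange_awayι ℬ g hg hd).ge hy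
    exact TopologicalSpace.Opens.mem_iSup.mpr ⟨⟨(d, g), hd, hg⟩, ⟨w, trivial, hw⟩⟩
  · rintro ⟨⟨d, g⟩, hd, hg⟩
    have hx : g * z = g * z := rfl
    let e := Proj.pullbackAwayιIso ℬ hg hd hz one_pos hx
    have H : IsPullback (Spec.map (CommRingCat.ofHom (awayMap ℬ hz hx)))
        (Spec.map (CommRingCat.ofHom (awayMap ℬ hg (hx.trans (mul_comm _ _)))))
        (Proj.awayι ℬ g hg hd) (Proj.awayι ℬ z hz one_pos) := by
      refine IsPullback.of_iso_pullback ⟨?_⟩ e.symm ?_ ?_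
      · rw [Proj.SpecMap_awayMap_awayι, Proj.SpecMap_awayMap_awayι]
        exact Groth.Agent.Lib.Helper42.ProjDom.awayι_congr _ _ _ _ _
      · exact Proj.pullbackAwayιIso_inv_fst ℬ hg hd hz one_pos hx
      · exact Proj.pullbackAwayιIso_inv_snd ℬ hg hd hz one_pos hx
    have key := Scheme.ker_ideal_of_isPullback_of_isOpenImmersion
      (Proj.awayι ℬ z hz one_pos) _ _ (Proj.awayι ℬ g hg hd) H ⟨⊤, isAffineOpen_top _⟩
    rw [ker_specMap_of_injective _ (awayMap_injective ι hz hbij hg hx)] at key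
    rw [Scheme.IdealSheafData.ideal_bot, Pi.bot_apply, eq_bot_iff]
    intro s hs
    have hiso : Function.Bijective
        ((Proj.awayι ℬ g hg hd).appIso ⊤).inv.hom :=
      ConcreteCategory.bijective_of_isIso ((Proj.awayι ℬ g hg hd).appIso ⊤).inv
    obtain ⟨s', rfl⟩ := hiso.2 s
    have h1 : s' ∈ (⊥ : Ideal _) := by
      rw [key]
      exact hs
    rw [Ideal.mem_bot] at h1
    rw [h1, map_zero]
    exact Ideal.zero_mem _

end Groth.Agent.Lib.Helper42.PolyGraded

namespace Groth.Agent.Lib.Helper42.Cone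

open CategoryTheory CategoryTheory.Limits AlgebraicGeometry TopologicalSpace Opposite
open HomogeneousLocalization

variable {Y : Scheme.{u}} {𝒮 𝒮h : RelProj.QCGrAlg Y} {ι : 𝒮.toQCAlg ⟶ 𝒮h.toQCAlg}
  {z : 𝒮h.presheaf.obj (op ⊤)} (hz : RelCone.IsPolyOver 𝒮 𝒮h ι z)
  {PC : Scheme.{u}} {pC : PC ⟶ Y}
  {chartC : ∀ (U : Y.Opens) (hU : IsAffineOpen U),
    (((pC ⁻¹ᵁ U : PC.Opens) : Scheme.{u}) ≅ Proj (𝒮h.deg U hU))}

/-- the cone immersion on the chart over `U`, into `Proj 𝒮h(U)`. -/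
noncomputable def coneChartMor (U : Y.Opens) (hU : IsAffineOpen U) :
    Spec (𝒮.presheaf.obj (op U)) ⟶ Proj (𝒮h.deg U hU) :=
  Spec.map (CommRingCat.ofHom (hz.awayZToBase U hU)) ≫
    Proj.awayι (𝒮h.deg U hU) (RelCone.restrictTop 𝒮h z U) (hz.deg_z U hU) one_pos

theorem restrictTop_res (𝒯 : RelProj.QCGrAlg Y) (s : 𝒯.presheaf.obj (op ⊤)) {U W : Y.Opens}
    (hWU : W ≤ U) :
    (𝒯.presheaf.map (homOfLE hWU).op).hom (RelCone.restrictTop 𝒯 s U) =
      RelCone.restrictTop 𝒯 s W := by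
  change ((𝒯.presheaf.map (homOfLE le_top).op) ≫ 𝒯.presheaf.map (homOfLE hWU).op).hom s = _
  rw [← Functor.map_comp]
  rfl

theorem coneChartMor_basic (hPC : RelProj.IsRelProj 𝒮h pC chartC) (U : Y.Opens)
    (hU : IsAffineOpen U) (r : Γ(Y, U)) :
    Spec.map (𝒮.presheaf.map (homOfLE (Y.basicOpen_le r)).op) ≫
        coneChartMor hz U hU ≫ RelProj.emb pC chartC U hU =
      coneChartMor hz (Y.basicOpen r) (hU.basicOpen r) ≫
        RelProj.emb pC chartC (Y.basicOpen r) (hU.basicOpen r) := by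
  have hcomm : ∀ a : 𝒮.presheaf.obj (op U),
      (𝒮h.res hU (hU.basicOpen r) (Y.basicOpen_le r)) (RelProj.gradedHomAt ι hz.graded U hU a) =
      RelProj.gradedHomAt ι hz.graded (Y.basicOpen r) (hU.basicOpen r)
        ((𝒮.presheaf.map (homOfLE (Y.basicOpen_le r)).op).hom a) := by
    intro a
    have h2 := ι.hom.naturality (homOfLE (Y.basicOpen_le r)).op
    exact (congrArg (fun φ => φ.hom a) h2).symm
  have key := PolyGraded.awayZ_compat (RelProj.gradedHomAt ι hz.graded U hU) (hz.deg_z U hU)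
    (hz.bij U hU) (RelProj.gradedHomAt ι hz.graded (Y.basicOpen r) (hU.basicOpen r))
    (hz.deg_z (Y.basicOpen r) (hU.basicOpen r)) (hz.bij (Y.basicOpen r) (hU.basicOpen r))
    (𝒮.presheaf.map (homOfLE (Y.basicOpen_le r)).op).hom
    (𝒮h.res hU (hU.basicOpen r) (Y.basicOpen_le r)) (𝒮h.irrelevant_le_map U hU r) hcomm
    (restrictTop_res 𝒮h z (Y.basicOpen_le r))
  rw [← RelProj.map_res_emb hPC U hU r]
  have key' : Spec.map (𝒮.presheaf.map (homOfLE (Y.basicOpen_le r)).op) ≫ coneChartMor hz U hU =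
      coneChartMor hz (Y.basicOpen r) (hU.basicOpen r) ≫
        Proj.map (𝒮h.res hU (hU.basicOpen r) (Y.basicOpen_le r))
          (𝒮h.irrelevant_le_map U hU r) := by
    unfold coneChartMor
    rw [Category.assoc]
    exact key
  rw [← Category.assoc, key', Category.assoc]

/-- existence and uniqueness of the cone immersion. -/
theorem existsUnique_isConeImm (hPC : RelProj.IsRelProj 𝒮h pC chartC) :
    ∃! i : 𝒮.toQCAlg.spec ⟶ PC, RelCone.IsConeImm 𝒮 hz pC chartC i := by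
  obtain ⟨i, hi, huniq⟩ := RelSpecGlue.existsUnique_desc 𝒮.toQCAlg
    (fun U hU => coneChartMor hz U hU ≫ RelProj.emb pC chartC U hU)
    (fun U hU r => coneChartMor_basic hz hPC U hU r)
  refine ⟨i, fun U hU => ?_, fun i' hi' => huniq i' (fun U hU => ?_)⟩
  · rw [hi U hU]
    unfold coneChartMor
    rw [Category.assoc]
  · rw [hi' U hU]
    unfold coneChartMor
    rw [Category.assoc]

theorem isConeImm_chart {i : 𝒮.toQCAlg.spec ⟶ PC} (hi : RelCone.IsConeImm 𝒮 hz pC chartC i)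
    (U : Y.Opens) (hU : IsAffineOpen U) :
    𝒮.toQCAlg.ι U hU ≫ i = coneChartMor hz U hU ≫ RelProj.emb pC chartC U hU := by
  rw [hi U hU]
  unfold coneChartMor
  rw [Category.assoc]

instance (U : Y.Opens) (hU : IsAffineOpen U) : IsOpenImmersion (coneChartMor hz U hU) := by
  have : IsIso (CommRingCat.ofHom (hz.awayZToBase U hU)) := by
    rw [ConcreteCategory.isIso_iff_bijective]
    exact awayZToBase_bijective hz U hU
  unfold coneChartMor
  infer_instance

instance (U : Y.Opens) (hU : IsAffineOpen U) : IsAffineHom (coneChartMor hz U hU) := by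
  have h1 : IsAffineHom (Proj.awayι (𝒮h.deg U hU) (RelCone.restrictTop 𝒮h z U) (hz.deg_z U hU)
      one_pos) := by
    have : IsAffineHom (Proj.awayι (𝒮h.deg U hU) (RelCone.restrictTop 𝒮h z U) (hz.deg_z U hU)
        one_pos ≫ Proj.toSpecZero (𝒮h.deg U hU)) := by
      rw [Proj.awayι_toSpecZero]; infer_instance
    exact IsAffineHom.of_comp _ (Proj.toSpecZero (𝒮h.deg U hU))
  unfold coneChartMor
  infer_instance

theorem ker_coneChartMor (U : Y.Opens) (hU : IsAffineOpen U) :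
    (coneChartMor hz U hU).ker = ⊥ := by
  have : IsIso (CommRingCat.ofHom (hz.awayZToBase U hU)) := by
    rw [ConcreteCategory.isIso_iff_bijective]
    exact awayZToBase_bijective hz U hU
  unfold coneChartMor
  rw [Scheme.Hom.ker_comp_of_isIso]
  exact PolyGraded.ker_awayι_z (RelProj.gradedHomAt ι hz.graded U hU) (hz.deg_z U hU)
    (hz.bij U hU)

set_option backward.isDefEq.respectTransparency.types false in
/-- the cone immersion is an affine open immersion. -/
theorem isConeImm_props (hPC : RelProj.IsRelProj 𝒮h pC chartC) {i : 𝒮.toQCAlg.spec ⟶ PC}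
    (hi : RelCone.IsConeImm 𝒮 hz pC chartC i) :
    IsOpenImmersion i ∧ IsAffineHom i := by
  have hcomp := coneImm_comp hz hPC hi
  have h1 : IsOpenImmersion i :=
    RelSpecGlue.of_charts (Q := @IsOpenImmersion) 𝒮.toQCAlg hcomp (fun U hU => coneChartMor hz U hU)
      (isConeImm_chart hz hi) (fun U hU => inferInstance)
  have h2 : IsAffineHom i :=
    RelSpecGlue.of_charts (Q := @IsAffineHom) 𝒮.toQCAlg hcomp (fun U hU => coneChartMor hz U hU)
      (isConeImm_chart hz hi) (fun U hU => inferInstance)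
  exact ⟨h1, h2⟩

theorem ker_ideal_coneImm (hPC : RelProj.IsRelProj 𝒮h pC chartC) {i : 𝒮.toQCAlg.spec ⟶ PC}
    (hi : RelCone.IsConeImm 𝒮 hz pC chartC i) [QuasiCompact i] (U : Y.Opens) (hU : IsAffineOpen U)
    (W : (Proj (𝒮h.deg U hU)).affineOpens) :
    i.ker.ideal ⟨RelProj.emb pC chartC U hU ''ᵁ W.1, W.2.image_of_isOpenImmersion _⟩ = ⊥ := by
  have hcomp := coneImm_comp hz hPC hi
  have H := (RelSpecGlue.isPullback_chart 𝒮.toQCAlg hcomp (fun U hU => coneChartMor hz U hU)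
    (isConeImm_chart hz hi) U hU).flip
  have key := Scheme.ker_ideal_of_isPullback_of_isOpenImmersion i _ _
    (RelProj.emb pC chartC U hU) H W
  rw [ker_coneChartMor hz U hU, Scheme.IdealSheafData.ideal_bot, Pi.bot_apply] at key
  rw [eq_bot_iff]
  intro s hs
  have hiso : Function.Bijective ((RelProj.emb pC chartC U hU).appIso W.1).inv.hom :=
    ConcreteCategory.bijective_of_isIso ((RelProj.emb pC chartC U hU).appIso W.1).inv
  obtain ⟨s', rfl⟩ := hiso.2 s
  have h1 : s' ∈ (⊥ : Ideal _) := by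
    rw [key]
    exact hs
  rw [Ideal.mem_bot] at h1
  rw [h1, map_zero]
  exact Ideal.zero_mem _

/-- the cone immersion has zero kernel. -/
theorem ker_coneImm (hPC : RelProj.IsRelProj 𝒮h pC chartC) {i : 𝒮.toQCAlg.spec ⟶ PC}
    (hi : RelCone.IsConeImm 𝒮 hz pC chartC i) : i.ker = ⊥ := by
  have : IsAffineHom i := (isConeImm_props hz hPC hi).2
  refine Scheme.IdealSheafData.ext_of_iSup_eq_top
    (ι := Σ U : {U : Y.Opens // IsAffineOpen U}, (Proj (𝒮h.deg U.1 U.2)).affineOpens)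
    (fun j => ⟨RelProj.emb pC chartC j.1.1 j.1.2 ''ᵁ j.2.1,
      j.2.2.image_of_isOpenImmersion _⟩) ?_ ?_
  · rw [eq_top_iff]
    intro c _
    obtain ⟨U, hU, hxU⟩ : ∃ U : Y.Opens, IsAffineOpen U ∧ pC.base c ∈ U := by
      obtain ⟨_, ⟨V, hV, rfl⟩, hxV, -⟩ := (Y.isBasis_affineOpens).exists_subset_of_mem_open
        (Set.mem_univ (pC.base c)) isOpen_univ
      exact ⟨V, hV, hxV⟩
    have hc : c ∈ Set.range (RelProj.emb pC chartC U hU).base := by
      rw [ProjQ.range_emb]; exact hxU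
    obtain ⟨ŷ, rfl⟩ := hc
    obtain ⟨_, ⟨W, hW, rfl⟩, hyW, -⟩ :=
      ((Proj (𝒮h.deg U hU)).isBasis_affineOpens).exists_subset_of_mem_open
        (Set.mem_univ ŷ) isOpen_univ
    exact TopologicalSpace.Opens.mem_iSup.mpr ⟨⟨⟨U, hU⟩, ⟨W, hW⟩⟩, ⟨ŷ, hyW, rfl⟩⟩
  · rintro ⟨⟨U, hU⟩, W⟩
    exact ker_ideal_coneImm hz hPC hi U hU W

/-- the image of the cone immersion: over `U` it is the image of `D_+(z)`. -/
theorem mem_range_coneImm_iff (hPC : RelProj.IsRelProj 𝒮h pC chartC) {i : 𝒮.toQCAlg.spec ⟶ PC}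
    (hi : RelCone.IsConeImm 𝒮 hz pC chartC i) (U : Y.Opens) (hU : IsAffineOpen U)
    (ŷ : Proj (𝒮h.deg U hU)) :
    (RelProj.emb pC chartC U hU).base ŷ ∈ Set.range i.base ↔
      ŷ ∈ Proj.basicOpen (𝒮h.deg U hU) (RelCone.restrictTop 𝒮h z U) := by
  have hcomp := coneImm_comp hz hPC hi
  constructor
  · rintro ⟨c, hc⟩
    have hcU : 𝒮.toQCAlg.π.base c ∈ U := by
      have h1 : pC.base (i.base c) = 𝒮.toQCAlg.π.base c := congrArg (fun φ => φ.base c) hcomp
      rw [← h1, hc]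
      have h2 : (RelProj.emb pC chartC U hU).base ŷ ∈
          Set.range (RelProj.emb pC chartC U hU).base := ⟨ŷ, rfl⟩
      rw [ProjQ.range_emb] at h2
      exact h2
    have hc' : c ∈ 𝒮.toQCAlg.π ⁻¹ᵁ U := hcU
    rw [𝒮.toQCAlg.π_preimage U hU] at hc'
    obtain ⟨q, rfl⟩ := hc'
    rw [coneImm_apply hz hi U hU q] at hc
    have := ProjQ.emb_injective (p := pC) (chart := chartC) U hU hc
    rw [← this]
    exact (Proj.opensRange_awayι (𝒮h.deg U hU) _ (hz.deg_z U hU) one_pos).le ⟨_, rfl⟩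
  · intro hy
    obtain ⟨q, hq⟩ := PolyGraded.exists_conePoint_eq (RelProj.gradedHomAt ι hz.graded U hU)
      (hz.deg_z U hU) (hz.bij U hU) ŷ ((ProjectiveSpectrum.mem_basicOpen _ _ _).mp hy)
    exact ⟨(𝒮.toQCAlg.ι U hU).base q, (coneImm_apply hz hi U hU q).trans (congrArg _ hq)⟩

end Groth.Agent.Lib.Helper42.Cone
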