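import Groth.Agent.Lib.Helper42.ConeImm2

/-!
# The locus at infinity of the projective cone (helper42)

`ℬ = 𝒜[z]` with a graded retraction `θ : ℬ → 𝒜` of `ι` killing `z`: the image of
`Proj 𝒜 → Proj ℬ` is `V_+(z)`.
-/

set_option autoImplicit false
set_option linter.unusedSectionVars false

universe u

namespace Groth.Agent.Lib.Helper42.PolyGraded

open CategoryTheory AlgebraicGeometry HomogeneousLocalization

variable {A B σ τ : Type u} [CommRing A] [SetLike σ A] [AddSubgroupClass σ A]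
  {𝒜 : ℕ → σ} [GradedRing 𝒜]
  [CommRing B] [SetLike τ B] [AddSubgroupClass τ B] {ℬ : ℕ → τ} [GradedRing ℬ]
  (ι : 𝒜 →+*ᵍ ℬ) {z : B} (hz : z ∈ ℬ 1)
  (hbij : Function.Bijective (Polynomial.eval₂RingHom ι.toRingHom z))

include hbij in
/-- ring homomorphisms out of `ℬ = 𝒜[z]` are determined by their values on `ι(𝒜)` and `z`. -/
theorem ringHom_ext_poly {R : Type u} [CommRing R] (φ ψ : B →+* R)
    (h1 : ∀ a, φ (ι a) = ψ (ι a)) (h2 : φ z = ψ z) : φ = ψ := by
  refine RingHom.ext (fun b => ?_)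
  obtain ⟨P, rfl⟩ := hbij.2 b
  change φ (Polynomial.eval₂ ι.toRingHom z P) = ψ (Polynomial.eval₂ ι.toRingHom z P)
  rw [Polynomial.hom_eval₂, Polynomial.hom_eval₂, h2]
  congr 1
  exact RingHom.ext h1

include hz hbij in
/-- a graded retraction of `ι` killing `z` differs from the identity by multiples of `z`. -/
theorem sub_ι_retraction_mem_span (θ : B →+* A) (hθι : ∀ a, θ (ι a) = a) (hθz : θ z = 0) (b : B) :
    b - ι (θ b) ∈ Ideal.span {z} := by
  have h : θ = (evalZero ι hz hbij).toRingHom := by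
    refine ringHom_ext_poly ι hbij θ _ (fun a => ?_) ?_
    · rw [hθι]
      exact (evalZero_ι ι hz hbij a).symm
    · rw [hθz]
      exact (evalZero_z ι hz hbij).symm
  rw [h]
  exact sub_evalZero_mem_span ι hz hbij b

include hz hbij in
/-- the points of `V_+(z) ⊆ Proj ℬ` come from `Proj 𝒜` through a graded retraction killing `z`. -/
theorem exists_map_retraction_eq (θ : ℬ →+*ᵍ 𝒜) (hθι : ∀ a, θ (ι a) = a) (hθz : θ z = 0)
    (hirr : HomogeneousIdeal.irrelevant 𝒜 ≤ (HomogeneousIdeal.irrelevant ℬ).map θ)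
    (ŷ : Proj ℬ) (hzy : z ∈ ŷ.asHomogeneousIdeal) :
    ∃ y : Proj 𝒜, (Proj.map θ hirr).base y = ŷ := by
  have hy : ¬ (HomogeneousIdeal.irrelevant 𝒜).toIdeal ≤ ŷ.asHomogeneousIdeal.toIdeal.comap ι := by
    intro hle
    exact ŷ.not_irrelevant_le (irrelevant_le_of_z_mem ι hz hbij _ hzy hle)
  refine ⟨comapPoint ι ŷ hy, ?_⟩
  apply ProjectiveSpectrum.ext
  apply HomogeneousIdeal.ext
  ext b
  change ι (θ b) ∈ ŷ.asHomogeneousIdeal.toIdeal ↔ b ∈ ŷ.asHomogeneousIdeal.toIdeal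
  have h1 : b - ι (θ b) ∈ ŷ.asHomogeneousIdeal.toIdeal :=
    (Ideal.span_singleton_le_iff_mem _ |>.mpr hzy)
      (sub_ι_retraction_mem_span ι hz hbij θ.toRingHom hθι hθz b)
  constructor
  · intro h2
    have := ŷ.asHomogeneousIdeal.toIdeal.add_mem h1 h2
    rwa [sub_add_cancel] at this
  · intro h2
    have := ŷ.asHomogeneousIdeal.toIdeal.sub_mem h2 h1
    rwa [sub_sub_cancel] at this

/-- the image of `Proj 𝒜 → Proj ℬ` induced by a graded homomorphism killing `z` lies in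
`V_+(z)`. -/
theorem z_mem_map_retraction (θ : ℬ →+*ᵍ 𝒜) (hθz : θ z = 0)
    (hirr : HomogeneousIdeal.irrelevant 𝒜 ≤ (HomogeneousIdeal.irrelevant ℬ).map θ)
    (y : Proj 𝒜) : z ∈ ((Proj.map θ hirr).base y).asHomogeneousIdeal := by
  change θ z ∈ y.asHomogeneousIdeal
  rw [hθz]
  exact Ideal.zero_mem _

end Groth.Agent.Lib.Helper42.PolyGraded
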