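import Groth.Agent.Lib.Helper42.PolyGraded
import Mathlib.RingTheory.GradedAlgebra.Homogeneous.Maps
import Mathlib.AlgebraicGeometry.ProjectiveSpectrum.Topology

/-!
# `ℬ = 𝒜[z]`: homogeneous primes containing `z` (helper42)
-/

set_option autoImplicit false
set_option linter.unusedSectionVars false

universe u

namespace Groth.Agent.Lib.Helper42.PolyGraded

variable {A B σ τ : Type u} [CommRing A] [SetLike σ A] [AddSubgroupClass σ A]
  {𝒜 : ℕ → σ} [GradedRing 𝒜]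
  [CommRing B] [SetLike τ B] [AddSubgroupClass τ B] {ℬ : ℕ → τ} [GradedRing ℬ]
  (ι : 𝒜 →+*ᵍ ℬ) {z : B} (hz : z ∈ ℬ 1)
  (hbij : Function.Bijective (Polynomial.eval₂RingHom ι.toRingHom z))

include hz hbij in
/-- an ideal of `ℬ = 𝒜[z]` containing `z` and the image of the irrelevant ideal of `𝒜` contains the
irrelevant ideal of `ℬ`. -/
theorem irrelevant_le_of_z_mem (I : Ideal B) (hzI : z ∈ I)
    (hI : (HomogeneousIdeal.irrelevant 𝒜).toIdeal ≤ I.comap ι) :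
    (HomogeneousIdeal.irrelevant ℬ).toIdeal ≤ I := by
  rw [HomogeneousIdeal.toIdeal_irrelevant_le]
  intro n hn b hb
  have h1 := sub_evalZero_mem_span ι hz hbij b
  have h2 : evalZero ι hz hbij b ∈ 𝒜 n := GradedFunLike.map_mem (evalZero ι hz hbij) hb
  have h3 : ι (evalZero ι hz hbij b) ∈ I :=
    hI (HomogeneousIdeal.mem_irrelevant_of_mem 𝒜 hn h2)
  have h4 : b - ι (evalZero ι hz hbij b) ∈ I :=
    (Ideal.span_singleton_le_iff_mem I |>.mpr hzI) h1
  have h5 := I.add_mem h4 h3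
  rwa [sub_add_cancel] at h5

/-- the point of `Proj 𝒜` under a point of `Proj ℬ` not containing the image of the irrelevant
ideal of `𝒜`. -/
def comapPoint (ψ : 𝒜 →+*ᵍ ℬ) (y : ProjectiveSpectrum ℬ)
    (hy : ¬ (HomogeneousIdeal.irrelevant 𝒜).toIdeal ≤ y.asHomogeneousIdeal.toIdeal.comap ψ) :
    ProjectiveSpectrum 𝒜 :=
  ⟨y.asHomogeneousIdeal.comap ψ, Ideal.IsPrime.comap (hK := y.isPrime) ψ, hy⟩

theorem mem_comapPoint (ψ : 𝒜 →+*ᵍ ℬ) (y : ProjectiveSpectrum ℬ)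
    (hy : ¬ (HomogeneousIdeal.irrelevant 𝒜).toIdeal ≤ y.asHomogeneousIdeal.toIdeal.comap ψ)
    (a : A) : a ∈ (comapPoint ψ y hy).asHomogeneousIdeal ↔ ψ a ∈ y.asHomogeneousIdeal :=
  Iff.rfl

end Groth.Agent.Lib.Helper42.PolyGraded
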