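import Groth.Agent.Lib.Helper42.ConeRetr
import Groth.Agent.Lib.Helper42.ConeAffine
import Groth.Agent.Lib.Helper42.PolyGraded2

/-!
# Morphisms of projective cones induced by graded morphisms over a morphism of bases (helper42)

Setting of the frozen cone rows: `q : Y' ⟶ Y`, a graded `q`-morphism `u : 𝒮 → 𝒮'`, presentations
`𝒮h = 𝒮[z]`, `𝒮h' = 𝒮'[z']` and the extension `uh : 𝒮h → 𝒮h'` of `u` with `uh(z) = z'`.
-/

set_option autoImplicit false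

universe u

namespace Groth.Agent.Lib.Helper42.Cone

open CategoryTheory CategoryTheory.Limits AlgebraicGeometry TopologicalSpace Opposite
open HomogeneousLocalization

variable {Y Y' : Scheme.{u}} {q : Y' ⟶ Y}
  {𝒮 : RelProj.QCGrAlg Y} {𝒮' : RelProj.QCGrAlg Y'} (u : RelProj.QGrHom q 𝒮 𝒮')
  {𝒮h : RelProj.QCGrAlg Y} {ι : 𝒮.toQCAlg ⟶ 𝒮h.toQCAlg} {z : 𝒮h.presheaf.obj (op ⊤)}
  (hz : RelCone.IsPolyOver 𝒮 𝒮h ι z)
  {𝒮h' : RelProj.QCGrAlg Y'} {ι' : 𝒮'.toQCAlg ⟶ 𝒮h'.toQCAlg} {z' : 𝒮h'.presheaf.obj (op ⊤)}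
  (hz' : RelCone.IsPolyOver 𝒮' 𝒮h' ι' z')
  (uh : RelProj.QGrHom q 𝒮h 𝒮h')

include hz hz' in
/-- `uh` extends `u`, over affine pairs. -/
theorem uh_ι_apply
    (huh : ∀ U : Y.Opens, ι.hom.app (op U) ≫ uh.app U = u.app U ≫ ι'.hom.app (op (q ⁻¹ᵁ U)))
    (U : Y.Opens) (hU : IsAffineOpen U) (U' : Y'.Opens) (hU' : IsAffineOpen U')
    (hle : U' ≤ q ⁻¹ᵁ U) (a : 𝒮.presheaf.obj (op U)) :
    uh.gradedAt U hU U' hU' hle (RelProj.gradedHomAt ι hz.graded U hU a) =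
      RelProj.gradedHomAt ι' hz'.graded U' hU' (u.gradedAt U hU U' hU' hle a) := by
  change (𝒮h'.presheaf.map (homOfLE hle).op).hom ((uh.app U).hom ((ι.hom.app (op U)).hom a)) =
    (ι'.hom.app (op U')).hom ((𝒮'.presheaf.map (homOfLE hle).op).hom ((u.app U).hom a))
  have h1 : (uh.app U).hom ((ι.hom.app (op U)).hom a) =
      (ι'.hom.app (op (q ⁻¹ᵁ U))).hom ((u.app U).hom a) :=
    congrArg (fun φ => φ.hom a) (huh U)
  have h2 := ι'.hom.naturality (homOfLE hle).op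
  have h3 : (𝒮h'.presheaf.map (homOfLE hle).op).hom
      ((ι'.hom.app (op (q ⁻¹ᵁ U))).hom ((u.app U).hom a)) =
      (ι'.hom.app (op U')).hom ((𝒮'.presheaf.map (homOfLE hle).op).hom ((u.app U).hom a)) :=
    (congrArg (fun φ => φ.hom ((u.app U).hom a)) h2).symm
  rw [h1, h3]

/-- `uh` sends `z` to `z'`, over affine pairs. -/
theorem uh_z (huhz : (uh.app ⊤).hom z = RelCone.restrictTop 𝒮h' z' (q ⁻¹ᵁ ⊤))
    (U : Y.Opens) (hU : IsAffineOpen U) (U' : Y'.Opens) (hU' : IsAffineOpen U')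
    (hle : U' ≤ q ⁻¹ᵁ U) :
    uh.gradedAt U hU U' hU' hle (RelCone.restrictTop 𝒮h z U) = RelCone.restrictTop 𝒮h' z' U' := by
  change (𝒮h'.presheaf.map (homOfLE hle).op).hom
    ((uh.app U).hom ((𝒮h.presheaf.map (homOfLE le_top).op).hom z)) =
      (𝒮h'.presheaf.map (homOfLE le_top).op).hom z'
  have h1 := uh.naturality (le_top : U ≤ ⊤)
  have h2 : (uh.app U).hom ((𝒮h.presheaf.map (homOfLE le_top).op).hom z) =
      (𝒮h'.presheaf.map (homOfLE (q.preimage_mono (le_top : U ≤ ⊤))).op).hom ((uh.app ⊤).hom z) :=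
    (congrArg (fun φ => φ.hom z) h1).symm
  rw [h2, huhz]
  change ((𝒮h'.presheaf.map (homOfLE le_top).op ≫
    𝒮h'.presheaf.map (homOfLE (q.preimage_mono (le_top : U ≤ ⊤))).op) ≫
      𝒮h'.presheaf.map (homOfLE hle).op).hom z' = _
  rw [← Functor.map_comp, ← Functor.map_comp]
  rfl

include hz hz' in
/-- a point of `Proj 𝒮h'(U')` whose trace on `𝒮'(U')` lies in the open of definition of `u_{U,U'}`
lies in a standard open `D_+(uh(ι f))`. -/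
theorem exists_mem_basicOpen_uh
    (huh : ∀ U : Y.Opens, ι.hom.app (op U) ≫ uh.app U = u.app U ≫ ι'.hom.app (op (q ⁻¹ᵁ U)))
    (U : Y.Opens) (hU : IsAffineOpen U) (U' : Y'.Opens) (hU' : IsAffineOpen U')
    (hle : U' ≤ q ⁻¹ᵁ U) (y' : Proj (𝒮h'.deg U' hU'))
    (hy : ¬ (HomogeneousIdeal.irrelevant (𝒮'.deg U' hU')).toIdeal ≤
      y'.asHomogeneousIdeal.toIdeal.comap (RelProj.gradedHomAt ι' hz'.graded U' hU'))
    (hdom : PolyGraded.comapPoint (RelProj.gradedHomAt ι' hz'.graded U' hU') y' hy ∈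
      RelCone.domOpen (u.gradedAt U hU U' hU' hle)) :
    ∃ (d : ℕ) (_ : 0 < d) (f : 𝒮.presheaf.obj (op U)) (_ : f ∈ 𝒮.deg U hU d),
      y' ∈ Proj.basicOpen (𝒮h'.deg U' hU')
        (uh.gradedAt U hU U' hU' hle (RelProj.gradedHomAt ι hz.graded U hU f)) := by
  obtain ⟨f, hf, hfy⟩ := (RelCone.mem_domOpen _ _).mp hdom
  obtain ⟨d, hd, fd, hfd, hfdy⟩ := ProjQ.exists_homogeneous_notMem
    (u.gradedAt U hU U' hU' hle)
    (y'.asHomogeneousIdeal.toIdeal.comap (RelProj.gradedHomAt ι' hz'.graded U' hU')) hf hfy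
  refine ⟨d, hd, fd, hfd, ?_⟩
  refine (ProjectiveSpectrum.mem_basicOpen _ _ _).mpr ?_
  rw [uh_ι_apply u hz hz' uh huh U hU U' hU' hle fd]
  exact hfdy

/-- every point of a relative `Proj` over `Y'` lies on the chart over an affine `U' ⊆ q⁻¹(U)`,
`U` affine. -/
theorem exists_pair_emb {P' : Scheme.{u}} {p' : P' ⟶ Y'} {𝒯 : RelProj.QCGrAlg Y'}
    {chart' : ∀ (U' : Y'.Opens) (hU' : IsAffineOpen U'),
      (((p' ⁻¹ᵁ U' : P'.Opens) : Scheme.{u}) ≅ Proj (𝒯.deg U' hU'))} (x : P') :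
    ∃ (U : Y.Opens) (hU : IsAffineOpen U) (U' : Y'.Opens) (hU' : IsAffineOpen U')
      (_ : U' ≤ q ⁻¹ᵁ U) (y' : Proj (𝒯.deg U' hU')),
      (RelProj.emb p' chart' U' hU').base y' = x := by
  obtain ⟨U, hU, hxU⟩ : ∃ U : Y.Opens, IsAffineOpen U ∧ q.base (p'.base x) ∈ U := by
    obtain ⟨_, ⟨V, hV, rfl⟩, hxV, -⟩ := (Y.isBasis_affineOpens).exists_subset_of_mem_open
      (Set.mem_univ (q.base (p'.base x))) isOpen_univ
    exact ⟨V, hV, hxV⟩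
  obtain ⟨_, ⟨U', hU'0, rfl⟩, hxU', hU'le⟩ := (Y'.isBasis_affineOpens).exists_subset_of_mem_open
    (show p'.base x ∈ ((q ⁻¹ᵁ U : Y'.Opens) : Set Y') from hxU) (q ⁻¹ᵁ U).2
  have hU' : IsAffineOpen U' := hU'0
  have hx : x ∈ Set.range (RelProj.emb p' chart' U' hU').base := by
    rw [ProjQ.range_emb]; exact hxU'
  obtain ⟨y', hy'⟩ := hx
  exact ⟨U, hU, U', hU', hU'le, y', hy'⟩

end Groth.Agent.Lib.Helper42.Cone
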