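import Groth.Agent.Lib.Helper42.ConeImm2

/-!
# Morphisms of projective cones and the cone immersions (helper42)
-/

set_option autoImplicit false
set_option linter.unusedSectionVars false

universe u

namespace Groth.Agent.Lib.Helper42.PolyGraded

open CategoryTheory AlgebraicGeometry HomogeneousLocalization

variable {A B σ τ : Type u} [CommRing A] [SetLike σ A] [AddSubgroupClass σ A]
  {𝒜 : ℕ → σ} [GradedRing 𝒜]
  [CommRing B] [SetLike τ B] [AddSubgroupClass τ B] {ℬ : ℕ → τ} [GradedRing ℬ]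
  (ι : 𝒜 →+*ᵍ ℬ) {z : B} (hz : z ∈ ℬ 1)
  (hbij : Function.Bijective (Polynomial.eval₂RingHom ι.toRingHom z))
  {A₂ B₂ σ₂ τ₂ : Type u} [CommRing A₂] [SetLike σ₂ A₂] [AddSubgroupClass σ₂ A₂]
  {𝒜₂ : ℕ → σ₂} [GradedRing 𝒜₂]
  [CommRing B₂] [SetLike τ₂ B₂] [AddSubgroupClass τ₂ B₂] {ℬ₂ : ℕ → τ₂} [GradedRing ℬ₂]
  (ι₂ : 𝒜₂ →+*ᵍ ℬ₂) {z₂ : B₂} (hz₂ : z₂ ∈ ℬ₂ 1)
  (hbij₂ : Function.Bijective (Polynomial.eval₂RingHom ι₂.toRingHom z₂))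

include hz hz₂ in
/-- the chart `D_+(ρ z)` of a graded homomorphism `ρ` with `ρ z = z₂`, seen from `Spec 𝒜₂`. -/
theorem exists_awayZ_comp_map (res : A →+* A₂) (ρ : ℬ →+*ᵍ ℬ₂)
    (hcomm : ∀ a, ρ (ι a) = ι₂ (res a)) (hρz : ρ z = z₂) :
    ∃ β : Spec (CommRingCat.of A₂) ⟶ Spec (CommRingCat.of (Away ℬ₂ (ρ z))),
      β ≫ Proj.awayι ℬ₂ (ρ z) (GradedFunLike.map_mem ρ hz) one_pos =
        Spec.map (CommRingCat.ofHom (awayZ ι₂ hbij₂)) ≫ Proj.awayι ℬ₂ z₂ hz₂ one_pos ∧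
      β ≫ Spec.map (CommRingCat.ofHom (Away.map ρ z)) =
        Spec.map (CommRingCat.ofHom res) ≫ Spec.map (CommRingCat.ofHom (awayZ ι hbij)) := by
  subst hρz
  refine ⟨Spec.map (CommRingCat.ofHom (awayZ ι₂ hbij₂)), rfl, ?_⟩
  rw [← Spec.map_comp, ← Spec.map_comp]
  congr 1
  ext q
  obtain ⟨n, x, hx, rfl⟩ := Away.mk_surjective ℬ hz q
  change awayZ ι₂ hbij₂ (Away.map ρ z _) = res (awayZ ι hbij _)
  rw [awayZ_mk ι hz hbij, Away.map_mk, awayZ_mk ι₂ hz₂ hbij₂]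
  exact evalOne_comp ι hbij ι₂ hbij₂ res ρ.toRingHom hcomm rfl x

end Groth.Agent.Lib.Helper42.PolyGraded

namespace Groth.Agent.Lib.Helper42.Cone

open CategoryTheory CategoryTheory.Limits AlgebraicGeometry TopologicalSpace Opposite
open HomogeneousLocalization

/-- affine pairs `U' ⊆ q⁻¹(U)`. -/
structure APair {Y Y' : Scheme.{u}} (q : Y' ⟶ Y) where
  U : Y.Opens
  hU : IsAffineOpen U
  U' : Y'.Opens
  hU' : IsAffineOpen U'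
  hle : U' ≤ q ⁻¹ᵁ U

/-- the charts over the affine pairs cover a relative spectrum over `Y'`. -/
theorem pair_covers {Y Y' : Scheme.{u}} (q : Y' ⟶ Y) (ℬ : RelSpec.QCAlg Y') (t : ℬ.spec) :
    ∃ j : APair q, t ∈ Set.range (ℬ.ι j.U' j.hU').base := by
  obtain ⟨U, hU, hxU⟩ : ∃ U : Y.Opens, IsAffineOpen U ∧ q.base (ℬ.π.base t) ∈ U := by
    obtain ⟨_, ⟨V, hV, rfl⟩, hxV, -⟩ := (Y.isBasis_affineOpens).exists_subset_of_mem_open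
      (Set.mem_univ (q.base (ℬ.π.base t))) isOpen_univ
    exact ⟨V, hV, hxV⟩
  obtain ⟨_, ⟨U', hU', rfl⟩, hxU', hU'le⟩ := (Y'.isBasis_affineOpens).exists_subset_of_mem_open
    (show ℬ.π.base t ∈ ((q ⁻¹ᵁ U : Y'.Opens) : Set Y') from hxU) (q ⁻¹ᵁ U).2
  refine ⟨⟨U, hU, U', hU', hU'le⟩, ?_⟩
  have h1 : t ∈ ℬ.π ⁻¹ᵁ U' := hxU'
  rw [ℬ.π_preimage U' hU'] at h1
  exact h1

end Groth.Agent.Lib.Helper42.Cone
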