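import Groth.Agent.Lib.Helper42.ConeQMap3
import Groth.Agent.Lib.Helper42.ConeInfinity

/-!
# Morphisms of projective cones and the loci at infinity (helper42)

`Away.map` with a prescribed target element, so that chart equations can be transported along
equalities of elements without dependent-type problems; the square
`θ' ∘ uh = u ∘ θ` of graded retractions.
-/

set_option autoImplicit false
set_option linter.unusedSectionVars false

universe u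

namespace Groth.Agent.Lib.Helper42.Cone

open CategoryTheory CategoryTheory.Limits AlgebraicGeometry TopologicalSpace Opposite
open HomogeneousLocalization

section algebra

variable {A B C σ τ υ : Type u} [CommRing A] [SetLike σ A] [AddSubgroupClass σ A]
  {𝒜 : ℕ → σ} [GradedRing 𝒜]
  [CommRing B] [SetLike τ B] [AddSubgroupClass τ B] {ℬ : ℕ → τ} [GradedRing ℬ]
  [CommRing C] [SetLike υ C] [AddSubgroupClass υ C] {𝒞 : ℕ → υ} [GradedRing 𝒞]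

/-- `Away.map` with a prescribed target element. -/
noncomputable def awayMapTo (ψ : 𝒜 →+*ᵍ ℬ) (a : A) (b : B) (h : ψ a = b) :
    Away 𝒜 a →+* Away ℬ b := by
  subst h
  exact Away.map ψ a

theorem awayMapTo_rfl (ψ : 𝒜 →+*ᵍ ℬ) (a : A) : awayMapTo ψ a (ψ a) rfl = Away.map ψ a := rfl

theorem awayMapTo_comp (ψ : 𝒜 →+*ᵍ ℬ) (ξ : ℬ →+*ᵍ 𝒞) (a : A) (b : B) (c : C)
    (h1 : ψ a = b) (h2 : ξ b = c) (h3 : (ξ.comp ψ) a = c) :
    (awayMapTo ξ b c h2).comp (awayMapTo ψ a b h1) = awayMapTo (ξ.comp ψ) a c h3 := by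
  subst h1
  subst h2
  exact (Away.map_comp ψ ξ a).symm

theorem awayMapTo_congr (ψ₁ ψ₂ : 𝒜 →+*ᵍ ℬ) (h : ψ₁ = ψ₂) (a : A) (b : B)
    (h1 : ψ₁ a = b) (h2 : ψ₂ a = b) : awayMapTo ψ₁ a b h1 = awayMapTo ψ₂ a b h2 := by
  subst h
  rfl

/-- transport of a chart equation of a morphism induced by `ψ` along equalities of elements. -/
theorem chart_eq_of_eq {d : ℕ} (hd : 0 < d) (ψ : ℬ →+*ᵍ 𝒜) {g₁ g₂ : B} (hg₁ : g₁ ∈ ℬ d)
    (hg₂ : g₂ ∈ ℬ d) (hgg : g₁ = g₂) (a : A) (ha : a ∈ 𝒜 d) (h : ψ g₂ = a)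
    {X : Scheme.{u}} (m : Proj 𝒜 ⟶ X) (n : Proj ℬ ⟶ X)
    (E : Proj.awayι 𝒜 (ψ g₁) (GradedFunLike.map_mem ψ hg₁) hd ≫ m =
      Spec.map (CommRingCat.ofHom (Away.map ψ g₁)) ≫ Proj.awayι ℬ g₁ hg₁ hd ≫ n) :
    Proj.awayι 𝒜 a ha hd ≫ m =
      Spec.map (CommRingCat.ofHom (awayMapTo ψ g₂ a h)) ≫ Proj.awayι ℬ g₂ hg₂ hd ≫ n := by
  subst hgg
  subst h
  exact E

end algebra

section sheaf

variable {Y Y' : Scheme.{u}} {q : Y' ⟶ Y}
  {𝒮 : RelProj.QCGrAlg Y} {𝒮' : RelProj.QCGrAlg Y'} (u : RelProj.QGrHom q 𝒮 𝒮')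
  {𝒮h : RelProj.QCGrAlg Y} {ι : 𝒮.toQCAlg ⟶ 𝒮h.toQCAlg} {z : 𝒮h.presheaf.obj (op ⊤)}
  (hz : RelCone.IsPolyOver 𝒮 𝒮h ι z)
  {𝒮h' : RelProj.QCGrAlg Y'} {ι' : 𝒮'.toQCAlg ⟶ 𝒮h'.toQCAlg} {z' : 𝒮h'.presheaf.obj (op ⊤)}
  (hz' : RelCone.IsPolyOver 𝒮' 𝒮h' ι' z')
  (uh : RelProj.QGrHom q 𝒮h 𝒮h')

/-- a homomorphism killing `z` kills its restrictions. -/
theorem retraction_z (θ : 𝒮h.toQCAlg ⟶ 𝒮.toQCAlg) (hθ : RelProj.IsGradedHom θ)
    (hθz : (θ.hom.app (op ⊤)).hom z = 0) (U : Y.Opens) (hU : IsAffineOpen U) :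
    RelProj.gradedHomAt θ hθ U hU (RelCone.restrictTop 𝒮h z U) = 0 := by
  change (θ.hom.app (op U)).hom ((𝒮h.presheaf.map (homOfLE le_top).op).hom z) = 0
  have h2 := θ.hom.naturality (homOfLE (le_top : U ≤ ⊤)).op
  have h3 : (θ.hom.app (op U)).hom ((𝒮h.presheaf.map (homOfLE le_top).op).hom z) =
      (𝒮.presheaf.map (homOfLE le_top).op).hom ((θ.hom.app (op ⊤)).hom z) :=
    congrArg (fun φ => φ.hom z) h2
  rw [h3, hθz, map_zero]

/-- a retraction of `ι`, over affine opens. -/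
theorem retraction_ι (θ : 𝒮h.toQCAlg ⟶ 𝒮.toQCAlg) (hθ : RelProj.IsGradedHom θ)
    (hιθ : ι ≫ θ = 𝟙 _) (U : Y.Opens) (hU : IsAffineOpen U) (a : 𝒮.presheaf.obj (op U)) :
    RelProj.gradedHomAt θ hθ U hU (RelProj.gradedHomAt ι hz.graded U hU a) = a :=
  congrArg (fun φ => (φ.hom.app (op U)).hom a) hιθ

include hz hz' in
/-- the graded retractions killing `z`, `z'` commute with `u` and its extension `uh`. -/
theorem retraction_square
    (huh : ∀ U : Y.Opens, ι.hom.app (op U) ≫ uh.app U = u.app U ≫ ι'.hom.app (op (q ⁻¹ᵁ U)))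
    (huhz : (uh.app ⊤).hom z = RelCone.restrictTop 𝒮h' z' (q ⁻¹ᵁ ⊤))
    (θ : 𝒮h.toQCAlg ⟶ 𝒮.toQCAlg) (hθ : RelProj.IsGradedHom θ) (hιθ : ι ≫ θ = 𝟙 _)
    (hθz : (θ.hom.app (op ⊤)).hom z = 0)
    (θ' : 𝒮h'.toQCAlg ⟶ 𝒮'.toQCAlg) (hθ' : RelProj.IsGradedHom θ') (hιθ' : ι' ≫ θ' = 𝟙 _)
    (hθz' : (θ'.hom.app (op ⊤)).hom z' = 0)
    (U : Y.Opens) (hU : IsAffineOpen U) (U' : Y'.Opens) (hU' : IsAffineOpen U')
    (hle : U' ≤ q ⁻¹ᵁ U) :
    (RelProj.gradedHomAt θ' hθ' U' hU').comp (uh.gradedAt U hU U' hU' hle) =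
      (u.gradedAt U hU U' hU' hle).comp (RelProj.gradedHomAt θ hθ U hU) := by
  have key : ((RelProj.gradedHomAt θ' hθ' U' hU').comp (uh.gradedAt U hU U' hU' hle)).toRingHom =
      ((u.gradedAt U hU U' hU' hle).comp (RelProj.gradedHomAt θ hθ U hU)).toRingHom := by
    refine PolyGraded.ringHom_ext_poly (RelProj.gradedHomAt ι hz.graded U hU) (hz.bij U hU) _ _
      (fun a => ?_) ?_
    · change RelProj.gradedHomAt θ' hθ' U' hU' (uh.gradedAt U hU U' hU' hle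
          (RelProj.gradedHomAt ι hz.graded U hU a)) =
        u.gradedAt U hU U' hU' hle (RelProj.gradedHomAt θ hθ U hU
          (RelProj.gradedHomAt ι hz.graded U hU a))
      rw [uh_ι_apply u hz hz' uh huh U hU U' hU' hle a, retraction_ι hz' θ' hθ' hιθ' U' hU',
        retraction_ι hz θ hθ hιθ U hU]
    · change RelProj.gradedHomAt θ' hθ' U' hU' (uh.gradedAt U hU U' hU' hle
          (RelCone.restrictTop 𝒮h z U)) =
        u.gradedAt U hU U' hU' hle (RelProj.gradedHomAt θ hθ U hU (RelCone.restrictTop 𝒮h z U))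
      rw [uh_z uh huhz U hU U' hU' hle, retraction_z θ' hθ' hθz' U' hU',
        retraction_z θ hθ hθz U hU, map_zero]
  exact DFunLike.ext _ _ (fun b => congrArg (fun φ => φ b) key)

end sheaf

end Groth.Agent.Lib.Helper42.Cone
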