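import Groth.Agent.Lib.Helper42.PolyGraded
import Mathlib.AlgebraicGeometry.Morphisms.UnderlyingMap
import Mathlib.AlgebraicGeometry.ProjectiveSpectrum.Basic

/-!
# `ℬ = 𝒜[z]`: the maps of degree-zero localizations `𝒜_(f) → ℬ_(ι f)` have retractions (helper42)
-/

set_option autoImplicit false
set_option linter.unusedSectionVars false

universe u

namespace Groth.Agent.Lib.Helper42.PolyGraded

open CategoryTheory AlgebraicGeometry HomogeneousLocalization

variable {A B σ τ : Type u} [CommRing A] [SetLike σ A] [AddSubgroupClass σ A]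
  {𝒜 : ℕ → σ} [GradedRing 𝒜]
  [CommRing B] [SetLike τ B] [AddSubgroupClass τ B] {ℬ : ℕ → τ} [GradedRing ℬ]
  (ι : 𝒜 →+*ᵍ ℬ) {z : B} (hz : z ∈ ℬ 1)
  (hbij : Function.Bijective (Polynomial.eval₂RingHom ι.toRingHom z))

/-- the retraction `ℬ_(ι f) → 𝒜_(f)` induced by "`z ↦ 0`". -/
noncomputable def awayRetraction (f : A) : Away ℬ (ι f) →+* Away 𝒜 f :=
  HomogeneousLocalization.map (evalZero ι hz hbij) (by
    rintro _ ⟨n, rfl⟩
    refine ⟨n, ?_⟩
    change f ^ n = evalZero ι hz hbij ((ι f) ^ n)
    rw [map_pow, evalZero_ι])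

theorem awayRetraction_comp (f : A) :
    (awayRetraction ι hz hbij f).comp (Away.map ι f) = RingHom.id _ := by
  ext x
  obtain ⟨c, rfl⟩ := HomogeneousLocalization.mk_surjective x
  simp only [RingHom.coe_comp, Function.comp_apply, RingHom.id_apply, awayRetraction, Away.map,
    HomogeneousLocalization.map_mk, HomogeneousLocalization.val_mk]
  congr 1
  · exact evalZero_ι ι hz hbij _
  · apply Subtype.ext
    exact evalZero_ι ι hz hbij _

include hz hbij in
/-- `Spec ℬ_(ι f) ⟶ Spec 𝒜_(f)` is surjective. -/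
theorem surjective_specMap_awayMap (f : A) :
    Surjective (Spec.map (CommRingCat.ofHom (Away.map ι f))) := by
  constructor
  intro y
  refine ⟨(Spec.map (CommRingCat.ofHom (awayRetraction ι hz hbij f))).base y, ?_⟩
  rw [← Scheme.Hom.comp_apply, ← Spec.map_comp, ← CommRingCat.ofHom_comp,
    awayRetraction_comp]
  change (Spec.map (𝟙 _)).base y = y
  rw [Spec.map_id]
  rfl

end Groth.Agent.Lib.Helper42.PolyGraded
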