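import Groth.Agent.Lib.Helper42.ConeBase
import Groth.Agent.Lib.Helper42.ConeRing
import Mathlib.AlgebraicGeometry.Morphisms.Affine

/-!
# The canonical retraction of the pointed projective cone over a general base (helper42)

It is affine, surjective, lies over the base, and is a retraction of the immersion at infinity.
-/

set_option autoImplicit false

universe u

namespace Groth.Agent.Lib.Helper42.Cone

open CategoryTheory CategoryTheory.Limits AlgebraicGeometry TopologicalSpace Opposite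
open HomogeneousLocalization

/-- the chart of `Proj 𝒜` at `χ f` for a graded endomorphism `χ` equal to the identity. -/
theorem awayι_of_eq_id {A σ : Type u} [CommRing A] [SetLike σ A] [AddSubgroupClass σ A]
    {𝒜 : ℕ → σ} [GradedRing 𝒜] (χ : 𝒜 →+*ᵍ 𝒜) (hχ : χ = GradedRingHom.id 𝒜) {d : ℕ} {f : A}
    (hf : f ∈ 𝒜 d) (hd : 0 < d) :
    Spec.map (CommRingCat.ofHom (HomogeneousLocalization.Away.map χ f)) ≫ Proj.awayι 𝒜 f hf hd =
      Proj.awayι 𝒜 (χ f) (GradedFunLike.map_mem χ hf) hd := by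
  subst hχ
  rw [HomogeneousLocalization.Away.map_id]
  change Spec.map (𝟙 _) ≫ _ = _
  rw [Spec.map_id, Category.id_comp]
  rfl

variable {Y : Scheme.{u}} {𝒮 𝒮h : RelProj.QCGrAlg Y} {ι : 𝒮.toQCAlg ⟶ 𝒮h.toQCAlg}
  {z : 𝒮h.presheaf.obj (op ⊤)} (hz : RelCone.IsPolyOver 𝒮 𝒮h ι z)
  {PC : Scheme.{u}} {pC : PC ⟶ Y}
  {chartC : ∀ (U : Y.Opens) (hU : IsAffineOpen U),
    (((pC ⁻¹ᵁ U : PC.Opens) : Scheme.{u}) ≅ Proj (𝒮h.deg U hU))}
  {P : Scheme.{u}} {p : P ⟶ Y}
  {chart : ∀ (U : Y.Opens) (hU : IsAffineOpen U), (((p ⁻¹ᵁ U : P.Opens) : Scheme.{u}) ≅ Proj (𝒮.deg U hU))}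

set_option backward.isDefEq.respectTransparency.types false in
/-- the canonical retraction is affine, surjective and lies over the base. -/
theorem isRetr_props (hPC : RelProj.IsRelProj 𝒮h pC chartC) (hP : RelProj.IsRelProj 𝒮 p chart)
    {r : ((RelCone.pointedProjCone 𝒮 hz pC chartC : PC.Opens) : Scheme.{u}) ⟶ P}
    (hr : IsRetr hz p chart r) :
    IsAffineHom r ∧ Function.Surjective r.base ∧
      r ≫ p = (RelCone.pointedProjCone 𝒮 hz pC chartC).ι ≫ pC := by
  obtain ⟨r₀, hr₀, v, hv, hrv⟩ := exists_isProjQMapOn hz hPC hP (p := p) (chart := chart)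
  have hrr : r = r₀ := isRetr_unique hz hr (isRetr_of_isProjQMapOn hz hr₀)
  subst hrr
  have hg : ∀ U : Y.Opens, IsAffineOpen U → IsAffineOpen ((𝟙 Y : Y ⟶ Y) ⁻¹ᵁ U) := fun U hU => hU
  have haff : IsAffineHom v :=
    ProjQ.of_charts (Q := @IsAffineHom) hP hPC hv hg (fun U hU d hd f hf => inferInstance)
  have hsurj : Surjective v :=
    ProjQ.of_charts (Q := @Surjective) hP hPC hv hg (fun U hU d hd f hf => by
      have key : ∀ ψ : 𝒮.deg U hU →+*ᵍ 𝒮h.deg U hU, ψ = RelProj.gradedHomAt ι hz.graded U hU →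
          Surjective (Spec.map (CommRingCat.ofHom (Away.map ψ f))) := by
        rintro ψ rfl
        exact PolyGraded.surjective_specMap_awayMap (RelProj.gradedHomAt ι hz.graded U hU)
          (hz.deg_z U hU) (hz.bij U hU) f
      exact key _ (ofHom_gradedAt_eq ι hz.graded U hU (le_refl U)))
  have hcomp := ProjQ.isProjQMapOn_comp hP hPC hv
  subst hrv
  refine ⟨inferInstance, ?_, ?_⟩
  · have : Surjective ((PC.isoOfEq (pointedProjCone_eq_domQ hz hPC)).hom ≫ v) := inferInstance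
    exact this.surj
  · rw [Category.assoc, hcomp, Category.comp_id, ← Category.assoc, Scheme.isoOfEq_hom_ι]

/-- a graded retraction of `ι` composes with `ι` to the identity over every affine open. -/
theorem gradedHomAt_comp_eq_id (θ : 𝒮h.toQCAlg ⟶ 𝒮.toQCAlg) (hθ : RelProj.IsGradedHom θ)
    (hιθ : ι ≫ θ = 𝟙 _) (U : Y.Opens) (hU : IsAffineOpen U) :
    (RelProj.gradedHomAt θ hθ U hU).comp (RelProj.gradedHomAt ι hz.graded U hU) =
      GradedRingHom.id (𝒮.deg U hU) := by
  apply DFunLike.ext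
  intro a
  have h1 := congrArg (fun φ => (φ.hom.app (op U)).hom a) hιθ
  exact h1

/-- the immersion at infinity, chartwise induced by a graded retraction `θ` of `ι`, is a section of
the canonical retraction of the pointed projective cone. -/
theorem isRetr_section
    {r : ((RelCone.pointedProjCone 𝒮 hz pC chartC : PC.Opens) : Scheme.{u}) ⟶ P}
    (hr : IsRetr hz p chart r)
    (θ : 𝒮h.toQCAlg ⟶ 𝒮.toQCAlg) (hθ : RelProj.IsGradedHom θ) (hιθ : ι ≫ θ = 𝟙 _)
    (hirr : ∀ (U : Y.Opens) (hU : IsAffineOpen U),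
      HomogeneousIdeal.irrelevant (𝒮.deg U hU) ≤
        (HomogeneousIdeal.irrelevant (𝒮h.deg U hU)).map (RelProj.gradedHomAt θ hθ U hU))
    (j : P ⟶ PC) (hj : RelProj.IsRelProjMap θ hθ hirr chartC chart j)
    (j' : P ⟶ ((RelCone.pointedProjCone 𝒮 hz pC chartC : PC.Opens) : Scheme.{u}))
    (hj' : j' ≫ (RelCone.pointedProjCone 𝒮 hz pC chartC).ι = j) : j' ≫ r = 𝟙 P := by
  have hχ := gradedHomAt_comp_eq_id hz θ hθ hιθ
  have hχa : ∀ (U : Y.Opens) (hU : IsAffineOpen U) (a : 𝒮.presheaf.obj (op U)),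
      RelProj.gradedHomAt θ hθ U hU (RelProj.gradedHomAt ι hz.graded U hU a) = a :=
    fun U hU a => DFunLike.congr_fun (hχ U hU) a
  refine LocalGlue.hom_ext_of_family (J := ProjQ.PIdx 𝒮)
    (fun i => Spec (CommRingCat.of (Away (𝒮.deg i.U i.hU)
      (RelProj.gradedHomAt θ hθ i.U i.hU (RelProj.gradedHomAt ι hz.graded i.U i.hU i.f)))))
    (fun i => Proj.awayι (𝒮.deg i.U i.hU)
      (RelProj.gradedHomAt θ hθ i.U i.hU (RelProj.gradedHomAt ι hz.graded i.U i.hU i.f))
      (GradedFunLike.map_mem (RelProj.gradedHomAt θ hθ i.U i.hU)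
        (GradedFunLike.map_mem (RelProj.gradedHomAt ι hz.graded i.U i.hU) i.hf)) i.hd ≫
      RelProj.emb p chart i.U i.hU) ?_ (fun i => ?_)
  · intro x
    obtain ⟨i, w, hw⟩ := ProjQ.pchart_covers (p := p) (chart := chart) x
    refine ⟨i, ?_⟩
    have hw' : (RelProj.emb p chart i.U i.hU).base
        ((Proj.awayι (𝒮.deg i.U i.hU) i.f i.hf i.hd).base w) = x := hw
    have hy : (Proj.awayι (𝒮.deg i.U i.hU) i.f i.hf i.hd).base w ∈
        Proj.basicOpen (𝒮.deg i.U i.hU)
          (RelProj.gradedHomAt θ hθ i.U i.hU (RelProj.gradedHomAt ι hz.graded i.U i.hU i.f)) := by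
      rw [hχa]
      exact (Proj.opensRange_awayι (𝒮.deg i.U i.hU) i.f i.hf i.hd).le ⟨w, rfl⟩
    obtain ⟨w', hw''⟩ := (Proj.opensRange_awayι (𝒮.deg i.U i.hU) _
      (GradedFunLike.map_mem (RelProj.gradedHomAt θ hθ i.U i.hU)
        (GradedFunLike.map_mem (RelProj.gradedHomAt ι hz.graded i.U i.hU) i.hf)) i.hd).ge hy
    refine ⟨w', ?_⟩
    rw [Scheme.Hom.comp_base, TopCat.coe_comp, Function.comp_apply]
    exact (congrArg _ hw'').trans hw'
  · obtain ⟨U, hU, d, hd, f, hf⟩ := i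
    have hjU : RelProj.emb p chart U hU ≫ j =
        Proj.map (RelProj.gradedHomAt θ hθ U hU) (hirr U hU) ≫ RelProj.emb pC chartC U hU := by
      unfold RelProj.emb
      rw [Category.assoc, hj U hU, Iso.inv_hom_id_assoc]
    have h1 := Proj.awayι_comp_map (RelProj.gradedHomAt θ hθ U hU) (hirr U hU) hd
      (RelProj.gradedHomAt ι hz.graded U hU f)
      (GradedFunLike.map_mem (RelProj.gradedHomAt ι hz.graded U hU) hf)
    have h2 : (Proj.awayι (𝒮.deg U hU)
        (RelProj.gradedHomAt θ hθ U hU (RelProj.gradedHomAt ι hz.graded U hU f))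
        (GradedFunLike.map_mem (RelProj.gradedHomAt θ hθ U hU)
          (GradedFunLike.map_mem (RelProj.gradedHomAt ι hz.graded U hU) hf)) hd ≫
        RelProj.emb p chart U hU) ≫ j' =
        Spec.map (CommRingCat.ofHom (Away.map (RelProj.gradedHomAt θ hθ U hU)
          (RelProj.gradedHomAt ι hz.graded U hU f))) ≫
          coneChart hz (pC := pC) (chartC := chartC) ⟨U, hU, d, hd, f, hf⟩ := by
      have hc := coneChart_ι hz (pC := pC) (chartC := chartC) ⟨U, hU, d, hd, f, hf⟩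
      dsimp only at hc
      rw [← cancel_mono (RelCone.pointedProjCone 𝒮 hz pC chartC).ι]
      simp only [Category.assoc]
      rw [hj', hc, hjU, ← Category.assoc, ← Category.assoc]
      exact congrArg (· ≫ RelProj.emb pC chartC U hU) h1
    have h3 := awayι_of_eq_id ((RelProj.gradedHomAt θ hθ U hU).comp
      (RelProj.gradedHomAt ι hz.graded U hU)) (hχ U hU) hf hd
    have h4 := hr U hU d hd f hf _ (coneChart_ι hz ⟨U, hU, d, hd, f, hf⟩)
    rw [← Category.assoc, h2, Category.assoc, h4, Category.comp_id, ← Category.assoc,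
      ← Spec.map_comp, ← CommRingCat.ofHom_comp, ← Away.map_comp, ← Category.assoc]
    exact congrArg (· ≫ RelProj.emb p chart U hU) h3

end Groth.Agent.Lib.Helper42.Cone
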