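import Mathlib.RingTheory.GradedAlgebra.Radical
import Mathlib.RingTheory.GradedAlgebra.HomogeneousLocalization
import Mathlib.RingTheory.FiniteType
import Mathlib.RingTheory.Finiteness.Ideal
import Mathlib.Algebra.Algebra.Operations
import Mathlib.Algebra.DirectSum.Internal

/-!
# A graded ring of finite type over its degree-zero part, graded-piecewise (helper42)

Tools for proving statements of the form "`ℬ n ≤ W n` for all `n`" for a graded algebra `ℬ` of finite
type over `ℬ 0` and a multiplicatively closed family of submodules `W n ≤ ℬ n`, and the theorem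
`eventually_le_range`: if `φ : 𝒜 → ℬ` is an injective graded homomorphism, bijective in degrees `0`
and `1`, with `𝒜` generated in degree one, such that the induced maps of homogeneous localizations at
elements of degree one are surjective and `Proj ℬ` is covered by the `D₊(φ f)`, then `φ` is surjective
in large degrees.

ns `Groth.Agent.Lib.Helper42.GenDegOne`.
-/

set_option autoImplicit false

universe u

open DirectSum

namespace Groth.Agent.Lib.Helper42.GenDegOne

section family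

variable {R B : Type u} [CommRing R] [CommRing B] [Algebra R B] (ℬ : ℕ → Submodule R B)
  [GradedAlgebra ℬ]

/-- an element of `ℬ n` lying in the sum of a family of submodules `W k ≤ ℬ k` lies in `W n`. -/
theorem mem_of_mem_iSup (W : ℕ → Submodule R B) (hW : ∀ n, W n ≤ ℬ n) {n : ℕ} {b : B}
    (hb : b ∈ ℬ n) (h : b ∈ ⨆ k, W k) : b ∈ W n := by
  have key : ∀ x ∈ ⨆ k, W k, ((decompose ℬ x n : ℬ n) : B) ∈ W n := by
    intro x hx
    induction hx using Submodule.iSup_induction' with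
    | mem k x hx =>
      by_cases hkn : k = n
      · subst hkn
        rw [decompose_of_mem_same ℬ (hW k hx)]
        exact hx
      · rw [decompose_of_mem_ne ℬ (hW k hx) hkn]
        exact Submodule.zero_mem _
    | zero =>
      rw [decompose_zero, zero_apply, ZeroMemClass.coe_zero]
      exact Submodule.zero_mem _
    | add x y _ _ hx hy =>
      rw [decompose_add, add_apply, AddMemClass.coe_add]
      exact Submodule.add_mem _ hx hy
  have h2 := key b h
  rwa [decompose_of_mem_same ℬ hb] at h2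

/-- **graded-piecewise induction over a generating set**: a multiplicatively closed family of
submodules `W n ≤ ℬ n` containing `ℬ 0` and the homogeneous components of a set of generators is
everything. -/
theorem le_of_family (G : Set B) (hG : Algebra.adjoin (ℬ 0) G = ⊤)
    (W : ℕ → Submodule R B) (hW : ∀ n, W n ≤ ℬ n) (h0 : ℬ 0 ≤ W 0)
    (hmul : ∀ i j, W i * W j ≤ W (i + j))
    (hgen : ∀ g ∈ G, ∀ m, ((decompose ℬ g m : ℬ m) : B) ∈ W m) (n : ℕ) : ℬ n ≤ W n := by
  classical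
  have hall : ∀ b : B, b ∈ ⨆ k, W k := by
    intro b
    have hb : b ∈ Algebra.adjoin (ℬ 0) G := by rw [hG]; exact Algebra.mem_top
    induction hb using Algebra.adjoin_induction with
    | mem g hg =>
      rw [← sum_support_decompose ℬ g]
      exact Submodule.sum_mem _ (fun m _ => Submodule.mem_iSup_of_mem m (hgen g hg m))
    | algebraMap r => exact Submodule.mem_iSup_of_mem 0 (h0 r.2)
    | add x y _ _ hx hy => exact Submodule.add_mem _ hx hy
    | mul x y _ _ hx hy =>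
      have h1 : x * y ∈ (⨆ k, W k) * (⨆ k, W k) := Submodule.mul_mem_mul hx hy
      have h2 : (⨆ k, W k) * (⨆ k, W k) ≤ ⨆ k, W k := by
        rw [Submodule.iSup_mul]
        refine iSup_le (fun i => ?_)
        rw [Submodule.mul_iSup]
        exact iSup_le (fun j => (hmul i j).trans (le_iSup W (i + j)))
      exact h2 h1
  intro b hb
  exact mem_of_mem_iSup ℬ W hW hb (hall b)

end family

section basic

variable {R B : Type u} [CommRing R] [CommRing B] [Algebra R B] (ℬ : ℕ → Submodule R B)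
  [GradedAlgebra ℬ]

theorem pow_le (n : ℕ) : ℬ 1 ^ n ≤ ℬ n := by
  induction n with
  | zero =>
    rw [pow_zero, Submodule.one_le]
    exact SetLike.GradedOne.one_mem
  | succ n ih =>
    rw [pow_succ]
    refine Submodule.mul_le.mpr (fun x hx y hy => ?_)
    exact SetLike.mul_mem_graded (ih hx) hy

theorem degOne_mul_zero_le : ℬ 1 * ℬ 0 ≤ ℬ 1 := by
  refine Submodule.mul_le.mpr (fun x hx y hy => ?_)
  have h := SetLike.mul_mem_graded hx hy
  rwa [add_zero] at h

theorem pow_mul_zero_le {M : ℕ} (hM : 1 ≤ M) : ℬ 1 ^ M * ℬ 0 ≤ ℬ 1 ^ M := by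
  induction M, hM using Nat.le_induction with
  | base => rw [pow_one]; exact degOne_mul_zero_le ℬ
  | succ M _ ih =>
    rw [pow_succ, mul_assoc]
    exact mul_le_mul' le_rfl (degOne_mul_zero_le ℬ)

theorem zero_mul_zero_le : ℬ 0 * ℬ 0 ≤ ℬ 0 := by
  refine Submodule.mul_le.mpr (fun x hx y hy => ?_)
  have h := SetLike.mul_mem_graded hx hy
  rwa [add_zero] at h

theorem mul_le_add (i j : ℕ) : ℬ i * ℬ j ≤ ℬ (i + j) :=
  Submodule.mul_le.mpr (fun _ hx _ hy => SetLike.mul_mem_graded hx hy)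

/-- `ℬ 1` is finitely generated over `ℬ 0` when `B` is of finite type over `ℬ 0`. -/
theorem exists_finset_degOne (G : Finset B) (hG : Algebra.adjoin (ℬ 0) (G : Set B) = ⊤) :
    ∃ F : Finset B, (∀ f ∈ F, f ∈ ℬ 1) ∧ ℬ 1 ≤ ℬ 0 * Submodule.span R (F : Set B) := by
  classical
  let F : Finset B := G.image (fun g => ((decompose ℬ g 1 : ℬ 1) : B))
  have hF1 : ∀ f ∈ F, f ∈ ℬ 1 := by
    intro f hf
    obtain ⟨g, -, rfl⟩ := Finset.mem_image.mp hf
    exact SetLike.coe_mem _
  have hFle : Submodule.span R (F : Set B) ≤ ℬ 1 := Submodule.span_le.mpr (fun f hf => hF1 f hf)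
  refine ⟨F, hF1, ?_⟩
  let W : ℕ → Submodule R B := fun n =>
    if n = 0 then ℬ 0 else if n = 1 then ℬ 0 * Submodule.span R (F : Set B) else ℬ n
  have hW0 : W 0 = ℬ 0 := if_pos rfl
  have hW1 : W 1 = ℬ 0 * Submodule.span R (F : Set B) := by
    show (if (1 : ℕ) = 0 then _ else if (1 : ℕ) = 1 then _ else _) = _
    rw [if_neg one_ne_zero, if_pos rfl]
  have hW2 : ∀ n, 2 ≤ n → W n = ℬ n := by
    intro n hn
    show (if n = 0 then _ else if n = 1 then _ else _) = _
    rw [if_neg (by omega), if_neg (by omega)]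
  have hW1le : W 1 ≤ ℬ 1 := by
    rw [hW1]
    refine (mul_le_mul' le_rfl hFle).trans ?_
    have h := mul_le_add ℬ 0 1
    rwa [zero_add] at h
  have hW : ∀ n, W n ≤ ℬ n := by
    intro n
    rcases Nat.lt_or_ge n 2 with hn | hn
    · have hcases : n = 0 ∨ n = 1 := by omega
      rcases hcases with rfl | rfl
      · exact hW0.le
      · exact hW1le
    · exact (hW2 n hn).le
  have h := le_of_family ℬ (G : Set B) hG W hW hW0.ge ?_ ?_ 1
  · rwa [hW1] at h
  · intro i j
    rcases Nat.lt_or_ge (i + j) 2 with hij | hij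
    · have hcases : (i = 0 ∧ j = 0) ∨ (i = 0 ∧ j = 1) ∨ (i = 1 ∧ j = 0) := by omega
      rcases hcases with ⟨rfl, rfl⟩ | ⟨rfl, rfl⟩ | ⟨rfl, rfl⟩
      · rw [hW0]; exact zero_mul_zero_le ℬ
      · rw [hW0, zero_add, hW1, ← mul_assoc]
        exact mul_le_mul' (zero_mul_zero_le ℬ) le_rfl
      · rw [hW0, add_zero, hW1, mul_comm, ← mul_assoc]
        exact mul_le_mul' (zero_mul_zero_le ℬ) le_rfl
    · rw [hW2 _ hij]
      exact (mul_le_mul' (hW i) (hW j)).trans (mul_le_add ℬ i j)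
  · intro g hg m
    rcases Nat.lt_or_ge m 2 with hm | hm
    · have hcases : m = 0 ∨ m = 1 := by omega
      rcases hcases with rfl | rfl
      · rw [hW0]; exact SetLike.coe_mem _
      · rw [hW1]
        have h1 : ((decompose ℬ g 1 : ℬ 1) : B) = 1 * ((decompose ℬ g 1 : ℬ 1) : B) :=
          (one_mul _).symm
        rw [h1]
        refine Submodule.mul_mem_mul SetLike.GradedOne.one_mem (Submodule.subset_span ?_)
        exact Finset.mem_coe.mpr (Finset.mem_image.mpr ⟨g, hg, rfl⟩)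
    · rw [hW2 m hm]; exact SetLike.coe_mem _

end basic

/-- a monotone family of properties indexed by a finite set holds uniformly. -/
theorem exists_uniform {ι : Type*} (s : Finset ι) (P : ℕ → ι → Prop)
    (mono : ∀ i M M', M ≤ M' → P M i → P M' i) (h : ∀ i ∈ s, ∃ M, P M i) :
    ∃ M, ∀ i ∈ s, P M i := by
  classical
  induction s using Finset.induction_on with
  | empty => exact ⟨0, fun i hi => absurd hi (Finset.notMem_empty i)⟩
  | insert a s _ ih =>
    obtain ⟨M₁, hM₁⟩ := ih (fun i hi => h i (Finset.mem_insert_of_mem hi))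
    obtain ⟨M₂, hM₂⟩ := h a (Finset.mem_insert_self a s)
    refine ⟨max M₁ M₂, fun i hi => ?_⟩
    rcases Finset.mem_insert.mp hi with rfl | hi
    · exact mono _ _ _ (le_max_right _ _) hM₂
    · exact mono _ _ _ (le_max_left _ _) (hM₁ i hi)

section main

variable {R A B : Type u} [CommRing R] [CommRing A] [Algebra R A] (𝒜 : ℕ → Submodule R A)
  [GradedAlgebra 𝒜] [CommRing B] [Algebra R B] (ℬ : ℕ → Submodule R B) [GradedAlgebra ℬ]
  (φ : 𝒜 →+*ᵍ ℬ) (hφ : Function.Injective φ)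
  (h0 : Set.BijOn φ (𝒜 0) (ℬ 0)) (h1 : Set.BijOn φ (𝒜 1) (ℬ 1))
  (hgen : ∀ n : ℕ, 1 ≤ n → 𝒜 n = 𝒜 1 ^ n)

theorem map_mem_pow {n : ℕ} (hn : 1 ≤ n) {a : A} (ha : a ∈ 𝒜 1 ^ n) : φ a ∈ ℬ 1 ^ n := by
  induction n, hn using Nat.le_induction generalizing a with
  | base =>
    rw [pow_one] at ha ⊢
    exact GradedFunLike.map_mem φ ha
  | succ n _ ih =>
    rw [pow_succ] at ha ⊢
    induction ha using Submodule.mul_induction_on' with
    | mem_mul_mem x hx y hy =>
      rw [map_mul]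
      exact Submodule.mul_mem_mul (ih hx) (GradedFunLike.map_mem φ hy)
    | add x _ y _ hx hy =>
      rw [map_add]
      exact Submodule.add_mem _ hx hy

include h1 in
theorem exists_of_mem_pow {n : ℕ} (hn : 1 ≤ n) {x : B} (hx : x ∈ ℬ 1 ^ n) :
    ∃ a ∈ 𝒜 1 ^ n, φ a = x := by
  induction n, hn using Nat.le_induction generalizing x with
  | base =>
    rw [pow_one] at hx
    obtain ⟨a, ha, rfl⟩ := h1.surjOn hx
    exact ⟨a, by rwa [pow_one], rfl⟩
  | succ n _ ih =>
    rw [pow_succ] at hx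
    induction hx using Submodule.mul_induction_on' with
    | mem_mul_mem x hx y hy =>
      obtain ⟨a, ha, rfl⟩ := ih hx
      obtain ⟨a', ha', rfl⟩ := h1.surjOn hy
      exact ⟨a * a', by rw [pow_succ]; exact Submodule.mul_mem_mul ha ha', map_mul _ _ _⟩
    | add x _ y _ hx hy =>
      obtain ⟨a, ha, rfl⟩ := hx
      obtain ⟨a', ha', rfl⟩ := hy
      exact ⟨a + a', Submodule.add_mem _ ha ha', map_add _ _ _⟩

include hφ in
theorem mem_of_map_mem {k : ℕ} {a : A} (h : φ a ∈ ℬ k) : a ∈ 𝒜 k := by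
  have h2 : φ ((decompose 𝒜 a k : 𝒜 k) : A) = φ a := by
    rw [GradedRingHom.map_directSumDecompose _ _ φ, decompose_of_mem_same ℬ h]
  rw [← hφ h2]
  exact SetLike.coe_mem _

theorem mem_span_pow {n : ℕ} {a : A} (ha : a ∈ 𝒜 1 ^ n) :
    a ∈ (Ideal.span (𝒜 1 : Set A)) ^ n := by
  induction n generalizing a with
  | zero => rw [pow_zero, Ideal.one_eq_top]; exact Submodule.mem_top
  | succ n ih =>
    rw [pow_succ] at ha ⊢
    induction ha using Submodule.mul_induction_on' with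
    | mem_mul_mem x hx y hy => exact Ideal.mul_mem_mul (ih hx) (Ideal.subset_span hy)
    | add x _ y _ hx hy => exact Ideal.add_mem _ hx hy

include hφ h0 h1 in
/-- the ideal generated by `𝒜 1` is finitely generated when `B` is of finite type over `ℬ 0`. -/
theorem fg_span_degOne (G : Finset B) (hG : Algebra.adjoin (ℬ 0) (G : Set B) = ⊤) :
    (Ideal.span (𝒜 1 : Set A)).FG := by
  classical
  obtain ⟨F, hF1, hFle⟩ := exists_finset_degOne ℬ G hG
  have hex : ∀ f : B, ∃ a : A, f ∈ ℬ 1 → (a ∈ 𝒜 1 ∧ φ a = f) := by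
    intro f
    by_cases hf : f ∈ ℬ 1
    · obtain ⟨a, ha, hfa⟩ := h1.surjOn hf
      exact ⟨a, fun _ => ⟨ha, hfa⟩⟩
    · exact ⟨0, fun h => absurd h hf⟩
  choose lift hlift using hex
  let S : Set A := lift '' (F : Set B)
  have hSfin : S.Finite := (Finset.finite_toSet F).image lift
  have hS1 : S ⊆ (𝒜 1 : Set A) := by
    rintro _ ⟨f, hf, rfl⟩
    exact (hlift f (hF1 f hf)).1
  -- elements of `ℬ 0 * span F` come from the ideal generated by `S`
  have key : ∀ s ∈ Submodule.span R (F : Set B), ∀ c ∈ ℬ 0,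
      ∃ a ∈ Ideal.span S, φ a = c * s := by
    intro s hs
    induction hs using Submodule.span_induction with
    | mem f hf =>
      intro c hc
      obtain ⟨a₀, -, rfl⟩ := h0.surjOn hc
      refine ⟨a₀ * lift f, Ideal.mul_mem_left _ _ (Ideal.subset_span ⟨f, hf, rfl⟩), ?_⟩
      rw [map_mul, (hlift f (hF1 f hf)).2]
    | zero =>
      intro c _
      exact ⟨0, Ideal.zero_mem _, by rw [map_zero, mul_zero]⟩
    | add x y _ _ hx hy =>
      intro c hc
      obtain ⟨a, ha, e⟩ := hx c hc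
      obtain ⟨a', ha', e'⟩ := hy c hc
      exact ⟨a + a', Ideal.add_mem _ ha ha', by rw [map_add, e, e', mul_add]⟩
    | smul r x _ hx =>
      intro c hc
      obtain ⟨a, ha, e⟩ := hx (r • c) (Submodule.smul_mem _ r hc)
      exact ⟨a, ha, by rw [e, smul_mul_assoc, mul_smul_comm]⟩
  have hle : Ideal.span (𝒜 1 : Set A) ≤ Ideal.span S := by
    refine Ideal.span_le.mpr (fun a ha => ?_)
    have h2 : φ a ∈ ℬ 0 * Submodule.span R (F : Set B) := hFle (GradedFunLike.map_mem φ ha)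
    have h3 : ∀ y ∈ ℬ 0 * Submodule.span R (F : Set B), ∃ a' ∈ Ideal.span S, φ a' = y := by
      intro y hy
      induction hy using Submodule.mul_induction_on' with
      | mem_mul_mem c hc s hs => exact key s hs c hc
      | add x _ y _ hx hy =>
        obtain ⟨a₁, ha₁, e₁⟩ := hx
        obtain ⟨a₂, ha₂, e₂⟩ := hy
        exact ⟨a₁ + a₂, Ideal.add_mem _ ha₁ ha₂, by rw [map_add, e₁, e₂]⟩
    obtain ⟨a', ha', e⟩ := h3 _ h2
    rw [← hφ e]
    exact ha'
  have heq : Ideal.span (𝒜 1 : Set A) = Ideal.span S :=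
    le_antisymm hle (Ideal.span_mono hS1)
  rw [heq]
  exact Submodule.fg_span hSfin

end main

section conductor

variable {R A B : Type u} [CommRing R] [CommRing A] [Algebra R A] {𝒜 : ℕ → Submodule R A}
  [GradedAlgebra 𝒜] [CommRing B] [Algebra R B] {ℬ : ℕ → Submodule R B} [GradedAlgebra ℬ]
  (φ : 𝒜 →+*ᵍ ℬ)

/-- the conductor of `g` : the elements `a` with `φ a * g` in the image of `φ`. -/
def cond (g : B) : Ideal A where
  carrier := {a | ∃ a', φ a' = φ a * g}
  add_mem' := by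
    rintro a b ⟨a', ha⟩ ⟨b', hb⟩
    exact ⟨a' + b', by rw [map_add, map_add, ha, hb, add_mul]⟩
  zero_mem' := ⟨0, by rw [map_zero, zero_mul]⟩
  smul_mem' := by
    rintro c a ⟨a', ha⟩
    exact ⟨c * a', by rw [smul_eq_mul, map_mul, map_mul, ha, mul_assoc]⟩

theorem mem_cond {g : B} {a : A} : a ∈ cond φ g ↔ ∃ a', φ a' = φ a * g := Iff.rfl

/-- if `𝒜_(f) → ℬ_(φ f)` is surjective, a power of `f` lies in the conductor of any homogeneous
element. -/
theorem exists_pow_mem_cond {f : A} (hf : f ∈ 𝒜 1)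
    (hsurj : Function.Surjective (HomogeneousLocalization.Away.map φ f)) {m : ℕ} {g : B}
    (hg : g ∈ ℬ m) : ∃ k, f ^ k ∈ cond φ g := by
  have hg' : g ∈ ℬ (m • 1) := by rwa [smul_eq_mul, mul_one]
  obtain ⟨y, hy⟩ := hsurj (HomogeneousLocalization.Away.mk ℬ (GradedFunLike.map_mem φ hf) m g hg')
  obtain ⟨n, a, ha, rfl⟩ := HomogeneousLocalization.Away.mk_surjective 𝒜 hf y
  rw [HomogeneousLocalization.Away.map_mk] at hy
  have hv := congrArg HomogeneousLocalization.val hy
  rw [HomogeneousLocalization.Away.val_mk, HomogeneousLocalization.Away.val_mk,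
    Localization.mk_eq_mk_iff, Localization.r_iff_exists] at hv
  obtain ⟨⟨c, N, rfl⟩, hc⟩ := hv
  refine ⟨N + n, f ^ N * f ^ m * a, ?_⟩
  simp only at hc
  rw [map_mul, map_mul, map_pow, map_pow, map_pow, pow_add, mul_assoc, mul_assoc]
  exact hc

end conductor

section Pmul

variable {R B : Type u} [CommRing R] [CommRing B] [Algebra R B] (ℬ : ℕ → Submodule R B)
  [GradedAlgebra ℬ]

/-- multiplication by `g` maps `ℬ 1 ^ M` into `ℬ 1 ^ (M + m)`. -/
def Pmul (M m : ℕ) (g : B) : Prop := ∀ x ∈ ℬ 1 ^ M, x * g ∈ ℬ 1 ^ (M + m)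

variable {ℬ}

omit [GradedAlgebra ℬ] in
theorem Pmul.mono {M M' m : ℕ} {g : B} (h : Pmul ℬ M m g) (hM : M ≤ M') : Pmul ℬ M' m g := by
  obtain ⟨t, rfl⟩ := Nat.exists_eq_add_of_le hM
  intro x hx
  rw [add_comm M t, pow_add] at hx
  have e : M + t + m = t + (M + m) := by omega
  rw [e, pow_add]
  induction hx using Submodule.mul_induction_on' with
  | mem_mul_mem u hu v hv =>
    rw [mul_assoc]
    exact Submodule.mul_mem_mul hu (h v hv)
  | add u _ v _ hu hv =>
    rw [add_mul]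
    exact Submodule.add_mem _ hu hv

omit [GradedAlgebra ℬ] in
theorem Pmul_zero (M m : ℕ) : Pmul ℬ M m 0 := fun x _ => by
  rw [mul_zero]; exact Submodule.zero_mem _

variable (ℬ)

/-- the family of submodules used to propagate `Pmul` from generators to everything. -/
def Wmul (M n : ℕ) : Submodule R B where
  carrier := {b | b ∈ ℬ n ∧ Pmul ℬ M n b}
  add_mem' := by
    rintro a b ⟨ha, ha'⟩ ⟨hb, hb'⟩
    exact ⟨Submodule.add_mem _ ha hb, fun x hx => by
      rw [mul_add]; exact Submodule.add_mem _ (ha' x hx) (hb' x hx)⟩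
  zero_mem' := ⟨Submodule.zero_mem _, Pmul_zero M n⟩
  smul_mem' := by
    rintro c a ⟨ha, ha'⟩
    exact ⟨Submodule.smul_mem _ c ha, fun x hx => by
      rw [mul_smul_comm]; exact Submodule.smul_mem _ c (ha' x hx)⟩

/-- `ℬ 1 ^ M * ℬ n ≤ ℬ 1 ^ (M + n)` as soon as this holds for the homogeneous components of a set
of generators. -/
theorem pow_mul_le {M : ℕ} (hM : 1 ≤ M) (G : Set B) (hG : Algebra.adjoin (ℬ 0) G = ⊤)
    (h : ∀ g ∈ G, ∀ m, Pmul ℬ M m ((decompose ℬ g m : ℬ m) : B)) (n : ℕ) :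
    ℬ 1 ^ M * ℬ n ≤ ℬ 1 ^ (M + n) := by
  have key := le_of_family ℬ G hG (Wmul ℬ M) (fun n b hb => hb.1) ?_ ?_ ?_ n
  · exact Submodule.mul_le.mpr (fun x hx b hb => (key hb).2 x hx)
  · intro b hb
    refine ⟨hb, fun x hx => ?_⟩
    exact pow_mul_zero_le ℬ hM (Submodule.mul_mem_mul hx hb)
  · intro i j
    refine Submodule.mul_le.mpr (fun a ha b hb =>
      ⟨SetLike.mul_mem_graded ha.1 hb.1, fun x hx => ?_⟩)
    have h1 : x * a ∈ ℬ 1 ^ (M + i) := ha.2 x hx
    rw [add_comm M i, pow_add] at h1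
    have e : M + (i + j) = i + (M + j) := by omega
    rw [← mul_assoc, e, pow_add]
    generalize x * a = y at h1
    induction h1 using Submodule.mul_induction_on' with
    | mem_mul_mem u hu v hv =>
      rw [mul_assoc]
      exact Submodule.mul_mem_mul hu (hb.2 v hv)
    | add u _ v _ hu hv =>
      rw [add_mul]
      exact Submodule.add_mem _ hu hv
  · intro g hg m
    exact ⟨SetLike.coe_mem _, h g hg m⟩

end Pmul

section ceil

theorem ceil_add_le {D : ℕ} (hD : 0 < D) (i j : ℕ) :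
    (i + j + (D - 1)) / D ≤ (i + (D - 1)) / D + (j + (D - 1)) / D := by
  have h1 := Nat.lt_mul_div_succ (i + (D - 1)) hD
  have h2 := Nat.lt_mul_div_succ (j + (D - 1)) hD
  generalize (i + (D - 1)) / D = a at h1 ⊢
  generalize (j + (D - 1)) / D = b at h2 ⊢
  rw [← Nat.lt_succ_iff, Nat.div_lt_iff_lt_mul hD]
  have e : (a + b).succ * D = D * a + D * b + D := by
    rw [Nat.succ_eq_add_one]; ring
  rw [e]
  rw [mul_add, mul_one] at h1 h2
  omega

theorem ceil_le_one {D m : ℕ} (hD : 0 < D) (hm : m ≤ D) : (m + (D - 1)) / D ≤ 1 := by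
  rw [← Nat.lt_succ_iff, Nat.div_lt_iff_lt_mul hD]
  omega

theorem ceil_zero {D : ℕ} (hD : 0 < D) : (0 + (D - 1)) / D = 0 :=
  Nat.div_eq_of_lt (by omega)

end ceil

section degree

variable {R B : Type u} [CommRing R] [CommRing B] [Algebra R B] (ℬ : ℕ → Submodule R B)
  [GradedAlgebra ℬ]

/-- if the positive-degree components of a set of generators lie in an ideal `J` and have degree
at most `D`, then `ℬ n ⊆ J ^ ⌈n / D⌉`. -/
theorem mem_pow_of_degree_bound (G : Set B) (hG : Algebra.adjoin (ℬ 0) G = ⊤) (J : Ideal B)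
    {D : ℕ} (hD : 0 < D)
    (hJ : ∀ g ∈ G, ∀ m, 0 < m → ((decompose ℬ g m : ℬ m) : B) ∈ J)
    (hDeg : ∀ g ∈ G, ∀ m, D < m → ((decompose ℬ g m : ℬ m) : B) = 0) {n : ℕ} {b : B}
    (hb : b ∈ ℬ n) : b ∈ J ^ ((n + (D - 1)) / D) := by
  let W : ℕ → Submodule R B := fun n => ℬ n ⊓ (J ^ ((n + (D - 1)) / D)).restrictScalars R
  have key := le_of_family ℬ G hG W (fun n => inf_le_left) ?_ ?_ ?_ n
  · exact (key hb).2
  · intro b hb
    refine ⟨hb, ?_⟩
    show b ∈ J ^ ((0 + (D - 1)) / D)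
    rw [ceil_zero hD, pow_zero, Ideal.one_eq_top]
    exact Submodule.mem_top
  · intro i j
    refine Submodule.mul_le.mpr (fun a ha b hb => ⟨SetLike.mul_mem_graded ha.1 hb.1, ?_⟩)
    show a * b ∈ J ^ ((i + j + (D - 1)) / D)
    have h1 : a ∈ J ^ ((i + (D - 1)) / D) := ha.2
    have h2 : b ∈ J ^ ((j + (D - 1)) / D) := hb.2
    have h3 := Ideal.mul_mem_mul h1 h2
    rw [← pow_add] at h3
    exact Ideal.pow_le_pow_right (ceil_add_le hD i j) h3
  · intro g hg m
    refine ⟨SetLike.coe_mem _, ?_⟩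
    show ((decompose ℬ g m : ℬ m) : B) ∈ J ^ ((m + (D - 1)) / D)
    rcases Nat.eq_zero_or_pos m with rfl | hm
    · rw [ceil_zero hD, pow_zero, Ideal.one_eq_top]
      exact Submodule.mem_top
    · rcases Nat.lt_or_ge D m with hDm | hDm
      · rw [hDeg g hg m hDm]
        exact Ideal.zero_mem _
      · have h1 : ((decompose ℬ g m : ℬ m) : B) ∈ J ^ 1 := by
          rw [pow_one]; exact hJ g hg m hm
        exact Ideal.pow_le_pow_right (ceil_le_one hD hDm) h1

/-- the ideal with underlying set `N * ⊤`. -/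
def mulTop (N : Submodule R B) : Ideal B where
  carrier := (N * (⊤ : Submodule R B) : Submodule R B)
  add_mem' := fun ha hb => Submodule.add_mem _ ha hb
  zero_mem' := Submodule.zero_mem _
  smul_mem' := by
    intro c v hv
    have hv' : v ∈ N * (⊤ : Submodule R B) := hv
    clear hv
    show c * v ∈ N * (⊤ : Submodule R B)
    induction hv' using Submodule.mul_induction_on' with
    | mem_mul_mem n hn t _ =>
      rw [mul_left_comm]
      exact Submodule.mul_mem_mul hn Submodule.mem_top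
    | add u _ w _ hu hw =>
      rw [mul_add]
      exact Submodule.add_mem _ hu hw

omit [GradedAlgebra ℬ] in
theorem span_pow_le_mulTop (M : ℕ) :
    (Ideal.span (ℬ 1 : Set B)) ^ M ≤ mulTop (ℬ 1 ^ M) := by
  induction M with
  | zero =>
    intro x _
    show x ∈ ℬ 1 ^ 0 * (⊤ : Submodule R B)
    rw [pow_zero, one_mul]
    exact Submodule.mem_top
  | succ M ih =>
    rw [pow_succ, Ideal.mul_le]
    intro r hr s hs
    have hr' : r ∈ ℬ 1 ^ M * (⊤ : Submodule R B) := ih hr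
    have hs' : s ∈ ℬ 1 * (⊤ : Submodule R B) := by
      have hle : Ideal.span (ℬ 1 : Set B) ≤ mulTop (ℬ 1) := Ideal.span_le.mpr (fun v hv => by
        show v ∈ ℬ 1 * (⊤ : Submodule R B)
        rw [← mul_one v]
        exact Submodule.mul_mem_mul hv Submodule.mem_top)
      exact hle hs
    show r * s ∈ ℬ 1 ^ (M + 1) * (⊤ : Submodule R B)
    have h := Submodule.mul_mem_mul hr' hs'
    rw [mul_mul_mul_comm, ← pow_succ] at h
    have hle : ℬ 1 ^ (M + 1) * ((⊤ : Submodule R B) * ⊤) ≤ ℬ 1 ^ (M + 1) * ⊤ :=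
      mul_le_mul' le_rfl le_top
    exact hle h

theorem mul_top_le_iSup {M : ℕ} (hA : ∀ n, ℬ 1 ^ M * ℬ n ≤ ℬ 1 ^ (M + n)) :
    ℬ 1 ^ M * (⊤ : Submodule R B) ≤ ⨆ j, ℬ 1 ^ j := by
  classical
  refine Submodule.mul_le.mpr (fun x hx y _ => ?_)
  rw [← sum_support_decompose ℬ y, Finset.mul_sum]
  refine Submodule.sum_mem _ (fun k _ => ?_)
  exact Submodule.mem_iSup_of_mem (M + k) (hA k (Submodule.mul_mem_mul hx (SetLike.coe_mem _)))

/-- if every relevant homogeneous prime misses `ℬ 1`, homogeneous elements of positive degree lie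
in the radical of the ideal generated by `ℬ 1`. -/
theorem mem_radical_span_degOne
    (F2 : ∀ q : Ideal B, q.IsPrime → q.IsHomogeneous ℬ → Ideal.span (ℬ 1 : Set B) ≤ q →
      (HomogeneousIdeal.irrelevant ℬ).toIdeal ≤ q) {m : ℕ} (hm : 0 < m) {b : B} (hb : b ∈ ℬ m) :
    b ∈ (Ideal.span (ℬ 1 : Set B)).radical := by
  have hhom : (Ideal.span (ℬ 1 : Set B)).IsHomogeneous ℬ :=
    Ideal.homogeneous_span ℬ _ (fun x hx => ⟨1, hx⟩)
  rw [hhom.radical_eq, Ideal.mem_sInf]
  rintro q ⟨hqh, hle, hqp⟩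
  exact F2 q hqp hqh hle (HomogeneousIdeal.mem_irrelevant_of_mem ℬ hm hb)

end degree

section final

variable {R A B : Type u} [CommRing R] [CommRing A] [Algebra R A] (𝒜 : ℕ → Submodule R A)
  [GradedAlgebra 𝒜] [CommRing B] [Algebra R B] (ℬ : ℕ → Submodule R B) [GradedAlgebra ℬ]
  (φ : 𝒜 →+*ᵍ ℬ) (hφ : Function.Injective φ)
  (h0 : Set.BijOn φ (𝒜 0) (ℬ 0)) (h1 : Set.BijOn φ (𝒜 1) (ℬ 1))
  (hgen : ∀ n : ℕ, 1 ≤ n → 𝒜 n = 𝒜 1 ^ n)

include hφ h1 hgen in
theorem exists_Pmul (hfg : (Ideal.span (𝒜 1 : Set A)).FG)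
    (F1 : ∀ f ∈ 𝒜 1, Function.Surjective (HomogeneousLocalization.Away.map φ f))
    {m : ℕ} {g : B} (hg : g ∈ ℬ m) : ∃ M, Pmul ℬ (M + 1) m g := by
  have hrad : Ideal.span (𝒜 1 : Set A) ≤ (cond φ g).radical := by
    refine Ideal.span_le.mpr (fun f hf => ?_)
    exact exists_pow_mem_cond φ hf (F1 f hf) hg
  obtain ⟨M, hM⟩ := Ideal.exists_pow_le_of_le_radical_of_fg hrad hfg
  refine ⟨M, fun x hx => ?_⟩
  obtain ⟨a, ha, rfl⟩ := exists_of_mem_pow 𝒜 ℬ φ h1 (Nat.succ_pos M) hx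
  have ha2 : a ∈ cond φ g :=
    hM (Ideal.pow_le_pow_right (Nat.le_succ M) (mem_span_pow 𝒜 ha))
  obtain ⟨a', ha'⟩ := ha2
  have hdeg : φ a * g ∈ ℬ (M + 1 + m) := SetLike.mul_mem_graded (pow_le ℬ _ hx) hg
  have ha'mem : a' ∈ 𝒜 (M + 1 + m) := mem_of_map_mem 𝒜 ℬ φ hφ (by rw [ha']; exact hdeg)
  rw [hgen _ (by omega)] at ha'mem
  rw [← ha']
  exact map_mem_pow 𝒜 ℬ φ (by omega) ha'mem

include hφ h1 hgen in
theorem exists_uniform_Pmul (hfg : (Ideal.span (𝒜 1 : Set A)).FG)
    (F1 : ∀ f ∈ 𝒜 1, Function.Surjective (HomogeneousLocalization.Away.map φ f))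
    (G : Finset B) :
    ∃ M, 1 ≤ M ∧ ∀ g ∈ G, ∀ m, Pmul ℬ M m ((decompose ℬ g m : ℬ m) : B) := by
  classical
  have hone : ∀ g : B, ∃ M, ∀ m, Pmul ℬ (M + 1) m ((decompose ℬ g m : ℬ m) : B) := by
    intro g
    obtain ⟨M, hM⟩ := exists_uniform (decompose ℬ g).support
      (fun M m => Pmul ℬ (M + 1) m ((decompose ℬ g m : ℬ m) : B))
      (fun m M M' h hP => hP.mono (by omega))
      (fun m _ => exists_Pmul 𝒜 ℬ φ hφ h1 hgen hfg F1 (SetLike.coe_mem _))
    refine ⟨M, fun m => ?_⟩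
    by_cases hm : m ∈ (decompose ℬ g).support
    · exact hM m hm
    · rw [DFinsupp.notMem_support_iff.mp hm, ZeroMemClass.coe_zero]
      exact Pmul_zero _ _
  obtain ⟨M, hM⟩ := exists_uniform G
    (fun M g => ∀ m, Pmul ℬ (M + 1) m ((decompose ℬ g m : ℬ m) : B))
    (fun g M M' h hP m => (hP m).mono (by omega))
    (fun g _ => hone g)
  exact ⟨M + 1, by omega, hM⟩

include hφ h0 h1 hgen in
/-- **main algebraic theorem**: if the maps `𝒜_(f) → ℬ_(φ f)`, `f ∈ 𝒜 1`, are surjective and every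
relevant homogeneous prime of `ℬ` misses `ℬ 1`, then `ℬ n = ℬ 1 ^ n` for `n` large. -/
theorem eventually_eq_pow (G : Finset B) (hG : Algebra.adjoin (ℬ 0) (G : Set B) = ⊤)
    (F1 : ∀ f ∈ 𝒜 1, Function.Surjective (HomogeneousLocalization.Away.map φ f))
    (F2 : ∀ q : Ideal B, q.IsPrime → q.IsHomogeneous ℬ → Ideal.span (ℬ 1 : Set B) ≤ q →
      (HomogeneousIdeal.irrelevant ℬ).toIdeal ≤ q) :
    ∃ n₀ : ℕ, ∀ n : ℕ, n₀ ≤ n → ℬ n = ℬ 1 ^ n := by
  classical
  have hfg := fg_span_degOne 𝒜 ℬ φ hφ h0 h1 G hG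
  obtain ⟨M, hM1, hM⟩ := exists_uniform_Pmul 𝒜 ℬ φ hφ h1 hgen hfg F1 G
  have hA := pow_mul_le ℬ hM1 (G : Set B) hG hM
  let H : Finset B := G.biUnion (fun g =>
    ((decompose ℬ g).support.filter (fun m => 0 < m)).image
      (fun m => ((decompose ℬ g m : ℬ m) : B)))
  let J : Ideal B := Ideal.span (H : Set B)
  have hJfg : J.FG := ⟨H, rfl⟩
  have hJrad : J ≤ (Ideal.span (ℬ 1 : Set B)).radical := by
    refine Ideal.span_le.mpr (fun b hb => ?_)
    obtain ⟨g, hg, hb⟩ := Finset.mem_biUnion.mp (Finset.mem_coe.mp hb)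
    obtain ⟨m, hm, rfl⟩ := Finset.mem_image.mp hb
    exact mem_radical_span_degOne ℬ F2 (Finset.mem_filter.mp hm).2 (SetLike.coe_mem _)
  obtain ⟨E, hE⟩ := Ideal.exists_pow_le_of_le_radical_of_fg hJrad hJfg
  let D : ℕ := 1 + G.sup (fun g => (decompose ℬ g).support.sup id)
  have hD : 0 < D := by omega
  have hJ : ∀ g ∈ (G : Set B), ∀ m, 0 < m → ((decompose ℬ g m : ℬ m) : B) ∈ J := by
    intro g hg m hm
    by_cases hs : m ∈ (decompose ℬ g).support
    · exact Ideal.subset_span (Finset.mem_coe.mpr (Finset.mem_biUnion.mpr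
        ⟨g, hg, Finset.mem_image.mpr ⟨m, Finset.mem_filter.mpr ⟨hs, hm⟩, rfl⟩⟩))
    · rw [DFinsupp.notMem_support_iff.mp hs, ZeroMemClass.coe_zero]
      exact J.zero_mem
  have hDeg : ∀ g ∈ (G : Set B), ∀ m, D < m → ((decompose ℬ g m : ℬ m) : B) = 0 := by
    intro g hg m hm
    by_contra hne
    have hs : m ∈ (decompose ℬ g).support :=
      DFinsupp.mem_support_iff.mpr (fun h => hne (by rw [h, ZeroMemClass.coe_zero]))
    have h1 : m ≤ (decompose ℬ g).support.sup id := Finset.le_sup (f := id) hs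
    have h2 : (decompose ℬ g).support.sup id ≤
        G.sup (fun g => (decompose ℬ g).support.sup id) :=
      Finset.le_sup (f := fun g => (decompose ℬ g).support.sup id) (Finset.mem_coe.mp hg)
    omega
  refine ⟨E * M * D, fun n hn => le_antisymm ?_ (pow_le ℬ n)⟩
  intro b hb
  have h1 : b ∈ J ^ ((n + (D - 1)) / D) :=
    mem_pow_of_degree_bound ℬ (G : Set B) hG J hD hJ hDeg hb
  have h2 : E * M ≤ (n + (D - 1)) / D := by
    rw [Nat.le_div_iff_mul_le hD]; omega
  have h3 : b ∈ (Ideal.span (ℬ 1 : Set B)) ^ M := by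
    have hle : J ^ ((n + (D - 1)) / D) ≤ (Ideal.span (ℬ 1 : Set B)) ^ M :=
      (Ideal.pow_le_pow_right h2).trans (by rw [pow_mul]; exact Ideal.pow_right_mono hE M)
    exact hle h1
  have h4 : b ∈ ℬ 1 ^ M * (⊤ : Submodule R B) := span_pow_le_mulTop ℬ M h3
  have h5 : b ∈ ⨆ j, ℬ 1 ^ j := mul_top_le_iSup ℬ hA h4
  exact mem_of_mem_iSup ℬ (fun j => ℬ 1 ^ j) (pow_le ℬ) hb h5

end final

end Groth.Agent.Lib.Helper42.GenDegOne
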