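import Mathlib.AlgebraicGeometry.Modules.Sheaf
import Mathlib.CategoryTheory.Limits.Types.Limits
import Mathlib.Topology.Sheaves.SheafCondition.UniqueGluing

/-!
# Glueing sheaves of modules given on the members of an open cover (helper42)

Let `P` be a scheme, `I` a preordered index set, `R : I → P.Opens` and `G : Iᵒᵖ ⥤ P.Modules` a
diagram of modules such that `G i` is supported on `R i` (its sections over `W` are those over
`W ⊓ R i`), the transition maps `G i ⟶ G j` (`j ≤ i`) are bijective on sections over the opens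
contained in `R j`, and `R i ⊓ R k` is covered by the `R j`, `j ≤ i`, `j ≤ k`.  Then the
projections `limit G ⟶ G i` are bijective on sections over the opens contained in `R i`: the limit
is the module glued from the `G i`.
-/

set_option autoImplicit false

universe u

namespace Groth.Agent.Lib.Helper42.GlueMod

open CategoryTheory CategoryTheory.Limits AlgebraicGeometry TopologicalSpace Opposite

variable {P : Scheme.{u}}

section sheaf

variable (M : P.Modules)

/-- restriction of sections. -/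
noncomputable def res {W W' : P.Opens} (h : W' ≤ W) : Γ(M, W) →+ Γ(M, W') :=
  (M.presheaf.map (homOfLE h).op).hom

theorem res_res {W W' W'' : P.Opens} (h : W' ≤ W) (h' : W'' ≤ W') (s : Γ(M, W)) :
    res M h' (res M h s) = res M (h'.trans h) s := by
  have e : (homOfLE (h'.trans h)).op = (homOfLE h).op ≫ (homOfLE h').op := Subsingleton.elim _ _
  unfold res
  rw [e, M.presheaf.map_comp]
  rfl

theorem res_refl {W : P.Opens} (s : Γ(M, W)) : res M (le_refl W) s = s := by
  have e : (homOfLE (le_refl W)).op = 𝟙 (op W) := Subsingleton.elim _ _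
  unfold res
  rw [e, M.presheaf.map_id]
  rfl

theorem ext_of_cover {ι : Type*} (A : ι → P.Opens) (V : P.Opens) (hAV : ∀ i, A i ≤ V)
    (hcover : V ≤ iSup A) (s t : Γ(M, V)) (h : ∀ i, res M (hAV i) s = res M (hAV i) t) : s = t :=
  TopCat.Sheaf.eq_of_locally_eq' (⟨M.presheaf, M.isSheaf⟩ : TopCat.Sheaf Ab P) A V
    (fun i => homOfLE (hAV i)) hcover s t h

theorem ext_locally {V : P.Opens} (s t : Γ(M, V))
    (h : ∀ x ∈ V, ∃ (W' : P.Opens) (hW' : W' ≤ V), x ∈ W' ∧ res M hW' s = res M hW' t) :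
    s = t := by
  choose W' hW' hx hs using h
  refine ext_of_cover M (fun i : V => W' i.1 i.2) V (fun i => hW' i.1 i.2) ?_ s t
    (fun i => hs i.1 i.2)
  intro x hxV
  exact TopologicalSpace.Opens.mem_iSup.mpr ⟨⟨x, hxV⟩, hx x hxV⟩

theorem exists_gluing {ι : Type*} (A : ι → P.Opens) (V : P.Opens) (hAV : ∀ i, A i ≤ V)
    (hcover : V ≤ iSup A) (sf : ∀ i, Γ(M, A i))
    (hsf : ∀ i j, res M (inf_le_left : A i ⊓ A j ≤ A i) (sf i) =
      res M (inf_le_right : A i ⊓ A j ≤ A j) (sf j)) :
    ∃ s : Γ(M, V), ∀ i, res M (hAV i) s = sf i := by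
  obtain ⟨s, hs, -⟩ := TopCat.Sheaf.existsUnique_gluing'
    (⟨M.presheaf, M.isSheaf⟩ : TopCat.Sheaf Ab P) A V (fun i => homOfLE (hAV i)) hcover sf hsf
  exact ⟨s, hs⟩

end sheaf

variable {I : Type u} [Preorder I] (R : I → P.Opens) (G : Iᵒᵖ ⥤ P.Modules)

/-- the transition maps on sections. -/
noncomputable def tr {i j : I} (h : j ≤ i) (W : P.Opens) :
    Γ(G.obj (op i), W) →+ Γ(G.obj (op j), W) :=
  ((G.map (homOfLE h).op).app W).hom

theorem tr_res {i j : I} (h : j ≤ i) {W W' : P.Opens} (hW : W' ≤ W) (s : Γ(G.obj (op i), W)) :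
    tr G h W' (res _ hW s) = res _ hW (tr G h W s) := by
  have n := (G.map (homOfLE h).op).mapPresheaf.naturality (homOfLE hW).op
  exact congrArg (fun f => f.hom s) n

theorem tr_refl (i : I) (W : P.Opens) (s : Γ(G.obj (op i), W)) : tr G (le_refl i) W s = s := by
  have e : (homOfLE (le_refl i)).op = 𝟙 (op i) := Subsingleton.elim _ _
  unfold tr
  rw [e, G.map_id]
  rfl

theorem tr_trans {i j k : I} (h : j ≤ i) (h' : k ≤ j) (W : P.Opens) (s : Γ(G.obj (op i), W)) :
    tr G h' W (tr G h W s) = tr G (h'.trans h) W s := by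
  have e : (homOfLE (h'.trans h)).op = (homOfLE h).op ≫ (homOfLE h').op := Subsingleton.elim _ _
  unfold tr
  rw [e, G.map_comp]
  rfl

/-- the hypotheses of the glueing theorem. -/
structure Hyp : Prop where
  mono : ∀ {i j : I}, j ≤ i → R j ≤ R i
  supp : ∀ (i : I) (W : P.Opens),
    Function.Bijective (res (G.obj (op i)) (inf_le_left : W ⊓ R i ≤ W))
  iso : ∀ {i j : I} (h : j ≤ i) (W : P.Opens), W ≤ R j → Function.Bijective (tr G h W)
  cover : ∀ (i k : I) (x : P), x ∈ R i → x ∈ R k → ∃ j : I, j ≤ i ∧ j ≤ k ∧ x ∈ R j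

/-- compatible families of sections. -/
def IsFam (W : P.Opens) (s : ∀ k : I, Γ(G.obj (op k), W)) : Prop :=
  ∀ {k k' : I} (h : k' ≤ k), tr G h W (s k) = s k'

variable {R G} (H : Hyp R G)

include H in
/-- a compatible family over an open inside `R i` is determined by its `i`-th member. -/
theorem fam_ext {i : I} {W : P.Opens} (hW : W ≤ R i) {s s' : ∀ k : I, Γ(G.obj (op k), W)}
    (hs : IsFam G W s) (hs' : IsFam G W s') (h : s i = s' i) (k : I) : s k = s' k := by
  apply (H.supp k W).1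
  refine ext_locally _ _ _ (fun x hx => ?_)
  obtain ⟨j, hji, hjk, hxj⟩ := H.cover i k x (hW hx.1) hx.2
  refine ⟨W ⊓ R k ⊓ R j, inf_le_left, ⟨hx, hxj⟩, ?_⟩
  rw [res_res, res_res]
  apply (H.iso hjk (W ⊓ R k ⊓ R j) inf_le_right).1
  rw [tr_res, tr_res, hs hjk, hs' hjk, ← hs hji, ← hs' hji, h]

include H in
/-- every section of `G i` over an open inside `R i` extends to a compatible family. -/
theorem exists_fam {i : I} {W : P.Opens} (hW : W ≤ R i) (t : Γ(G.obj (op i), W)) :
    ∃ s : ∀ k : I, Γ(G.obj (op k), W), IsFam G W s ∧ s i = t := by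
  classical
  -- the characterization of the `k`-th member
  have key : ∀ k : I, ∃ sk : Γ(G.obj (op k), W), ∀ (j : I) (hji : j ≤ i) (hjk : j ≤ k)
      (W' : P.Opens) (hW' : W' ≤ W) (_ : W' ≤ R j),
      tr G hjk W' (res _ hW' sk) = tr G hji W' (res _ hW' t) := by
    intro k
    let J := {j : I // j ≤ i ∧ j ≤ k}
    let A : J → P.Opens := fun j => W ⊓ R k ⊓ R j.1
    have hA : ∀ j : J, A j ≤ W ⊓ R k := fun j => inf_le_left
    have hAW : ∀ j : J, A j ≤ W := fun j => (hA j).trans inf_le_left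
    have hAR : ∀ j : J, A j ≤ R j.1 := fun j => inf_le_right
    have hcov : W ⊓ R k ≤ iSup A := by
      intro x hx
      obtain ⟨j, hji, hjk, hxj⟩ := H.cover i k x (hW hx.1) hx.2
      exact TopologicalSpace.Opens.mem_iSup.mpr ⟨⟨j, hji, hjk⟩, ⟨hx, hxj⟩⟩
    have hσ : ∀ j : J, ∃ σ : Γ(G.obj (op k), A j),
        tr G j.2.2 (A j) σ = tr G j.2.1 (A j) (res _ (hAW j) t) :=
      fun j => (H.iso j.2.2 (A j) (hAR j)).2 _
    choose σ hσ using hσ
    have hcompat : ∀ j j' : J, res _ (inf_le_left : A j ⊓ A j' ≤ A j) (σ j) =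
        res _ (inf_le_right : A j ⊓ A j' ≤ A j') (σ j') := by
      intro j j'
      refine ext_locally _ _ _ (fun x hx => ?_)
      obtain ⟨j'', h1, h2, hxj''⟩ := H.cover j.1 j'.1 x (hAR j hx.1) (hAR j' hx.2)
      refine ⟨A j ⊓ A j' ⊓ R j'', inf_le_left, ⟨hx, hxj''⟩, ?_⟩
      rw [res_res, res_res]
      apply (H.iso (h1.trans j.2.2) (A j ⊓ A j' ⊓ R j'') inf_le_right).1
      have e1 : tr G (h1.trans j.2.2) (A j ⊓ A j' ⊓ R j'')
          (res _ ((inf_le_left : A j ⊓ A j' ⊓ R j'' ≤ A j ⊓ A j').trans inf_le_left) (σ j)) =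
          tr G (h1.trans j.2.1) (A j ⊓ A j' ⊓ R j'')
            (res _ (((inf_le_left : A j ⊓ A j' ⊓ R j'' ≤ A j ⊓ A j').trans inf_le_left).trans
              (hAW j)) t) := by
        rw [← tr_trans G j.2.2 h1, tr_res, hσ j, ← tr_res, res_res, tr_trans]
      have e2 : tr G (h2.trans j'.2.2) (A j ⊓ A j' ⊓ R j'')
          (res _ ((inf_le_left : A j ⊓ A j' ⊓ R j'' ≤ A j ⊓ A j').trans inf_le_right) (σ j')) =
          tr G (h2.trans j'.2.1) (A j ⊓ A j' ⊓ R j'')
            (res _ (((inf_le_left : A j ⊓ A j' ⊓ R j'' ≤ A j ⊓ A j').trans inf_le_right).trans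
              (hAW j')) t) := by
        rw [← tr_trans G j'.2.2 h2, tr_res, hσ j', ← tr_res, res_res, tr_trans]
      exact e1.trans e2.symm
    obtain ⟨u, hu⟩ := exists_gluing _ A (W ⊓ R k) hA hcov σ hcompat
    obtain ⟨sk, hsk⟩ := (H.supp k W).2 u
    refine ⟨sk, fun j hji hjk W' hW' hW'j => ?_⟩
    have hW'A : W' ≤ A ⟨j, hji, hjk⟩ :=
      le_inf (le_inf hW' (hW'j.trans (H.mono hjk))) hW'j
    have e3 : res _ hW' sk = res _ hW'A (σ ⟨j, hji, hjk⟩) := by
      rw [← hu ⟨j, hji, hjk⟩, ← hsk, res_res, res_res]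
    rw [e3, tr_res, hσ ⟨j, hji, hjk⟩, ← tr_res, res_res]
  choose s hs using key
  refine ⟨s, ?_, ?_⟩
  · intro k k' h
    apply (H.supp k' W).1
    refine ext_locally _ _ _ (fun x hx => ?_)
    obtain ⟨j, hji, hjk', hxj⟩ := H.cover i k' x (hW hx.1) hx.2
    refine ⟨W ⊓ R k' ⊓ R j, inf_le_left, ⟨hx, hxj⟩, ?_⟩
    rw [res_res, res_res]
    apply (H.iso hjk' (W ⊓ R k' ⊓ R j) inf_le_right).1
    rw [hs k' j hji hjk' _ _ inf_le_right, ← tr_res, tr_trans,
      hs k j hji (hjk'.trans h) _ _ inf_le_right]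
  · have h1 := hs i i (le_refl i) (le_refl i) W (le_refl W) hW
    rw [tr_refl, tr_refl, res_refl, res_refl] at h1
    exact h1

/-- the type-valued functor of sections over an open. -/
noncomputable abbrev secFunctor (W : P.Opens) : P.Modules ⥤ Type u :=
  Scheme.Modules.toPresheaf P ⋙ (evaluation _ _).obj (op W) ⋙ forget Ab

include H in
/-- **the glueing theorem**: the projections from the limit are bijective on sections over the
opens inside `R i`. -/
theorem bijective_π (i : I) (W : P.Opens) (hW : W ≤ R i) :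
    Function.Bijective ((limit.π G (op i)).app W).hom := by
  have hp1 : PreservesLimitsOfShape Iᵒᵖ ((evaluation (Opens ↥P)ᵒᵖ Ab.{u}).obj (op W)) :=
    evaluation_preservesLimitsOfShape (op W)
  have hp2 : PreservesLimit (G ⋙ Scheme.Modules.toPresheaf P)
      ((evaluation (Opens ↥P)ᵒᵖ Ab.{u}).obj (op W)) := PreservesLimitsOfShape.preservesLimit
  have hp3 : PreservesLimit G (Scheme.Modules.toPresheaf P ⋙
      (evaluation (Opens ↥P)ᵒᵖ Ab.{u}).obj (op W)) := comp_preservesLimit _ _
  have hp4 : PreservesLimit G (secFunctor W) := comp_preservesLimit _ _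
  let E := Types.isLimitEquivSections (isLimitOfPreserves (secFunctor W) (limit.isLimit G))
  have hE : ∀ (x : Γ(limit G, W)) (k : I), (E x).1 (op k) = ((limit.π G (op k)).app W).hom x :=
    fun x k => rfl
  have hfam : ∀ x : Γ(limit G, W),
      IsFam G W (fun k => ((limit.π G (op k)).app W).hom x) := by
    intro x k k' h
    have := (E x).2 (homOfLE h).op
    exact this
  constructor
  · intro x x' hxx'
    apply E.injective
    apply Subtype.ext
    funext k
    exact fam_ext H hW (hfam x) (hfam x') hxx' k.unop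
  · intro t
    obtain ⟨s, hs, hsi⟩ := exists_fam H hW t
    let sec : (G ⋙ secFunctor W).sections := ⟨fun k => s k.unop, by
      intro k k' f
      have h : k'.unop ≤ k.unop := leOfHom f.unop
      have hf : f = (homOfLE h).op := Subsingleton.elim _ _
      rw [hf]
      exact hs h⟩
    refine ⟨E.symm sec, ?_⟩
    have h1 := hE (E.symm sec) i
    rw [E.apply_symm_apply] at h1
    exact h1.symm.trans hsi

end Groth.Agent.Lib.Helper42.GlueMod
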