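import Groth.Agent.Lib.Helper42.AffAlg
import Groth.Prelude.Def_RelProj

/-!
# Graded quasi-coherent algebras from graded data on the affine opens (helper42)

* `comapGr e ℬ`: the grading of a ring `A` obtained from a grading `ℬ` of `B` along a ring
  isomorphism `e : A ≃+* B`, with its `GradedRing` instance.
* `GrData F α`: gradings of the rings `F(U)` of a presheaf of rings on the affine opens, preserved
  by the restriction maps, the structure map landing in degree zero.
* `grAlg H D : RelProj.QCGrAlg S`: the graded quasi-coherent algebra with underlying algebra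
  `AffAlg.alg H` whose degree-`n` part over an affine open `U` corresponds to `D.𝒢 U n` under
  `AffAlg.sec H U hU`.
-/

set_option autoImplicit false
set_option linter.unusedSectionVars false
set_option linter.unusedVariables false

universe u

namespace Groth.Agent.Lib.Helper42.GrAffAlg

open CategoryTheory CategoryTheory.Limits AlgebraicGeometry TopologicalSpace Opposite DirectSum

section transport

variable {A B : Type u} [CommRing A] [CommRing B] (e : A ≃+* B) (ℬ : ℕ → AddSubgroup B)

/-- the grading transported along a ring isomorphism. -/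
def comapGr (n : ℕ) : AddSubgroup A := (ℬ n).comap (e : A →+* B).toAddMonoidHom

theorem mem_comapGr {n : ℕ} {x : A} : x ∈ comapGr e ℬ n ↔ e x ∈ ℬ n := Iff.rfl

variable [GradedRing ℬ]

instance gradedMonoid : SetLike.GradedMonoid (comapGr e ℬ) where
  one_mem := by
    change e 1 ∈ ℬ 0
    rw [map_one]
    exact SetLike.GradedOne.one_mem
  mul_mem := fun i j a b ha hb => by
    change e (a * b) ∈ ℬ (i + j)
    rw [map_mul]
    exact SetLike.mul_mem_graded ha hb

/-- the inverse isomorphism on the graded pieces. -/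
def pieceInv (i : ℕ) : ℬ i →+ comapGr e ℬ i where
  toFun y := ⟨e.symm y, by
    change e (e.symm y) ∈ ℬ i
    rw [e.apply_symm_apply]
    exact y.2⟩
  map_zero' := Subtype.ext (map_zero e.symm)
  map_add' a b := Subtype.ext (map_add e.symm _ _)

theorem coe_pieceInv (i : ℕ) (y : ℬ i) : ((pieceInv e ℬ i y : comapGr e ℬ i) : A) = e.symm y := rfl

/-- the decomposition map of the transported grading. -/
def decomp : A →+ ⨁ i, comapGr e ℬ i :=
  (DirectSum.map (pieceInv e ℬ)).comp
    ((DirectSum.decomposeAddEquiv ℬ).toAddMonoidHom.comp (e : A →+* B).toAddMonoidHom)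

theorem decomp_apply (a : A) :
    decomp e ℬ a = DirectSum.map (pieceInv e ℬ) (DirectSum.decompose ℬ (e a)) := rfl

theorem coe_map_pieceInv (x : ⨁ i, ℬ i) :
    DirectSum.coeAddMonoidHom (comapGr e ℬ) (DirectSum.map (pieceInv e ℬ) x) =
      e.symm (DirectSum.coeAddMonoidHom ℬ x) := by
  have key : (DirectSum.coeAddMonoidHom (comapGr e ℬ)).comp (DirectSum.map (pieceInv e ℬ)) =
      (e.symm : B →+* A).toAddMonoidHom.comp (DirectSum.coeAddMonoidHom ℬ) := by
    refine DirectSum.addHom_ext (fun i y => ?_)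
    rw [AddMonoidHom.comp_apply, AddMonoidHom.comp_apply, DirectSum.map_of,
      DirectSum.coeAddMonoidHom_of, DirectSum.coeAddMonoidHom_of]
    rfl
  exact DFunLike.congr_fun key x

instance decomposition : DirectSum.Decomposition (comapGr e ℬ) :=
  DirectSum.Decomposition.ofAddHom (comapGr e ℬ) (decomp e ℬ)
    (by
      ext a
      rw [AddMonoidHom.comp_apply, decomp_apply, coe_map_pieceInv, AddMonoidHom.id_apply]
      have h : DirectSum.coeAddMonoidHom ℬ (DirectSum.decompose ℬ (e a)) = e a :=
        (DirectSum.decompose ℬ).left_inv (e a)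
      rw [h, e.symm_apply_apply])
    (by
      refine DirectSum.addHom_ext (fun i y => ?_)
      rw [AddMonoidHom.comp_apply, DirectSum.coeAddMonoidHom_of, decomp_apply,
        AddMonoidHom.id_apply]
      have hy : e (y : A) ∈ ℬ i := y.2
      rw [DirectSum.decompose_of_mem ℬ hy, DirectSum.map_of]
      congr 1
      exact Subtype.ext (e.symm_apply_apply _))

instance gradedRing : GradedRing (comapGr e ℬ) :=
  { gradedMonoid e ℬ, decomposition e ℬ with }

end transport

variable {S : Scheme.{u}} {F : S.AffineZariskiSiteᵒᵖ ⥤ CommRingCat.{u}}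
  {α : (Scheme.AffineZariskiSite.toOpensFunctor S).op ⋙ S.presheaf ⟶ F}

variable (F α) in
/-- gradings on the rings `F(U)`, compatible with restrictions and the structure map. -/
structure GrData where
  /-- the graded pieces -/
  𝒢 : ∀ U : S.AffineZariskiSite, ℕ → AddSubgroup (F.obj (op U))
  gr : ∀ U : S.AffineZariskiSite, GradedRing (𝒢 U)
  map_mem : ∀ {U W : S.AffineZariskiSite} (i : W ⟶ U) {d : ℕ} {x : F.obj (op U)},
    x ∈ 𝒢 U d → (F.map i.op).hom x ∈ 𝒢 W d
  str_mem : ∀ (U : S.AffineZariskiSite) (r : Γ(S, U.1)), (α.app (op U)).hom r ∈ 𝒢 U 0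

attribute [instance] GrData.gr

variable (H : α.Coequifibered) (D : GrData F α)

/-- `AffAlg.sec` as a ring isomorphism. -/
noncomputable def secEquiv (U : S.Opens) (hU : IsAffineOpen U) :
    (AffAlg.alg H).presheaf.obj (op U) ≃+* F.obj (op ⟨U, hU⟩) :=
  haveI := AffAlg.isIso_sec H U hU
  (asIso (AffAlg.sec H U hU)).commRingCatIsoToRingEquiv

theorem secEquiv_apply (U : S.Opens) (hU : IsAffineOpen U)
    (x : (AffAlg.alg H).presheaf.obj (op U)) :
    secEquiv H U hU x = (AffAlg.sec H U hU).hom x := rfl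

/-- the graded pieces of `alg H` over an affine open. -/
noncomputable def deg (U : S.Opens) (hU : IsAffineOpen U) (n : ℕ) :
    AddSubgroup ((AffAlg.alg H).presheaf.obj (op U)) :=
  comapGr (secEquiv H U hU) (D.𝒢 ⟨U, hU⟩) n

theorem mem_deg {U : S.Opens} {hU : IsAffineOpen U} {n : ℕ}
    {x : (AffAlg.alg H).presheaf.obj (op U)} :
    x ∈ deg H D U hU n ↔ (AffAlg.sec H U hU).hom x ∈ D.𝒢 ⟨U, hU⟩ n := Iff.rfl

noncomputable instance (U : S.Opens) (hU : IsAffineOpen U) : GradedRing (deg H D U hU) :=
  gradedRing (secEquiv H U hU) (D.𝒢 ⟨U, hU⟩)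

theorem map_mem_site {U W : S.AffineZariskiSite} (i : W ⟶ U) {d : ℕ}
    {x : (AffAlg.alg H).presheaf.obj (op U.1)} (hx : x ∈ deg H D U.1 U.2 d) :
    ((AffAlg.alg H).presheaf.map
      (homOfLE (Scheme.AffineZariskiSite.toOpens_mono i.le)).op).hom x ∈ deg H D W.1 W.2 d := by
  rw [mem_deg] at hx ⊢
  have h := congrArg (fun f => f.hom x) (AffAlg.sec_naturality H i)
  exact h ▸ D.map_mem i hx

theorem map_mem_basic (U : S.Opens) (hU : IsAffineOpen U) (W : S.Opens) (hW : IsAffineOpen W)
    (hWU : W ≤ U) (r : Γ(S, U)) (hr : S.basicOpen r = W) {d : ℕ}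
    {x : (AffAlg.alg H).presheaf.obj (op U)} (hx : x ∈ deg H D U hU d) :
    ((AffAlg.alg H).presheaf.map (homOfLE hWU).op).hom x ∈ deg H D W hW d := by
  subst hr
  let W' : S.AffineZariskiSite := ⟨S.basicOpen r, hW⟩
  let U' : S.AffineZariskiSite := ⟨U, hU⟩
  have hle : W' ≤ U' := ⟨r, rfl⟩
  exact map_mem_site H D (U := U') (W := W') (homOfLE hle) hx

/-- restriction to an open that is basic in the source, as a graded ring homomorphism. -/
noncomputable def resBasic (U : S.Opens) (hU : IsAffineOpen U) (W : S.Opens) (hW : IsAffineOpen W)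
    (hWU : W ≤ U) (r : Γ(S, U)) (hr : S.basicOpen r = W) :
    deg H D U hU →+*ᵍ deg H D W hW :=
  { ((AffAlg.alg H).presheaf.map (homOfLE hWU).op).hom with
    map_mem := fun hx => map_mem_basic H D U hU W hW hWU r hr hx }

theorem resBasic_apply (U : S.Opens) (hU : IsAffineOpen U) (W : S.Opens) (hW : IsAffineOpen W)
    (hWU : W ≤ U) (r : Γ(S, U)) (hr : S.basicOpen r = W)
    (x : (AffAlg.alg H).presheaf.obj (op U)) :
    resBasic H D U hU W hW hWU r hr x =
      ((AffAlg.alg H).presheaf.map (homOfLE hWU).op).hom x := rfl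

/-- sections of `alg H` over an open vanish if they vanish locally. -/
theorem eq_zero_of_locally {V : S.Opens} (z : (AffAlg.alg H).presheaf.obj (op V))
    (h : ∀ s ∈ V, ∃ (W : S.Opens) (hWV : W ≤ V), s ∈ W ∧
      ((AffAlg.alg H).presheaf.map (homOfLE hWV).op).hom z = 0) : z = 0 := by
  choose W hWV hsW hz using h
  refine TopCat.Sheaf.eq_of_locally_eq'
    (⟨(AffAlg.alg H).presheaf, (AffAlg.alg H).isSheaf⟩ : TopCat.Sheaf CommRingCat.{u} S.carrier)
    (fun i : V => W i.1 i.2) V (fun i => homOfLE (hWV i.1 i.2)) ?_ z 0 (fun i => ?_)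
  · intro s hs
    exact TopologicalSpace.Opens.mem_iSup.mpr ⟨⟨s, hs⟩, hsW s hs⟩
  · exact (hz i.1 i.2).trans (map_zero _).symm

theorem map_mem {U V : S.Opens} (hU : IsAffineOpen U) (hV : IsAffineOpen V) (i : V ≤ U) {d : ℕ}
    {x : (AffAlg.alg H).presheaf.obj (op U)} (hx : x ∈ deg H D U hU d) :
    ((AffAlg.alg H).presheaf.map (homOfLE i).op).hom x ∈ deg H D V hV d := by
  classical
  set y := ((AffAlg.alg H).presheaf.map (homOfLE i).op).hom x with hy
  suffices hsuff : ∀ n, n ≠ d → ((DirectSum.decompose (deg H D V hV) y n : deg H D V hV n) :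
      (AffAlg.alg H).presheaf.obj (op V)) = 0 by
    have h1 := DirectSum.sum_support_decompose (deg H D V hV) y
    rw [← h1]
    refine AddSubgroup.sum_mem _ (fun n _ => ?_)
    by_cases hn : n = d
    · subst hn
      exact SetLike.coe_mem _
    · rw [hsuff n hn]
      exact zero_mem _
  intro n hn
  refine eq_zero_of_locally H _ (fun s hs => ?_)
  obtain ⟨r, r', hrr', hsr⟩ := exists_basicOpen_le_affine_inter hU hV s ⟨i hs, hs⟩
  have hW : IsAffineOpen (S.basicOpen r') := hV.basicOpen r'
  refine ⟨S.basicOpen r', S.basicOpen_le r', hrr' ▸ hsr, ?_⟩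
  have hWU : S.basicOpen r' ≤ U := (S.basicOpen_le r').trans i
  have e1 : ((AffAlg.alg H).presheaf.map (homOfLE (S.basicOpen_le r')).op).hom y =
      ((AffAlg.alg H).presheaf.map (homOfLE hWU).op).hom x := by
    rw [hy]
    have hcomp : (homOfLE hWU).op = (homOfLE i).op ≫ (homOfLE (S.basicOpen_le r')).op :=
      Subsingleton.elim _ _
    rw [hcomp, (AffAlg.alg H).presheaf.map_comp]
    rfl
  have e2 := map_mem_basic H D U hU _ hW hWU r hrr' hx
  rw [← e1] at e2
  have e3 : resBasic H D V hV _ hW (S.basicOpen_le r') r' rfl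
      ((DirectSum.decompose (deg H D V hV) y n : deg H D V hV n) :
        (AffAlg.alg H).presheaf.obj (op V)) =
      ((DirectSum.decompose (deg H D _ hW)
        (resBasic H D V hV _ hW (S.basicOpen_le r') r' rfl y) n : deg H D _ hW n) :
        (AffAlg.alg H).presheaf.obj (op (S.basicOpen r'))) :=
    GradedRingHom.map_directSumDecompose _ _ _
  rw [resBasic_apply, resBasic_apply] at e3
  rw [e3, DirectSum.decompose_of_mem_ne _ e2 (Ne.symm hn)]

theorem str_mem (U : S.Opens) (hU : IsAffineOpen U) (r : Γ(S, U)) :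
    ((AffAlg.alg H).str.app (op U)).hom r ∈ deg H D U hU 0 := by
  rw [mem_deg]
  have h := congrArg (fun f => f.hom r) (AffAlg.π_app_sec H U hU)
  exact h ▸ D.str_mem ⟨U, hU⟩ r

/-- the graded quasi-coherent algebra attached to graded data on the affine opens. -/
noncomputable def grAlg : RelProj.QCGrAlg S where
  toQCAlg := AffAlg.alg H
  deg := deg H D
  graded U hU := inferInstance
  map_mem hU hV i _ _ hx := map_mem H D hU hV i hx
  str_mem := str_mem H D

theorem grAlg_deg (U : S.Opens) (hU : IsAffineOpen U) : (grAlg H D).deg U hU = deg H D U hU := rfl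

end Groth.Agent.Lib.Helper42.GrAffAlg
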