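import Groth.Prelude.Def_RelProj2
import Groth.Agent.Lib.Helper42.ProjLoc

/-!
# Homogeneous lifts along basic opens, and the structure morphism of `Proj` on points (helper42)

* `GrLift.exists_homogeneous_lift` : a homogeneous section of a quasi-coherent graded algebra over
  a basic open `D(r) ⊆ U` becomes, after multiplication by a power of `r`, the restriction of a
  homogeneous section over `U` of the same degree.
* `GrLift.span_basicOpen` : if the degree-`n` part over `U` lies in the ideal generated by `t`,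
  the same holds over `D(r)` for the restriction of `t`.
* `GrLift.toSpecZero_mem_basicOpen_iff` : the structure morphism `Proj 𝒜 → Spec 𝒜₀ → Spec R` on
  points.
-/

set_option autoImplicit false

universe u

namespace Groth.Agent.Lib.Helper42.GrLift

open CategoryTheory CategoryTheory.Limits AlgebraicGeometry TopologicalSpace Opposite
open HomogeneousLocalization

section lift

variable {S : Scheme.{u}} (𝒮 : RelProj.QCGrAlg S)

theorem isUnit_res_str (U : S.Opens) (hU : IsAffineOpen U) (r : Γ(S, U)) :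
    IsUnit (𝒮.res hU (hU.basicOpen r) (S.basicOpen_le r) ((𝒮.str.app (op U)).hom r)) := by
  let _inst := (𝒮.presheaf.map (homOfLE (S.basicOpen_le r)).op).hom.toAlgebra
  have hloc : IsLocalization.Away ((𝒮.str.app (op U)).hom r)
      (𝒮.presheaf.obj (op (S.basicOpen r))) := 𝒮.isQC U hU r
  exact IsLocalization.map_units (M := Submonoid.powers ((𝒮.str.app (op U)).hom r))
    (𝒮.presheaf.obj (op (S.basicOpen r))) ⟨_, 1, pow_one _⟩

theorem exists_homogeneous_lift (U : S.Opens) (hU : IsAffineOpen U) (r : Γ(S, U)) {n : ℕ}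
    {x : 𝒮.presheaf.obj (op (S.basicOpen r))}
    (hx : x ∈ 𝒮.deg (S.basicOpen r) (hU.basicOpen r) n) :
    ∃ (k : ℕ) (x₀ : 𝒮.presheaf.obj (op U)), x₀ ∈ 𝒮.deg U hU n ∧
      𝒮.res hU (hU.basicOpen r) (S.basicOpen_le r) x₀ =
        x * (𝒮.res hU (hU.basicOpen r) (S.basicOpen_le r) ((𝒮.str.app (op U)).hom r)) ^ k := by
  classical
  let ψ := 𝒮.res hU (hU.basicOpen r) (S.basicOpen_le r)
  let _inst := (𝒮.presheaf.map (homOfLE (S.basicOpen_le r)).op).hom.toAlgebra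
  let c := (𝒮.str.app (op U)).hom r
  have hloc : IsLocalization.Away c (𝒮.presheaf.obj (op (S.basicOpen r))) := 𝒮.isQC U hU r
  obtain ⟨⟨x₁, s, hs⟩, hxs⟩ := IsLocalization.surj (Submonoid.powers c) x
  obtain ⟨k, rfl⟩ := (Submonoid.mem_powers_iff _ _).mp hs
  change x * ψ (c ^ k) = ψ x₁ at hxs
  have hc0 : ψ (c ^ k) ∈ 𝒮.deg (S.basicOpen r) (hU.basicOpen r) 0 := by
    rw [map_pow]
    exact SetLike.pow_mem_graded _ (ψ.map_mem (𝒮.str_mem U hU r))
  have hbi : x * ψ (c ^ k) ∈ 𝒮.deg (S.basicOpen r) (hU.basicOpen r) n := by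
    simpa only [add_zero] using
      SetLike.mul_mem_graded (A := 𝒮.deg (S.basicOpen r) (hU.basicOpen r)) hx hc0
  have hxi : ψ (DirectSum.decompose (𝒮.deg U hU) x₁ n : 𝒮.presheaf.obj (op U)) =
      x * ψ (c ^ k) := by
    rw [GradedRingHom.map_directSumDecompose, ← hxs, DirectSum.decompose_of_mem_same _ hbi]
  refine ⟨k, (DirectSum.decompose (𝒮.deg U hU) x₁ n : 𝒮.presheaf.obj (op U)),
    SetLike.coe_mem _, ?_⟩
  rw [hxi, map_pow]

theorem span_basicOpen (U : S.Opens) (hU : IsAffineOpen U) (r : Γ(S, U)) {n : ℕ}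
    {t : 𝒮.presheaf.obj (op U)}
    (h : ∀ x ∈ 𝒮.deg U hU n, x ∈ Ideal.span ({t} : Set (𝒮.presheaf.obj (op U))))
    (x : 𝒮.presheaf.obj (op (S.basicOpen r)))
    (hx : x ∈ 𝒮.deg (S.basicOpen r) (hU.basicOpen r) n) :
    x ∈ Ideal.span ({𝒮.res hU (hU.basicOpen r) (S.basicOpen_le r) t} :
      Set (𝒮.presheaf.obj (op (S.basicOpen r)))) := by
  obtain ⟨k, x₀, hx₀, hres⟩ := exists_homogeneous_lift 𝒮 U hU r hx
  obtain ⟨m, hm⟩ := Ideal.mem_span_singleton'.mp (h x₀ hx₀)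
  obtain ⟨v, hv⟩ := (isUnit_res_str 𝒮 U hU r).pow k
  have h1 : x = 𝒮.res hU (hU.basicOpen r) (S.basicOpen_le r) x₀ * ↑v⁻¹ := by
    rw [hres, ← hv, mul_assoc, Units.mul_inv, mul_one]
  rw [h1, ← hm, map_mul]
  rw [Ideal.mem_span_singleton']
  exact ⟨𝒮.res hU (hU.basicOpen r) (S.basicOpen_le r) m * ↑v⁻¹, by ring⟩

end lift

section points

variable {A σ : Type u} [CommRing A] [SetLike σ A] [AddSubgroupClass σ A]
  (𝒜 : ℕ → σ) [GradedRing 𝒜]

theorem isLocalizationElem_zero_mul {d : ℕ} {f : A} (hf : f ∈ 𝒜 d) (c : 𝒜 0)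
    (hcf : (c : A) * f ∈ 𝒜 d) :
    Away.isLocalizationElem hf hcf = (fromZeroRingHom 𝒜 (Submonoid.powers f) c) ^ d := by
  apply HomogeneousLocalization.val_injective
  rw [HomogeneousLocalization.val_pow]
  change Localization.mk (((c : A) * f) ^ d) ⟨f ^ d, _⟩ = (Localization.mk (c : A) 1) ^ d
  rw [Localization.mk_pow, Localization.mk_eq_mk_iff, Localization.r_iff_exists]
  refine ⟨1, ?_⟩
  simp only [OneMemClass.coe_one, one_mul, one_pow, mul_pow]
  ring

theorem toSpecZero_mem_basicOpen_iff {R : Type u} [CommRing R] (sA : R →+* 𝒜 0) (r : R)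
    (y : Proj 𝒜) :
    (Proj.toSpecZero 𝒜 ≫ Spec.map (CommRingCat.ofHom sA)).base y ∈ PrimeSpectrum.basicOpen r ↔
      ((sA r : 𝒜 0) : A) ∉ y.asHomogeneousIdeal := by
  obtain ⟨⟨d, f, hd, hf⟩, w, rfl⟩ := ProjLoc.awayι_covers y
  have hcf : ((sA r : 𝒜 0) : A) * f ∈ 𝒜 d := by
    have := SetLike.mul_mem_graded (sA r).2 hf
    rwa [zero_add] at this
  have hyf : (Proj.awayι 𝒜 f hf hd).base w ∈ Proj.basicOpen 𝒜 f :=
    (Proj.opensRange_awayι 𝒜 f hf hd).le ⟨w, rfl⟩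
  have hfy : f ∉ ((Proj.awayι 𝒜 f hf hd).base w).asHomogeneousIdeal :=
    (ProjectiveSpectrum.mem_basicOpen _ _ _).mp hyf
  have h1 : (Proj.awayι 𝒜 f hf hd ≫ Proj.toSpecZero 𝒜 ≫
      Spec.map (CommRingCat.ofHom sA)).base w ∈ PrimeSpectrum.basicOpen r ↔
      fromZeroRingHom 𝒜 (Submonoid.powers f) (sA r) ∉ w.asIdeal := by
    rw [Proj.awayι_toSpecZero_assoc]
    exact Iff.rfl
  have h2 : (Proj.awayι 𝒜 f hf hd).base w ∈ Proj.basicOpen 𝒜 (((sA r : 𝒜 0) : A) * f) ↔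
      w ∈ PrimeSpectrum.basicOpen (Away.isLocalizationElem hf hcf) := by
    have e1 := Proj.awayι_preimage_basicOpen 𝒜 hf hd hcf hd
    have : (Proj.awayι 𝒜 f hf hd).base w ∈ Proj.basicOpen 𝒜 (((sA r : 𝒜 0) : A) * f) ↔
        w ∈ Proj.awayι 𝒜 f hf hd ⁻¹ᵁ Proj.basicOpen 𝒜 (((sA r : 𝒜 0) : A) * f) := Iff.rfl
    exact this.trans (Eq.to_iff (congrArg (fun O => w ∈ O) e1))
  have h3 : w ∈ PrimeSpectrum.basicOpen (Away.isLocalizationElem hf hcf) ↔
      fromZeroRingHom 𝒜 (Submonoid.powers f) (sA r) ∉ w.asIdeal := by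
    rw [isLocalizationElem_zero_mul 𝒜 hf (sA r) hcf, PrimeSpectrum.basicOpen_pow _ _ hd]
    exact Iff.rfl
  have h4 : (Proj.awayι 𝒜 f hf hd).base w ∈ Proj.basicOpen 𝒜 (((sA r : 𝒜 0) : A) * f) ↔
      ((sA r : 𝒜 0) : A) ∉ ((Proj.awayι 𝒜 f hf hd).base w).asHomogeneousIdeal := by
    constructor
    · intro h hc
      exact (ProjectiveSpectrum.mem_basicOpen _ _ _).mp h (Ideal.mul_mem_right _ _ hc)
    · intro h
      refine (ProjectiveSpectrum.mem_basicOpen _ _ _).mpr (fun hc => ?_)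
      rcases ((Proj.awayι 𝒜 f hf hd).base w).isPrime.mem_or_mem hc with h5 | h5
      · exact h h5
      · exact hfy h5
  exact h1.trans (h3.symm.trans (h2.symm.trans h4))

end points

end Groth.Agent.Lib.Helper42.GrLift
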