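import Mathlib.RingTheory.GradedAlgebra.Homogeneous.Maps
import Mathlib.RingTheory.IsTensorProduct
import Mathlib.Algebra.Category.Ring.Constructions

/-!
# The irrelevant ideal of a base change is generated by the irrelevant ideal (helper42)

For a pushout square of rings `R' → R`, `R' → B`, `R → A`, `φ : B → A` with `B`, `A` graded by additive
subgroups, `R → A` landing in degree zero and `φ` graded: `A₊ ≤ φ(B₊) A` (so `Proj.map φ` is everywhere
defined).

ns `Groth.Agent.Lib.Helper42.AwayBC`.
-/

set_option autoImplicit false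

universe u

open CategoryTheory CategoryTheory.Limits

namespace Groth.Agent.Lib.Helper42.AwayBC

variable {R' R B A : Type u} [CommRing R'] [CommRing R] [CommRing B] [CommRing A]
  {σ : Type*} [SetLike σ B] [AddSubgroupClass σ B] (ℬ : ℕ → σ) [GradedRing ℬ]
  {τ : Type*} [SetLike τ A] [AddSubgroupClass τ A] (𝒜 : ℕ → τ) [GradedRing 𝒜]
  (ρ : R' →+* R) (ιB : R' →+* B) (ιA : R →+* A) (hιA : ∀ r, ιA r ∈ 𝒜 0)
  (φ : ℬ →+*ᵍ 𝒜)
  (hpo : IsPushout (CommRingCat.ofHom ρ) (CommRingCat.ofHom ιB) (CommRingCat.ofHom ιA)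
    (CommRingCat.ofHom φ.toRingHom))

include hιA hpo in
/-- homogeneous components of positive degree of any element of the base change lie in the ideal
generated by the image of the irrelevant ideal. -/
theorem decompose_mem_map (a : A) (i : ℕ) (hi : 0 < i) :
    ((DirectSum.decompose 𝒜 a i : 𝒜 i) : A) ∈
      Ideal.map φ (HomogeneousIdeal.irrelevant ℬ).toIdeal := by
  let _ : Algebra R' R := ρ.toAlgebra
  let _ : Algebra R' B := ιB.toAlgebra
  let _ : Algebra R A := ιA.toAlgebra
  let _ : Algebra B A := φ.toRingHom.toAlgebra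
  let _ : Algebra R' A := (φ.toRingHom.comp ιB).toAlgebra
  have _ : IsScalarTower R' B A := IsScalarTower.of_algebraMap_eq (fun r => rfl)
  have hw : ∀ r, ιA (ρ r) = φ (ιB r) := fun r => congrArg (fun f => f.hom r) hpo.w
  have _ : IsScalarTower R' R A := IsScalarTower.of_algebraMap_eq (fun r => (hw r).symm)
  have hpo' : Algebra.IsPushout R' R B A := CommRingCat.isPushout_iff_isPushout.mp hpo
  have hbc : IsBaseChange R (IsScalarTower.toAlgHom R' B A).toLinearMap := hpo'.out
  induction a using hbc.inductionOn with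
  | zero =>
    rw [DirectSum.decompose_zero, DirectSum.zero_apply, ZeroMemClass.coe_zero]
    exact Ideal.zero_mem _
  | tmul b =>
    show ((DirectSum.decompose 𝒜 (φ b) i : 𝒜 i) : A) ∈ _
    rw [← GradedRingHom.map_directSumDecompose _ _ φ]
    exact Ideal.mem_map_of_mem _
      (HomogeneousIdeal.mem_irrelevant_of_mem _ hi (SetLike.coe_mem _))
  | smul r n hn =>
    have h1 : r • n = ιA r * n := Algebra.smul_def r n
    rw [h1, DirectSum.coe_decompose_mul_of_left_mem_zero 𝒜 (hιA r)]
    exact Ideal.mul_mem_left _ _ hn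
  | add n₁ n₂ h₁ h₂ =>
    rw [DirectSum.decompose_add, DirectSum.add_apply, AddMemClass.coe_add]
    exact Ideal.add_mem _ h₁ h₂

include hιA hpo in
/-- the irrelevant ideal of a base change is generated by the image of the irrelevant ideal. -/
theorem irrelevant_le_map :
    HomogeneousIdeal.irrelevant 𝒜 ≤ (HomogeneousIdeal.irrelevant ℬ).map φ := by
  rw [HomogeneousIdeal.irrelevant_le]
  intro i hi a ha
  change a ∈ Ideal.map φ (HomogeneousIdeal.irrelevant ℬ).toIdeal
  have h := decompose_mem_map ℬ 𝒜 ρ ιB ιA hιA φ hpo a i hi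
  rwa [DirectSum.decompose_of_mem_same 𝒜 ha] at h

end Groth.Agent.Lib.Helper42.AwayBC
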