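import Mathlib.AlgebraicGeometry.Gluing
import Mathlib.AlgebraicGeometry.AffineScheme
import Mathlib.AlgebraicGeometry.Restrict

/-!
# Glueing morphisms along an open cover that is refined pointwise on overlaps (helper42)

Let `f i : X i ⟶ T` be a jointly surjective family of open immersions and `φ i : X i ⟶ Z` a family
of morphisms.  Suppose that every point of an overlap `f i (X i) ∩ f j (X j)` lies in a member
`f k (X k)` which maps into both `X i` and `X j` (compatibly with the `f`'s) and on which `φ i` and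
`φ j` agree.  Then the `φ i` glue to a unique morphism `T ⟶ Z`.
-/

set_option autoImplicit false

universe v u

namespace Groth.Agent.Lib.Helper42.LocalGlue

open CategoryTheory CategoryTheory.Limits AlgebraicGeometry TopologicalSpace Opposite

/-- two morphisms agreeing on the members of a jointly surjective family of open immersions are
equal. -/
theorem hom_ext_of_family {T Z : Scheme.{u}} {J : Type v} (X : J → Scheme.{u})
    (f : ∀ j, X j ⟶ T) [∀ j, IsOpenImmersion (f j)]
    (hcov : ∀ t : T, ∃ j, t ∈ Set.range (f j).base)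
    {g g' : T ⟶ Z} (h : ∀ j, f j ≫ g = f j ≫ g') : g = g' := by
  refine Scheme.hom_ext_of_forall _ _ (fun t => ?_)
  obtain ⟨j, hj⟩ := hcov t
  refine ⟨(f j).opensRange, hj, ?_⟩
  have e : (f j).opensRange.ι = (f j).isoOpensRange.inv ≫ f j := by
    rw [Iso.eq_inv_comp]; exact Scheme.Hom.isoOpensRange_hom_ι (f j)
  rw [e, Category.assoc, Category.assoc, h j]

/-- glueing along a family of open immersions refined pointwise on overlaps. -/
theorem existsUnique_glue {T Z : Scheme.{u}} {J : Type v} (X : J → Scheme.{u})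
    (f : ∀ j, X j ⟶ T) [∀ j, IsOpenImmersion (f j)]
    (hcov : ∀ t : T, ∃ j, t ∈ Set.range (f j).base)
    (φ : ∀ j, X j ⟶ Z)
    (H : ∀ (i j : J) (t : T), t ∈ Set.range (f i).base → t ∈ Set.range (f j).base →
      ∃ (k : J) (ti : X k ⟶ X i) (tj : X k ⟶ X j),
        t ∈ Set.range (f k).base ∧ ti ≫ f i = f k ∧ tj ≫ f j = f k ∧ ti ≫ φ i = tj ≫ φ j) :
    ∃! g : T ⟶ Z, ∀ j, f j ≫ g = φ j := by
  let 𝒰 : T.OpenCover := Scheme.Cover.mkOfCovers J X f (fun t => by
    obtain ⟨j, y, hy⟩ := hcov t
    exact ⟨j, y, hy⟩)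
  have key : ∀ i j : J, pullback.fst (f i) (f j) ≫ φ i = pullback.snd (f i) (f j) ≫ φ j := by
    intro i j
    refine Scheme.hom_ext_of_forall _ _ (fun z => ?_)
    have hz1 : (pullback.fst (f i) (f j) ≫ f i) z ∈ Set.range (f i).base :=
      ⟨pullback.fst (f i) (f j) z, rfl⟩
    have hz2 : (pullback.fst (f i) (f j) ≫ f i) z ∈ Set.range (f j).base := by
      rw [pullback.condition]
      exact ⟨pullback.snd (f i) (f j) z, rfl⟩
    obtain ⟨k, ti, tj, ⟨y, hy⟩, hti, htj, hφ⟩ := H i j _ hz1 hz2
    let l : X k ⟶ pullback (f i) (f j) := pullback.lift ti tj (by rw [hti, htj])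
    have hl1 : l ≫ pullback.fst (f i) (f j) = ti := pullback.lift_fst _ _ _
    have hl2 : l ≫ pullback.snd (f i) (f j) = tj := pullback.lift_snd _ _ _
    have hlo : l ≫ (pullback.fst (f i) (f j) ≫ f i) = f k := by
      rw [← Category.assoc, hl1, hti]
    have : IsOpenImmersion (l ≫ (pullback.fst (f i) (f j) ≫ f i)) := by
      rw [hlo]; infer_instance
    have : IsOpenImmersion l := IsOpenImmersion.of_comp l (pullback.fst (f i) (f j) ≫ f i)
    have hzl : z ∈ Set.range l.base := by
      refine ⟨y, ?_⟩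
      apply (pullback.fst (f i) (f j) ≫ f i).isOpenEmbedding.injective
      rw [← Scheme.Hom.comp_apply, hlo]
      exact hy
    refine ⟨l.opensRange, hzl, ?_⟩
    have e : l.opensRange.ι = l.isoOpensRange.inv ≫ l := by
      rw [Iso.eq_inv_comp]; exact Scheme.Hom.isoOpensRange_hom_ι l
    rw [e, Category.assoc, Category.assoc, ← Category.assoc l, ← Category.assoc l, hl1, hl2, hφ]
  refine ⟨𝒰.glueMorphisms φ key, fun j => 𝒰.ι_glueMorphisms φ key j, fun g' hg' => ?_⟩
  refine hom_ext_of_family X f hcov (fun j => ?_)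
  rw [hg' j]
  exact (𝒰.ι_glueMorphisms φ key j).symm

end Groth.Agent.Lib.Helper42.LocalGlue
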