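import Groth.Agent.Lib.Helper42.LocalGlue
import Mathlib.AlgebraicGeometry.PullbackCarrier

/-!
# A commutative square of schemes that is a pullback locally on the base is a pullback (helper42)
-/

set_option autoImplicit false

universe v u

namespace Groth.Agent.Lib.Helper42.LocalGlue

open CategoryTheory CategoryTheory.Limits AlgebraicGeometry TopologicalSpace Opposite

theorem pullback_fst_covers {S : Scheme.{u}} {J : Type v} {S' : J → Scheme.{u}}
    (ιS : ∀ j, S' j ⟶ S) (hcov : ∀ s : S, ∃ j, s ∈ Set.range (ιS j).base)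
    {T : Scheme.{u}} (t : T ⟶ S) (x : T) :
    ∃ j, x ∈ Set.range (pullback.fst t (ιS j)).base := by
  obtain ⟨j, hj⟩ := hcov (t.base x)
  refine ⟨j, ?_⟩
  rw [Scheme.Pullback.range_fst]
  exact hj

section

variable {P X Y S : Scheme.{u}} (fst : P ⟶ X) (snd : P ⟶ Y) (f : X ⟶ S) (g : Y ⟶ S)
  {J : Type v} {S' X' Y' P' : J → Scheme.{u}}
  (ιS : ∀ j, S' j ⟶ S) (ιX : ∀ j, X' j ⟶ X) (ιY : ∀ j, Y' j ⟶ Y) (ιP : ∀ j, P' j ⟶ P)
  [∀ j, IsOpenImmersion (ιS j)] [∀ j, IsOpenImmersion (ιX j)] [∀ j, IsOpenImmersion (ιY j)]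
  (hcov : ∀ s : S, ∃ j, s ∈ Set.range (ιS j).base)
  (f' : ∀ j, X' j ⟶ S' j) (g' : ∀ j, Y' j ⟶ S' j) (fst' : ∀ j, P' j ⟶ X' j)
  (snd' : ∀ j, P' j ⟶ Y' j)
  (hX : ∀ j, IsPullback (ιX j) (f' j) f (ιS j))
  (hY : ∀ j, IsPullback (ιY j) (g' j) g (ιS j))
  (hP : ∀ j, IsPullback (ιP j) (fst' j ≫ f' j) (fst ≫ f) (ιS j))
  (hfst : ∀ j, ιP j ≫ fst = fst' j ≫ ιX j) (hsnd : ∀ j, ιP j ≫ snd = snd' j ≫ ιY j)
  (hloc : ∀ j, IsPullback (fst' j) (snd' j) (f' j) (g' j))

include hcov hP hfst hsnd hloc in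
theorem hom_ext_of_local {T : Scheme.{u}} (c c' : T ⟶ P) (h1 : c ≫ fst = c' ≫ fst)
    (h2 : c ≫ snd = c' ≫ snd) : c = c' := by
  refine hom_ext_of_family (fun j => pullback (c ≫ fst ≫ f) (ιS j))
    (fun j => pullback.fst (c ≫ fst ≫ f) (ιS j)) (pullback_fst_covers ιS hcov _) (fun j => ?_)
  have e1 : (pullback.fst (c ≫ fst ≫ f) (ιS j) ≫ c) ≫ fst ≫ f =
      pullback.snd (c ≫ fst ≫ f) (ιS j) ≫ ιS j := by
    rw [Category.assoc]
    exact pullback.condition
  have e2 : (pullback.fst (c ≫ fst ≫ f) (ιS j) ≫ c') ≫ fst ≫ f =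
      pullback.snd (c ≫ fst ≫ f) (ιS j) ≫ ιS j := by
    rw [Category.assoc, ← Category.assoc c', ← h1, Category.assoc]
    exact pullback.condition
  obtain ⟨d1, k1⟩ : ∃ d1 : pullback (c ≫ fst ≫ f) (ιS j) ⟶ P' j,
      d1 ≫ ιP j = pullback.fst (c ≫ fst ≫ f) (ιS j) ≫ c := ⟨_, (hP j).lift_fst _ _ e1⟩
  obtain ⟨d2, k2⟩ : ∃ d2 : pullback (c ≫ fst ≫ f) (ιS j) ⟶ P' j,
      d2 ≫ ιP j = pullback.fst (c ≫ fst ≫ f) (ιS j) ≫ c' := ⟨_, (hP j).lift_fst _ _ e2⟩
  clear e1 e2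
  generalize pullback.fst (c ≫ fst ≫ f) (ιS j) = i at k1 k2 ⊢
  generalize pullback (c ≫ fst ≫ f) (ιS j) = T' at i d1 d2 k1 k2 ⊢
  have key : d1 = d2 := by
    refine (hloc j).hom_ext ?_ ?_
    · rw [← cancel_mono (ιX j), Category.assoc, Category.assoc, ← hfst j, ← Category.assoc,
        ← Category.assoc, k1, k2, Category.assoc, Category.assoc, h1]
    · rw [← cancel_mono (ιY j), Category.assoc, Category.assoc, ← hsnd j, ← Category.assoc,
        ← Category.assoc, k1, k2, Category.assoc, Category.assoc, h2]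
  rw [← k1, ← k2, key]

include hcov hX hY hP hfst hsnd hloc in
theorem exists_lift_of_local {T : Scheme.{u}} (a : T ⟶ X) (b : T ⟶ Y) (hab : a ≫ f = b ≫ g) :
    ∃ c : T ⟶ P, c ≫ fst = a ∧ c ≫ snd = b := by
  -- the local lifts
  have loc : ∀ j, ∃ cj : pullback (a ≫ f) (ιS j) ⟶ P,
      cj ≫ fst = pullback.fst (a ≫ f) (ιS j) ≫ a ∧ cj ≫ snd = pullback.fst (a ≫ f) (ιS j) ≫ b := by
    intro j
    have ea : (pullback.fst (a ≫ f) (ιS j) ≫ a) ≫ f = pullback.snd (a ≫ f) (ιS j) ≫ ιS j := by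
      rw [Category.assoc]
      exact pullback.condition
    have eb : (pullback.fst (a ≫ f) (ιS j) ≫ b) ≫ g = pullback.snd (a ≫ f) (ιS j) ≫ ιS j := by
      rw [Category.assoc, ← hab]
      exact pullback.condition
    have ed : (hX j).lift _ _ ea ≫ f' j = (hY j).lift _ _ eb ≫ g' j := by
      rw [(hX j).lift_snd, (hY j).lift_snd]
    refine ⟨(hloc j).lift _ _ ed ≫ ιP j, ?_, ?_⟩
    · rw [Category.assoc, hfst j, ← Category.assoc, (hloc j).lift_fst, (hX j).lift_fst]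
    · rw [Category.assoc, hsnd j, ← Category.assoc, (hloc j).lift_snd, (hY j).lift_fst]
  choose cj hcj1 hcj2 using loc
  let 𝒰 : T.OpenCover := Scheme.Cover.mkOfCovers J (fun j => pullback (a ≫ f) (ιS j))
    (fun j => pullback.fst (a ≫ f) (ιS j)) (fun t => by
      obtain ⟨j, y, hy⟩ := pullback_fst_covers ιS hcov (a ≫ f) t
      exact ⟨j, y, hy⟩)
  have key : ∀ i j : J, pullback.fst (pullback.fst (a ≫ f) (ιS i)) (pullback.fst (a ≫ f) (ιS j)) ≫
      cj i = pullback.snd (pullback.fst (a ≫ f) (ιS i)) (pullback.fst (a ≫ f) (ιS j)) ≫ cj j := by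
    intro i j
    refine hom_ext_of_local fst snd f ιS ιX ιY ιP hcov f' g' fst' snd' hP hfst hsnd hloc _ _ ?_ ?_
    · rw [Category.assoc, Category.assoc, hcj1, hcj1, ← Category.assoc, ← Category.assoc,
        pullback.condition]
    · rw [Category.assoc, Category.assoc, hcj2, hcj2, ← Category.assoc, ← Category.assoc,
        pullback.condition]
  refine ⟨𝒰.glueMorphisms cj key, ?_, ?_⟩
  · refine hom_ext_of_family (fun j => pullback (a ≫ f) (ιS j))
      (fun j => pullback.fst (a ≫ f) (ιS j)) (pullback_fst_covers ιS hcov _) (fun j => ?_)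
    have := 𝒰.ι_glueMorphisms cj key j
    rw [← Category.assoc]
    exact (congrArg (fun m => m ≫ fst) this).trans (hcj1 j)
  · refine hom_ext_of_family (fun j => pullback (a ≫ f) (ιS j))
      (fun j => pullback.fst (a ≫ f) (ιS j)) (pullback_fst_covers ιS hcov _) (fun j => ?_)
    have := 𝒰.ι_glueMorphisms cj key j
    rw [← Category.assoc]
    exact (congrArg (fun m => m ≫ snd) this).trans (hcj2 j)

include hcov hX hY hP hfst hsnd hloc in
/-- a commutative square which is a pullback over the members of an open cover of the base is a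
pullback. -/
theorem isPullback_of_local (w : fst ≫ f = snd ≫ g) : IsPullback fst snd f g := by
  have hex := fun (s : PullbackCone f g) =>
    exists_lift_of_local fst snd f g ιS ιX ιY ιP hcov f' g' fst' snd' hX hY hP hfst hsnd hloc
      s.fst s.snd s.condition
  choose l hl1 hl2 using hex
  refine ⟨⟨w⟩, ⟨PullbackCone.IsLimit.mk w l hl1 hl2 ?_⟩⟩
  intro s m hm1 hm2
  refine hom_ext_of_local fst snd f ιS ιX ιY ιP hcov f' g' fst' snd' hP hfst hsnd hloc _ _ ?_ ?_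
  · rw [hm1, hl1]
  · rw [hm2, hl2]

end

end Groth.Agent.Lib.Helper42.LocalGlue
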