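import Groth.Prelude.Def_RelSpec

/-!
# Morphisms of sheaves of modules from data on the affine opens (helper42)

A family of additive maps `Γ(E, U) → Γ(N, U)` over the affine opens `U` of a scheme, compatible
with restriction to basic opens and linear over the functions, extends uniquely to a morphism of
sheaves of modules `E ⟶ N`.
-/

set_option autoImplicit false

universe u

namespace Groth.Agent.Lib.Helper42.ModAff

open CategoryTheory CategoryTheory.Limits AlgebraicGeometry TopologicalSpace Opposite

variable {S : Scheme.{u}}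

/-- sections of a sheaf of modules are determined by their restrictions to the affine opens. -/
theorem section_ext (N : S.Modules) {W : S.Opens} (s t : Γ(N, W))
    (h : ∀ (U : S.Opens) (_ : IsAffineOpen U) (hUW : U ≤ W),
      N.presheaf.map (homOfLE hUW).op s = N.presheaf.map (homOfLE hUW).op t) : s = t := by
  let ι := {U : S.Opens // IsAffineOpen U ∧ U ≤ W}
  refine TopCat.Sheaf.eq_of_locally_eq' (⟨N.presheaf, N.isSheaf⟩ : TopCat.Sheaf Ab S.carrier)
    (fun i : ι => i.1) W (fun i => homOfLE i.2.2) ?_ s t (fun i => h i.1 i.2.1 i.2.2)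
  intro x hx
  obtain ⟨_, ⟨U, hU, rfl⟩, hxU, hUW⟩ := (S.isBasis_affineOpens).exists_subset_of_mem_open hx W.2
  exact TopologicalSpace.Opens.mem_iSup.mpr ⟨⟨U, hU, hUW⟩, hxU⟩

/-- morphisms of sheaves of modules are determined by their values over the affine opens. -/
theorem hom_ext_affine {E N : S.Modules} {φ₁ φ₂ : E ⟶ N}
    (h : ∀ (U : S.Opens) (_ : IsAffineOpen U) (x : Γ(E, U)), φ₁.app U x = φ₂.app U x) :
    φ₁ = φ₂ := by
  refine Scheme.Modules.hom_ext _ _ (fun W => ?_)
  ext x
  refine section_ext N _ _ (fun U hU hUW => ?_)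
  have n1 := congrArg (fun f => f x) (φ₁.mapPresheaf.naturality (homOfLE hUW).op)
  have n2 := congrArg (fun f => f x) (φ₂.mapPresheaf.naturality (homOfLE hUW).op)
  change N.presheaf.map (homOfLE hUW).op (φ₁.app W x) = N.presheaf.map (homOfLE hUW).op (φ₂.app W x)
  change φ₁.app U (E.presheaf.map (homOfLE hUW).op x) =
    N.presheaf.map (homOfLE hUW).op (φ₁.app W x) at n1
  change φ₂.app U (E.presheaf.map (homOfLE hUW).op x) =
    N.presheaf.map (homOfLE hUW).op (φ₂.app W x) at n2
  rw [← n1, ← n2, h U hU]

/-- a family of additive maps over the affine opens, compatible with restrictions to basic opens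
and linear over the functions. -/
structure AffData (E N : S.Modules) where
  /-- the maps over the affine opens -/
  f : ∀ (U : S.Opens) (_ : IsAffineOpen U), Γ(E, U) →+ Γ(N, U)
  nat : ∀ {U W : S.AffineZariskiSite} (i : W ⟶ U) (x : Γ(E, U.1)),
    N.presheaf.map (homOfLE (Scheme.AffineZariskiSite.toOpens_mono i.le)).op (f U.1 U.2 x) =
      f W.1 W.2 (E.presheaf.map (homOfLE (Scheme.AffineZariskiSite.toOpens_mono i.le)).op x)
  lin : ∀ (U : S.Opens) (hU : IsAffineOpen U) (r : Γ(S, U)) (x : Γ(E, U)),
    f U hU (r • x) = r • f U hU x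

variable {E N : S.Modules} (d : AffData E N)

/-- the family as a natural transformation on the affine opens. -/
noncomputable def AffData.nt :
    (Scheme.AffineZariskiSite.toOpensFunctor S).op ⋙ E.presheaf ⟶
      (Scheme.AffineZariskiSite.toOpensFunctor S).op ⋙ N.presheaf where
  app U := AddCommGrpCat.ofHom (d.f U.unop.1 U.unop.2)
  naturality U W i := by
    ext x
    exact (d.nat i.unop x).symm

/-- the underlying morphism of abelian presheaves. -/
noncomputable def AffData.pre : E.presheaf ⟶ N.presheaf :=
  Functor.IsCoverDense.restrictHomEquivHom (G := Scheme.AffineZariskiSite.toOpensFunctor S)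
    (K := Opens.grothendieckTopology S) (ℱ := E.presheaf)
    (ℱ' := (⟨N.presheaf, N.isSheaf⟩ : TopCat.Sheaf Ab S.carrier)) d.nt

theorem AffData.pre_app (U : S.Opens) (hU : IsAffineOpen U) (x : Γ(E, U)) :
    d.pre.app (op U) x = d.f U hU x := by
  have h := NatTrans.congr_app
    ((Functor.IsCoverDense.restrictHomEquivHom
      (G := Scheme.AffineZariskiSite.toOpensFunctor S)
      (K := Opens.grothendieckTopology S) (ℱ := E.presheaf)
      (ℱ' := (⟨N.presheaf, N.isSheaf⟩ : TopCat.Sheaf Ab S.carrier))).symm_apply_apply d.nt)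
    (op (⟨U, hU⟩ : S.AffineZariskiSite))
  exact congrArg (fun f => f x) h

theorem AffData.pre_lin (W : S.Opens) (r : Γ(S, W)) (x : Γ(E, W)) :
    d.pre.app (op W) (r • x) = r • d.pre.app (op W) x := by
  refine section_ext N _ _ (fun U hU hUW => ?_)
  have n1 := congrArg (fun f => f (r • x)) (d.pre.naturality (homOfLE hUW).op)
  have n2 := congrArg (fun f => f x) (d.pre.naturality (homOfLE hUW).op)
  change d.pre.app (op U) (E.presheaf.map (homOfLE hUW).op (r • x)) =
    N.presheaf.map (homOfLE hUW).op (d.pre.app (op W) (r • x)) at n1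
  change d.pre.app (op U) (E.presheaf.map (homOfLE hUW).op x) =
    N.presheaf.map (homOfLE hUW).op (d.pre.app (op W) x) at n2
  rw [← n1, Scheme.Modules.map_smul, Scheme.Modules.map_smul, ← n2, d.pre_app U hU,
    d.pre_app U hU, d.lin]

/-- the morphism of sheaves of modules with the given values over the affine opens. -/
noncomputable def AffData.hom : E ⟶ N :=
  ⟨PresheafOfModules.homMk d.pre (fun W r x => d.pre_lin W.unop r x)⟩

theorem AffData.hom_app (U : S.Opens) (hU : IsAffineOpen U) (x : Γ(E, U)) :
    d.hom.app U x = d.f U hU x :=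
  d.pre_app U hU x

end Groth.Agent.Lib.Helper42.ModAff
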