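import Mathlib.RingTheory.GradedAlgebra.Homogeneous.Maps
import Mathlib.RingTheory.GradedAlgebra.HomogeneousLocalization
import Mathlib.Algebra.Polynomial.Basic
import Mathlib.RingTheory.Nilpotent.Lemmas
import Mathlib.RingTheory.Nilpotent.Basic

/-!
# The graded ring `S♮ ⊗_S S₀ = ⊕ S_[n] / S₊ S_[n]` and its map to `S` (helper42)

Setting of EGA II 8.7: `S = A` graded by `𝒜`, `S♮ = B` graded by `ℬ` with an injective
`φ : B → A[X]` carrying `ℬ n` onto `S_[n] X^n`, `T = C` graded by `𝒞` with a surjective graded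
`π : B → C` whose kernel is generated by the constants of `S₊`, and `ρ : C → A` graded with
`ρ (π b) = (coefficient of X^n in φ b)_n`.

ns `Groth.Agent.Lib.Helper42.NatTensor`.
-/

set_option autoImplicit false

universe u

open Polynomial DirectSum

namespace Groth.Agent.Lib.Helper42.NatTensor

variable {R A B C : Type u} [CommRing R] [CommRing A] [Algebra R A]
  (𝒜 : ℕ → Submodule R A) [GradedAlgebra 𝒜] [CommRing B] [Algebra R B] (ℬ : ℕ → Submodule R B)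
  [GradedAlgebra ℬ]
  (φ : B →ₐ[R] Polynomial A) (hφ : Function.Injective φ)
  (hdeg : ∀ n : ℕ, Submodule.map φ.toLinearMap (ℬ n) =
    Submodule.map ((Polynomial.monomial n : A →ₗ[A] Polynomial A).restrictScalars R)
      (⨆ (m : ℕ) (_ : n ≤ m), 𝒜 m))
  [CommRing C] [Algebra R C] (𝒞 : ℕ → Submodule R C) [GradedAlgebra 𝒞]
  (π : ℬ →+*ᵍ 𝒞) (hπ : Function.Surjective π)
  (hker : RingHom.ker π.toRingHom =
    Ideal.span (⇑φ ⁻¹' (⇑(Polynomial.C : A →+* Polynomial A) ''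
      ((HomogeneousIdeal.irrelevant 𝒜).toIdeal : Set A))))
  (ρ : 𝒞 →+*ᵍ 𝒜)
  (hρ : ∀ (n : ℕ) (b : B), b ∈ ℬ n → ρ (π b) = GradedRing.proj 𝒜 n ((φ b).coeff n))

/-- `S_[n] = ⊕_{m ≥ n} S_m`. -/
abbrev tail (n : ℕ) : Submodule R A := ⨆ (m : ℕ) (_ : n ≤ m), 𝒜 m

theorem mem_tail_of_mem {n m : ℕ} (h : n ≤ m) {a : A} (ha : a ∈ 𝒜 m) : a ∈ tail 𝒜 n :=
  Submodule.mem_iSup_of_mem m (Submodule.mem_iSup_of_mem h ha)

theorem tail_zero (a : A) : a ∈ tail 𝒜 0 := by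
  classical
  rw [← DirectSum.sum_support_decompose 𝒜 a]
  exact Submodule.sum_mem _ (fun i _ => mem_tail_of_mem 𝒜 (Nat.zero_le i) (SetLike.coe_mem _))

theorem decompose_eq_zero_of_mem_tail {n i : ℕ} (hi : i < n) {a : A} (ha : a ∈ tail 𝒜 n) :
    ((DirectSum.decompose 𝒜 a i : 𝒜 i) : A) = 0 := by
  have h : tail 𝒜 n ≤ LinearMap.ker (GradedAlgebra.proj 𝒜 i) := by
    refine iSup₂_le (fun m hm x hx => ?_)
    rw [LinearMap.mem_ker, GradedAlgebra.proj_apply]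
    exact DirectSum.decompose_of_mem_ne 𝒜 hx (by omega)
  have h2 := h ha
  rwa [LinearMap.mem_ker, GradedAlgebra.proj_apply] at h2

include hdeg in
theorem exists_of_mem_tail {n : ℕ} {a : A} (ha : a ∈ tail 𝒜 n) :
    ∃ b ∈ ℬ n, φ b = Polynomial.monomial n a := by
  have h : Polynomial.monomial n a ∈ Submodule.map φ.toLinearMap (ℬ n) := by
    rw [hdeg n]
    exact ⟨a, ha, rfl⟩
  obtain ⟨b, hb, hba⟩ := h
  exact ⟨b, hb, hba⟩

include hdeg in
theorem exists_tail_of_mem {n : ℕ} {b : B} (hb : b ∈ ℬ n) :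
    ∃ a ∈ tail 𝒜 n, φ b = Polynomial.monomial n a := by
  have h : φ b ∈ Submodule.map ((Polynomial.monomial n : A →ₗ[A] Polynomial A).restrictScalars R)
      (tail 𝒜 n) := by
    rw [← hdeg n]
    exact ⟨b, hb, rfl⟩
  obtain ⟨a, ha, hab⟩ := h
  exact ⟨a, ha, hab.symm⟩

/-- `a X^k` is zero in `T_k`. -/
def K (k : ℕ) (a : A) : Prop := ∃ b ∈ ℬ k, φ b = Polynomial.monomial k a ∧ π b = 0

theorem K_zero (k : ℕ) : K ℬ φ 𝒞 π k 0 := ⟨0, Submodule.zero_mem _, by simp, map_zero _⟩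

theorem K_add {k : ℕ} {a a' : A} (h : K ℬ φ 𝒞 π k a) (h' : K ℬ φ 𝒞 π k a') : K ℬ φ 𝒞 π k (a + a') := by
  obtain ⟨b, hb, e, z⟩ := h
  obtain ⟨b', hb', e', z'⟩ := h'
  refine ⟨b + b', Submodule.add_mem _ hb hb', ?_, ?_⟩
  · rw [map_add, e, e', map_add]
  · rw [map_add, z, z', add_zero]

theorem K_sum {k : ℕ} {ι : Type*} (s : Finset ι) (f : ι → A) (h : ∀ i ∈ s, K ℬ φ 𝒞 π k (f i)) :
    K ℬ φ 𝒞 π k (∑ i ∈ s, f i) :=
  Finset.sum_induction f (K ℬ φ 𝒞 π k) (fun _ _ => K_add ℬ φ 𝒞 π) (K_zero ℬ φ 𝒞 π k) h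

include hdeg hker in
theorem K_mul {k : ℕ} {x y : A} (hx : x ∈ (HomogeneousIdeal.irrelevant 𝒜).toIdeal)
    (hy : y ∈ tail 𝒜 k) : K ℬ φ 𝒞 π k (x * y) := by
  obtain ⟨β₀, hβ₀, e₀⟩ := exists_of_mem_tail 𝒜 ℬ φ hdeg (tail_zero 𝒜 x)
  obtain ⟨β, hβ, e⟩ := exists_of_mem_tail 𝒜 ℬ φ hdeg hy
  have hk : β₀ ∈ RingHom.ker π.toRingHom := by
    rw [hker]
    refine Ideal.subset_span ⟨x, hx, ?_⟩
    rw [e₀]
    exact (Polynomial.monomial_zero_left (a := x)).symm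
  have hz : π β₀ = 0 := hk
  refine ⟨β₀ * β, ?_, ?_, ?_⟩
  · have h := SetLike.mul_mem_graded hβ₀ hβ
    rwa [zero_add] at h
  · rw [map_mul, e₀, e, Polynomial.monomial_mul_monomial, zero_add]
  · rw [map_mul, hz, zero_mul]

include hφ hdeg hker in
/-- the class of `a X^n`, for `a` homogeneous of degree `m > n`, is nilpotent in `T`. -/
theorem pow_eq_zero_of_homogeneous {n m : ℕ} (hnm : n < m) {a : A} (ha : a ∈ 𝒜 m) {b : B}
    (e : φ b = Polynomial.monomial n a) : π b ^ m = 0 := by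
  have hm : 0 < m := by omega
  have hx : a ∈ (HomogeneousIdeal.irrelevant 𝒜).toIdeal :=
    HomogeneousIdeal.mem_irrelevant_of_mem _ hm ha
  have hle : n * m ≤ (m - 1) • m := by
    rw [smul_eq_mul]
    exact Nat.mul_le_mul_right m (by omega)
  have hy : a ^ (m - 1) ∈ tail 𝒜 (n * m) :=
    mem_tail_of_mem 𝒜 hle (SetLike.pow_mem_graded (m - 1) ha)
  obtain ⟨b', -, e', z'⟩ := K_mul 𝒜 ℬ φ hdeg 𝒞 π hker hx hy
  have hbb : b ^ m = b' := by
    apply hφ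
    rw [map_pow, e, Polynomial.monomial_pow, e', ← pow_succ', Nat.sub_add_cancel hm]
  rw [← map_pow, hbb, z']

include hπ in
/-- a homogeneous element of `T` is the image of a homogeneous element of `S♮`. -/
theorem exists_mem_pi_eq {n : ℕ} {c : C} (hc : c ∈ 𝒞 n) : ∃ b ∈ ℬ n, π b = c := by
  obtain ⟨b₀, rfl⟩ := hπ c
  refine ⟨((DirectSum.decompose ℬ b₀ n : ℬ n) : B), SetLike.coe_mem _, ?_⟩
  rw [GradedRingHom.map_directSumDecompose _ _ π, DirectSum.decompose_of_mem_same 𝒞 hc]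

include hφ hdeg hπ hker hρ in
/-- homogeneous elements of the kernel of `ρ` are nilpotent. -/
theorem isNilpotent_of_rho_eq_zero {n : ℕ} {c : C} (hc : c ∈ 𝒞 n) (h : ρ c = 0) :
    IsNilpotent c := by
  classical
  obtain ⟨b, hb, rfl⟩ := exists_mem_pi_eq ℬ 𝒞 π hπ hc
  obtain ⟨a, ha, e⟩ := exists_tail_of_mem 𝒜 ℬ φ hdeg hb
  have han : ((DirectSum.decompose 𝒜 a n : 𝒜 n) : A) = 0 := by
    have h1 := hρ n b hb
    rw [h, e, Polynomial.coeff_monomial, if_pos rfl, GradedRing.proj_apply] at h1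
    exact h1.symm
  -- the auxiliary predicate
  let Pn : A → Prop := fun a' => ∃ b' ∈ ℬ n, φ b' = Polynomial.monomial n a' ∧ IsNilpotent (π b')
  have hP0 : Pn 0 := ⟨0, Submodule.zero_mem _, by simp, by rw [map_zero]; exact IsNilpotent.zero⟩
  have hPadd : ∀ x y, Pn x → Pn y → Pn (x + y) := by
    rintro x y ⟨b₁, hb₁, e₁, n₁⟩ ⟨b₂, hb₂, e₂, n₂⟩
    refine ⟨b₁ + b₂, Submodule.add_mem _ hb₁ hb₂, by rw [map_add, e₁, e₂, map_add], ?_⟩
    rw [map_add]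
    exact Commute.isNilpotent_add (Commute.all _ _) n₁ n₂
  have hPm : ∀ m, Pn ((DirectSum.decompose 𝒜 a m : 𝒜 m) : A) := by
    intro m
    rcases Nat.lt_trichotomy m n with hmn | hmn | hmn
    · rw [decompose_eq_zero_of_mem_tail 𝒜 hmn ha]; exact hP0
    · rw [hmn, han]; exact hP0
    · obtain ⟨b', hb', e'⟩ := exists_of_mem_tail 𝒜 ℬ φ hdeg
        (mem_tail_of_mem 𝒜 hmn.le (SetLike.coe_mem (DirectSum.decompose 𝒜 a m)))
      exact ⟨b', hb', e', m,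
        pow_eq_zero_of_homogeneous 𝒜 ℬ φ hφ hdeg 𝒞 π hker hmn (SetLike.coe_mem _) e'⟩
  have hPa : Pn a := by
    rw [← DirectSum.sum_support_decompose 𝒜 a]
    exact Finset.sum_induction _ Pn hPadd hP0 (fun m _ => hPm m)
  obtain ⟨b', -, e', hn'⟩ := hPa
  have hbb : b' = b := hφ (by rw [e', e])
  rwa [hbb] at hn'

include hdeg hρ in
/-- `ρ` is surjective in each degree. -/
theorem exists_mem_rho_eq {n : ℕ} {s : A} (hs : s ∈ 𝒜 n) :
    ∃ b ∈ ℬ n, φ b = Polynomial.monomial n s ∧ ρ (π b) = s := by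
  obtain ⟨b, hb, e⟩ := exists_of_mem_tail 𝒜 ℬ φ hdeg (mem_tail_of_mem 𝒜 le_rfl hs)
  refine ⟨b, hb, e, ?_⟩
  rw [hρ n b hb, e, Polynomial.coeff_monomial, if_pos rfl, GradedRing.proj_apply,
    DirectSum.decompose_of_mem_same 𝒜 hs]

include hdeg hρ in
/-- `ρ` is surjective. -/
theorem rho_surjective : Function.Surjective ρ := by
  classical
  intro a
  have h : ∀ m, ∃ c : C, ρ c = ((DirectSum.decompose 𝒜 a m : 𝒜 m) : A) := fun m => by
    obtain ⟨b, -, -, hb⟩ := exists_mem_rho_eq 𝒜 ℬ φ hdeg 𝒞 π ρ hρ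
      (SetLike.coe_mem (DirectSum.decompose 𝒜 a m))
    exact ⟨π b, hb⟩
  choose c hc using h
  refine ⟨∑ m ∈ (DirectSum.decompose 𝒜 a).support, c m, ?_⟩
  rw [map_sum]
  simp_rw [hc]
  exact DirectSum.sum_support_decompose 𝒜 a

include hφ hdeg hπ hker hρ in
/-- the kernel of `ρ` is contained in every prime ideal. -/
theorem mem_of_rho_eq_zero (q : Ideal C) [hq : q.IsPrime] {c : C} (h : ρ c = 0) : c ∈ q := by
  classical
  rw [← DirectSum.sum_support_decompose 𝒞 c]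
  refine Ideal.sum_mem _ (fun n _ => ?_)
  have h1 : ρ ((DirectSum.decompose 𝒞 c n : 𝒞 n) : C) = 0 := by
    rw [GradedRingHom.map_directSumDecompose _ _ ρ, h, DirectSum.decompose_zero,
      DirectSum.zero_apply, ZeroMemClass.coe_zero]
  obtain ⟨k, hk⟩ := isNilpotent_of_rho_eq_zero 𝒜 ℬ φ hφ hdeg 𝒞 π hπ hker ρ hρ
    (SetLike.coe_mem (DirectSum.decompose 𝒞 c n)) h1
  exact hq.mem_of_pow_mem k (hk ▸ q.zero_mem)

end Groth.Agent.Lib.Helper42.NatTensor
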