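import Groth.Agent.Lib.Helper42.NatTensor

/-!
# `S♮ ⊗_S S₀ → S` on homogeneous localizations, when `S_{n+1} = S_1 S_n` for large `n` (helper42)

ns `Groth.Agent.Lib.Helper42.NatTensor`.
-/

set_option autoImplicit false

universe u

open Polynomial DirectSum HomogeneousLocalization

namespace Groth.Agent.Lib.Helper42.NatTensor

variable {R A B C : Type u} [CommRing R] [CommRing A] [Algebra R A]
  (𝒜 : ℕ → Submodule R A) [GradedAlgebra 𝒜] [CommRing B] [Algebra R B] (ℬ : ℕ → Submodule R B)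
  [GradedAlgebra ℬ]
  (φ : B →ₐ[R] Polynomial A) (hφ : Function.Injective φ)
  (hdeg : ∀ n : ℕ, Submodule.map φ.toLinearMap (ℬ n) =
    Submodule.map ((Polynomial.monomial n : A →ₗ[A] Polynomial A).restrictScalars R)
      (⨆ (m : ℕ) (_ : n ≤ m), 𝒜 m))
  [CommRing C] [Algebra R C] (𝒞 : ℕ → Submodule R C) [GradedAlgebra 𝒞]
  (π : ℬ →+*ᵍ 𝒞) (hπ : Function.Surjective π)
  (hker : RingHom.ker π.toRingHom =
    Ideal.span (⇑φ ⁻¹' (⇑(Polynomial.C : A →+* Polynomial A) ''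
      ((HomogeneousIdeal.irrelevant 𝒜).toIdeal : Set A))))
  (ρ : 𝒞 →+*ᵍ 𝒜)
  (hρ : ∀ (n : ℕ) (b : B), b ∈ ℬ n → ρ (π b) = GradedRing.proj 𝒜 n ((φ b).coeff n))
  {n₀ : ℕ} (hgen : ∀ n : ℕ, n₀ ≤ n → 𝒜 (n + 1) = 𝒜 1 * 𝒜 n)

include hdeg hker hgen in
/-- an element of degree `j + 1 > k`, `j ≥ n₀`, is zero in `T_k`. -/
theorem K_of_mem_succ {k j : ℕ} (hj : n₀ ≤ j) (hkj : k ≤ j) {x : A} (hx : x ∈ 𝒜 (j + 1)) :
    K ℬ φ 𝒞 π k x := by
  rw [hgen j hj] at hx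
  induction hx using Submodule.mul_induction_on' with
  | mem_mul_mem x₁ hx₁ y hy =>
    exact K_mul 𝒜 ℬ φ hdeg 𝒞 π hker
      (HomogeneousIdeal.mem_irrelevant_of_mem _ Nat.one_pos hx₁) (mem_tail_of_mem 𝒜 hkj hy)
  | add x₁ _ y _ h₁ h₂ => exact K_add ℬ φ 𝒞 π h₁ h₂

include hφ hdeg hπ hker hρ hgen in
/-- homogeneous elements of the kernel of `ρ` are killed by a power of the class of `s X^d`. -/
theorem exists_pow_mul_eq_zero {d : ℕ} (hd : 0 < d) {s : A} (hs : s ∈ 𝒜 d) {bs : B}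
    (ebs : φ bs = Polynomial.monomial d s) {n : ℕ} {z : C} (hz : z ∈ 𝒞 n) (h : ρ z = 0) :
    ∃ N : ℕ, π bs ^ N * z = 0 := by
  classical
  obtain ⟨b, hb, rfl⟩ := exists_mem_pi_eq ℬ 𝒞 π hπ hz
  obtain ⟨a, ha, e⟩ := exists_tail_of_mem 𝒜 ℬ φ hdeg hb
  have han : ((DirectSum.decompose 𝒜 a n : 𝒜 n) : A) = 0 := by
    have h1 := hρ n b hb
    rw [h, e, Polynomial.coeff_monomial, if_pos rfl, GradedRing.proj_apply] at h1
    exact h1.symm
  refine ⟨n₀, ?_⟩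
  have hK : K ℬ φ 𝒞 π (d * n₀ + n) (s ^ n₀ * a) := by
    rw [← DirectSum.sum_support_decompose 𝒜 a, Finset.mul_sum]
    refine K_sum ℬ φ 𝒞 π _ _ (fun m _ => ?_)
    rcases Nat.lt_trichotomy m n with hmn | hmn | hmn
    · rw [decompose_eq_zero_of_mem_tail 𝒜 hmn ha, mul_zero]; exact K_zero ℬ φ 𝒞 π _
    · rw [hmn, han, mul_zero]; exact K_zero ℬ φ 𝒞 π _
    · have hmem : s ^ n₀ * ((DirectSum.decompose 𝒜 a m : 𝒜 m) : A) ∈ 𝒜 (n₀ • d + m) :=
        SetLike.mul_mem_graded (SetLike.pow_mem_graded n₀ hs) (SetLike.coe_mem _)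
      have hidx : n₀ • d + m = (n₀ • d + m - 1) + 1 := by omega
      rw [hidx] at hmem
      have h1 : n₀ ≤ n₀ • d + m - 1 := by
        rw [smul_eq_mul]
        have : n₀ ≤ n₀ * d := Nat.le_mul_of_pos_right n₀ hd
        omega
      have h2 : d * n₀ + n ≤ n₀ • d + m - 1 := by
        rw [smul_eq_mul, Nat.mul_comm]
        omega
      exact K_of_mem_succ 𝒜 ℬ φ hdeg 𝒞 π hker hgen h1 h2 hmem
  obtain ⟨b', -, e', z'⟩ := hK
  have hbb : bs ^ n₀ * b = b' := by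
    apply hφ
    rw [map_mul, map_pow, ebs, e, Polynomial.monomial_pow, Polynomial.monomial_mul_monomial, e']
  rw [← map_pow, ← map_mul, hbb, z']

include hφ hdeg hπ hker hρ hgen in
/-- `T_(t) → S_(ρ t)` is bijective for `t` the class of `s X^d`. -/
theorem bijective_awayMap {d : ℕ} (hd : 0 < d) {s : A} (hs : s ∈ 𝒜 d) {bs : B} (hbs : bs ∈ ℬ d)
    (ebs : φ bs = Polynomial.monomial d s) :
    Function.Bijective (Away.map ρ (π bs)) := by
  have ht : π bs ∈ 𝒞 d := GradedFunLike.map_mem π hbs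
  have hρt : ρ (π bs) ∈ 𝒜 d := GradedFunLike.map_mem ρ ht
  constructor
  · rw [injective_iff_map_eq_zero]
    intro x hx
    obtain ⟨k, c, hc, rfl⟩ := Away.mk_surjective 𝒞 ht x
    rw [Away.map_mk] at hx
    have h1 := congrArg HomogeneousLocalization.val hx
    rw [Away.val_mk, HomogeneousLocalization.val_zero, Localization.mk_eq_mk',
      IsLocalization.mk'_eq_zero_iff] at h1
    obtain ⟨⟨_, N, rfl⟩, hN⟩ := h1
    have hz : π bs ^ N * c ∈ 𝒞 (N • d + k • d) :=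
      SetLike.mul_mem_graded (SetLike.pow_mem_graded N ht) hc
    have hρz : ρ (π bs ^ N * c) = 0 := by
      rw [map_mul, map_pow]; exact hN
    obtain ⟨N', hN'⟩ := exists_pow_mul_eq_zero 𝒜 ℬ φ hφ hdeg 𝒞 π hπ hker ρ hρ hgen hd hs ebs hz hρz
    apply HomogeneousLocalization.val_injective
    rw [Away.val_mk, HomogeneousLocalization.val_zero, Localization.mk_eq_mk',
      IsLocalization.mk'_eq_zero_iff]
    refine ⟨⟨π bs ^ (N' + N), N' + N, rfl⟩, ?_⟩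
    show π bs ^ (N' + N) * c = 0
    rw [pow_add, mul_assoc]
    exact hN'
  · intro y
    obtain ⟨k, a, ha, rfl⟩ := Away.mk_surjective 𝒜 hρt y
    obtain ⟨b, hb, -, hρb⟩ := exists_mem_rho_eq 𝒜 ℬ φ hdeg 𝒞 π ρ hρ ha
    refine ⟨Away.mk 𝒞 ht k (π b) (GradedFunLike.map_mem π hb), ?_⟩
    rw [Away.map_mk]
    apply HomogeneousLocalization.val_injective
    rw [Away.val_mk, Away.val_mk]
    simp only [hρb]

end Groth.Agent.Lib.Helper42.NatTensor
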