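import Groth.Agent.Lib.Helper42.NatTensorProj
import Groth.Agent.Lib.Helper42.NatTensor2
import Groth.Agent.Lib.Helper42.ProjLoc
import Groth.Agent.Lib.Helper42.ProjQLocal

/-!
# `Proj S ⟶ Proj (S♮ ⊗_S S₀)` is an isomorphism when `S_{n+1} = S_1 S_n` for large `n` (helper42)

ns `Groth.Agent.Lib.Helper42.NatTensor`.
-/

set_option autoImplicit false

universe u

open Polynomial DirectSum AlgebraicGeometry CategoryTheory HomogeneousLocalization

namespace Groth.Agent.Lib.Helper42.NatTensor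

variable {R A B C : Type u} [CommRing R] [CommRing A] [Algebra R A]
  (𝒜 : ℕ → Submodule R A) [GradedAlgebra 𝒜] [CommRing B] [Algebra R B] (ℬ : ℕ → Submodule R B)
  [GradedAlgebra ℬ]
  (φ : B →ₐ[R] Polynomial A) (hφ : Function.Injective φ)
  (hdeg : ∀ n : ℕ, Submodule.map φ.toLinearMap (ℬ n) =
    Submodule.map ((Polynomial.monomial n : A →ₗ[A] Polynomial A).restrictScalars R)
      (⨆ (m : ℕ) (_ : n ≤ m), 𝒜 m))
  [CommRing C] [Algebra R C] (𝒞 : ℕ → Submodule R C) [GradedAlgebra 𝒞]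
  (π : ℬ →+*ᵍ 𝒞) (hπ : Function.Surjective π)
  (hker : RingHom.ker π.toRingHom =
    Ideal.span (⇑φ ⁻¹' (⇑(Polynomial.C : A →+* Polynomial A) ''
      ((HomogeneousIdeal.irrelevant 𝒜).toIdeal : Set A))))
  (ρ : 𝒞 →+*ᵍ 𝒜)
  (hρ : ∀ (n : ℕ) (b : B), b ∈ ℬ n → ρ (π b) = GradedRing.proj 𝒜 n ((φ b).coeff n))
  (hirr : HomogeneousIdeal.irrelevant 𝒜 ≤ (HomogeneousIdeal.irrelevant 𝒞).map ρ)
  {n₀ : ℕ} (hgen : ∀ n : ℕ, n₀ ≤ n → 𝒜 (n + 1) = 𝒜 1 * 𝒜 n)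

include hφ hdeg hπ hker hρ hgen in
/-- `Proj S ⟶ Proj (S♮ ⊗_S S₀)` is an isomorphism when `S_{n+1} = S_1 S_n` for large `n`. -/
theorem isIso_map : IsIso (Proj.map ρ hirr) := by
  classical
  -- the chosen lifts
  have hex : ∀ j : ProjDom.Idx 𝒜, ∃ b ∈ ℬ j.d, φ b = Polynomial.monomial j.d j.f ∧ ρ (π b) = j.f :=
    fun j => exists_mem_rho_eq 𝒜 ℬ φ hdeg 𝒞 π ρ hρ j.hf
  choose bs hbs ebs hρbs using hex
  have ht : ∀ j : ProjDom.Idx 𝒜, π (bs j) ∈ 𝒞 j.d := fun j => GradedFunLike.map_mem π (hbs j)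
  have hcov : ∀ q : Proj 𝒞, ∃ j : ProjDom.Idx 𝒜,
      q ∈ Set.range (Proj.awayι 𝒞 (π (bs j)) (ht j) j.hd).base := by
    intro q
    obtain ⟨p, rfl⟩ := (bijective_map_base 𝒜 ℬ φ hφ hdeg 𝒞 π hπ hker ρ hρ hirr).2 q
    obtain ⟨j, hj⟩ := ProjLoc.awayι_covers p
    refine ⟨j, ?_⟩
    have h1 : p ∈ (Proj.awayι 𝒜 j.f j.hf j.hd).opensRange := hj
    rw [Proj.opensRange_awayι] at h1
    have h2 : j.f ∉ p.asHomogeneousIdeal := h1
    have h3 : (Proj.map ρ hirr).base p ∈ Proj.basicOpen 𝒞 (π (bs j)) := by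
      show π (bs j) ∉ (ProjectiveSpectrum.comap ρ hirr p).asHomogeneousIdeal
      intro h4
      apply h2
      have h5 : ρ (π (bs j)) ∈ p.asHomogeneousIdeal := h4
      rwa [hρbs j] at h5
    have h := Proj.opensRange_awayι 𝒞 (π (bs j)) (ht j) j.hd
    exact (h.ge h3 : _ ∈ (Proj.awayι 𝒞 (π (bs j)) (ht j) j.hd).opensRange)
  have : MorphismProperty.isomorphisms Scheme.{u} (Proj.map ρ hirr) := by
    refine LocalGlue.of_family_isPullback (Q := MorphismProperty.isomorphisms Scheme.{u})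
      (Proj.map ρ hirr) (J := ProjDom.Idx 𝒜)
      (fun j => Spec (CommRingCat.of (Away 𝒞 (π (bs j)))))
      (fun j => Proj.awayι 𝒞 (π (bs j)) (ht j) j.hd) hcov
      (fun j => Spec (CommRingCat.of (Away 𝒜 (ρ (π (bs j))))))
      (fun j => Proj.awayι 𝒜 (ρ (π (bs j))) (GradedFunLike.map_mem ρ (ht j)) j.hd)
      (fun j => Spec.map (CommRingCat.ofHom (Away.map ρ (π (bs j)))))
      (fun j => ProjLoc.isPullback_awayι ρ hirr j.hd (ht j)) (fun j => ?_)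
    have hb := bijective_awayMap 𝒜 ℬ φ hφ hdeg 𝒞 π hπ hker ρ hρ hgen j.hd j.hf (hbs j) (ebs j)
    have : IsIso (CommRingCat.ofHom (Away.map ρ (π (bs j)))) :=
      (ConcreteCategory.isIso_iff_bijective _).mpr hb
    change IsIso (Spec.map (CommRingCat.ofHom (Away.map ρ (π (bs j)))))
    infer_instance
  exact this

end Groth.Agent.Lib.Helper42.NatTensor
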