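import Groth.Agent.Lib.Helper42.NatTensor
import Mathlib.AlgebraicGeometry.ProjectiveSpectrum.Functor

/-!
# `Proj S ⟶ Proj (S♮ ⊗_S S₀)` is bijective (helper42)

ns `Groth.Agent.Lib.Helper42.NatTensor`.
-/

set_option autoImplicit false

universe u

open Polynomial DirectSum AlgebraicGeometry CategoryTheory

namespace Groth.Agent.Lib.Helper42.NatTensor

section general

variable {A C : Type u} [CommRing A] [CommRing C] {σ τ : Type u} [SetLike σ A]
  [AddSubgroupClass σ A] {𝒜 : ℕ → σ} [GradedRing 𝒜] [SetLike τ C] [AddSubgroupClass τ C]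
  {𝒞 : ℕ → τ} [GradedRing 𝒞] (ρ : 𝒞 →+*ᵍ 𝒜)
  (hirr : HomogeneousIdeal.irrelevant 𝒜 ≤ (HomogeneousIdeal.irrelevant 𝒞).map ρ)

theorem map_base_apply (p : Proj 𝒜) :
    (Proj.map ρ hirr).base p = ProjectiveSpectrum.comap ρ hirr p := rfl

include hirr in
/-- a surjective graded homomorphism induces an injection on homogeneous spectra. -/
theorem injective_map_base_of_surjective (hsurj : Function.Surjective ρ) :
    Function.Injective (Proj.map ρ hirr).base := by
  intro p p' h
  have h1 : (ProjectiveSpectrum.comap ρ hirr p).asHomogeneousIdeal =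
      (ProjectiveSpectrum.comap ρ hirr p').asHomogeneousIdeal :=
    congrArg ProjectiveSpectrum.asHomogeneousIdeal h
  have h2 : Ideal.comap ρ p.asHomogeneousIdeal.toIdeal =
      Ideal.comap ρ p'.asHomogeneousIdeal.toIdeal :=
    congrArg HomogeneousIdeal.toIdeal h1
  have h3 := Ideal.comap_injective_of_surjective ρ hsurj h2
  exact ProjectiveSpectrum.ext (HomogeneousIdeal.toIdeal_injective h3)

include hirr in
/-- a surjective graded homomorphism whose kernel lies in every prime induces a surjection on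
homogeneous spectra. -/
theorem surjective_map_base_of_ker_le (hsurj : Function.Surjective ρ)
    (hker : ∀ (q : Ideal C) [q.IsPrime] (c : C), ρ c = 0 → c ∈ q) :
    Function.Surjective (Proj.map ρ hirr).base := by
  intro q
  have hk : RingHom.ker ρ ≤ q.asHomogeneousIdeal.toIdeal := fun c hc =>
    haveI := q.isPrime
    hker _ c hc
  have hcm : Ideal.comap ρ (Ideal.map ρ q.asHomogeneousIdeal.toIdeal) =
      q.asHomogeneousIdeal.toIdeal := by
    rw [Ideal.comap_map_of_surjective ρ hsurj]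
    exact sup_eq_left.mpr hk
  have hprime : (Ideal.map ρ q.asHomogeneousIdeal.toIdeal).IsPrime :=
    haveI := q.isPrime
    Ideal.map_isPrime_of_surjective hsurj hk
  let p : ProjectiveSpectrum 𝒜 :=
    { asHomogeneousIdeal := q.asHomogeneousIdeal.map ρ
      isPrime := hprime
      not_irrelevant_le := by
        intro hle
        apply q.not_irrelevant_le
        intro c hc
        have h1 : ρ c ∈ (HomogeneousIdeal.irrelevant 𝒜) := by
          rw [HomogeneousIdeal.mem_irrelevant_iff, GradedRing.proj_apply,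
            ← GradedRingHom.map_directSumDecompose _ _ ρ]
          have h2 : ((DirectSum.decompose 𝒞 c 0 : 𝒞 0) : C) = 0 :=
            (HomogeneousIdeal.mem_irrelevant_iff 𝒞 c).mp hc
          rw [h2, map_zero]
        have h3 : ρ c ∈ Ideal.map ρ q.asHomogeneousIdeal.toIdeal := hle h1
        have h4 : c ∈ Ideal.comap ρ (Ideal.map ρ q.asHomogeneousIdeal.toIdeal) := h3
        rw [hcm] at h4
        exact h4 }
  refine ⟨p, ?_⟩
  refine ProjectiveSpectrum.ext (HomogeneousIdeal.toIdeal_injective ?_)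
  exact hcm

end general

section nat

variable {R A B C : Type u} [CommRing R] [CommRing A] [Algebra R A]
  (𝒜 : ℕ → Submodule R A) [GradedAlgebra 𝒜] [CommRing B] [Algebra R B] (ℬ : ℕ → Submodule R B)
  [GradedAlgebra ℬ]
  (φ : B →ₐ[R] Polynomial A) (hφ : Function.Injective φ)
  (hdeg : ∀ n : ℕ, Submodule.map φ.toLinearMap (ℬ n) =
    Submodule.map ((Polynomial.monomial n : A →ₗ[A] Polynomial A).restrictScalars R)
      (⨆ (m : ℕ) (_ : n ≤ m), 𝒜 m))
  [CommRing C] [Algebra R C] (𝒞 : ℕ → Submodule R C) [GradedAlgebra 𝒞]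
  (π : ℬ →+*ᵍ 𝒞) (hπ : Function.Surjective π)
  (hker : RingHom.ker π.toRingHom =
    Ideal.span (⇑φ ⁻¹' (⇑(Polynomial.C : A →+* Polynomial A) ''
      ((HomogeneousIdeal.irrelevant 𝒜).toIdeal : Set A))))
  (ρ : 𝒞 →+*ᵍ 𝒜)
  (hρ : ∀ (n : ℕ) (b : B), b ∈ ℬ n → ρ (π b) = GradedRing.proj 𝒜 n ((φ b).coeff n))
  (hirr : HomogeneousIdeal.irrelevant 𝒜 ≤ (HomogeneousIdeal.irrelevant 𝒞).map ρ)

include hφ hdeg hπ hker hρ in
/-- `Proj S ⟶ Proj (S♮ ⊗_S S₀)` is bijective. -/
theorem bijective_map_base : Function.Bijective (Proj.map ρ hirr).base :=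
  ⟨injective_map_base_of_surjective ρ hirr (rho_surjective 𝒜 ℬ φ hdeg 𝒞 π ρ hρ),
    surjective_map_base_of_ker_le ρ hirr (rho_surjective 𝒜 ℬ φ hdeg 𝒞 π ρ hρ)
      (fun q _ _ h => mem_of_rho_eq_zero 𝒜 ℬ φ hφ hdeg 𝒞 π hπ hker ρ hρ q h)⟩

end nat

end Groth.Agent.Lib.Helper42.NatTensor
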