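import Mathlib.RingTheory.GradedAlgebra.Basic
import Mathlib.Algebra.Polynomial.AlgebraMap
import Mathlib.RingTheory.FiniteType
import Mathlib.RingTheory.Noetherian.Basic
import Mathlib.Algebra.Algebra.Operations
import Mathlib.Algebra.DirectSum.Internal

/-!
# The graded ring `S♮ = ⊕ S_{≥ n}` : helper lemmas (helper42)

`age 𝒜 n = ⨆ m ≥ n, 𝒜 m` and its interaction with products, monomials and projections.
-/

set_option autoImplicit false
universe u

namespace Groth.Agent.Lib.Helper42.Natural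

open DirectSum

variable {R A : Type u} [CommRing R] [CommRing A] [Algebra R A]

/-- `μ n a = a X^n`, as an `R`-linear map. -/
noncomputable abbrev mu (R : Type u) {A : Type u} [CommRing R] [CommRing A] [Algebra R A] (n : ℕ) :
    A →ₗ[R] Polynomial A :=
  (Polynomial.monomial n : A →ₗ[A] Polynomial A).restrictScalars R

lemma mu_apply (n : ℕ) (a : A) : mu R n a = Polynomial.monomial n a := rfl

lemma mu_injective (n : ℕ) : Function.Injective (mu R (A := A) n) :=
  Polynomial.monomial_injective n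

lemma map_mu_mul (i j : ℕ) (M N : Submodule R A) :
    Submodule.map (mu R i) M * Submodule.map (mu R j) N = Submodule.map (mu R (i + j)) (M * N) := by
  apply le_antisymm
  · rw [Submodule.mul_le]
    rintro _ ⟨a, ha, rfl⟩ _ ⟨b, hb, rfl⟩
    refine ⟨a * b, Submodule.mul_mem_mul ha hb, ?_⟩
    rw [mu_apply, mu_apply, mu_apply, Polynomial.monomial_mul_monomial]
  · rw [Submodule.map_le_iff_le_comap]
    rw [Submodule.mul_le]
    intro a ha b hb
    rw [Submodule.mem_comap, mu_apply, ← Polynomial.monomial_mul_monomial]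
    exact Submodule.mul_mem_mul ⟨a, ha, rfl⟩ ⟨b, hb, rfl⟩

lemma map_mu_pow (M : Submodule R A) (n : ℕ) :
    Submodule.map (mu R 1) M ^ n = Submodule.map (mu R n) (M ^ n) := by
  induction n with
  | zero =>
    rw [pow_zero, pow_zero, Submodule.one_eq_span, Submodule.one_eq_span, Submodule.map_span,
      Set.image_singleton, mu_apply]
    rfl
  | succ n ih =>
    rw [pow_succ, pow_succ, ih, map_mu_mul]

variable (𝒜 : ℕ → Submodule R A)

/-- `A_{≥ n}` -/
def age (n : ℕ) : Submodule R A := ⨆ (m : ℕ) (_ : n ≤ m), 𝒜 m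

lemma le_age {n m : ℕ} (h : n ≤ m) : 𝒜 m ≤ age 𝒜 n :=
  le_iSup₂ (f := fun (m : ℕ) (_ : n ≤ m) => 𝒜 m) m h

lemma age_induction {n : ℕ} {p : A → Prop} (h0 : p 0) (hadd : ∀ x y, p x → p y → p (x + y))
    (hmem : ∀ m, n ≤ m → ∀ x ∈ 𝒜 m, p x) {x : A} (hx : x ∈ age 𝒜 n) : p x := by
  unfold age at hx
  induction hx using Submodule.iSup_induction' with
  | mem m x hx =>
    induction hx using Submodule.iSup_induction' with
    | mem hm x hx => exact hmem m hm x hx
    | zero => exact h0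
    | add x y _ _ hx hy => exact hadd x y hx hy
  | zero => exact h0
  | add x y _ _ hx hy => exact hadd x y hx hy

variable [GradedAlgebra 𝒜]

lemma age_mul_le (i j : ℕ) : age 𝒜 i * age 𝒜 j ≤ age 𝒜 (i + j) := by
  rw [Submodule.mul_le]
  intro a ha b hb
  refine age_induction 𝒜 (p := fun a => a * b ∈ age 𝒜 (i + j)) (by simp)
    (fun x y hx hy => by rw [add_mul]; exact Submodule.add_mem _ hx hy) ?_ ha
  intro m hm x hx
  refine age_induction 𝒜 (p := fun b => x * b ∈ age 𝒜 (i + j)) (by simp)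
    (fun y z hy hz => by rw [mul_add]; exact Submodule.add_mem _ hy hz) ?_ hb
  intro m' hm' y hy
  exact le_age 𝒜 (add_le_add hm hm') (SetLike.GradedMul.mul_mem hx hy)

lemma age_pow_le (n : ℕ) : age 𝒜 1 ^ n ≤ age 𝒜 n := by
  induction n with
  | zero =>
    rw [pow_zero, Submodule.one_le]
    exact le_age 𝒜 le_rfl (SetLike.GradedOne.one_mem)
  | succ n ih =>
    rw [pow_succ]
    exact le_trans (mul_le_mul' ih le_rfl) (age_mul_le 𝒜 n 1)

lemma pow_le_grade (n : ℕ) : 𝒜 1 ^ n ≤ 𝒜 n := by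
  induction n with
  | zero =>
    rw [pow_zero, Submodule.one_le]
    exact SetLike.GradedOne.one_mem
  | succ n ih =>
    rw [pow_succ, Submodule.mul_le]
    intro a ha b hb
    exact SetLike.GradedMul.mul_mem (ih ha) hb

/-- projection to degree `n` -/
lemma proj_mem (n : ℕ) (x : A) : (decompose 𝒜 x n : A) ∈ 𝒜 n := (decompose 𝒜 x n).2

lemma proj_of_mem_age_of_lt {n i : ℕ} (hi : i < n) {x : A} (hx : x ∈ age 𝒜 n) :
    (decompose 𝒜 x i : A) = 0 := by
  refine age_induction 𝒜 (p := fun x => (decompose 𝒜 x i : A) = 0) (by simp)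
    (fun x y hx hy => by
      rw [decompose_add, DirectSum.add_apply, Submodule.coe_add, hx, hy, add_zero]) ?_ hx
  intro m hm x hx
  rw [decompose_of_mem_ne 𝒜 hx (by omega : m ≠ i)]

lemma proj_mul_of_mem_age {i j : ℕ} {a b : A} (ha : a ∈ age 𝒜 i) (hb : b ∈ age 𝒜 j) :
    (decompose 𝒜 (a * b) (i + j) : A) = (decompose 𝒜 a i : A) * (decompose 𝒜 b j : A) := by
  refine age_induction 𝒜 (p := fun a => (decompose 𝒜 (a * b) (i + j) : A) =
    (decompose 𝒜 a i : A) * (decompose 𝒜 b j : A)) (by simp)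
    (fun x y hx hy => by
      rw [add_mul, decompose_add, DirectSum.add_apply, Submodule.coe_add, hx, hy, decompose_add,
        DirectSum.add_apply, Submodule.coe_add, add_mul]) ?_ ha
  intro m hm x hx
  rcases eq_or_lt_of_le hm with rfl | hlt
  · rw [coe_decompose_mul_add_of_left_mem 𝒜 hx, decompose_of_mem_same 𝒜 hx]
  · rw [decompose_of_mem_ne 𝒜 hx (by omega : m ≠ i), zero_mul]
    -- `x * b ∈ age (m + j)` with `i + j < m + j`
    apply proj_of_mem_age_of_lt 𝒜 (n := m + j) (by omega)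
    exact age_mul_le 𝒜 m j (Submodule.mul_mem_mul (le_age 𝒜 le_rfl hx) hb)

omit [GradedAlgebra 𝒜] in
lemma grade_le_age (n : ℕ) : 𝒜 n ≤ age 𝒜 n := le_age 𝒜 le_rfl

/-- an element of `age n` whose components of degree `> n`... : membership criterion -/
lemma mem_age_iff {n : ℕ} {x : A} : x ∈ age 𝒜 n ↔ ∀ i < n, (decompose 𝒜 x i : A) = 0 := by
  constructor
  · intro hx i hi
    exact proj_of_mem_age_of_lt 𝒜 hi hx
  · intro h
    classical
    rw [← DirectSum.sum_support_decompose 𝒜 x]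
    apply Submodule.sum_mem
    intro i hi
    by_cases hin : n ≤ i
    · exact le_age 𝒜 hin (decompose 𝒜 x i).2
    · rw [h i (by omega)]
      exact Submodule.zero_mem _


/-- degree `i + j` part of a product of `age i` and `age j` lies in `𝒜 i * 𝒜 j` -/
lemma proj_mem_mul_of_mem_age_mul {i j : ℕ} {y : A} (hy : y ∈ age 𝒜 i * age 𝒜 j) :
    (decompose 𝒜 y (i + j) : A) ∈ 𝒜 i * 𝒜 j := by
  refine Submodule.mul_induction_on (C := fun y => (decompose 𝒜 y (i + j) : A) ∈ 𝒜 i * 𝒜 j) hy ?_ ?_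
  · intro a ha b hb
    rw [proj_mul_of_mem_age 𝒜 ha hb]
    exact Submodule.mul_mem_mul (proj_mem 𝒜 i a) (proj_mem 𝒜 j b)
  · intro x y hx hy
    rw [decompose_add, DirectSum.add_apply, Submodule.coe_add]
    exact Submodule.add_mem _ hx hy

section transfer

variable {B : Type u} [CommRing B] [Algebra R B] (ℬ : ℕ → Submodule R B)
  (φ : B →ₐ[R] Polynomial A) (hφ : Function.Injective φ)
  (hdeg : ∀ n : ℕ, Submodule.map φ.toLinearMap (ℬ n) = Submodule.map (mu R n) (age 𝒜 n))

include hφ hdeg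

omit [GradedAlgebra 𝒜] in
lemma eq_mul_iff (n i j : ℕ) (hn : n = i + j) :
    ℬ n = ℬ i * ℬ j ↔ age 𝒜 n = age 𝒜 i * age 𝒜 j := by
  subst hn
  rw [← (Submodule.map_injective_of_injective (f := φ.toLinearMap) hφ).eq_iff, Submodule.map_mul,
    hdeg, hdeg, hdeg, map_mu_mul,
    (Submodule.map_injective_of_injective (f := mu R (i + j)) (mu_injective (i + j))).eq_iff]

omit [GradedAlgebra 𝒜] in
lemma eq_pow_iff (n : ℕ) :
    ℬ n = ℬ 1 ^ n ↔ age 𝒜 n = age 𝒜 1 ^ n := by
  rw [← (Submodule.map_injective_of_injective (f := φ.toLinearMap) hφ).eq_iff, Submodule.map_pow,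
    hdeg, hdeg, map_mu_pow,
    (Submodule.map_injective_of_injective (f := mu R n) (mu_injective n)).eq_iff]

end transfer

end Groth.Agent.Lib.Helper42.Natural
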