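import Groth.Agent.Lib.Helper42.PolyZero

/-!
# `ℬ = A[z]` with `A` in degree zero: `Proj ℬ → Spec A` is an isomorphism (helper42)
-/

set_option autoImplicit false
set_option linter.unusedSectionVars false

universe u

namespace Groth.Agent.Lib.Helper42.PolyZero

open DirectSum HomogeneousLocalization CategoryTheory AlgebraicGeometry

variable {A B τ : Type u} [CommRing A] [CommRing B] [SetLike τ B] [AddSubgroupClass τ B]
  {ℬ : ℕ → τ} [GradedRing ℬ]
  (ι : A →+* B) (hι : ∀ a, ι a ∈ ℬ 0) {z : B} (hz : z ∈ ℬ 1)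
  (hbij : Function.Bijective (Polynomial.eval₂RingHom ι z))

include hι hz hbij in
/-- `A → ℬ_(z)`, `a ↦ ι a / 1`, is bijective. -/
theorem bijective_fromZero (ι₀ : A →+* ℬ 0) (hι₀ : ∀ a, (ι₀ a : B) = ι a) :
    Function.Bijective ((fromZeroRingHom ℬ (Submonoid.powers z)).comp ι₀) := by
  have hval : ∀ a : A, ((fromZeroRingHom ℬ (Submonoid.powers z)) (ι₀ a)).val =
      Localization.mk (ι a) 1 := by
    intro a
    rw [← hι₀ a]
    rfl
  constructor
  · rw [injective_iff_map_eq_zero]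
    intro a ha
    rw [RingHom.comp_apply] at ha
    have h1 := hval a
    rw [ha, HomogeneousLocalization.val_zero] at h1
    have h2 : (Localization.mk (ι a) 1 : Localization.Away z) = 0 := h1.symm
    rw [Localization.mk_eq_mk', IsLocalization.mk'_eq_zero_iff] at h2
    obtain ⟨⟨_, k, rfl⟩, hk⟩ := h2
    have h3 : ι a * z ^ k = ι 0 * z ^ k := by
      rw [map_zero, zero_mul, mul_comm]
      exact hk
    exact mul_pow_injective ι hbij k h3
  · intro q
    obtain ⟨n, x, hx, rfl⟩ := Away.mk_surjective ℬ hz q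
    have hx' : x ∈ ℬ n := by rwa [smul_eq_mul, mul_one] at hx
    obtain ⟨a, rfl⟩ := exists_eq_mul_pow ι hι hz hbij hx'
    refine ⟨a, ?_⟩
    apply HomogeneousLocalization.val_injective
    rw [RingHom.comp_apply, hval, Away.val_mk, Localization.mk_eq_mk_iff, Localization.r_iff_exists]
    refine ⟨1, ?_⟩
    simp only [OneMemClass.coe_one, one_mul]
    exact mul_comm _ _

include hι hz hbij in
/-- `D_+(z)` is all of `Proj ℬ`. -/
theorem isIso_awayι : IsIso (Proj.awayι ℬ z hz one_pos) := by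
  refine isIso_of_isOpenImmersion_of_opensRange_eq_top _ ?_
  rw [Proj.opensRange_awayι]
  refine eq_top_iff.mpr (fun y _ => ?_)
  rw [Proj.mem_basicOpen]
  exact z_notMem ι hι hz hbij y

include hι hz hbij in
/-- `Proj ℬ → Spec A` is an isomorphism. -/
theorem isIso_toSpecZero_comp (ι₀ : A →+* ℬ 0) (hι₀ : ∀ a, (ι₀ a : B) = ι a) :
    IsIso (Proj.toSpecZero ℬ ≫ Spec.map (CommRingCat.ofHom ι₀)) := by
  have := isIso_awayι ι hι hz hbij
  have h1 : Proj.awayι ℬ z hz one_pos ≫ Proj.toSpecZero ℬ ≫ Spec.map (CommRingCat.ofHom ι₀) =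
      Spec.map (CommRingCat.ofHom ((fromZeroRingHom ℬ (Submonoid.powers z)).comp ι₀)) := by
    rw [← Category.assoc, Proj.awayι_toSpecZero, ← Spec.map_comp]
    rfl
  have h2 : IsIso (CommRingCat.ofHom ((fromZeroRingHom ℬ (Submonoid.powers z)).comp ι₀)) :=
    (ConcreteCategory.isIso_iff_bijective _).mpr (bijective_fromZero ι hι hz hbij ι₀ hι₀)
  have h3 : IsIso (Proj.awayι ℬ z hz one_pos ≫ Proj.toSpecZero ℬ ≫
      Spec.map (CommRingCat.ofHom ι₀)) := by
    rw [h1]
    infer_instance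
  exact IsIso.of_isIso_comp_left (Proj.awayι ℬ z hz one_pos) _

end Groth.Agent.Lib.Helper42.PolyZero
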