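import Groth.Agent.Lib.Helper42.GrAffAlg
import Mathlib.RingTheory.Localization.Algebra
import Mathlib.RingTheory.PolynomialAlgebra
import Groth.Agent.Lib.Helper42.PolyZero2

/-!
# The polynomial algebra `B[T]` of a quasi-coherent algebra, graded by the degree in `T` (helper42)

* `monGr R`: the grading of `R[X]` by the degree (`monGr R n` = the monomials `a X^n`), a `GradedRing`.
* `polyAlg B : RelProj.QCGrAlg S` for a quasi-coherent algebra `B`: over an affine open `U` it is
  `B(U)[T]` (through `secEquiv`), graded by the degree in `T`.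
-/

set_option autoImplicit false
set_option linter.unusedSectionVars false
set_option linter.unusedVariables false

universe u

namespace Groth.Agent.Lib.Helper42.PolyAlg

open CategoryTheory CategoryTheory.Limits AlgebraicGeometry TopologicalSpace Opposite DirectSum

section polyGrading

variable (R : Type u) [CommRing R]

/-- the monomials of degree `n`. -/
noncomputable def monGr (n : ℕ) : AddSubgroup (Polynomial R) :=
  AddMonoidHom.range (Polynomial.monomial n : R →ₗ[R] Polynomial R).toAddMonoidHom

variable {R}

theorem mem_monGr {n : ℕ} {p : Polynomial R} : p ∈ monGr R n ↔ ∃ a : R, Polynomial.monomial n a = p :=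
  Iff.rfl

theorem monomial_mem (n : ℕ) (a : R) : Polynomial.monomial n a ∈ monGr R n := ⟨a, rfl⟩

theorem C_mem (a : R) : Polynomial.C a ∈ monGr R 0 := ⟨a, rfl⟩

theorem X_mem : (Polynomial.X : Polynomial R) ∈ monGr R 1 := ⟨1, rfl⟩

theorem map_mem {R' : Type u} [CommRing R'] (φ : R →+* R') {n : ℕ} {p : Polynomial R}
    (hp : p ∈ monGr R n) : Polynomial.map φ p ∈ monGr R' n := by
  obtain ⟨a, rfl⟩ := hp
  exact ⟨φ a, (Polynomial.map_monomial φ).symm⟩

variable (R)

instance gradedMonoid : SetLike.GradedMonoid (monGr R) where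
  one_mem := ⟨1, rfl⟩
  mul_mem := by
    rintro i j _ _ ⟨a, rfl⟩ ⟨b, rfl⟩
    exact ⟨a * b, (Polynomial.monomial_mul_monomial i j a b).symm⟩

/-- `a ↦ a X^n` into the degree-`n` piece. -/
noncomputable def mono (n : ℕ) : R →+ monGr R n where
  toFun a := ⟨Polynomial.monomial n a, monomial_mem n a⟩
  map_zero' := Subtype.ext (map_zero _)
  map_add' a b := Subtype.ext (map_add _ a b)

/-- the decomposition of a polynomial into monomials. -/
noncomputable def decompAdd : Polynomial R →+ ⨁ n, monGr R n where
  toFun p := p.sum (fun n a => DirectSum.of (fun n => monGr R n) n (mono R n a))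
  map_zero' := Polynomial.sum_zero_index _
  map_add' p q := Polynomial.sum_add_index p q _ (fun i => by rw [map_zero, map_zero])
    (fun n a b => by rw [map_add, map_add])

theorem decompAdd_monomial (n : ℕ) (a : R) :
    decompAdd R (Polynomial.monomial n a) = DirectSum.of (fun n => monGr R n) n (mono R n a) :=
  Polynomial.sum_monomial_index (n := n) a
    (fun n a => DirectSum.of (fun n => monGr R n) n (mono R n a)) (by rw [map_zero, map_zero])

noncomputable instance decomposition : DirectSum.Decomposition (monGr R) :=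
  DirectSum.Decomposition.ofAddHom (monGr R) (decompAdd R)
    (by
      refine Polynomial.addHom_ext (fun n a => ?_)
      rw [AddMonoidHom.comp_apply, decompAdd_monomial, DirectSum.coeAddMonoidHom_of,
        AddMonoidHom.id_apply]
      rfl)
    (by
      refine DirectSum.addHom_ext (fun n y => ?_)
      obtain ⟨y, a, rfl⟩ := y
      rw [AddMonoidHom.comp_apply, DirectSum.coeAddMonoidHom_of, AddMonoidHom.id_apply]
      exact decompAdd_monomial R n a)

noncomputable instance gradedRing : GradedRing (monGr R) :=
  { gradedMonoid R, decomposition R with }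

end polyGrading

variable {S : Scheme.{u}} (B : RelSpec.QCAlg S)

/-- restriction of sections of `B`, as a ring homomorphism. -/
noncomputable def resB {U W : S.Opens} (h : W ≤ U) :
    B.presheaf.obj (op U) →+* B.presheaf.obj (op W) :=
  (B.presheaf.map (homOfLE h).op).hom

theorem resB_refl (U : S.Opens) : resB B (le_refl U) = RingHom.id _ := by
  have h : (homOfLE (le_refl U)).op = 𝟙 (op U) := Subsingleton.elim _ _
  unfold resB
  rw [h, B.presheaf.map_id]
  rfl

theorem resB_trans {U W Z : S.Opens} (h : W ≤ U) (h' : Z ≤ W) :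
    (resB B h').comp (resB B h) = resB B (h'.trans h) := by
  have e : (homOfLE (h'.trans h)).op = (homOfLE h).op ≫ (homOfLE h').op := Subsingleton.elim _ _
  unfold resB
  rw [e, B.presheaf.map_comp]
  rfl

/-- the presheaf of polynomial rings on the affine opens. -/
noncomputable def F : S.AffineZariskiSiteᵒᵖ ⥤ CommRingCat.{u} where
  obj U := CommRingCat.of (Polynomial (B.presheaf.obj (op U.unop.1)))
  map i := CommRingCat.ofHom
    (Polynomial.mapRingHom (resB B (Scheme.AffineZariskiSite.toOpens_mono i.unop.le)))
  map_id U := by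
    rw [← CommRingCat.ofHom_id]
    refine congrArg CommRingCat.ofHom ?_
    rw [resB_refl]
    exact Polynomial.mapRingHom_id
  map_comp i j := by
    rw [← CommRingCat.ofHom_comp]
    refine congrArg CommRingCat.ofHom ?_
    rw [Polynomial.mapRingHom_comp, resB_trans]

/-- the structure map. -/
noncomputable def α : (Scheme.AffineZariskiSite.toOpensFunctor S).op ⋙ S.presheaf ⟶ F B where
  app U := CommRingCat.ofHom ((Polynomial.C).comp (B.str.app (op U.unop.1)).hom)
  naturality U W i := by
    ext r
    change Polynomial.C ((B.str.app (op W.unop.1)).hom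
        ((S.presheaf.map (homOfLE (Scheme.AffineZariskiSite.toOpens_mono i.unop.le)).op).hom r)) =
      Polynomial.map (resB B (Scheme.AffineZariskiSite.toOpens_mono i.unop.le))
        (Polynomial.C ((B.str.app (op U.unop.1)).hom r))
    rw [Polynomial.map_C]
    refine congrArg Polynomial.C ?_
    exact congrArg (fun f => f.hom r)
      (B.str.naturality (homOfLE (Scheme.AffineZariskiSite.toOpens_mono i.unop.le)).op)

theorem coequifibered : (α B).Coequifibered := by
  refine Scheme.AffineZariskiSite.coequifibered_iff_forall_isLocalizationAway.mpr (fun U f => ?_)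
  letI alg0 : Algebra (B.presheaf.obj (op U.1)) (B.presheaf.obj (op (S.basicOpen f))) :=
    (B.presheaf.map (homOfLE (S.basicOpen_le f)).op).hom.toAlgebra
  haveI hloc : IsLocalization.Away ((B.str.app (op U.1)).hom f)
      (B.presheaf.obj (op (S.basicOpen f))) := B.isQC U.1 U.2 f
  have h1 := @Polynomial.isLocalization (B.presheaf.obj (op U.1)) _
    (Submonoid.powers ((B.str.app (op U.1)).hom f)) (B.presheaf.obj (op (S.basicOpen f))) _ alg0 hloc
  rw [Submonoid.map_powers] at h1
  exact h1

/-- the grading of the presheaf of polynomial rings by the degree. -/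
noncomputable def grData : GrAffAlg.GrData (F B) (α B) where
  𝒢 U := monGr (B.presheaf.obj (op U.1))
  gr U := gradedRing _
  map_mem i _ _ hx := map_mem _ hx
  str_mem U r := C_mem _

/-- the polynomial algebra `B[T]` as a graded quasi-coherent algebra. -/
noncomputable def polyAlg : RelProj.QCGrAlg S := GrAffAlg.grAlg (coequifibered B) (grData B)

section api

variable (U : S.Opens) (hU : IsAffineOpen U)

/-- over an affine open: `B[T](U) ≃ B(U)[T]`. -/
noncomputable def secE :
    (polyAlg B).presheaf.obj (op U) ≃+* Polynomial (B.presheaf.obj (op U)) :=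
  GrAffAlg.secEquiv (coequifibered B) U hU

theorem mem_deg_iff {n : ℕ} {x : (polyAlg B).presheaf.obj (op U)} :
    x ∈ (polyAlg B).deg U hU n ↔ secE B U hU x ∈ monGr (B.presheaf.obj (op U)) n := Iff.rfl

/-- the coefficient embedding `B(U) → B[T](U)`. -/
noncomputable def ι : B.presheaf.obj (op U) →+* (polyAlg B).presheaf.obj (op U) :=
  (secE B U hU).symm.toRingHom.comp Polynomial.C

/-- the variable `T ∈ B[T](U)`. -/
noncomputable def z : (polyAlg B).presheaf.obj (op U) := (secE B U hU).symm Polynomial.X

theorem secE_ι (a : B.presheaf.obj (op U)) : secE B U hU (ι B U hU a) = Polynomial.C a :=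
  (secE B U hU).apply_symm_apply _

theorem secE_z : secE B U hU (z B U hU) = Polynomial.X := (secE B U hU).apply_symm_apply _

theorem ι_mem (a : B.presheaf.obj (op U)) : ι B U hU a ∈ (polyAlg B).deg U hU 0 := by
  rw [mem_deg_iff, secE_ι]
  exact C_mem a

theorem z_mem : z B U hU ∈ (polyAlg B).deg U hU 1 := by
  rw [mem_deg_iff, secE_z]
  exact X_mem

theorem eval₂_eq (P : Polynomial (B.presheaf.obj (op U))) :
    Polynomial.eval₂ (ι B U hU) (z B U hU) P = (secE B U hU).symm P := by
  have h := Polynomial.hom_eval₂ P Polynomial.C (secE B U hU).symm.toRingHom Polynomial.X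
  rw [Polynomial.eval₂_C_X] at h
  exact h.symm

theorem bijective : Function.Bijective (Polynomial.eval₂RingHom (ι B U hU) (z B U hU)) := by
  have h : ⇑(Polynomial.eval₂RingHom (ι B U hU) (z B U hU)) = ⇑(secE B U hU).symm := by
    funext P
    exact eval₂_eq B U hU P
  rw [h]
  exact (secE B U hU).symm.bijective

theorem secE_str (r : Γ(S, U)) :
    secE B U hU (((polyAlg B).str.app (op U)).hom r) =
      Polynomial.C ((B.str.app (op U)).hom r) := by
  have h := congrArg (fun f => f.hom r) (AffAlg.π_app_sec (coequifibered B) U hU)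
  exact h

theorem ι_str (r : Γ(S, U)) :
    ι B U hU ((B.str.app (op U)).hom r) = ((polyAlg B).str.app (op U)).hom r := by
  refine (secE B U hU).injective ?_
  rw [secE_ι, secE_str]

theorem secE_res (r : Γ(S, U)) (x : (polyAlg B).presheaf.obj (op U)) :
    secE B (S.basicOpen r) (hU.basicOpen r)
        (((polyAlg B).presheaf.map (homOfLE (S.basicOpen_le r)).op).hom x) =
      Polynomial.map (resB B (S.basicOpen_le r)) (secE B U hU x) := by
  let W' : S.AffineZariskiSite := ⟨S.basicOpen r, hU.basicOpen r⟩
  let U' : S.AffineZariskiSite := ⟨U, hU⟩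
  have hle : W' ≤ U' := ⟨r, rfl⟩
  have h := congrArg (fun f => f.hom x)
    (AffAlg.sec_naturality (coequifibered B) (U := U') (W := W') (homOfLE hle))
  exact h

theorem res_ι (r : Γ(S, U)) (a : B.presheaf.obj (op U)) :
    ((polyAlg B).presheaf.map (homOfLE (S.basicOpen_le r)).op).hom (ι B U hU a) =
      ι B (S.basicOpen r) (hU.basicOpen r) (resB B (S.basicOpen_le r) a) := by
  refine (secE B (S.basicOpen r) (hU.basicOpen r)).injective ?_
  rw [secE_res B U hU r, secE_ι, secE_ι, Polynomial.map_C]

theorem res_z (r : Γ(S, U)) :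
    ((polyAlg B).presheaf.map (homOfLE (S.basicOpen_le r)).op).hom (z B U hU) =
      z B (S.basicOpen r) (hU.basicOpen r) := by
  refine (secE B (S.basicOpen r) (hU.basicOpen r)).injective ?_
  rw [secE_res B U hU r, secE_z, secE_z, Polynomial.map_X]

/-- the coefficient embedding into the degree-zero subring. -/
noncomputable def ι₀ : B.presheaf.obj (op U) →+* (polyAlg B).deg U hU 0 where
  toFun a := ⟨ι B U hU a, ι_mem B U hU a⟩
  map_one' := Subtype.ext (map_one _)
  map_mul' a b := Subtype.ext (map_mul _ a b)
  map_zero' := Subtype.ext (map_zero _)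
  map_add' a b := Subtype.ext (map_add _ a b)

theorem coe_ι₀ (a : B.presheaf.obj (op U)) :
    ((ι₀ B U hU a : (polyAlg B).deg U hU 0) : (polyAlg B).presheaf.obj (op U)) = ι B U hU a := rfl

/-- `Proj B(U)[T] → Spec B(U)` is an isomorphism. -/
theorem isIso_toSpecZero_comp :
    IsIso (Proj.toSpecZero ((polyAlg B).deg U hU) ≫
      Spec.map (CommRingCat.ofHom (ι₀ B U hU))) :=
  PolyZero.isIso_toSpecZero_comp (ι B U hU) (ι_mem B U hU) (z_mem B U hU) (bijective B U hU)
    (ι₀ B U hU) (coe_ι₀ B U hU)

end api

theorem isGenDegOne : (polyAlg B).IsGenDegOne := by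
  intro U hU
  refine eq_top_iff.mpr (fun x _ => ?_)
  obtain ⟨P, rfl⟩ := (bijective B U hU).2 x
  change Polynomial.eval₂ (ι B U hU) (z B U hU) P ∈ _
  rw [Polynomial.eval₂_eq_sum, Polynomial.sum_def]
  refine sum_mem (fun n _ => ?_)
  exact mul_mem (Subring.subset_closure (Set.mem_union_left _ (ι_mem B U hU _)))
    (pow_mem (Subring.subset_closure (Set.mem_union_right _ (z_mem B U hU))) n)

theorem isFTDeg_one (hfin : ∀ (U : S.Opens) (_ : IsAffineOpen U), (B.str.app (op U)).hom.Finite) :
    (polyAlg B).IsFTDeg 1 := by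
  classical
  intro U hU
  letI alg0 : Algebra Γ(S, U) (B.presheaf.obj (op U)) := (B.str.app (op U)).hom.toAlgebra
  have hfinU : Module.Finite Γ(S, U) (B.presheaf.obj (op U)) := hfin U hU
  obtain ⟨T₀, hT₀⟩ := Module.finite_def.mp hfinU
  let g : B.presheaf.obj (op U) → (polyAlg B).presheaf.obj (op U) :=
    fun b => ι B U hU b * z B U hU ^ 1
  have hg : Function.Injective g := fun a a' h =>
    PolyZero.mul_pow_injective (ι B U hU) (bijective B U hU) 1 h
  refine ⟨T₀.image g, ?_, ?_⟩
  · intro y hy
    obtain ⟨b, -, rfl⟩ := Finset.mem_image.mp (Finset.mem_coe.mp hy)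
    exact PolyZero.mul_pow_mem (ι B U hU) (ι_mem B U hU) (z_mem B U hU) b 1
  · intro x hx
    obtain ⟨a, rfl⟩ := PolyZero.exists_eq_mul_pow (ι B U hU) (ι_mem B U hU) (z_mem B U hU)
      (bijective B U hU) hx
    have ha : a ∈ Submodule.span Γ(S, U) (T₀ : Set (B.presheaf.obj (op U))) := by
      rw [hT₀]; trivial
    obtain ⟨c, -, hc⟩ := Submodule.mem_span_finset.mp ha
    refine ⟨fun y => c (Function.invFun g y), ?_⟩
    rw [Finset.sum_image (fun a _ b _ h => hg h), ← hc, map_sum, Finset.sum_mul]
    refine Finset.sum_congr rfl (fun t _ => ?_)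
    have hinv : Function.invFun g (g t) = t := Function.leftInverse_invFun hg t
    change ι B U hU (c t • t) * z B U hU ^ 1 =
      ((polyAlg B).str.app (op U)).hom (c (Function.invFun g (g t))) * g t
    rw [hinv, Algebra.smul_def, map_mul]
    change ι B U hU ((B.str.app (op U)).hom (c t)) * ι B U hU t * z B U hU ^ 1 = _
    rw [ι_str, mul_assoc]

end Groth.Agent.Lib.Helper42.PolyAlg
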