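import Groth.Agent.Lib.Helper42.PolyGraded2

/-!
# `ℬ = 𝒜[z]`: the degree-zero localization `ℬ_(z)` is `𝒜` (helper42)

The homomorphism `ℬ_(z) → 𝒜`, `x / z^k ↦ x(z = 1)`, is bijective; primes of `ℬ_(z)` and of `𝒜`.
-/

set_option autoImplicit false
set_option linter.unusedSectionVars false

universe u

namespace Groth.Agent.Lib.Helper42.PolyGraded

open HomogeneousLocalization

variable {A B σ τ : Type u} [CommRing A] [SetLike σ A] [AddSubgroupClass σ A]
  {𝒜 : ℕ → σ} [GradedRing 𝒜]
  [CommRing B] [SetLike τ B] [AddSubgroupClass τ B] {ℬ : ℕ → τ} [GradedRing ℬ]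
  (ι : 𝒜 →+*ᵍ ℬ) {z : B} (hz : z ∈ ℬ 1)
  (hbij : Function.Bijective (Polynomial.eval₂RingHom ι.toRingHom z))

/-- the homomorphism `ℬ_(z) → 𝒜`, `x / z^k ↦ x(z = 1)`. -/
noncomputable def awayZ : Away ℬ z →+* A :=
  (IsLocalization.Away.lift z (g := evalOne ι hbij)
      (by rw [evalOne_z]; exact isUnit_one)).comp
    (algebraMap (Away ℬ z) (Localization.Away z))

theorem awayZ_of_val (q : Away ℬ z) (x : B) (k : ℕ)
    (hq : q.val = Localization.mk x ⟨z ^ k, pow_mem (Submonoid.mem_powers _) k⟩) :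
    awayZ ι hbij q = evalOne ι hbij x := by
  have hu : IsUnit (evalOne ι hbij z) := by rw [evalOne_z]; exact isUnit_one
  have h1 : (Localization.mk x ⟨z ^ k, pow_mem (Submonoid.mem_powers _) k⟩ : Localization.Away z) *
      algebraMap B (Localization.Away z) (z ^ k) = algebraMap B (Localization.Away z) x := by
    rw [Localization.mk_eq_mk']
    exact IsLocalization.mk'_spec _ x ⟨z ^ k, pow_mem (Submonoid.mem_powers _) k⟩
  have h2 := congrArg (IsLocalization.Away.lift z (g := evalOne ι hbij) hu) h1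
  rw [map_mul, IsLocalization.Away.lift_eq, IsLocalization.Away.lift_eq, map_pow, evalOne_z,
    one_pow, mul_one] at h2
  rw [awayZ, RingHom.comp_apply, HomogeneousLocalization.algebraMap_apply, hq]
  exact h2

theorem awayZ_mk (n : ℕ) (x : B) (hx : x ∈ ℬ (n • 1)) :
    awayZ ι hbij (Away.mk ℬ hz n x hx) = evalOne ι hbij x :=
  awayZ_of_val ι hbij _ x n (Away.val_mk ℬ n hz x hx)

include hz in
theorem awayZ_bijective : Function.Bijective (awayZ ι hbij) := by
  constructor
  · rw [injective_iff_map_eq_zero]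
    intro q hq
    obtain ⟨n, a, ha, rfl⟩ := Away.mk_surjective ℬ hz q
    rw [awayZ_mk ι hz hbij] at hq
    have ha0 : a = 0 := eq_zero_of_evalOne_eq_zero ι hz hbij ha hq
    subst ha0
    apply HomogeneousLocalization.val_injective
    rw [Away.val_mk, HomogeneousLocalization.val_zero, Localization.mk_zero]
  · intro a
    obtain ⟨N, b, hb, hba⟩ := exists_homogeneous_evalOne_eq ι hz hbij a
    have hb' : b ∈ ℬ (N • 1) := by rwa [smul_eq_mul, mul_one]
    exact ⟨Away.mk ℬ hz N b hb', (awayZ_mk ι hz hbij N b hb').trans hba⟩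

end Groth.Agent.Lib.Helper42.PolyGraded
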