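import Groth.Agent.Lib.Helper42.PolyGraded3
import Mathlib.AlgebraicGeometry.ProjectiveSpectrum.Functor

/-!
# `ℬ = 𝒜[z]`: functoriality of `ℬ_(z) ≅ 𝒜`, and `z` is a nonzerodivisor (helper42)
-/

set_option autoImplicit false
set_option linter.unusedSectionVars false

universe u

namespace Groth.Agent.Lib.Helper42.PolyGraded

open DirectSum HomogeneousLocalization

variable {A B σ τ : Type u} [CommRing A] [SetLike σ A] [AddSubgroupClass σ A]
  {𝒜 : ℕ → σ} [GradedRing 𝒜]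
  [CommRing B] [SetLike τ B] [AddSubgroupClass τ B] {ℬ : ℕ → τ} [GradedRing ℬ]
  (ι : 𝒜 →+*ᵍ ℬ) {z : B} (hz : z ∈ ℬ 1)
  (hbij : Function.Bijective (Polynomial.eval₂RingHom ι.toRingHom z))

include hz in
/-- a homomorphism `ℬ_(z) → 𝒜` sending `ι x / z^k` to `x`, `x` of degree `k`, is `awayZ`. -/
theorem eq_awayZ_of_spec (θ : Away ℬ z →+* A)
    (hθ : ∀ (q : Away ℬ z) (k : ℕ) (x : A), x ∈ 𝒜 k →
      q.val = Localization.mk (ι x) ⟨z ^ k, pow_mem (Submonoid.mem_powers z) k⟩ → θ q = x) :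
    θ = awayZ ι hbij := by
  classical
  let e : Away ℬ z ≃+* A := RingEquiv.ofBijective (awayZ ι hbij) (awayZ_bijective ι hz hbij)
  have key : ∀ a : A, θ (e.symm a) = a := by
    intro a
    conv_rhs => rw [← DirectSum.sum_support_decompose 𝒜 a]
    conv_lhs => rw [← DirectSum.sum_support_decompose 𝒜 a]
    rw [map_sum, map_sum]
    refine Finset.sum_congr rfl (fun j _ => ?_)
    have hx : ι (decompose 𝒜 a j : A) ∈ ℬ (j • 1) := by
      rw [smul_eq_mul, mul_one]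
      exact GradedFunLike.map_mem ι (SetLike.coe_mem _)
    have h1 : e.symm (decompose 𝒜 a j : A) = Away.mk ℬ hz j (ι (decompose 𝒜 a j : A)) hx := by
      rw [RingEquiv.symm_apply_eq]
      exact ((awayZ_mk ι hz hbij j _ hx).trans (evalOne_ι ι hbij _)).symm
    rw [h1]
    exact hθ _ j _ (SetLike.coe_mem _) (Away.val_mk ℬ j hz _ hx)
  refine RingHom.ext (fun q => ?_)
  have := key (e q)
  rwa [e.symm_apply_apply] at this

section functorial

variable {A₂ B₂ σ₂ τ₂ : Type u} [CommRing A₂] [SetLike σ₂ A₂] [AddSubgroupClass σ₂ A₂]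
  {𝒜₂ : ℕ → σ₂} [GradedRing 𝒜₂]
  [CommRing B₂] [SetLike τ₂ B₂] [AddSubgroupClass τ₂ B₂] {ℬ₂ : ℕ → τ₂} [GradedRing ℬ₂]
  (ι₂ : 𝒜₂ →+*ᵍ ℬ₂) {z₂ : B₂} (hz₂ : z₂ ∈ ℬ₂ 1)
  (hbij₂ : Function.Bijective (Polynomial.eval₂RingHom ι₂.toRingHom z₂))

/-- "`z ↦ 1`" is functorial. -/
theorem evalOne_comp (res : A →+* A₂) (ρ : B →+* B₂) (hcomm : ∀ a, ρ (ι a) = ι₂ (res a))
    (hρz : ρ z = z₂) (b : B) : evalOne ι₂ hbij₂ (ρ b) = res (evalOne ι hbij b) := by
  obtain ⟨P, rfl⟩ := hbij.2 b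
  have h1 : evalOne ι hbij (Polynomial.eval₂RingHom ι.toRingHom z P) = P.eval 1 := by
    rw [evalOne_apply]
    congr 1
    exact (polyEquiv ι hbij).symm_apply_apply P
  rw [h1]
  change evalOne ι₂ hbij₂ (ρ (Polynomial.eval₂ ι.toRingHom z P)) = _
  rw [Polynomial.hom_eval₂, Polynomial.hom_eval₂, hρz, evalOne_z]
  have h2 : (evalOne ι₂ hbij₂).comp (ρ.comp ι.toRingHom) = res := by
    refine RingHom.ext (fun a => ?_)
    change evalOne ι₂ hbij₂ (ρ (ι a)) = res a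
    rw [hcomm, evalOne_ι]
  rw [h2]
  have h3 : P.eval 1 = P.eval₂ (RingHom.id A) 1 := rfl
  rw [h3, Polynomial.hom_eval₂, RingHom.comp_id, map_one]

open CategoryTheory AlgebraicGeometry in
include hz₂ in
/-- the morphisms `Spec 𝒜 → Proj ℬ` through `D_+(z)` are compatible with graded homomorphisms. -/
theorem awayZ_compat (res : A →+* A₂) (ρ : ℬ →+*ᵍ ℬ₂)
    (hirr : HomogeneousIdeal.irrelevant ℬ₂ ≤ (HomogeneousIdeal.irrelevant ℬ).map ρ)
    (hcomm : ∀ a, ρ (ι a) = ι₂ (res a)) (hρz : ρ z = z₂) :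
    Spec.map (CommRingCat.ofHom res) ≫ Spec.map (CommRingCat.ofHom (awayZ ι hbij)) ≫
        Proj.awayι ℬ z hz one_pos =
      Spec.map (CommRingCat.ofHom (awayZ ι₂ hbij₂)) ≫ Proj.awayι ℬ₂ z₂ hz₂ one_pos ≫
        Proj.map ρ hirr := by
  subst hρz
  rw [Proj.awayι_comp_map ρ hirr one_pos z hz, ← Category.assoc, ← Category.assoc,
    ← Spec.map_comp, ← Spec.map_comp]
  congr 2
  ext q
  obtain ⟨n, x, hx, rfl⟩ := Away.mk_surjective ℬ hz q
  change res (awayZ ι hbij _) = awayZ ι₂ hbij₂ (Away.map ρ z _)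
  rw [awayZ_mk ι hz hbij, Away.map_mk, awayZ_mk ι₂ hz₂ hbij₂]
  exact (evalOne_comp ι hbij ι₂ hbij₂ res ρ.toRingHom hcomm rfl x).symm

end functorial

include hbij in
/-- `z` is a nonzerodivisor of `ℬ = 𝒜[z]`. -/
theorem z_mul_eq_zero {b : B} (h : z * b = 0) : b = 0 := by
  obtain ⟨P, rfl⟩ := hbij.2 b
  have h1 : Polynomial.eval₂RingHom ι.toRingHom z (Polynomial.X * P) = 0 := by
    rw [map_mul]
    have : Polynomial.eval₂RingHom ι.toRingHom z Polynomial.X = z := Polynomial.eval₂_X _ _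
    rw [this]
    exact h
  have h2 : Polynomial.X * P = 0 := hbij.1 (h1.trans (map_zero _).symm)
  have h3 : P = 0 := by
    apply Polynomial.isRegular_X.left
    change Polynomial.X * P = Polynomial.X * 0
    rw [h2, mul_zero]
  rw [h3, map_zero]

include hbij in
theorem z_pow_mul_eq_zero (n : ℕ) {b : B} (h : z ^ n * b = 0) : b = 0 := by
  induction n with
  | zero => rwa [pow_zero, one_mul] at h
  | succ n ih =>
    apply ih
    apply z_mul_eq_zero ι hbij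
    rw [← mul_assoc, ← pow_succ']
    exact h

include hbij in
theorem eq_zero_of_mk_eq_zero {g : B} {x : B} (hx : x = g * z) (n : ℕ) (a : B)
    (h : (Localization.mk (a * z ^ n)
      ⟨x ^ n, (Submonoid.mem_powers_iff _ _).mpr ⟨n, rfl⟩⟩ : Localization.Away x) = 0) :
    (Localization.mk a ⟨g ^ n, (Submonoid.mem_powers_iff _ _).mpr ⟨n, rfl⟩⟩ :
      Localization.Away g) = 0 := by
  rw [Localization.mk_eq_mk', IsLocalization.mk'_eq_zero_iff] at h
  obtain ⟨⟨_, m, rfl⟩, hm⟩ := h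
  have h3 : z ^ (m + n) * (g ^ m * a) = 0 := by
    have : x ^ m * (a * z ^ n) = z ^ (m + n) * (g ^ m * a) := by
      rw [hx, mul_pow, pow_add]; ring
    rw [← this]
    exact hm
  have h4 := z_pow_mul_eq_zero ι hbij _ h3
  rw [Localization.mk_eq_mk', IsLocalization.mk'_eq_zero_iff]
  exact ⟨⟨g ^ m, m, rfl⟩, h4⟩

include hz hbij in
/-- `ℬ_(g) → ℬ_(g z)` is injective. -/
theorem awayMap_injective {d : ℕ} {g : B} (hg : g ∈ ℬ d) {x : B} (hx : x = g * z) :
    Function.Injective (awayMap ℬ hz hx : Away ℬ g →+* Away ℬ x) := by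
  rw [injective_iff_map_eq_zero]
  intro q hq
  obtain ⟨n, a, ha, rfl⟩ := Away.mk_surjective ℬ hg q
  have h1 := congrArg HomogeneousLocalization.val hq
  rw [HomogeneousLocalization.val_zero] at h1
  have h2 : (awayMap ℬ hz hx (Away.mk ℬ hg n a ha)).val =
      Localization.mk (a * z ^ n) ⟨x ^ n, (Submonoid.mem_powers_iff _ _).mpr ⟨n, rfl⟩⟩ :=
    val_awayMap_mk ℬ hz hx (n • d) ⟨a, ha⟩ n _
  rw [h2] at h1
  apply HomogeneousLocalization.val_injective
  rw [Away.val_mk, HomogeneousLocalization.val_zero]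
  exact eq_zero_of_mk_eq_zero ι hbij hx n a h1

end Groth.Agent.Lib.Helper42.PolyGraded
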