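import Groth.Agent.Lib.Helper42.PolyGraded3
import Mathlib.AlgebraicGeometry.ProjectiveSpectrum.Functor

/-!
# `ℬ = A[z]` with `A` in degree zero (helper42)

A ring `A`, a graded ring `ℬ` on `B`, a ring homomorphism `ι : A → B` landing in degree zero and
`z ∈ ℬ 1` such that `A[X] → B`, `X ↦ z`, is bijective.  Then `ℬ_k = ι(A) z^k`, the degree-zero
localization `ℬ_(z)` is `A`, and `D_+(z)` is all of `Proj ℬ`.
-/

set_option autoImplicit false
set_option linter.unusedSectionVars false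

universe u

namespace Groth.Agent.Lib.Helper42.PolyZero

open DirectSum HomogeneousLocalization

variable {A B τ : Type u} [CommRing A] [CommRing B] [SetLike τ B] [AddSubgroupClass τ B]
  {ℬ : ℕ → τ} [GradedRing ℬ]
  (ι : A →+* B) (hι : ∀ a, ι a ∈ ℬ 0) {z : B} (hz : z ∈ ℬ 1)
  (hbij : Function.Bijective (Polynomial.eval₂RingHom ι z))

include hι hz in
theorem mul_pow_mem (a : A) (k : ℕ) : ι a * z ^ k ∈ ℬ k := by
  have h1 : z ^ k ∈ ℬ (k • 1) := SetLike.pow_mem_graded k hz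
  rw [smul_eq_mul, mul_one] at h1
  have h2 := SetLike.mul_mem_graded (hι a) h1
  rwa [zero_add] at h2

include hι hz hbij in
/-- the elements of degree `k` are the `ι a * z ^ k`. -/
theorem exists_eq_mul_pow {k : ℕ} {x : B} (hx : x ∈ ℬ k) : ∃ a : A, x = ι a * z ^ k := by
  classical
  obtain ⟨P, rfl⟩ := hbij.2 x
  refine ⟨P.coeff k, ?_⟩
  have h1 : Polynomial.eval₂RingHom ι z P = ∑ j ∈ P.support, ι (P.coeff j) * z ^ j := by
    change Polynomial.eval₂ ι z P = _
    rw [Polynomial.eval₂_eq_sum, Polynomial.sum_def]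
  have h2 : GradedRing.proj ℬ k (Polynomial.eval₂RingHom ι z P) =
      Polynomial.eval₂RingHom ι z P := by
    rw [GradedRing.proj_apply, DirectSum.decompose_of_mem_same ℬ hx]
  rw [← h2, h1, map_sum]
  have h3 : ∀ j ∈ P.support, GradedRing.proj ℬ k (ι (P.coeff j) * z ^ j) =
      if j = k then ι (P.coeff k) * z ^ k else 0 := by
    intro j _
    split_ifs with hjk
    · subst hjk
      rw [GradedRing.proj_apply, DirectSum.decompose_of_mem_same ℬ (mul_pow_mem ι hι hz _ _)]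
    · rw [GradedRing.proj_apply, DirectSum.decompose_of_mem_ne ℬ (mul_pow_mem ι hι hz _ _) hjk]
  rw [Finset.sum_congr rfl h3, Finset.sum_ite_eq']
  split_ifs with hk
  · rfl
  · rw [Polynomial.notMem_support_iff.mp hk, map_zero, zero_mul]

include hbij in
theorem mul_pow_injective (k : ℕ) {a a' : A} (h : ι a * z ^ k = ι a' * z ^ k) : a = a' := by
  have h1 : Polynomial.eval₂RingHom ι z (Polynomial.monomial k a) =
      Polynomial.eval₂RingHom ι z (Polynomial.monomial k a') := by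
    change Polynomial.eval₂ ι z _ = Polynomial.eval₂ ι z _
    rw [Polynomial.eval₂_monomial, Polynomial.eval₂_monomial]
    exact h
  have h2 := hbij.1 h1
  have h3 := congrArg (fun P => Polynomial.coeff P k) h2
  simpa using h3

include hι hz hbij in
/-- a homomorphism `ℬ_(z) → A` sending `ι a z^k / z^k` to `a` is bijective. -/
theorem bijective_of_spec (θ : Away ℬ z →+* A)
    (hθ : ∀ (q : Away ℬ z) (k : ℕ) (a : A),
      q.val = Localization.mk (ι a * z ^ k) ⟨z ^ k, pow_mem (Submonoid.mem_powers z) k⟩ →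
        θ q = a) : Function.Bijective θ := by
  constructor
  · rw [injective_iff_map_eq_zero]
    intro q hq
    obtain ⟨n, x, hx, rfl⟩ := Away.mk_surjective ℬ hz q
    have hx' : x ∈ ℬ n := by rwa [smul_eq_mul, mul_one] at hx
    obtain ⟨a, rfl⟩ := exists_eq_mul_pow ι hι hz hbij hx'
    have h1 := hθ (Away.mk ℬ hz n (ι a * z ^ n) hx) n a (Away.val_mk ℬ n hz _ hx)
    rw [hq] at h1
    apply HomogeneousLocalization.val_injective
    rw [Away.val_mk, HomogeneousLocalization.val_zero, ← h1, map_zero, zero_mul,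
      Localization.mk_zero]
  · intro a
    have hx : ι a * z ^ 0 ∈ ℬ (0 • 1) := by
      rw [zero_smul]; exact mul_pow_mem ι hι hz a 0
    exact ⟨Away.mk ℬ hz 0 (ι a * z ^ 0) hx, hθ _ 0 a (Away.val_mk ℬ 0 hz _ hx)⟩

include hι hz hbij in
/-- no point of `Proj ℬ` contains `z`. -/
theorem z_notMem (y : ProjectiveSpectrum ℬ) : z ∉ y.asHomogeneousIdeal := by
  intro hzy
  apply y.not_irrelevant_le
  rw [HomogeneousIdeal.irrelevant_le]
  intro k hk x hx
  obtain ⟨a, rfl⟩ := exists_eq_mul_pow ι hι hz hbij hx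
  obtain ⟨k', rfl⟩ : ∃ k', k = k' + 1 := ⟨k - 1, by omega⟩
  change ι a * z ^ (k' + 1) ∈ y.asHomogeneousIdeal.toIdeal
  rw [pow_succ, ← mul_assoc]
  exact Ideal.mul_mem_left _ _ hzy

section compat

open CategoryTheory AlgebraicGeometry

variable {A₂ B₂ τ₂ : Type u} [CommRing A₂] [CommRing B₂] [SetLike τ₂ B₂] [AddSubgroupClass τ₂ B₂]
  {ℬ₂ : ℕ → τ₂} [GradedRing ℬ₂]

include hι hbij in
/-- the morphisms `Spec A → Proj ℬ` through `D_+(z)` are compatible with graded homomorphisms. -/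
theorem chart_compat (ι₂ : A₂ →+* B₂) {z₂ : B₂} (hz₂ : z₂ ∈ ℬ₂ 1)
    (res : A →+* A₂) (ρ : ℬ →+*ᵍ ℬ₂)
    (hirr : HomogeneousIdeal.irrelevant ℬ₂ ≤ (HomogeneousIdeal.irrelevant ℬ).map ρ)
    (hcomm : ∀ a, ρ (ι a) = ι₂ (res a)) (hρz : ρ z = z₂)
    (θ₁ : Away ℬ z →+* A)
    (hθ₁ : ∀ (q : Away ℬ z) (k : ℕ) (a : A),
      q.val = Localization.mk (ι a * z ^ k) ⟨z ^ k, pow_mem (Submonoid.mem_powers z) k⟩ →
        θ₁ q = a)
    (θ₂ : Away ℬ₂ z₂ →+* A₂)
    (hθ₂ : ∀ (q : Away ℬ₂ z₂) (k : ℕ) (a : A₂),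
      q.val = Localization.mk (ι₂ a * z₂ ^ k) ⟨z₂ ^ k, pow_mem (Submonoid.mem_powers z₂) k⟩ →
        θ₂ q = a) :
    Spec.map (CommRingCat.ofHom res) ≫ Spec.map (CommRingCat.ofHom θ₁) ≫
        Proj.awayι ℬ z hz one_pos =
      Spec.map (CommRingCat.ofHom θ₂) ≫ Proj.awayι ℬ₂ z₂ hz₂ one_pos ≫ Proj.map ρ hirr := by
  subst hρz
  rw [Proj.awayι_comp_map ρ hirr one_pos z hz, ← Category.assoc, ← Category.assoc,
    ← Spec.map_comp, ← Spec.map_comp]
  congr 2
  ext q
  obtain ⟨n, x, hx, rfl⟩ := Away.mk_surjective ℬ hz q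
  have hx' : x ∈ ℬ n := by rwa [smul_eq_mul, mul_one] at hx
  obtain ⟨a, rfl⟩ := exists_eq_mul_pow ι hι hz hbij hx'
  change res (θ₁ _) = θ₂ (Away.map ρ z _)
  rw [hθ₁ _ n a (Away.val_mk ℬ n hz _ hx), Away.map_mk]
  symm
  apply hθ₂ _ n (res a)
  rw [Away.val_mk]
  congr 1
  rw [map_mul, map_pow, hcomm]

end compat

end Groth.Agent.Lib.Helper42.PolyZero
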