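import Groth.Agent.Lib.Helper42.AwayBaseChange

/-!
# `Proj` commutes with base change, for gradings by additive subgroups (helper42)

`isPullback_proj`: for a pushout square of rings `R' → R`, `R' → B`, `R → A`, `B → A` with `B`, `A`
graded by additive subgroups, the structure maps landing in degree zero and `φ : B → A` graded with
the irrelevant-ideal condition, the square `Proj A → Proj B`, `Proj A → Spec R`, `Proj B → Spec R'`,
`Spec R → Spec R'` is cartesian.  (The lead's `S3554` proof, for gradings by additive subgroups and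
ring maps with no algebra instances.)

ns `Groth.Agent.Lib.Helper42.AwayBC`.
-/

set_option autoImplicit false

universe u

open HomogeneousLocalization CategoryTheory CategoryTheory.Limits AlgebraicGeometry

namespace Groth.Agent.Lib.Helper42.AwayBC

variable {R' R B A : Type u} [CommRing R'] [CommRing R] [CommRing B] [CommRing A]
  {σ : Type u} [SetLike σ B] [AddSubgroupClass σ B] (ℬ : ℕ → σ) [GradedRing ℬ]
  {τ : Type u} [SetLike τ A] [AddSubgroupClass τ A] (𝒜 : ℕ → τ) [GradedRing 𝒜]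
  (ρ : R' →+* R) (ιB : R' →+* B) (hιB : ∀ r, ιB r ∈ ℬ 0) (ιA : R →+* A) (hιA : ∀ r, ιA r ∈ 𝒜 0)
  (φ : ℬ →+*ᵍ 𝒜)
  (hpo : IsPushout (CommRingCat.ofHom ρ) (CommRingCat.ofHom ιB) (CommRingCat.ofHom ιA)
    (CommRingCat.ofHom φ.toRingHom))

include hpo in
/-- **`Proj` commutes with base change.** -/
theorem isPullback_proj
    (hφ : HomogeneousIdeal.irrelevant 𝒜 ≤ (HomogeneousIdeal.irrelevant ℬ).map φ) :
    IsPullback (Proj.map φ hφ)
      (Proj.toSpecZero 𝒜 ≫ Spec.map (CommRingCat.ofHom (zOf 𝒜 ιA hιA)))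
      (Proj.toSpecZero ℬ ≫ Spec.map (CommRingCat.ofHom (zOf ℬ ιB hιB)))
      (Spec.map (CommRingCat.ofHom ρ)) := by
  apply Scheme.isPullback_of_openCover (𝒰 := (Proj.affineOpenCover ℬ).openCover)
  intro i
  have hd : 0 < (i.1 : ℕ) := i.1.2
  have hg : (i.2 : B) ∈ ℬ (i.1 : ℕ) := i.2.2
  -- the chart square
  have sqA : IsPullback (Proj.awayι 𝒜 (φ i.2) (φ.2 hg) hd)
      (Spec.map (CommRingCat.ofHom (Away.map φ (i.2 : B)))) (Proj.map φ hφ)
      (Proj.awayι ℬ (i.2 : B) hg hd) :=
    (IsOpenImmersion.isPullback _ _ _ _ (Proj.awayι_comp_map φ hφ hd (i.2 : B) hg) (by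
      rw [Proj.opensRange_awayι, Proj.opensRange_awayι, Proj.map_preimage_basicOpen])).flip
  -- the affine pullback square
  have sqB := isPullback_SpecMap_of_isPushout _ _ _ _
    (isPushout_away ℬ 𝒜 ρ ιB hιB ιA hιA φ hpo hg)
  refine sqB.of_iso sqA.isoPullback (Iso.refl _) (Iso.refl _) (Iso.refl _) ?_ ?_ ?_ ?_
  · simp only [Iso.refl_hom, Category.comp_id]
    exact sqA.isoPullback_hom_snd.symm
  · simp only [Iso.refl_hom, Category.comp_id]
    show _ = sqA.isoPullback.hom ≫ pullback.fst _ _ ≫ _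
    rw [sqA.isoPullback_hom_fst_assoc, Proj.awayι_toSpecZero_assoc, ← Spec.map_comp]
    rfl
  · simp only [Iso.refl_hom, Category.comp_id]
    refine Eq.trans ?_ (Category.id_comp _).symm
    show _ = Proj.awayι ℬ (i.2 : B) hg hd ≫ _
    rw [Proj.awayι_toSpecZero_assoc, ← Spec.map_comp]
    rfl
  · simp

end Groth.Agent.Lib.Helper42.AwayBC
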