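import Mathlib.AlgebraicGeometry.ProjectiveSpectrum.Functor
import Mathlib.AlgebraicGeometry.ProjectiveSpectrum.Basic
import Groth.Agent.Lib.Helper42.LocalGlue

/-!
# The morphism of homogeneous spectra induced by a graded homomorphism, on its open of definition
(helper42)

Ring-level lemmas on `HomogeneousLocalization.awayMap`, `Away.map` and `Proj.awayι`, and the
existence and uniqueness of the morphism `G(ψ) ⟶ Proj 𝒜` induced by a graded homomorphism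
`ψ : 𝒜 →+*ᵍ ℬ` on any open `W` of `Proj ℬ` which is the union of the `D_+(ψ f)`.
-/

set_option autoImplicit false

universe u

namespace Groth.Agent.Lib.Helper42.ProjDom

open CategoryTheory CategoryTheory.Limits AlgebraicGeometry TopologicalSpace Opposite
open HomogeneousLocalization

variable {A B σ τ : Type u} [CommRing A] [SetLike σ A] [AddSubgroupClass σ A]
  {𝒜 : ℕ → σ} [GradedRing 𝒜]
  [CommRing B] [SetLike τ B] [AddSubgroupClass τ B] {ℬ : ℕ → τ} [GradedRing ℬ]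

/-- `Proj.awayι` does not depend on the degree witnessing homogeneity. -/
lemma awayι_congr {m₁ m₂ : ℕ} (x : A) (h₁ : x ∈ 𝒜 m₁) (h₂ : x ∈ 𝒜 m₂) (hm₁ : 0 < m₁)
    (hm₂ : 0 < m₂) : Proj.awayι 𝒜 x h₁ hm₁ = Proj.awayι 𝒜 x h₂ hm₂ := rfl

/-- the localization maps `a / f^i ↦ a g^i / (f g)^i` commute with the maps induced by a graded
homomorphism. -/
lemma awayMap_comp_map (ψ : 𝒜 →+*ᵍ ℬ) {d e : ℕ} {f g x : A} (hf : f ∈ 𝒜 d) (hg : g ∈ 𝒜 e)
    (hx : x = f * g) (hx' : ψ x = ψ f * ψ g) :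
    (awayMap ℬ (ψ.map_mem hg) hx').comp (Away.map ψ f) =
      (Away.map ψ x).comp (awayMap 𝒜 hg hx) := by
  ext a
  obtain ⟨n, a, ha, rfl⟩ := a.mk_surjective _ hf
  simp only [RingHom.coe_comp, Function.comp_apply]
  rw [Away.map_mk, awayMap_mk, awayMap_mk, Away.map_mk]
  simp


/-- the chart morphisms `Spec ℬ_(ψ f) ⟶ Proj 𝒜` are compatible with passing from `f` to `f g`. -/
lemma chart_refine (ψ : 𝒜 →+*ᵍ ℬ) {d e dx : ℕ} {f g x : A} (hf : f ∈ 𝒜 d) (hd : 0 < d)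
    (hg : g ∈ 𝒜 e) (hx : x = f * g) (hx' : ψ x = ψ f * ψ g) (hxm : x ∈ 𝒜 dx) (hdx : 0 < dx) :
    Spec.map (CommRingCat.ofHom (awayMap ℬ (ψ.map_mem hg) hx')) ≫
      Spec.map (CommRingCat.ofHom (Away.map ψ f)) ≫ Proj.awayι 𝒜 f hf hd =
    Spec.map (CommRingCat.ofHom (Away.map ψ x)) ≫ Proj.awayι 𝒜 x hxm hdx := by
  rw [← Category.assoc, ← Spec.map_comp, ← CommRingCat.ofHom_comp, awayMap_comp_map ψ hf hg hx hx',
    CommRingCat.ofHom_comp, Spec.map_comp, Category.assoc,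
    Proj.SpecMap_awayMap_awayι 𝒜 hf hd hg hx]
  rfl


/-- index type of the standard charts. -/
structure Idx (𝒜 : ℕ → σ) where
  /-- the degree -/
  d : ℕ
  /-- the element -/
  f : A
  hd : 0 < d
  hf : f ∈ 𝒜 d

/-- a point of `W` over `D_+(b)` lies in the lifted chart. -/
lemma mem_range_lift (W : (Proj ℬ).Opens) {d : ℕ} {b : B} (hb : b ∈ ℬ d) (hd : 0 < d)
    (hW : Set.range (Proj.awayι ℬ b hb hd).base ⊆ Set.range W.ι.base) (t : W)
    (ht : W.ι t ∈ Proj.basicOpen ℬ b) :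
    t ∈ Set.range (IsOpenImmersion.lift W.ι (Proj.awayι ℬ b hb hd) hW).base := by
  rw [← Proj.opensRange_awayι ℬ b hb hd] at ht
  obtain ⟨y, hy⟩ := ht
  refine ⟨y, ?_⟩
  apply W.ι.isOpenEmbedding.injective
  rw [← Scheme.Hom.comp_apply, IsOpenImmersion.lift_fac]
  exact hy

/-- a point of the lifted chart lies over `D_+(b)`. -/
lemma mem_basicOpen_of_mem_range_lift (W : (Proj ℬ).Opens) {d : ℕ} {b : B} (hb : b ∈ ℬ d)
    (hd : 0 < d) (hW : Set.range (Proj.awayι ℬ b hb hd).base ⊆ Set.range W.ι.base) (t : W)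
    (ht : t ∈ Set.range (IsOpenImmersion.lift W.ι (Proj.awayι ℬ b hb hd) hW).base) :
    W.ι t ∈ Proj.basicOpen ℬ b := by
  obtain ⟨y, rfl⟩ := ht
  rw [← Proj.opensRange_awayι ℬ b hb hd, ← Scheme.Hom.comp_apply, IsOpenImmersion.lift_fac]
  exact ⟨y, rfl⟩

/-- existence and uniqueness of the morphism induced by a graded homomorphism on an open `W` of
`Proj ℬ` which is the union of the `D_+(ψ f)`, `f` homogeneous of positive degree. -/
theorem existsUnique_map_on (ψ : 𝒜 →+*ᵍ ℬ) (W : (Proj ℬ).Opens)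
    (hW : ∀ {d : ℕ} {f : A} (hf : f ∈ 𝒜 d) (hd : 0 < d),
      Set.range (Proj.awayι ℬ (ψ f) (ψ.map_mem hf) hd).base ⊆ Set.range W.ι.base)
    (hcov : ∀ x ∈ W, ∃ (d : ℕ) (f : A) (_ : f ∈ 𝒜 d) (_ : 0 < d), x ∈ Proj.basicOpen ℬ (ψ f)) :
    ∃! p : (W : Scheme.{u}) ⟶ Proj 𝒜, ∀ (d : ℕ) (f : A) (hd : 0 < d) (hf : f ∈ 𝒜 d),
      IsOpenImmersion.lift W.ι (Proj.awayι ℬ (ψ f) (ψ.map_mem hf) hd) (hW hf hd) ≫ p =
        Spec.map (CommRingCat.ofHom (Away.map ψ f)) ≫ Proj.awayι 𝒜 f hf hd := by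
  have key := LocalGlue.existsUnique_glue (T := (W : Scheme.{u})) (Z := Proj 𝒜) (J := Idx 𝒜)
    (fun j => Spec (CommRingCat.of (Away ℬ (ψ j.f))))
    (fun j => IsOpenImmersion.lift W.ι (Proj.awayι ℬ (ψ j.f) (ψ.map_mem j.hf) j.hd) (hW j.hf j.hd))
    (fun t => by
      obtain ⟨d, f, hf, hd, hx⟩ := hcov (W.ι t) t.2
      exact ⟨⟨d, f, hd, hf⟩, mem_range_lift W _ hd _ t hx⟩)
    (fun j => Spec.map (CommRingCat.ofHom (Away.map ψ j.f)) ≫ Proj.awayι 𝒜 j.f j.hf j.hd)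
    (by
      rintro ⟨d₁, f₁, hd₁, hf₁⟩ ⟨d₂, f₂, hd₂, hf₂⟩ t ht₁ ht₂
      have hx₁ : ψ (f₁ * f₂) = ψ f₁ * ψ f₂ := map_mul ψ f₁ f₂
      have hx₂ : ψ (f₁ * f₂) = ψ f₂ * ψ f₁ := (map_mul ψ f₁ f₂).trans (mul_comm _ _)
      refine ⟨⟨d₁ + d₂, f₁ * f₂, Nat.add_pos_left hd₁ d₂, SetLike.mul_mem_graded hf₁ hf₂⟩,
        Spec.map (CommRingCat.ofHom (awayMap ℬ (ψ.map_mem hf₂) hx₁)),
        Spec.map (CommRingCat.ofHom (awayMap ℬ (ψ.map_mem hf₁) hx₂)), ?_, ?_, ?_, ?_⟩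
      · refine mem_range_lift W _ _ _ t ?_
        have h1 := mem_basicOpen_of_mem_range_lift W _ hd₁ _ t ht₁
        have h2 := mem_basicOpen_of_mem_range_lift W _ hd₂ _ t ht₂
        rw [hx₁, Proj.basicOpen_mul]
        exact ⟨h1, h2⟩
      · rw [← cancel_mono W.ι, Category.assoc, IsOpenImmersion.lift_fac, IsOpenImmersion.lift_fac]
        exact Proj.SpecMap_awayMap_awayι ℬ (ψ.map_mem hf₁) hd₁ (ψ.map_mem hf₂) hx₁
      · rw [← cancel_mono W.ι, Category.assoc, IsOpenImmersion.lift_fac, IsOpenImmersion.lift_fac]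
        exact Proj.SpecMap_awayMap_awayι ℬ (ψ.map_mem hf₂) hd₂ (ψ.map_mem hf₁) hx₂
      · rw [chart_refine ψ hf₁ hd₁ hf₂ rfl hx₁ (SetLike.mul_mem_graded hf₁ hf₂)
            (Nat.add_pos_left hd₁ d₂),
          chart_refine ψ hf₂ hd₂ hf₁ (mul_comm f₁ f₂) hx₂ (SetLike.mul_mem_graded hf₁ hf₂)
            (Nat.add_pos_left hd₁ d₂)])
  obtain ⟨p, hp, huniq⟩ := key
  refine ⟨p, fun d f hd hf => hp ⟨d, f, hd, hf⟩, fun p' hp' => huniq p' (fun j => hp' j.d j.f j.hd j.hf)⟩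


/-- compatibility of `Away.map` with the maps from degree zero. -/
lemma awayMap_fromZero {R : Type u} [CommRing R] (f : 𝒜 →+*ᵍ ℬ) (sA : R →+* 𝒜 0)
    (sB : R →+* ℬ 0) (hs : ∀ r, f (sA r : A) = (sB r : B)) (x : A) (r : R) :
    HomogeneousLocalization.Away.map f x
        (HomogeneousLocalization.fromZeroRingHom 𝒜 (Submonoid.powers x) (sA r)) =
      HomogeneousLocalization.fromZeroRingHom ℬ (Submonoid.powers (f x)) (sB r) := by
  apply HomogeneousLocalization.val_injective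
  change Localization.mk (f (sA r : A)) ⟨f 1, _⟩ = Localization.mk (sB r : B) ⟨1, _⟩
  rw [Localization.mk_eq_mk_iff, Localization.r_iff_exists]
  refine ⟨1, ?_⟩
  simp only [OneMemClass.coe_one, one_mul, hs r, map_one]

section restrict

variable {A₂ B₂ σ₂ τ₂ : Type u} [CommRing A₂] [SetLike σ₂ A₂] [AddSubgroupClass σ₂ A₂]
  {𝒜₂ : ℕ → σ₂} [GradedRing 𝒜₂]
  [CommRing B₂] [SetLike τ₂ B₂] [AddSubgroupClass τ₂ B₂] {ℬ₂ : ℕ → τ₂} [GradedRing ℬ₂]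

/-- the standard chart of `Proj ℬ₂` at an element `b₂ = ρ' b` maps, under `Proj.map ρ'`, to the
standard chart at `b` (a form of Mathlib's `Proj.awayι_comp_map` with a propositional equality). -/
lemma SpecMap_map_awayι (ρ' : ℬ →+*ᵍ ℬ₂)
    (hirr' : HomogeneousIdeal.irrelevant ℬ₂ ≤ (HomogeneousIdeal.irrelevant ℬ).map ρ')
    {d : ℕ} (hd : 0 < d) {b : B} (hb : b ∈ ℬ d) {b₂ : B₂} (hb₂ : b₂ ∈ ℬ₂ d) (h : ρ' b = b₂)
    (hle : Submonoid.powers b ≤ (Submonoid.powers b₂).comap ρ') :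
    Spec.map (CommRingCat.ofHom (HomogeneousLocalization.map ρ' hle)) ≫ Proj.awayι ℬ b hb hd =
      Proj.awayι ℬ₂ b₂ hb₂ hd ≫ Proj.map ρ' hirr' := by
  subst h
  exact (Proj.awayι_comp_map ρ' hirr' hd b hb).symm

omit [AddSubgroupClass τ B] [GradedRing ℬ] [AddSubgroupClass τ₂ B₂] [GradedRing ℬ₂] in
/-- `powers b ≤ (powers b₂).comap ρ'` when `ρ' b = b₂`. -/
lemma powers_le_comap (ρ' : ℬ →+*ᵍ ℬ₂) {b : B} {b₂ : B₂} (h : ρ' b = b₂) :
    Submonoid.powers b ≤ (Submonoid.powers b₂).comap ρ' := by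
  rintro _ ⟨n, rfl⟩
  exact ⟨n, by simp [← h]⟩

/-- a commutative square of graded homomorphisms induces a commutative square of degree-zero
localizations. -/
lemma map_comp_awayMap (ψ : 𝒜 →+*ᵍ ℬ) (ψ₂ : 𝒜₂ →+*ᵍ ℬ₂) (ρ : 𝒜 →+*ᵍ 𝒜₂) (ρ' : ℬ →+*ᵍ ℬ₂)
    (hcomm : ∀ a : A, ρ' (ψ a) = ψ₂ (ρ a)) (f : A)
    (hle : Submonoid.powers (ψ f) ≤ (Submonoid.powers (ψ₂ (ρ f))).comap ρ') :
    (HomogeneousLocalization.map ρ' hle).comp (Away.map ψ f) =
      (Away.map ψ₂ (ρ f)).comp (Away.map ρ f) := by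
  ext a
  obtain ⟨c, rfl⟩ := HomogeneousLocalization.mk_surjective a
  simp only [RingHom.coe_comp, Function.comp_apply, Away.map, HomogeneousLocalization.map_mk]
  simp only [HomogeneousLocalization.val_mk]
  congr 1
  · exact hcomm _
  · exact Subtype.ext (hcomm _)

/-- the chart morphisms are compatible with restriction along a commutative square of graded
homomorphisms. -/
lemma chart_restrict (ψ : 𝒜 →+*ᵍ ℬ) (ψ₂ : 𝒜₂ →+*ᵍ ℬ₂) (ρ : 𝒜 →+*ᵍ 𝒜₂) (ρ' : ℬ →+*ᵍ ℬ₂)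
    (hcomm : ∀ a : A, ρ' (ψ a) = ψ₂ (ρ a))
    (hirr : HomogeneousIdeal.irrelevant 𝒜₂ ≤ (HomogeneousIdeal.irrelevant 𝒜).map ρ)
    {d : ℕ} (hd : 0 < d) {f : A} (hf : f ∈ 𝒜 d)
    (hle : Submonoid.powers (ψ f) ≤ (Submonoid.powers (ψ₂ (ρ f))).comap ρ') :
    Spec.map (CommRingCat.ofHom (HomogeneousLocalization.map ρ' hle)) ≫
      Spec.map (CommRingCat.ofHom (Away.map ψ f)) ≫ Proj.awayι 𝒜 f hf hd =
    Spec.map (CommRingCat.ofHom (Away.map ψ₂ (ρ f))) ≫ Proj.awayι 𝒜₂ (ρ f) (ρ.map_mem hf) hd ≫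
      Proj.map ρ hirr := by
  rw [← Category.assoc, ← Spec.map_comp, ← CommRingCat.ofHom_comp,
    map_comp_awayMap ψ ψ₂ ρ ρ' hcomm f hle, CommRingCat.ofHom_comp, Spec.map_comp, Category.assoc,
    Proj.awayι_comp_map ρ hirr hd f hf]

end restrict

end Groth.Agent.Lib.Helper42.ProjDom
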