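import Groth.Agent.Lib.Helper42.ProjDom
import Mathlib.AlgebraicGeometry.Morphisms.Affine

/-!
# The morphism induced by a graded homomorphism on its open of definition is affine (helper42)

For `ψ : 𝒜 →+*ᵍ ℬ`, an open `W` of `Proj ℬ` which is the union of the `D_+(ψ f)` and a morphism
`p : W ⟶ Proj 𝒜` pinned on the standard charts: `p⁻¹(D_+(f)) = W ∩ D_+(ψ f)`, and `p` is affine.
-/

set_option autoImplicit false

universe u

namespace Groth.Agent.Lib.Helper42.ProjDom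

open CategoryTheory CategoryTheory.Limits AlgebraicGeometry TopologicalSpace Opposite
open HomogeneousLocalization

variable {A B σ τ : Type u} [CommRing A] [SetLike σ A] [AddSubgroupClass σ A]
  {𝒜 : ℕ → σ} [GradedRing 𝒜]
  [CommRing B] [SetLike τ B] [AddSubgroupClass τ B] {ℬ : ℕ → τ} [GradedRing ℬ]

/-- an element of the irrelevant ideal outside an ideal has a homogeneous component of positive
degree outside it. -/
theorem exists_pos_deg_notMem (I : Ideal A) {f : A}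
    (hf : f ∈ (HomogeneousIdeal.irrelevant 𝒜).toIdeal) (hfI : f ∉ I) :
    ∃ (d : ℕ) (_ : 0 < d) (fd : A) (_ : fd ∈ 𝒜 d), fd ∉ I := by
  classical
  by_contra hcon
  have hcon' : ∀ (d : ℕ), 0 < d → ∀ fd ∈ 𝒜 d, fd ∈ I := by
    intro d hd fd hfd
    by_contra h
    exact hcon ⟨d, hd, fd, hfd, h⟩
  apply hfI
  rw [← DirectSum.sum_support_decompose 𝒜 f]
  refine Ideal.sum_mem _ (fun d _ => ?_)
  by_cases hd : d = 0
  · subst hd
    have h0 : (DirectSum.decompose 𝒜 f 0 : A) = 0 := by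
      have := (HomogeneousIdeal.mem_irrelevant_iff 𝒜 f).mp hf
      rwa [GradedRing.proj_apply] at this
    rw [h0]
    exact Ideal.zero_mem _
  · exact hcon' d (Nat.pos_of_ne_zero hd) _ (SetLike.coe_mem _)

/-- every point of `Proj 𝒜` lies in some `D_+(f)`, `f` homogeneous of positive degree. -/
theorem exists_mem_basicOpen (x : Proj 𝒜) :
    ∃ (d : ℕ) (_ : 0 < d) (f : A) (_ : f ∈ 𝒜 d), x ∈ Proj.basicOpen 𝒜 f := by
  have h := x.not_irrelevant_le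
  obtain ⟨a, ha, hax⟩ := SetLike.not_le_iff_exists.mp h
  obtain ⟨d, hd, fd, hfd, hfdx⟩ := exists_pos_deg_notMem (𝒜 := 𝒜) x.asHomogeneousIdeal.toIdeal ha hax
  exact ⟨d, hd, fd, hfd, hfdx⟩


/-- `Away.map` sends the localization element `g^d/f^e` to the corresponding element. -/
lemma map_isLocalizationElem (ψ : 𝒜 →+*ᵍ ℬ) {d e : ℕ} {f g : A} (hf : f ∈ 𝒜 d) (hg : g ∈ 𝒜 e) :
    Away.map ψ f (Away.isLocalizationElem hf hg) =
      Away.isLocalizationElem (ψ.map_mem hf) (ψ.map_mem hg) := by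
  unfold Away.isLocalizationElem
  rw [Away.map_mk]
  congr 1
  exact map_pow ψ g d

/-- the preimage of `D_+(f)` under the morphism induced by `ψ` is `W ∩ D_+(ψ f)`. -/
theorem preimage_basicOpen (ψ : 𝒜 →+*ᵍ ℬ) (W : (Proj ℬ).Opens)
    (hW : ∀ {d : ℕ} {f : A} (hf : f ∈ 𝒜 d) (hd : 0 < d),
      Set.range (Proj.awayι ℬ (ψ f) (ψ.map_mem hf) hd).base ⊆ Set.range W.ι.base)
    (hcov : ∀ x ∈ W, ∃ (d : ℕ) (f : A) (_ : f ∈ 𝒜 d) (_ : 0 < d), x ∈ Proj.basicOpen ℬ (ψ f))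
    (p : (W : Scheme.{u}) ⟶ Proj 𝒜)
    (hp : ∀ (d : ℕ) (f : A) (hd : 0 < d) (hf : f ∈ 𝒜 d),
      IsOpenImmersion.lift W.ι (Proj.awayι ℬ (ψ f) (ψ.map_mem hf) hd) (hW hf hd) ≫ p =
        Spec.map (CommRingCat.ofHom (Away.map ψ f)) ≫ Proj.awayι 𝒜 f hf hd)
    {d : ℕ} {f : A} (hf : f ∈ 𝒜 d) (hd : 0 < d) :
    p ⁻¹ᵁ Proj.basicOpen 𝒜 f = W.ι ⁻¹ᵁ Proj.basicOpen ℬ (ψ f) := by
  ext t
  constructor
  · intro ht
    obtain ⟨e, g, hg, he, htg⟩ := hcov (W.ι t) t.2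
    obtain ⟨z, rfl⟩ := mem_range_lift W (b := ψ g) (ψ.map_mem hg) he (hW hg he) t htg
    have h1 : p ((IsOpenImmersion.lift W.ι (Proj.awayι ℬ (ψ g) (ψ.map_mem hg) he) (hW hg he)) z) =
        (Proj.awayι 𝒜 g hg he) ((Spec.map (CommRingCat.ofHom (Away.map ψ g))) z) := by
      rw [← Scheme.Hom.comp_apply, hp e g he hg, Scheme.Hom.comp_apply]
    have ht' : (Spec.map (CommRingCat.ofHom (Away.map ψ g))) z ∈
        Proj.awayι 𝒜 g hg he ⁻¹ᵁ Proj.basicOpen 𝒜 f := by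
      change (Proj.awayι 𝒜 g hg he) ((Spec.map (CommRingCat.ofHom (Away.map ψ g))) z) ∈
        Proj.basicOpen 𝒜 f
      rw [← h1]; exact ht
    rw [Proj.awayι_preimage_basicOpen 𝒜 hg he hf hd] at ht'
    have ht'' : z ∈ PrimeSpectrum.basicOpen
        ((CommRingCat.ofHom (Away.map ψ g)) (Away.isLocalizationElem hg hf)) := ht'
    have h2 : (CommRingCat.ofHom (Away.map ψ g)) (Away.isLocalizationElem hg hf) =
        Away.isLocalizationElem (ψ.map_mem hg) (ψ.map_mem hf) := map_isLocalizationElem ψ hg hf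
    rw [h2, ← Proj.awayι_preimage_basicOpen ℬ (ψ.map_mem hg) he (ψ.map_mem hf) hd] at ht''
    change W.ι _ ∈ Proj.basicOpen ℬ (ψ f)
    rw [← Scheme.Hom.comp_apply, IsOpenImmersion.lift_fac]
    exact ht''
  · intro ht
    obtain ⟨z, rfl⟩ := mem_range_lift W (b := ψ f) (ψ.map_mem hf) hd (hW hf hd) t ht
    have h1 : p ((IsOpenImmersion.lift W.ι (Proj.awayι ℬ (ψ f) (ψ.map_mem hf) hd) (hW hf hd)) z) =
        (Proj.awayι 𝒜 f hf hd) ((Spec.map (CommRingCat.ofHom (Away.map ψ f))) z) := by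
      rw [← Scheme.Hom.comp_apply, hp d f hd hf, Scheme.Hom.comp_apply]
    change p _ ∈ Proj.basicOpen 𝒜 f
    rw [h1]
    exact (Proj.opensRange_awayι 𝒜 f hf hd).le ⟨_, rfl⟩


/-- `W ∩ D_+(b)` is affine when the standard chart at `b` lands in `W`. -/
theorem isAffineOpen_preimage_basicOpen (W : (Proj ℬ).Opens) {d : ℕ} {b : B} (hb : b ∈ ℬ d)
    (hd : 0 < d) (hW : Set.range (Proj.awayι ℬ b hb hd).base ⊆ Set.range W.ι.base) :
    IsAffineOpen (W.ι ⁻¹ᵁ Proj.basicOpen ℬ b) := by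
  have h : W.ι ⁻¹ᵁ Proj.basicOpen ℬ b =
      (IsOpenImmersion.lift W.ι (Proj.awayι ℬ b hb hd) hW).opensRange := by
    ext t
    constructor
    · intro ht
      exact mem_range_lift W hb hd hW t ht
    · intro ht
      exact mem_basicOpen_of_mem_range_lift W hb hd hW t ht
  rw [h]
  exact isAffineOpen_opensRange _

/-- the morphism induced by a graded homomorphism on its open of definition is affine. -/
theorem isAffineHom_map_on (ψ : 𝒜 →+*ᵍ ℬ) (W : (Proj ℬ).Opens)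
    (hW : ∀ {d : ℕ} {f : A} (hf : f ∈ 𝒜 d) (hd : 0 < d),
      Set.range (Proj.awayι ℬ (ψ f) (ψ.map_mem hf) hd).base ⊆ Set.range W.ι.base)
    (hcov : ∀ x ∈ W, ∃ (d : ℕ) (f : A) (_ : f ∈ 𝒜 d) (_ : 0 < d), x ∈ Proj.basicOpen ℬ (ψ f))
    (p : (W : Scheme.{u}) ⟶ Proj 𝒜)
    (hp : ∀ (d : ℕ) (f : A) (hd : 0 < d) (hf : f ∈ 𝒜 d),
      IsOpenImmersion.lift W.ι (Proj.awayι ℬ (ψ f) (ψ.map_mem hf) hd) (hW hf hd) ≫ p =
        Spec.map (CommRingCat.ofHom (Away.map ψ f)) ≫ Proj.awayι 𝒜 f hf hd) :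
    IsAffineHom p := by
  refine isAffineHom_of_forall_exists_isAffineOpen (f := p) (fun x => ?_)
  obtain ⟨d, hd, f, hf, hx⟩ := exists_mem_basicOpen (𝒜 := 𝒜) x
  refine ⟨Proj.basicOpen 𝒜 f, hx, Proj.isAffineOpen_basicOpen 𝒜 f hf hd, ?_⟩
  rw [preimage_basicOpen ψ W hW hcov p hp hf hd]
  exact isAffineOpen_preimage_basicOpen W (ψ.map_mem hf) hd (hW hf hd)

end Groth.Agent.Lib.Helper42.ProjDom
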