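import Groth.Agent.Lib.Helper42.ProjDomAffine
import Mathlib.AlgebraicGeometry.Morphisms.OpenImmersion

/-!
# Graded homomorphisms bijective in high degrees induce isomorphisms of homogeneous spectra
(helper42)
-/

set_option autoImplicit false

universe u

namespace Groth.Agent.Lib.Helper42.ProjDom

open CategoryTheory CategoryTheory.Limits AlgebraicGeometry TopologicalSpace Opposite
open HomogeneousLocalization

variable {A B σ τ : Type u} [CommRing A] [SetLike σ A] [AddSubgroupClass σ A]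
  {𝒜 : ℕ → σ} [GradedRing 𝒜]
  [CommRing B] [SetLike τ B] [AddSubgroupClass τ B] {ℬ : ℕ → τ} [GradedRing ℬ]

/-- `A_(s) → B_(f s)` is bijective when `f` is bijective in degrees `≥ d₀` and `deg s > 0`. -/
lemma awayMap_bijective_of_large (f : 𝒜 →+*ᵍ ℬ) (d₀ : ℕ)
    (hbij : ∀ n : ℕ, d₀ ≤ n → Set.BijOn f (𝒜 n) (ℬ n)) {i : ℕ} (hi : 0 < i) (s : A)
    (hs : s ∈ 𝒜 i) : Function.Bijective (HomogeneousLocalization.Away.map f s) := by
  classical
  constructor
  · rw [injective_iff_map_eq_zero]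
    intro z hz
    obtain ⟨n, a, ha, rfl⟩ := HomogeneousLocalization.Away.mk_surjective 𝒜 hs z
    rw [HomogeneousLocalization.Away.map_mk] at hz
    have h1 := congr_arg HomogeneousLocalization.val hz
    rw [HomogeneousLocalization.Away.val_mk, HomogeneousLocalization.val_zero,
      Localization.mk_eq_mk', IsLocalization.mk'_eq_zero_iff] at h1
    obtain ⟨⟨c, m, rfl⟩, hc⟩ := h1
    have hc' : f s ^ m * f a = 0 := hc
    have h2 : f (s ^ (m + d₀) * a) = 0 := by
      rw [map_mul, map_pow, pow_add, mul_comm (f s ^ m) (f s ^ d₀), mul_assoc, hc', mul_zero]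
    have hmem : s ^ (m + d₀) * a ∈ 𝒜 ((m + d₀) • i + n • i) :=
      SetLike.mul_mem_graded (SetLike.pow_mem_graded (m + d₀) hs) ha
    have hpos : d₀ ≤ (m + d₀) • i + n • i := by
      simp only [smul_eq_mul]
      have : d₀ ≤ (m + d₀) * i := by nlinarith
      omega
    have h3 : s ^ (m + d₀) * a = 0 :=
      (hbij _ hpos).injOn hmem (zero_mem _) (by rw [h2, map_zero])
    apply HomogeneousLocalization.val_injective
    rw [HomogeneousLocalization.Away.val_mk, HomogeneousLocalization.val_zero,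
      Localization.mk_eq_mk', IsLocalization.mk'_eq_zero_iff]
    exact ⟨⟨s ^ (m + d₀), m + d₀, rfl⟩, h3⟩
  · intro z
    obtain ⟨n, b, hb, rfl⟩ := HomogeneousLocalization.Away.mk_surjective ℬ (Graded.map_mem f hs) z
    have hb' : b * f s ^ d₀ ∈ ℬ ((n + d₀) • i) := by
      have := SetLike.mul_mem_graded hb (SetLike.pow_mem_graded d₀ (Graded.map_mem f hs))
      rwa [show n • i + d₀ • i = (n + d₀) • i by simp only [smul_eq_mul]; ring] at this
    have hpos : d₀ ≤ (n + d₀) • i := by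
      simp only [smul_eq_mul]
      nlinarith
    obtain ⟨a, ha, hab⟩ := (hbij _ hpos).surjOn hb'
    refine ⟨HomogeneousLocalization.Away.mk 𝒜 hs (n + d₀) a ha, ?_⟩
    rw [HomogeneousLocalization.Away.map_mk]
    apply HomogeneousLocalization.val_injective
    rw [HomogeneousLocalization.Away.val_mk, HomogeneousLocalization.Away.val_mk,
      Localization.mk_eq_mk_iff, Localization.r_iff_exists]
    refine ⟨1, ?_⟩
    simp only [OneMemClass.coe_one, one_mul, hab]
    ring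


omit [AddSubgroupClass σ A] [GradedRing 𝒜] in
/-- when `ψ` is surjective in high degrees, every point of `Proj ℬ` lies in some `D_+(ψ f)`. -/
theorem exists_mem_basicOpen_map (ψ : 𝒜 →+*ᵍ ℬ) (d₀ : ℕ)
    (hsurj : ∀ n : ℕ, d₀ ≤ n → Set.SurjOn ψ (𝒜 n) (ℬ n)) (x : Proj ℬ) :
    ∃ (d : ℕ) (f : A) (_ : f ∈ 𝒜 d) (_ : 0 < d), x ∈ Proj.basicOpen ℬ (ψ f) := by
  obtain ⟨e, he, b, hb, hx⟩ := exists_mem_basicOpen (𝒜 := ℬ) x
  have hpos : d₀ ≤ (d₀ + 1) • e := by
    simp only [smul_eq_mul]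
    nlinarith
  obtain ⟨a, ha, hab⟩ := hsurj _ hpos (SetLike.pow_mem_graded (d₀ + 1) hb)
  refine ⟨(d₀ + 1) • e, a, ha, ?_, ?_⟩
  · simp only [smul_eq_mul]
    exact Nat.mul_pos (Nat.succ_pos d₀) he
  · rw [hab, Proj.basicOpen_pow _ _ _ (Nat.succ_pos d₀)]
    exact hx

set_option backward.isDefEq.respectTransparency.types false in
/-- the morphism induced by a graded homomorphism bijective in high degrees is an isomorphism. -/
theorem isIso_map_on (ψ : 𝒜 →+*ᵍ ℬ) (d₀ : ℕ)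
    (hbij : ∀ n : ℕ, d₀ ≤ n → Set.BijOn ψ (𝒜 n) (ℬ n)) (W : (Proj ℬ).Opens)
    (hW : ∀ {d : ℕ} {f : A} (hf : f ∈ 𝒜 d) (hd : 0 < d),
      Set.range (Proj.awayι ℬ (ψ f) (ψ.map_mem hf) hd).base ⊆ Set.range W.ι.base)
    (hcov : ∀ x ∈ W, ∃ (d : ℕ) (f : A) (_ : f ∈ 𝒜 d) (_ : 0 < d), x ∈ Proj.basicOpen ℬ (ψ f))
    (p : (W : Scheme.{u}) ⟶ Proj 𝒜)
    (hp : ∀ (d : ℕ) (f : A) (hd : 0 < d) (hf : f ∈ 𝒜 d),
      IsOpenImmersion.lift W.ι (Proj.awayι ℬ (ψ f) (ψ.map_mem hf) hd) (hW hf hd) ≫ p =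
        Spec.map (CommRingCat.ofHom (Away.map ψ f)) ≫ Proj.awayι 𝒜 f hf hd) :
    IsIso p := by
  rw [← MorphismProperty.isomorphisms.iff,
    IsZariskiLocalAtTarget.iff_of_openCover (P := MorphismProperty.isomorphisms Scheme)
    (Proj.affineOpenCover 𝒜).openCover]
  intro i
  have hpb := IsOpenImmersion.isPullback
    (Spec.map (CommRingCat.ofHom (HomogeneousLocalization.Away.map ψ (i.2 : A))))
    (IsOpenImmersion.lift W.ι (Proj.awayι ℬ (ψ (i.2 : A)) (ψ.map_mem i.2.2) i.1.2) (hW i.2.2 i.1.2))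
    (Proj.awayι 𝒜 (i.2 : A) i.2.2 i.1.2) p
    (hp i.1 (i.2 : A) i.1.2 i.2.2)
    (by
      rw [Proj.opensRange_awayι, preimage_basicOpen ψ W hW hcov p hp i.2.2 i.1.2]
      ext t
      constructor
      · intro ht
        exact mem_range_lift W (b := ψ (i.2 : A)) (ψ.map_mem i.2.2) i.1.2 (hW i.2.2 i.1.2) t ht
      · intro ht
        exact mem_basicOpen_of_mem_range_lift W (b := ψ (i.2 : A)) (ψ.map_mem i.2.2) i.1.2
          (hW i.2.2 i.1.2) t ht)
  have hci : IsIso
      (Spec.map (CommRingCat.ofHom (HomogeneousLocalization.Away.map ψ (i.2 : A)))) := by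
    rw [isIso_SpecMap_iff]
    exact awayMap_bijective_of_large ψ d₀ hbij i.1.2 _ i.2.2
  change MorphismProperty.isomorphisms Scheme (pullback.snd p
    (Proj.awayι 𝒜 (i.2 : A) i.2.2 i.1.2))
  have h2 : hpb.flip.isoPullback.hom ≫ pullback.snd p
      (Proj.awayι 𝒜 (i.2 : A) i.2.2 i.1.2) =
      Spec.map (CommRingCat.ofHom (HomogeneousLocalization.Away.map ψ (i.2 : A))) :=
    hpb.flip.isoPullback_hom_snd
  rw [MorphismProperty.isomorphisms.iff]
  have h3 : pullback.snd p (Proj.awayι 𝒜 (i.2 : A) i.2.2 i.1.2) =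
      hpb.flip.isoPullback.inv ≫
        Spec.map (CommRingCat.ofHom (HomogeneousLocalization.Away.map ψ (i.2 : A))) := by
    exact (Iso.eq_inv_comp _).2 h2
  rw [h3]
  infer_instance

end Groth.Agent.Lib.Helper42.ProjDom
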