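import Groth.Agent.Lib.Helper42.ProjDomAffine
import Mathlib.AlgebraicGeometry.Morphisms.IsIso

/-!
# When the morphism induced by a graded homomorphism is an isomorphism (helper42)

For `ψ : 𝒜 →+*ᵍ ℬ`, an open `W` of `Proj ℬ` which is the union of the `D_+(ψ f)` and a morphism
`p : W ⟶ Proj 𝒜` pinned on the standard charts: if `p` is an isomorphism then all the maps
`𝒜_(f) → ℬ_(ψ f)` are bijective.
-/

set_option autoImplicit false

universe u

namespace Groth.Agent.Lib.Helper42.ProjDom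

open CategoryTheory CategoryTheory.Limits AlgebraicGeometry TopologicalSpace Opposite
open HomogeneousLocalization

variable {A B σ τ : Type u} [CommRing A] [SetLike σ A] [AddSubgroupClass σ A]
  {𝒜 : ℕ → σ} [GradedRing 𝒜]
  [CommRing B] [SetLike τ B] [AddSubgroupClass τ B] {ℬ : ℕ → τ} [GradedRing ℬ]

set_option backward.isDefEq.respectTransparency.types false in
/-- the standard square over `D_+(f)` is cartesian. -/
theorem isPullback_map_on (ψ : 𝒜 →+*ᵍ ℬ) (W : (Proj ℬ).Opens)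
    (hW : ∀ {d : ℕ} {f : A} (hf : f ∈ 𝒜 d) (hd : 0 < d),
      Set.range (Proj.awayι ℬ (ψ f) (ψ.map_mem hf) hd).base ⊆ Set.range W.ι.base)
    (hcov : ∀ x ∈ W, ∃ (d : ℕ) (f : A) (_ : f ∈ 𝒜 d) (_ : 0 < d), x ∈ Proj.basicOpen ℬ (ψ f))
    (p : (W : Scheme.{u}) ⟶ Proj 𝒜)
    (hp : ∀ (d : ℕ) (f : A) (hd : 0 < d) (hf : f ∈ 𝒜 d),
      IsOpenImmersion.lift W.ι (Proj.awayι ℬ (ψ f) (ψ.map_mem hf) hd) (hW hf hd) ≫ p =
        Spec.map (CommRingCat.ofHom (Away.map ψ f)) ≫ Proj.awayι 𝒜 f hf hd)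
    {d : ℕ} {f : A} (hf : f ∈ 𝒜 d) (hd : 0 < d) :
    IsPullback (Spec.map (CommRingCat.ofHom (Away.map ψ f)))
      (IsOpenImmersion.lift W.ι (Proj.awayι ℬ (ψ f) (ψ.map_mem hf) hd) (hW hf hd))
      (Proj.awayι 𝒜 f hf hd) p :=
  IsOpenImmersion.isPullback
    (Spec.map (CommRingCat.ofHom (HomogeneousLocalization.Away.map ψ f)))
    (IsOpenImmersion.lift W.ι (Proj.awayι ℬ (ψ f) (ψ.map_mem hf) hd) (hW hf hd))
    (Proj.awayι 𝒜 f hf hd) p
    (hp d f hd hf)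
    (by
      rw [Proj.opensRange_awayι, preimage_basicOpen ψ W hW hcov p hp hf hd]
      ext t
      constructor
      · intro ht
        exact mem_range_lift W (b := ψ f) (ψ.map_mem hf) hd (hW hf hd) t ht
      · intro ht
        exact mem_basicOpen_of_mem_range_lift W (b := ψ f) (ψ.map_mem hf) hd
          (hW hf hd) t ht)

/-- if the morphism induced by `ψ` is an isomorphism, the maps `𝒜_(f) → ℬ_(ψ f)` are bijective. -/
theorem away_map_bijective_of_isIso (ψ : 𝒜 →+*ᵍ ℬ) (W : (Proj ℬ).Opens)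
    (hW : ∀ {d : ℕ} {f : A} (hf : f ∈ 𝒜 d) (hd : 0 < d),
      Set.range (Proj.awayι ℬ (ψ f) (ψ.map_mem hf) hd).base ⊆ Set.range W.ι.base)
    (hcov : ∀ x ∈ W, ∃ (d : ℕ) (f : A) (_ : f ∈ 𝒜 d) (_ : 0 < d), x ∈ Proj.basicOpen ℬ (ψ f))
    (p : (W : Scheme.{u}) ⟶ Proj 𝒜)
    (hp : ∀ (d : ℕ) (f : A) (hd : 0 < d) (hf : f ∈ 𝒜 d),
      IsOpenImmersion.lift W.ι (Proj.awayι ℬ (ψ f) (ψ.map_mem hf) hd) (hW hf hd) ≫ p =
        Spec.map (CommRingCat.ofHom (Away.map ψ f)) ≫ Proj.awayι 𝒜 f hf hd)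
    [IsIso p] {d : ℕ} {f : A} (hf : f ∈ 𝒜 d) (hd : 0 < d) :
    Function.Bijective (Away.map ψ f) := by
  have hpb := isPullback_map_on ψ W hW hcov p hp hf hd
  have h : IsIso (Spec.map (CommRingCat.ofHom (Away.map ψ f))) := hpb.isIso_fst_of_isIso
  exact isIso_SpecMap_iff.mp h

end Groth.Agent.Lib.Helper42.ProjDom
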