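import Groth.Agent.Lib.Helper42.ProjDomIso

/-!
# Graded homomorphisms surjective in high degrees: the induced maps of degree-zero localizations
are surjective (helper42)
-/

set_option autoImplicit false

universe u

namespace Groth.Agent.Lib.Helper42.ProjDom

open HomogeneousLocalization

variable {A B σ τ : Type u} [CommRing A] [SetLike σ A] [AddSubgroupClass σ A]
  {𝒜 : ℕ → σ} [GradedRing 𝒜]
  [CommRing B] [SetLike τ B] [AddSubgroupClass τ B] {ℬ : ℕ → τ} [GradedRing ℬ]

/-- `A_(s) → B_(f s)` is surjective when `f` is surjective in degrees `≥ d₀` and `deg s > 0`. -/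
lemma awayMap_surjective_of_large (f : 𝒜 →+*ᵍ ℬ) (d₀ : ℕ)
    (hsurj : ∀ n : ℕ, d₀ ≤ n → Set.SurjOn f (𝒜 n) (ℬ n)) {i : ℕ} (hi : 0 < i) (s : A)
    (hs : s ∈ 𝒜 i) : Function.Surjective (HomogeneousLocalization.Away.map f s) := by
  classical
  intro z
  obtain ⟨n, b, hb, rfl⟩ := HomogeneousLocalization.Away.mk_surjective ℬ (Graded.map_mem f hs) z
  have hb' : b * f s ^ d₀ ∈ ℬ ((n + d₀) • i) := by
    have := SetLike.mul_mem_graded hb (SetLike.pow_mem_graded d₀ (Graded.map_mem f hs))
    rwa [show n • i + d₀ • i = (n + d₀) • i by simp only [smul_eq_mul]; ring] at this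
  have hpos : d₀ ≤ (n + d₀) • i := by
    simp only [smul_eq_mul]
    nlinarith
  obtain ⟨a, ha, hab⟩ := hsurj _ hpos hb'
  refine ⟨HomogeneousLocalization.Away.mk 𝒜 hs (n + d₀) a ha, ?_⟩
  rw [HomogeneousLocalization.Away.map_mk]
  apply HomogeneousLocalization.val_injective
  rw [HomogeneousLocalization.Away.val_mk, HomogeneousLocalization.Away.val_mk,
    Localization.mk_eq_mk_iff, Localization.r_iff_exists]
  refine ⟨1, ?_⟩
  simp only [OneMemClass.coe_one, one_mul, hab]
  ring

end Groth.Agent.Lib.Helper42.ProjDom
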