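import Groth.Prelude.Def_RelProj4
import Groth.Agent.Lib.Helper42.LocalGlue

/-!
# The morphism of relative spectra attached to a morphism of algebras over a morphism of bases
(helper42)

For `g : S' ⟶ S`, quasi-coherent algebras `A` on `S`, `B` on `S'` and a `g`-morphism
`u : A → g_* B` (frozen `RelSpec.QHom`), there is exactly one morphism
`Spec(B) ⟶ Spec(A)` satisfying the frozen chart equations `RelSpec.IsSpecQMap`, and it lies over
`g`.
-/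

set_option autoImplicit false

universe u

namespace Groth.Agent.Lib.Helper42.RelSpecQ

open CategoryTheory CategoryTheory.Limits AlgebraicGeometry TopologicalSpace Opposite

/-- simultaneous refinement of two affine pairs around a point, by basic opens. -/
theorem exists_refine {S S' : Scheme.{u}} (g : S' ⟶ S) {U₁ U₂ : S.Opens}
    (hU₁ : IsAffineOpen U₁) (hU₂ : IsAffineOpen U₂) {U₁' U₂' : S'.Opens}
    (hU₁' : IsAffineOpen U₁') (hU₂' : IsAffineOpen U₂')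
    (hle₁ : U₁' ≤ g ⁻¹ᵁ U₁) (hle₂ : U₂' ≤ g ⁻¹ᵁ U₂) (x : S') (hx₁ : x ∈ U₁') (hx₂ : x ∈ U₂') :
    ∃ (W : S.AffineZariskiSite) (W' : S'.AffineZariskiSite),
      W ≤ (⟨U₁, hU₁⟩ : S.AffineZariskiSite) ∧ W ≤ (⟨U₂, hU₂⟩ : S.AffineZariskiSite) ∧
      W' ≤ (⟨U₁', hU₁'⟩ : S'.AffineZariskiSite) ∧ W' ≤ (⟨U₂', hU₂'⟩ : S'.AffineZariskiSite) ∧
      W'.1 ≤ g ⁻¹ᵁ W.1 ∧ x ∈ W'.1 := by
  obtain ⟨s₁, s₂, hs, hxs⟩ := exists_basicOpen_le_affine_inter hU₁ hU₂ (g x)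
    ⟨hle₁ hx₁, hle₂ hx₂⟩
  -- the basic opens of `U₁'`, `U₂'` over `W`
  have e₁ : S'.basicOpen (g.appLE U₁ U₁' hle₁ s₁) = U₁' ⊓ g ⁻¹ᵁ (S.basicOpen s₁) :=
    Scheme.basicOpen_appLE g U₁' U₁ hle₁ s₁
  have e₂ : S'.basicOpen (g.appLE U₂ U₂' hle₂ s₂) = U₂' ⊓ g ⁻¹ᵁ (S.basicOpen s₂) :=
    Scheme.basicOpen_appLE g U₂' U₂ hle₂ s₂
  have hV₁ : IsAffineOpen (S'.basicOpen (g.appLE U₁ U₁' hle₁ s₁)) := hU₁'.basicOpen _
  have hV₂ : IsAffineOpen (S'.basicOpen (g.appLE U₂ U₂' hle₂ s₂)) := hU₂'.basicOpen _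
  have hx₁V : x ∈ S'.basicOpen (g.appLE U₁ U₁' hle₁ s₁) := by
    rw [e₁]; exact ⟨hx₁, hxs⟩
  have hx₂V : x ∈ S'.basicOpen (g.appLE U₂ U₂' hle₂ s₂) := by
    rw [e₂]; exact ⟨hx₂, hs ▸ hxs⟩
  obtain ⟨a, b, hab, hxa⟩ := exists_basicOpen_le_affine_inter hV₁ hV₂ x ⟨hx₁V, hx₂V⟩
  obtain ⟨a', ha'⟩ := hU₁'.basicOpen_basicOpen_is_basicOpen _ a
  obtain ⟨b', hb'⟩ := hU₂'.basicOpen_basicOpen_is_basicOpen _ b
  refine ⟨⟨S.basicOpen s₁, hU₁.basicOpen s₁⟩, ⟨S'.basicOpen a, hV₁.basicOpen a⟩,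
    ⟨s₁, rfl⟩, ⟨s₂, hs.symm⟩, ⟨a', ha'⟩, ⟨b', hb'.trans hab.symm⟩, ?_, hxa⟩
  refine (S'.basicOpen_le a).trans ?_
  rw [e₁]
  exact inf_le_right


variable {S S' : Scheme.{u}} {g : S' ⟶ S} {A : RelSpec.QCAlg S} {B : RelSpec.QCAlg S'}
  (u : RelSpec.QHom g A B)

/-- the chart map of `Spec(u)` over an affine pair. -/
noncomputable def chartMap (U : S.Opens) (hU : IsAffineOpen U) (U' : S'.Opens) (hle : U' ≤ g ⁻¹ᵁ U) :
    Spec (B.presheaf.obj (op U')) ⟶ A.spec :=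
  Spec.map (u.appLE U U' hle) ≫ A.ι U hU

/-- the chart maps are compatible with refinement of the affine pair by basic opens. -/
theorem chartMap_refine {U W : S.AffineZariskiSite} {U' W' : S'.AffineZariskiSite}
    (hWU : W ≤ U) (hWU' : W' ≤ U') (hle : U'.1 ≤ g ⁻¹ᵁ U.1) (hle' : W'.1 ≤ g ⁻¹ᵁ W.1) :
    Spec.map (B.presheaf.map (homOfLE (Scheme.AffineZariskiSite.toOpens_mono hWU')).op) ≫
      chartMap u U.1 U.2 U'.1 hle = chartMap u W.1 W.2 W'.1 hle' := by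
  unfold chartMap
  rw [← Category.assoc, ← Spec.map_comp, u.appLE_map hle (Scheme.AffineZariskiSite.toOpens_mono hWU'),
    ← A.ι_res (homOfLE hWU), ← Category.assoc, ← Spec.map_comp,
    u.map_appLE (Scheme.AffineZariskiSite.toOpens_mono hWU) hle']

/-- the charts of `Spec(B)` over the affine pairs cover. -/
theorem chart_covers (t : B.spec) :
    ∃ j : {V : S.affineOpens × S'.affineOpens // (V.2 : S'.Opens) ≤ g ⁻¹ᵁ (V.1 : S.Opens)},
      t ∈ Set.range (B.ι j.1.2.1 j.1.2.2).base := by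
  obtain ⟨U, hU, hxU, -⟩ := TopologicalSpace.Opens.isBasis_iff_nbhd.mp S.isBasis_affineOpens
    (show g (B.π t) ∈ (⊤ : S.Opens) from trivial)
  obtain ⟨U', hU', hxU', hle⟩ := TopologicalSpace.Opens.isBasis_iff_nbhd.mp S'.isBasis_affineOpens
    (show B.π t ∈ g ⁻¹ᵁ U from hxU)
  refine ⟨⟨(⟨U, hU⟩, ⟨U', hU'⟩), hle⟩, ?_⟩
  have h : t ∈ B.π ⁻¹ᵁ U' := hxU'
  rw [B.π_preimage U' hU'] at h
  exact h


/-- existence and uniqueness of `Spec(u)`. -/
theorem existsUnique_isSpecQMap : ∃! h : B.spec ⟶ A.spec, RelSpec.IsSpecQMap u h := by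
  let J := {V : S.affineOpens × S'.affineOpens // (V.2 : S'.Opens) ≤ g ⁻¹ᵁ (V.1 : S.Opens)}
  have hinst : ∀ j : J, IsOpenImmersion (B.ι j.1.2.1 j.1.2.2) := fun j => by
    have hj : IsAffineOpen (j.1.2.1 : S'.Opens) := j.1.2.2
    exact (inferInstance : IsOpenImmersion (B.ι j.1.2.1 hj))
  have key := LocalGlue.existsUnique_glue (T := B.spec) (Z := A.spec) (J := J)
    (fun j => Spec (B.presheaf.obj (op j.1.2.1)))
    (fun j => B.ι j.1.2.1 j.1.2.2) (chart_covers (g := g)) (fun j => chartMap u j.1.1.1 j.1.1.2 j.1.2.1 j.2)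
    (by
      rintro ⟨⟨⟨U₁, hU₁⟩, ⟨U₁', hU₁'⟩⟩, hle₁⟩ ⟨⟨⟨U₂, hU₂⟩, ⟨U₂', hU₂'⟩⟩, hle₂⟩ t ht₁ ht₂
      have ht₁' : B.π t ∈ U₁' := by
        have : t ∈ B.π ⁻¹ᵁ U₁' := by rw [B.π_preimage U₁' hU₁']; exact ht₁
        exact this
      have ht₂' : B.π t ∈ U₂' := by
        have : t ∈ B.π ⁻¹ᵁ U₂' := by rw [B.π_preimage U₂' hU₂']; exact ht₂
        exact this
      obtain ⟨W, W', hW₁, hW₂, hW₁', hW₂', hle, hxW⟩ :=
        exists_refine g hU₁ hU₂ hU₁' hU₂' hle₁ hle₂ (B.π t) ht₁' ht₂'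
      refine ⟨⟨(⟨W.1, W.2⟩, ⟨W'.1, W'.2⟩), hle⟩,
        Spec.map (B.presheaf.map (homOfLE (Scheme.AffineZariskiSite.toOpens_mono hW₁')).op),
        Spec.map (B.presheaf.map (homOfLE (Scheme.AffineZariskiSite.toOpens_mono hW₂')).op),
        ?_, ?_, ?_, ?_⟩
      · have : t ∈ B.π ⁻¹ᵁ W'.1 := hxW
        rw [B.π_preimage W'.1 W'.2] at this
        exact this
      · exact B.ι_res (U := ⟨U₁', hU₁'⟩) (V := W') (homOfLE hW₁')
      · exact B.ι_res (U := ⟨U₂', hU₂'⟩) (V := W') (homOfLE hW₂')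
      · rw [chartMap_refine u (U := ⟨U₁, hU₁⟩) (U' := ⟨U₁', hU₁'⟩) hW₁ hW₁' hle₁ hle,
          chartMap_refine u (U := ⟨U₂, hU₂⟩) (U' := ⟨U₂', hU₂'⟩) hW₂ hW₂' hle₂ hle])
  obtain ⟨h, hh, huniq⟩ := key
  refine ⟨h, ?_, ?_⟩
  · intro U hU U' hU' hle
    exact hh ⟨(⟨U, hU⟩, ⟨U', hU'⟩), hle⟩
  · intro h' hh'
    exact huniq h' (fun j => hh' j.1.1.1 j.1.1.2 j.1.2.1 j.1.2.2 j.2)


/-- a morphism satisfying the chart equations lies over `g`. -/
theorem isSpecQMap_comp_π {h : B.spec ⟶ A.spec} (hh : RelSpec.IsSpecQMap u h) :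
    h ≫ A.π = B.π ≫ g := by
  let J := {V : S.affineOpens × S'.affineOpens // (V.2 : S'.Opens) ≤ g ⁻¹ᵁ (V.1 : S.Opens)}
  have hinst : ∀ j : J, IsOpenImmersion (B.ι j.1.2.1 j.1.2.2) := fun j => by
    have hj : IsAffineOpen (j.1.2.1 : S'.Opens) := j.1.2.2
    exact (inferInstance : IsOpenImmersion (B.ι j.1.2.1 hj))
  refine LocalGlue.hom_ext_of_family (J := J) (fun j => Spec (B.presheaf.obj (op j.1.2.1)))
    (fun j => B.ι j.1.2.1 j.1.2.2) (chart_covers (g := g)) ?_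
  rintro ⟨⟨⟨U, hU⟩, ⟨U', hU'⟩⟩, hle⟩
  have hU0 : IsAffineOpen U := hU
  have hU0' : IsAffineOpen U' := hU'
  change B.ι U' hU0' ≫ h ≫ A.π = B.ι U' hU0' ≫ B.π ≫ g
  rw [← Category.assoc, hh U hU0 U' hU0' hle, Category.assoc, A.ι_π, ← Category.assoc,
    ← Spec.map_comp, u.str_appLE, Spec.map_comp, Category.assoc,
    IsAffineOpen.SpecMap_appLE_fromSpec g hU0 hU0' hle, ← Category.assoc (B.ι U' hU0'), B.ι_π,
    Category.assoc]


/-- the chart of a relative spectrum over an affine open is the base change of the inclusion of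
that affine open. -/
theorem isPullback_chart (A : RelSpec.QCAlg S) (U : S.Opens) (hU : IsAffineOpen U) :
    IsPullback (Spec.map (A.str.app (op U))) (A.ι U hU) hU.fromSpec A.π :=
  IsOpenImmersion.isPullback _ _ _ _ (A.ι_π U hU)
    (by rw [hU.opensRange_fromSpec, A.π_preimage U hU])

/-- the affine opens of `S'` lying over affine opens of `S` cover `S'`. -/
theorem affinePairs_cover (g : S' ⟶ S) (x : S') :
    ∃ j : {V : S.affineOpens × S'.affineOpens // (V.2 : S'.Opens) ≤ g ⁻¹ᵁ (V.1 : S.Opens)},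
      x ∈ (j.1.2 : S'.Opens) := by
  obtain ⟨U, hU, hxU, -⟩ := TopologicalSpace.Opens.isBasis_iff_nbhd.mp S.isBasis_affineOpens
    (show g x ∈ (⊤ : S.Opens) from trivial)
  obtain ⟨U', hU', hxU', hle⟩ := TopologicalSpace.Opens.isBasis_iff_nbhd.mp S'.isBasis_affineOpens
    (show x ∈ g ⁻¹ᵁ U from hxU)
  exact ⟨⟨(⟨U, hU⟩, ⟨U', hU'⟩), hle⟩, hxU'⟩

/-- when `B = g^* A` the morphism `Spec(u)` exhibits `Spec(B)` as the base change of `Spec(A)`. -/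
theorem isPullback_of_isQBaseChange (hu : RelSpec.IsQBaseChange u) {h : B.spec ⟶ A.spec}
    (hh : RelSpec.IsSpecQMap u h) : IsPullback h B.π A.π g := by
  let J := {V : S.affineOpens × S'.affineOpens // (V.2 : S'.Opens) ≤ g ⁻¹ᵁ (V.1 : S.Opens)}
  let 𝒰 : S'.OpenCover := Scheme.Cover.mkOfCovers J
    (fun j => Spec Γ(S', (j.1.2 : S'.Opens)))
    (fun j => (show IsAffineOpen (j.1.2 : S'.Opens) from j.1.2.2).fromSpec)
    (fun x => by
      obtain ⟨j, hj⟩ := affinePairs_cover g x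
      have hj' : IsAffineOpen (j.1.2 : S'.Opens) := j.1.2.2
      rw [← hj'.opensRange_fromSpec] at hj
      obtain ⟨y, hy⟩ := hj
      exact ⟨j, y, hy⟩)
    (fun j => inferInstance)
  refine (Scheme.isPullback_of_openCover B.π h g A.π 𝒰 ?_).flip
  rintro ⟨⟨⟨U, hU0⟩, ⟨U', hU0'⟩⟩, hle⟩
  have hU : IsAffineOpen U := hU0
  have hU' : IsAffineOpen U' := hU0'
  have mid := isPullback_SpecMap_of_isPushout _ _ _ _ (hu U hU U' hU' hle)
  have big := (mid.flip.paste_horiz (isPullback_chart A U hU).flip).flip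
  rw [← hh U hU U' hU' hle, IsAffineOpen.SpecMap_appLE_fromSpec g hU hU' hle] at big
  have chartB := (isPullback_chart B U' hU').flip
  refine big.of_iso chartB.isoPullback (Iso.refl _) (Iso.refl _) (Iso.refl _) ?_ ?_ ?_ ?_
  · exact (Category.comp_id _).trans (chartB.isoPullback_hom_snd).symm
  · refine (Category.comp_id _).trans ?_
    change B.ι U' hU' ≫ h = chartB.isoPullback.hom ≫ pullback.fst B.π hU'.fromSpec ≫ h
    rw [← Category.assoc, chartB.isoPullback_hom_fst]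
  · exact (Category.comp_id _).trans (Category.id_comp _).symm
  · exact (Category.comp_id _).trans (Category.id_comp _).symm

end Groth.Agent.Lib.Helper42.RelSpecQ
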