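import Groth.Prelude.Def_RelProj4
import Groth.Agent.Lib.Helper42.ProjDom
import Groth.Agent.Lib.Helper42.RelSpecQ

/-!
# The morphism of relative homogeneous spectra induced by a graded morphism over a morphism of
bases, on its open of definition (helper42)

For `g : Y' ⟶ Y`, quasi-coherent graded algebras `𝒮` on `Y`, `𝒮'` on `Y'`, a graded `g`-morphism
`u : 𝒮 → g_* 𝒮'` and relative Proj's `P`, `P'`: existence and uniqueness of the morphism
`G(u) ⟶ P` satisfying the frozen chart equations `RelProj.IsProjQMapOn` on `W = domQ`.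
-/

set_option autoImplicit false

universe u

namespace Groth.Agent.Lib.Helper42.ProjQ

open CategoryTheory CategoryTheory.Limits AlgebraicGeometry TopologicalSpace Opposite
open HomogeneousLocalization

/-- index type of the standard charts of `G(u)`. -/
structure QIdx {Y Y' : Scheme.{u}} (g : Y' ⟶ Y) (𝒮 : RelProj.QCGrAlg Y) where
  U : Y.Opens
  hU : IsAffineOpen U
  U' : Y'.Opens
  hU' : IsAffineOpen U'
  hle : U' ≤ g ⁻¹ᵁ U
  d : ℕ
  hd : 0 < d
  f : 𝒮.presheaf.obj (op U)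
  hf : f ∈ 𝒮.deg U hU d

variable {Y Y' : Scheme.{u}} {g : Y' ⟶ Y} {𝒮 : RelProj.QCGrAlg Y} {𝒮' : RelProj.QCGrAlg Y'}
  (u : RelProj.QGrHom g 𝒮 𝒮')
  {P : Scheme.{u}} (p : P ⟶ Y)
  (chart : ∀ (U : Y.Opens) (hU : IsAffineOpen U), (((p ⁻¹ᵁ U : P.Opens) : Scheme.{u}) ≅ Proj (𝒮.deg U hU)))
  {P' : Scheme.{u}} (p' : P' ⟶ Y')
  (chart' : ∀ (U' : Y'.Opens) (hU' : IsAffineOpen U'),
    (((p' ⁻¹ᵁ U' : P'.Opens) : Scheme.{u}) ≅ Proj (𝒮'.deg U' hU')))


/-- the source of a standard chart. -/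
noncomputable abbrev QIdx.src (j : QIdx g 𝒮) : Scheme.{u} :=
  Spec (CommRingCat.of (Away (𝒮'.deg j.U' j.hU') (u.gradedAt j.U j.hU j.U' j.hU' j.hle j.f)))

/-- the standard chart, lifted into `G(u)`. -/
noncomputable def QIdx.emb (j : QIdx g 𝒮) : j.src u ⟶ ((RelProj.domQ u p' chart' : P'.Opens) : Scheme.{u}) :=
  IsOpenImmersion.lift (RelProj.domQ u p' chart').ι
    (RelProj.awayEmb u p' chart' j.U j.hU j.U' j.hU' j.hle j.hd j.f j.hf)
    (RelProj.range_awayEmb_subset_domQ u p' chart' j.U j.hU j.U' j.hU' j.hle j.hd j.f j.hf)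

instance (j : QIdx g 𝒮) : IsOpenImmersion (j.emb u p' chart') := by
  have h1 : IsOpenImmersion (RelProj.awayEmb u p' chart' j.U j.hU j.U' j.hU' j.hle j.hd j.f j.hf) := by
    unfold RelProj.awayEmb
    infer_instance
  have h2 : j.emb u p' chart' ≫ (RelProj.domQ u p' chart').ι =
      RelProj.awayEmb u p' chart' j.U j.hU j.U' j.hU' j.hle j.hd j.f j.hf :=
    IsOpenImmersion.lift_fac _ _ _
  have h3 : IsOpenImmersion (j.emb u p' chart' ≫ (RelProj.domQ u p' chart').ι) := by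
    rw [h2]; exact h1
  exact IsOpenImmersion.of_comp (j.emb u p' chart') (RelProj.domQ u p' chart').ι

theorem QIdx.emb_ι (j : QIdx g 𝒮) : j.emb u p' chart' ≫ (RelProj.domQ u p' chart').ι =
    RelProj.awayEmb u p' chart' j.U j.hU j.U' j.hU' j.hle j.hd j.f j.hf :=
  IsOpenImmersion.lift_fac _ _ _

/-- the morphism to `P` on a standard chart. -/
noncomputable def QIdx.mor (j : QIdx g 𝒮) : j.src u ⟶ P :=
  Spec.map (CommRingCat.ofHom (Away.map (u.gradedAt j.U j.hU j.U' j.hU' j.hle) j.f)) ≫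
    Proj.awayι (𝒮.deg j.U j.hU) j.f j.hf j.hd ≫ RelProj.emb p chart j.U j.hU

/-- `k` refines `i`: the chart `k` maps into the chart `i` compatibly with the embeddings into
`G(u)` and the morphisms to `P`. -/
def Refines (k i : QIdx g 𝒮) : Prop :=
  ∃ t : k.src u ⟶ i.src u, t ≫ i.emb u p' chart' = k.emb u p' chart' ∧ t ≫ i.mor u p chart = k.mor u p chart

variable {u p chart p' chart'}

theorem Refines.trans {l k i : QIdx g 𝒮} (h₁ : Refines u p chart p' chart' l k)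
    (h₂ : Refines u p chart p' chart' k i) : Refines u p chart p' chart' l i := by
  obtain ⟨t₁, h₁a, h₁b⟩ := h₁
  obtain ⟨t₂, h₂a, h₂b⟩ := h₂
  exact ⟨t₁ ≫ t₂, by rw [Category.assoc, h₂a, h₁a], by rw [Category.assoc, h₂b, h₁b]⟩


/-- passing from `f` to `f g₂` over the same affine pair gives a refinement. -/
theorem refines_mul (U : Y.Opens) (hU : IsAffineOpen U) (U' : Y'.Opens) (hU' : IsAffineOpen U')
    (hle : U' ≤ g ⁻¹ᵁ U) {d e dx : ℕ} (hd : 0 < d) (hdx : 0 < dx)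
    {f g₂ x : 𝒮.presheaf.obj (op U)} (hf : f ∈ 𝒮.deg U hU d) (hg₂ : g₂ ∈ 𝒮.deg U hU e)
    (hx : x ∈ 𝒮.deg U hU dx) (hxe : x = f * g₂) :
    Refines u p chart p' chart' ⟨U, hU, U', hU', hle, dx, hdx, x, hx⟩
      ⟨U, hU, U', hU', hle, d, hd, f, hf⟩ := by
  have hx' : u.gradedAt U hU U' hU' hle x =
      u.gradedAt U hU U' hU' hle f * u.gradedAt U hU U' hU' hle g₂ := by
    rw [hxe, map_mul]
  refine ⟨Spec.map (CommRingCat.ofHom (awayMap (𝒮'.deg U' hU')
    ((u.gradedAt U hU U' hU' hle).map_mem hg₂) hx')), ?_, ?_⟩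
  · rw [← cancel_mono (RelProj.domQ u p' chart').ι, Category.assoc, QIdx.emb_ι, QIdx.emb_ι]
    unfold RelProj.awayEmb
    rw [← Category.assoc]
    congr 1
    exact Proj.SpecMap_awayMap_awayι (𝒮'.deg U' hU') ((u.gradedAt U hU U' hU' hle).map_mem hf) hd
      ((u.gradedAt U hU U' hU' hle).map_mem hg₂) hx'
  · have := ProjDom.chart_refine (u.gradedAt U hU U' hU' hle) hf hd hg₂ hxe hx' hx hdx
    change Spec.map _ ≫ (Spec.map (CommRingCat.ofHom (Away.map (u.gradedAt U hU U' hU' hle) f)) ≫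
        Proj.awayι (𝒮.deg U hU) f hf hd ≫ RelProj.emb p chart U hU) =
      Spec.map (CommRingCat.ofHom (Away.map (u.gradedAt U hU U' hU' hle) x)) ≫
        Proj.awayι (𝒮.deg U hU) x hx hdx ≫ RelProj.emb p chart U hU
    simpa only [Category.assoc] using congrArg (· ≫ RelProj.emb p chart U hU) this


/-- the square of graded homomorphisms attached to two affine pairs, one inside the other. -/
theorem gradedAt_res {U W : Y.Opens} (hU : IsAffineOpen U) (hW : IsAffineOpen W) (hWU : W ≤ U)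
    {U' W' : Y'.Opens} (hU' : IsAffineOpen U') (hW' : IsAffineOpen W') (hWU' : W' ≤ U')
    (hle : U' ≤ g ⁻¹ᵁ U) (hle' : W' ≤ g ⁻¹ᵁ W) (a : 𝒮.presheaf.obj (op U)) :
    𝒮'.res hU' hW' hWU' (u.gradedAt U hU U' hU' hle a) =
      u.gradedAt W hW W' hW' hle' (𝒮.res hU hW hWU a) := by
  change (u.appLE U U' hle ≫ 𝒮'.presheaf.map (homOfLE hWU').op).hom a =
    (𝒮.presheaf.map (homOfLE hWU).op ≫ u.appLE W W' hle').hom a
  rw [u.appLE_map hle hWU', u.map_appLE hWU hle']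

/-- restricting an affine pair to basic opens gives a refinement. -/
theorem refines_res (hP : RelProj.IsRelProj 𝒮 p chart) (hP' : RelProj.IsRelProj 𝒮' p' chart')
    (U : Y.Opens) (hU : IsAffineOpen U) (U' : Y'.Opens) (hU' : IsAffineOpen U')
    (hle : U' ≤ g ⁻¹ᵁ U) {d : ℕ} (hd : 0 < d) {f : 𝒮.presheaf.obj (op U)} (hf : f ∈ 𝒮.deg U hU d)
    (r : Γ(Y, U)) (r' : Γ(Y', U')) (hle' : Y'.basicOpen r' ≤ g ⁻¹ᵁ Y.basicOpen r) :
    Refines u p chart p' chart'
      ⟨Y.basicOpen r, hU.basicOpen r, Y'.basicOpen r', hU'.basicOpen r', hle', d, hd,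
        𝒮.res hU (hU.basicOpen r) (Y.basicOpen_le r) f,
        (𝒮.res hU (hU.basicOpen r) (Y.basicOpen_le r)).map_mem hf⟩
      ⟨U, hU, U', hU', hle, d, hd, f, hf⟩ := by
  have hcomm := gradedAt_res (u := u) hU (hU.basicOpen r) (Y.basicOpen_le r) hU' (hU'.basicOpen r')
    (Y'.basicOpen_le r') hle hle'
  have hpow := ProjDom.powers_le_comap (𝒮'.res hU' (hU'.basicOpen r') (Y'.basicOpen_le r')) (hcomm f)
  refine ⟨Spec.map (CommRingCat.ofHom (HomogeneousLocalization.map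
    (𝒮'.res hU' (hU'.basicOpen r') (Y'.basicOpen_le r')) hpow)), ?_, ?_⟩
  · rw [← cancel_mono (RelProj.domQ u p' chart').ι, Category.assoc, QIdx.emb_ι, QIdx.emb_ι]
    unfold RelProj.awayEmb
    have h1 := ProjDom.SpecMap_map_awayι (𝒮'.res hU' (hU'.basicOpen r') (Y'.basicOpen_le r'))
      (𝒮'.irrelevant_le_map U' hU' r') hd ((u.gradedAt U hU U' hU' hle).map_mem hf)
      ((u.gradedAt _ (hU.basicOpen r) _ (hU'.basicOpen r') hle').map_mem
        ((𝒮.res hU (hU.basicOpen r) (Y.basicOpen_le r)).map_mem hf)) (hcomm f) hpow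
    have h2 := RelProj.map_res_emb hP' U' hU' r'
    exact ((Category.assoc _ _ _).symm.trans
      (congrArg (fun z => z ≫ RelProj.emb p' chart' U' hU') h1)).trans
      ((Category.assoc _ _ _).trans (congrArg (fun z => Proj.awayι _ _ _ hd ≫ z) h2))
  · have h1 := ProjDom.chart_restrict (u.gradedAt U hU U' hU' hle)
      (u.gradedAt _ (hU.basicOpen r) _ (hU'.basicOpen r') hle')
      (𝒮.res hU (hU.basicOpen r) (Y.basicOpen_le r))
      (𝒮'.res hU' (hU'.basicOpen r') (Y'.basicOpen_le r')) hcomm (𝒮.irrelevant_le_map U hU r) hd hf hpow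
    have h2 := RelProj.map_res_emb hP U hU r
    change Spec.map _ ≫ (Spec.map (CommRingCat.ofHom (Away.map (u.gradedAt U hU U' hU' hle) f)) ≫
        Proj.awayι (𝒮.deg U hU) f hf hd ≫ RelProj.emb p chart U hU) =
      Spec.map (CommRingCat.ofHom (Away.map (u.gradedAt _ (hU.basicOpen r) _ (hU'.basicOpen r') hle')
          (𝒮.res hU (hU.basicOpen r) (Y.basicOpen_le r) f))) ≫
        Proj.awayι (𝒮.deg (Y.basicOpen r) (hU.basicOpen r)) _
          ((𝒮.res hU (hU.basicOpen r) (Y.basicOpen_le r)).map_mem hf) hd ≫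
          RelProj.emb p chart (Y.basicOpen r) (hU.basicOpen r)
    have h3 := congrArg (fun z => z ≫ RelProj.emb p chart U hU) h1
    simp only [Category.assoc] at h3
    exact h3.trans (congrArg (fun z => Spec.map _ ≫ Proj.awayι _ _ _ hd ≫ z) h2)


/-- restricting an affine pair to opens which are basic in both members gives a refinement. -/
theorem refines_res' (hP : RelProj.IsRelProj 𝒮 p chart) (hP' : RelProj.IsRelProj 𝒮' p' chart')
    (U : Y.Opens) (hU : IsAffineOpen U) (U' : Y'.Opens) (hU' : IsAffineOpen U')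
    (hle : U' ≤ g ⁻¹ᵁ U) {d : ℕ} (hd : 0 < d) {f : 𝒮.presheaf.obj (op U)} (hf : f ∈ 𝒮.deg U hU d)
    (W : Y.AffineZariskiSite) (W' : Y'.AffineZariskiSite)
    (hWU : W ≤ (⟨U, hU⟩ : Y.AffineZariskiSite))
    (hWU' : W' ≤ (⟨U', hU'⟩ : Y'.AffineZariskiSite)) (hle' : W'.1 ≤ g ⁻¹ᵁ W.1)
    (hWUle : W.1 ≤ U) :
    Refines u p chart p' chart'
      ⟨W.1, W.2, W'.1, W'.2, hle', d, hd,
        𝒮.res hU W.2 hWUle f, (𝒮.res hU W.2 hWUle).map_mem hf⟩
      ⟨U, hU, U', hU', hle, d, hd, f, hf⟩ := by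
  obtain ⟨W, hW⟩ := W
  obtain ⟨W', hW'⟩ := W'
  obtain ⟨r, hr⟩ := hWU
  obtain ⟨r', hr'⟩ := hWU'
  change Y.basicOpen r = W at hr
  change Y'.basicOpen r' = W' at hr'
  subst hr
  subst hr'
  exact refines_res hP hP' U hU U' hU' hle hd hf r r' hle'


/-- membership in a standard chart of `G(u)`, in terms of points of `Proj 𝒮'(U')`. -/
theorem mem_range_emb_iff (j : QIdx g 𝒮) (t : ((RelProj.domQ u p' chart' : P'.Opens) : Scheme.{u})) :
    t ∈ Set.range (j.emb u p' chart').base ↔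
      ∃ y : Proj (𝒮'.deg j.U' j.hU'),
        y ∈ Proj.basicOpen (𝒮'.deg j.U' j.hU') (u.gradedAt j.U j.hU j.U' j.hU' j.hle j.f) ∧
          (RelProj.emb p' chart' j.U' j.hU').base y = (RelProj.domQ u p' chart').ι.base t := by
  constructor
  · rintro ⟨z, rfl⟩
    refine ⟨(Proj.awayι (𝒮'.deg j.U' j.hU') (u.gradedAt j.U j.hU j.U' j.hU' j.hle j.f)
      ((u.gradedAt j.U j.hU j.U' j.hU' j.hle).map_mem j.hf) j.hd).base z, ?_, ?_⟩
    · exact (Proj.opensRange_awayι (𝒮'.deg j.U' j.hU') _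
        ((u.gradedAt j.U j.hU j.U' j.hU' j.hle).map_mem j.hf) j.hd).le ⟨z, rfl⟩
    · rw [← Scheme.Hom.comp_apply, ← Scheme.Hom.comp_apply, QIdx.emb_ι]
      rfl
  · rintro ⟨y, hy, hyt⟩
    obtain ⟨z, rfl⟩ := (Proj.opensRange_awayι (𝒮'.deg j.U' j.hU') _
        ((u.gradedAt j.U j.hU j.U' j.hU' j.hle).map_mem j.hf) j.hd).ge hy
    refine ⟨z, ?_⟩
    apply (RelProj.domQ u p' chart').ι.isOpenEmbedding.injective
    rw [← Scheme.Hom.comp_apply, QIdx.emb_ι]
    exact hyt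


/-- the range of a chart immersion of a relative Proj is the preimage of the affine open. -/
theorem range_emb (U : Y.Opens) (hU : IsAffineOpen U) :
    Set.range (RelProj.emb p chart U hU).base = ((p ⁻¹ᵁ U : P.Opens) : Set P) := by
  unfold RelProj.emb
  rw [Scheme.Hom.comp_base, TopCat.coe_comp, Set.range_comp,
    Set.range_eq_univ.mpr (chart U hU).inv.surjective, Set.image_univ, Scheme.Opens.range_ι]

/-- an element of the irrelevant ideal whose image is outside a homogeneous prime has a homogeneous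
component of positive degree with the same property. -/
theorem exists_homogeneous_notMem {A B σ τ : Type u} [CommRing A] [SetLike σ A]
    [AddSubgroupClass σ A] {𝒜 : ℕ → σ} [GradedRing 𝒜] [CommRing B] [SetLike τ B]
    [AddSubgroupClass τ B] {ℬ : ℕ → τ} [GradedRing ℬ] (ψ : 𝒜 →+*ᵍ ℬ) (I : Ideal B) {f : A}
    (hf : f ∈ (HomogeneousIdeal.irrelevant 𝒜).toIdeal) (hfI : ψ f ∉ I) :
    ∃ (d : ℕ) (_ : 0 < d) (fd : A) (_ : fd ∈ 𝒜 d), ψ fd ∉ I := by
  classical
  by_contra hcon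
  have hcon' : ∀ (d : ℕ), 0 < d → ∀ fd ∈ 𝒜 d, ψ fd ∈ I := by
    intro d hd fd hfd
    by_contra h
    exact hcon ⟨d, hd, fd, hfd, h⟩
  apply hfI
  rw [← DirectSum.sum_support_decompose 𝒜 f, map_sum]
  refine Ideal.sum_mem _ (fun d _ => ?_)
  by_cases hd : d = 0
  · subst hd
    have h0 : (DirectSum.decompose 𝒜 f 0 : A) = 0 := by
      have := (HomogeneousIdeal.mem_irrelevant_iff 𝒜 f).mp hf
      rwa [GradedRing.proj_apply] at this
    rw [h0, map_zero]
    exact Ideal.zero_mem _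
  · exact hcon' d (Nat.pos_of_ne_zero hd) _ (SetLike.coe_mem _)

/-- the standard charts cover `G(u)`. -/
theorem chart_covers (t : ((RelProj.domQ u p' chart' : P'.Opens) : Scheme.{u})) :
    ∃ j : QIdx g 𝒮, t ∈ Set.range (j.emb u p' chart').base := by
  have ht : (RelProj.domQ u p' chart').ι.base t ∈ RelProj.domQ u p' chart' := t.2
  unfold RelProj.domQ at ht
  obtain ⟨V, hV⟩ := TopologicalSpace.Opens.mem_iSup.mp ht
  obtain ⟨⟨⟨U, hU0⟩, ⟨U', hU0'⟩⟩, hle⟩ := V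
  have hU : IsAffineOpen U := hU0
  have hU' : IsAffineOpen U' := hU0'
  change (RelProj.domQ u p' chart').ι.base t ∈
    (RelProj.emb p' chart' U' hU') ''ᵁ RelCone.domOpen (u.gradedAt U hU U' hU' hle) at hV
  obtain ⟨y, hy, hyt⟩ := hV
  obtain ⟨f, hf, hfy⟩ := (RelCone.mem_domOpen _ _).mp hy
  obtain ⟨d, hd, fd, hfd, hfdy⟩ := exists_homogeneous_notMem
    (u.gradedAt U hU U' hU' hle) y.asHomogeneousIdeal.toIdeal hf hfy
  refine ⟨⟨U, hU, U', hU', hle, d, hd, fd, hfd⟩, ?_⟩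
  rw [mem_range_emb_iff]
  exact ⟨y, hfdy, hyt⟩


/-- a chart immersion of a relative Proj is injective on points. -/
theorem emb_injective (U : Y.Opens) (hU : IsAffineOpen U) :
    Function.Injective (RelProj.emb p chart U hU).base :=
  (RelProj.emb p chart U hU).isOpenEmbedding.injective

/-- a point of a standard chart lying over basic opens lies in the restricted chart. -/
theorem mem_range_emb_res (hP' : RelProj.IsRelProj 𝒮' p' chart')
    (U : Y.Opens) (hU : IsAffineOpen U) (U' : Y'.Opens) (hU' : IsAffineOpen U')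
    (hle : U' ≤ g ⁻¹ᵁ U) {d : ℕ} (hd : 0 < d) {f : 𝒮.presheaf.obj (op U)} (hf : f ∈ 𝒮.deg U hU d)
    (r : Γ(Y, U)) (r' : Γ(Y', U')) (hle' : Y'.basicOpen r' ≤ g ⁻¹ᵁ Y.basicOpen r)
    (t : ((RelProj.domQ u p' chart' : P'.Opens) : Scheme.{u}))
    (ht : t ∈ Set.range (QIdx.emb u p' chart' ⟨U, hU, U', hU', hle, d, hd, f, hf⟩).base)
    (htr : p'.base ((RelProj.domQ u p' chart').ι.base t) ∈ Y'.basicOpen r') :
    t ∈ Set.range (QIdx.emb u p' chart'
      ⟨Y.basicOpen r, hU.basicOpen r, Y'.basicOpen r', hU'.basicOpen r', hle', d, hd,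
        𝒮.res hU (hU.basicOpen r) (Y.basicOpen_le r) f,
        (𝒮.res hU (hU.basicOpen r) (Y.basicOpen_le r)).map_mem hf⟩).base := by
  rw [mem_range_emb_iff] at ht ⊢
  obtain ⟨y, hy, hyt⟩ := ht
  have h1 : (RelProj.domQ u p' chart').ι.base t ∈
      Set.range (RelProj.emb p' chart' (Y'.basicOpen r') (hU'.basicOpen r')).base := by
    rw [range_emb]; exact htr
  obtain ⟨y', hy'⟩ := h1
  have h2 := RelProj.map_res_emb hP' U' hU' r'
  have h3 : (Proj.map (𝒮'.res hU' (hU'.basicOpen r') (Y'.basicOpen_le r'))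
      (𝒮'.irrelevant_le_map U' hU' r')).base y' = y := by
    apply emb_injective (p := p') (chart := chart') U' hU'
    rw [hyt, ← hy', ← h2]
    rfl
  refine ⟨y', ?_, hy'⟩
  have hcomm := gradedAt_res (u := u) hU (hU.basicOpen r) (Y.basicOpen_le r) hU' (hU'.basicOpen r')
    (Y'.basicOpen_le r') hle hle' f
  change y' ∈ Proj.basicOpen _ (u.gradedAt _ (hU.basicOpen r) _ (hU'.basicOpen r') hle'
    (𝒮.res hU (hU.basicOpen r) (Y.basicOpen_le r) f))
  rw [← hcomm]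
  change (Proj.map (𝒮'.res hU' (hU'.basicOpen r') (Y'.basicOpen_le r'))
      (𝒮'.irrelevant_le_map U' hU' r')).base y' ∈ Proj.basicOpen _ (u.gradedAt U hU U' hU' hle f)
  rw [h3]
  exact hy


/-- a point of a standard chart lying over opens basic in both members lies in the restricted
chart. -/
theorem mem_range_emb_res' (hP' : RelProj.IsRelProj 𝒮' p' chart')
    (U : Y.Opens) (hU : IsAffineOpen U) (U' : Y'.Opens) (hU' : IsAffineOpen U')
    (hle : U' ≤ g ⁻¹ᵁ U) {d : ℕ} (hd : 0 < d) {f : 𝒮.presheaf.obj (op U)} (hf : f ∈ 𝒮.deg U hU d)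
    (W : Y.AffineZariskiSite) (W' : Y'.AffineZariskiSite)
    (hWU : W ≤ (⟨U, hU⟩ : Y.AffineZariskiSite))
    (hWU' : W' ≤ (⟨U', hU'⟩ : Y'.AffineZariskiSite)) (hle' : W'.1 ≤ g ⁻¹ᵁ W.1)
    (hWUle : W.1 ≤ U)
    (t : ((RelProj.domQ u p' chart' : P'.Opens) : Scheme.{u}))
    (ht : t ∈ Set.range (QIdx.emb u p' chart' ⟨U, hU, U', hU', hle, d, hd, f, hf⟩).base)
    (htr : p'.base ((RelProj.domQ u p' chart').ι.base t) ∈ W'.1) :
    t ∈ Set.range (QIdx.emb u p' chart'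
      ⟨W.1, W.2, W'.1, W'.2, hle', d, hd,
        𝒮.res hU W.2 hWUle f, (𝒮.res hU W.2 hWUle).map_mem hf⟩).base := by
  obtain ⟨W, hW⟩ := W
  obtain ⟨W', hW'⟩ := W'
  obtain ⟨r, hr⟩ := hWU
  obtain ⟨r', hr'⟩ := hWU'
  change Y.basicOpen r = W at hr
  change Y'.basicOpen r' = W' at hr'
  subst hr
  subst hr'
  exact mem_range_emb_res hP' U hU U' hU' hle hd hf r r' hle' t ht htr

/-- a point of two standard charts over the same affine pair lies in the chart of the product. -/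
theorem mem_range_emb_mul (U : Y.Opens) (hU : IsAffineOpen U) (U' : Y'.Opens)
    (hU' : IsAffineOpen U') (hle : U' ≤ g ⁻¹ᵁ U) {d e dx : ℕ} (hd : 0 < d) (he : 0 < e)
    (hdx : 0 < dx) {f g₂ x : 𝒮.presheaf.obj (op U)} (hf : f ∈ 𝒮.deg U hU d)
    (hg₂ : g₂ ∈ 𝒮.deg U hU e) (hx : x ∈ 𝒮.deg U hU dx) (hxe : x = f * g₂)
    (t : ((RelProj.domQ u p' chart' : P'.Opens) : Scheme.{u}))
    (ht₁ : t ∈ Set.range (QIdx.emb u p' chart' ⟨U, hU, U', hU', hle, d, hd, f, hf⟩).base)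
    (ht₂ : t ∈ Set.range (QIdx.emb u p' chart' ⟨U, hU, U', hU', hle, e, he, g₂, hg₂⟩).base) :
    t ∈ Set.range (QIdx.emb u p' chart' ⟨U, hU, U', hU', hle, dx, hdx, x, hx⟩).base := by
  rw [mem_range_emb_iff] at ht₁ ht₂ ⊢
  obtain ⟨y₁, hy₁, e₁⟩ := ht₁
  obtain ⟨y₂, hy₂, e₂⟩ := ht₂
  have h12 : y₂ = y₁ := emb_injective (p := p') (chart := chart') U' hU' (e₂.trans e₁.symm)
  subst h12
  refine ⟨y₂, ?_, e₁⟩
  change y₂ ∈ Proj.basicOpen _ (u.gradedAt U hU U' hU' hle x)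
  rw [hxe, map_mul, Proj.basicOpen_mul]
  exact ⟨hy₁, hy₂⟩


/-- a point of a standard chart lies over the affine open of `Y'` of that chart. -/
theorem base_mem_of_mem_range_emb (j : QIdx g 𝒮)
    (t : ((RelProj.domQ u p' chart' : P'.Opens) : Scheme.{u}))
    (ht : t ∈ Set.range (j.emb u p' chart').base) :
    p'.base ((RelProj.domQ u p' chart').ι.base t) ∈ j.U' := by
  rw [mem_range_emb_iff] at ht
  obtain ⟨y, -, hyt⟩ := ht
  have h : (RelProj.domQ u p' chart').ι.base t ∈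
      Set.range (RelProj.emb p' chart' j.U' j.hU').base := ⟨y, hyt⟩
  rw [range_emb] at h
  exact h

/-- the refinement property needed for glueing. -/
theorem exists_common_refinement (hP : RelProj.IsRelProj 𝒮 p chart)
    (hP' : RelProj.IsRelProj 𝒮' p' chart') (i j : QIdx g 𝒮)
    (t : ((RelProj.domQ u p' chart' : P'.Opens) : Scheme.{u}))
    (hti : t ∈ Set.range (i.emb u p' chart').base) (htj : t ∈ Set.range (j.emb u p' chart').base) :
    ∃ k : QIdx g 𝒮, t ∈ Set.range (k.emb u p' chart').base ∧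
      Refines u p chart p' chart' k i ∧ Refines u p chart p' chart' k j := by
  have h1 := base_mem_of_mem_range_emb i t hti
  have h2 := base_mem_of_mem_range_emb j t htj
  obtain ⟨U₁, hU₁, U₁', hU₁', hle₁, d₁, hd₁, f₁, hf₁⟩ := i
  obtain ⟨U₂, hU₂, U₂', hU₂', hle₂, d₂, hd₂, f₂, hf₂⟩ := j
  obtain ⟨W, W', hW₁, hW₂, hW₁', hW₂', hleW, hptW⟩ :=
    RelSpecQ.exists_refine g hU₁ hU₂ hU₁' hU₂' hle₁ hle₂ _ h1 h2
  have hWU₁ : W.1 ≤ U₁ := Scheme.AffineZariskiSite.toOpens_mono hW₁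
  have hWU₂ : W.1 ≤ U₂ := Scheme.AffineZariskiSite.toOpens_mono hW₂
  have r₁ := refines_res' (u := u) hP hP' U₁ hU₁ U₁' hU₁' hle₁ hd₁ hf₁ W W' hW₁ hW₁' hleW hWU₁
  have r₂ := refines_res' (u := u) hP hP' U₂ hU₂ U₂' hU₂' hle₂ hd₂ hf₂ W W' hW₂ hW₂' hleW hWU₂
  have m₁ := mem_range_emb_res' (u := u) hP' U₁ hU₁ U₁' hU₁' hle₁ hd₁ hf₁ W W' hW₁ hW₁' hleW hWU₁
    t hti hptW
  have m₂ := mem_range_emb_res' (u := u) hP' U₂ hU₂ U₂' hU₂' hle₂ hd₂ hf₂ W W' hW₂ hW₂' hleW hWU₂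
    t htj hptW
  have hx : 𝒮.res hU₁ W.2 hWU₁ f₁ * 𝒮.res hU₂ W.2 hWU₂ f₂ ∈ 𝒮.deg W.1 W.2 (d₁ + d₂) :=
    SetLike.mul_mem_graded ((𝒮.res hU₁ W.2 hWU₁).map_mem hf₁) ((𝒮.res hU₂ W.2 hWU₂).map_mem hf₂)
  have hdx : 0 < d₁ + d₂ := Nat.add_pos_left hd₁ d₂
  refine ⟨⟨W.1, W.2, W'.1, W'.2, hleW, d₁ + d₂, hdx, _, hx⟩, ?_, ?_, ?_⟩
  · exact mem_range_emb_mul (u := u) W.1 W.2 W'.1 W'.2 hleW hd₁ hd₂ hdx
      ((𝒮.res hU₁ W.2 hWU₁).map_mem hf₁) ((𝒮.res hU₂ W.2 hWU₂).map_mem hf₂) hx rfl t m₁ m₂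
  · exact (refines_mul (u := u) W.1 W.2 W'.1 W'.2 hleW hd₁ hdx
      ((𝒮.res hU₁ W.2 hWU₁).map_mem hf₁) ((𝒮.res hU₂ W.2 hWU₂).map_mem hf₂) hx rfl).trans r₁
  · exact (refines_mul (u := u) W.1 W.2 W'.1 W'.2 hleW hd₂ hdx
      ((𝒮.res hU₂ W.2 hWU₂).map_mem hf₂) ((𝒮.res hU₁ W.2 hWU₁).map_mem hf₁) hx
      (mul_comm _ _)).trans r₂

/-- existence and uniqueness of `Proj(u)` on its open of definition `G(u)`. -/
theorem existsUnique_isProjQMapOn (hP : RelProj.IsRelProj 𝒮 p chart)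
    (hP' : RelProj.IsRelProj 𝒮' p' chart') :
    ∃! v : ((RelProj.domQ u p' chart' : P'.Opens) : Scheme.{u}) ⟶ P,
      RelProj.IsProjQMapOn u p chart p' chart' (RelProj.domQ u p' chart') v := by
  have key := LocalGlue.existsUnique_glue (T := ((RelProj.domQ u p' chart' : P'.Opens) : Scheme.{u}))
    (Z := P) (J := QIdx g 𝒮) (fun j => j.src u) (fun j => j.emb u p' chart')
    (chart_covers (u := u) (p' := p') (chart' := chart')) (fun j => j.mor u p chart)
    (by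
      intro i j t hti htj
      obtain ⟨k, hk, ⟨ti, hti1, hti2⟩, ⟨tj, htj1, htj2⟩⟩ :=
        exists_common_refinement hP hP' i j t hti htj
      exact ⟨k, ti, tj, hk, hti1, htj1, hti2.trans htj2.symm⟩)
  obtain ⟨v, hv, huniq⟩ := key
  refine ⟨v, ?_, ?_⟩
  · intro U hU U' hU' hle d hd f hf hW
    exact hv ⟨U, hU, U', hU', hle, d, hd, f, hf⟩
  · intro v' hv'
    refine huniq v' (fun j => ?_)
    exact hv' j.U j.hU j.U' j.hU' j.hle j.d j.hd j.f j.hf _


/-- a chart immersion of a relative Proj followed by the structure morphism. -/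
theorem emb_comp (hP : RelProj.IsRelProj 𝒮 p chart) (U : Y.Opens) (hU : IsAffineOpen U) :
    RelProj.emb p chart U hU ≫ p =
      Proj.toSpecZero (𝒮.deg U hU) ≫ Spec.map (𝒮.strZero U hU) ≫ hU.fromSpec := by
  unfold RelProj.emb
  rw [Category.assoc, ← hP.chart_over U hU, Iso.inv_hom_id_assoc]

/-- a morphism satisfying the chart equations on `G(u)` lies over `g`. -/
theorem isProjQMapOn_comp (hP : RelProj.IsRelProj 𝒮 p chart)
    (hP' : RelProj.IsRelProj 𝒮' p' chart')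
    {v : ((RelProj.domQ u p' chart' : P'.Opens) : Scheme.{u}) ⟶ P}
    (hv : RelProj.IsProjQMapOn u p chart p' chart' (RelProj.domQ u p' chart') v) :
    v ≫ p = (RelProj.domQ u p' chart').ι ≫ p' ≫ g := by
  refine LocalGlue.hom_ext_of_family (J := QIdx g 𝒮) (fun j => j.src u) (fun j => j.emb u p' chart')
    (chart_covers (u := u) (p' := p') (chart' := chart')) (fun j => ?_)
  obtain ⟨U, hU, U', hU', hle, d, hd, f, hf⟩ := j
  have h1 : QIdx.emb u p' chart' ⟨U, hU, U', hU', hle, d, hd, f, hf⟩ ≫ v =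
      Spec.map (CommRingCat.ofHom (Away.map (u.gradedAt U hU U' hU' hle) f)) ≫
        Proj.awayι (𝒮.deg U hU) f hf hd ≫ RelProj.emb p chart U hU :=
    hv U hU U' hU' hle d hd f hf _
  rw [← Category.assoc, h1, ← Category.assoc (QIdx.emb u p' chart' _), QIdx.emb_ι]
  change (Spec.map _ ≫ Proj.awayι (𝒮.deg U hU) f hf hd ≫ RelProj.emb p chart U hU) ≫ p =
    (Proj.awayι (𝒮'.deg U' hU') _ ((u.gradedAt U hU U' hU' hle).map_mem hf) hd ≫
      RelProj.emb p' chart' U' hU') ≫ p' ≫ g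
  simp only [Category.assoc]
  rw [emb_comp hP U hU, ← Category.assoc (RelProj.emb p' chart' U' hU'), emb_comp hP' U' hU']
  simp only [Category.assoc]
  rw [Proj.awayι_toSpecZero_assoc, Proj.awayι_toSpecZero_assoc]
  rw [← IsAffineOpen.SpecMap_appLE_fromSpec g hU hU' hle]
  simp only [← Category.assoc, ← Spec.map_comp]
  congr 2
  ext r
  have hs : ∀ r : Γ(Y, U), u.gradedAt U hU U' hU' hle (((𝒮.strZero U hU).hom r : 𝒮.deg U hU 0) :
      𝒮.presheaf.obj (op U)) =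
      ((((𝒮'.strZero U' hU').hom.comp (g.appLE U U' hle).hom) r : 𝒮'.deg U' hU' 0) :
        𝒮'.presheaf.obj (op U')) := by
    intro r
    exact congrArg (fun φ => φ.hom r) (u.str_appLE U U' hle)
  exact congrArg HomogeneousLocalization.val (ProjDom.awayMap_fromZero (u.gradedAt U hU U' hU' hle)
    (𝒮.strZero U hU).hom ((𝒮'.strZero U' hU').hom.comp (g.appLE U U' hle).hom) hs f r)

end Groth.Agent.Lib.Helper42.ProjQ
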