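import Groth.Agent.Lib.Helper42.ProjQ
import Groth.Agent.Lib.Helper42.ProjDomAffine

/-!
# The open of definition of `Proj(u)` over affine pairs, and preimages of standard charts (helper42)

For a graded `g`-morphism `u : 𝒮 → 𝒮'` of quasi-coherent graded algebras: the part of `G(u)` over an
affine open `U'` of the source base, inside `g⁻¹(U)` for `U` affine, is the image under the chart
of the open `G(u_{U,U'})` of `Proj 𝒮'(U')`; and the preimage under `Proj(u)` of the standard open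
`D_+(f)` over `U` meets the part over `U'` in the standard chart at `(U, U', f)`.
-/

set_option autoImplicit false

universe u

namespace Groth.Agent.Lib.Helper42.ProjDom

open CategoryTheory CategoryTheory.Limits AlgebraicGeometry TopologicalSpace Opposite
open HomogeneousLocalization

variable {A B σ τ : Type u} [CommRing A] [SetLike σ A] [AddSubgroupClass σ A]
  {𝒜 : ℕ → σ} [GradedRing 𝒜]
  [CommRing B] [SetLike τ B] [AddSubgroupClass τ B] {ℬ : ℕ → τ} [GradedRing ℬ]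

/-- pointwise form of "the preimage of `D_+(f)` is `D_+(ψ f)`" on a standard chart. -/
theorem awayι_map_mem_basicOpen_iff (ψ : 𝒜 →+*ᵍ ℬ) {d e : ℕ} {f g : A} (hg : g ∈ 𝒜 e) (he : 0 < e)
    (hf : f ∈ 𝒜 d) (hd : 0 < d) (z : Spec (CommRingCat.of (Away ℬ (ψ g)))) :
    (Proj.awayι 𝒜 g hg he) ((Spec.map (CommRingCat.ofHom (Away.map ψ g))) z) ∈ Proj.basicOpen 𝒜 f ↔
      (Proj.awayι ℬ (ψ g) (ψ.map_mem hg) he) z ∈ Proj.basicOpen ℬ (ψ f) := by
  have h1 : (Proj.awayι 𝒜 g hg he) ((Spec.map (CommRingCat.ofHom (Away.map ψ g))) z) ∈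
      Proj.basicOpen 𝒜 f ↔ (Spec.map (CommRingCat.ofHom (Away.map ψ g))) z ∈
        Proj.awayι 𝒜 g hg he ⁻¹ᵁ Proj.basicOpen 𝒜 f := Iff.rfl
  have h2 : (Proj.awayι ℬ (ψ g) (ψ.map_mem hg) he) z ∈ Proj.basicOpen ℬ (ψ f) ↔
      z ∈ Proj.awayι ℬ (ψ g) (ψ.map_mem hg) he ⁻¹ᵁ Proj.basicOpen ℬ (ψ f) := Iff.rfl
  have e1 := Proj.awayι_preimage_basicOpen 𝒜 hg he hf hd
  have e2 := Proj.awayι_preimage_basicOpen ℬ (GradedFunLike.map_mem ψ hg) he
    (GradedFunLike.map_mem ψ hf) hd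
  have h3 : (Spec.map (CommRingCat.ofHom (Away.map ψ g))) z ∈
      Proj.awayι 𝒜 g hg he ⁻¹ᵁ Proj.basicOpen 𝒜 f ↔
      z ∈ PrimeSpectrum.basicOpen
        ((CommRingCat.ofHom (Away.map ψ g)) (Away.isLocalizationElem hg hf)) := by
    rw [e1]; exact Iff.rfl
  have h4 : (CommRingCat.ofHom (Away.map ψ g)) (Away.isLocalizationElem hg hf) =
      Away.isLocalizationElem (ψ.map_mem hg) (ψ.map_mem hf) := map_isLocalizationElem ψ hg hf
  have h5 : z ∈ Proj.awayι ℬ (ψ g) (ψ.map_mem hg) he ⁻¹ᵁ Proj.basicOpen ℬ (ψ f) ↔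
      z ∈ PrimeSpectrum.basicOpen (Away.isLocalizationElem (ψ.map_mem hg) (ψ.map_mem hf)) := by
    rw [e2]; exact Iff.rfl
  rw [h1, h3, h4]
  exact (h2.trans h5).symm

variable {A' B' σ' τ' : Type u} [CommRing A'] [SetLike σ' A'] [AddSubgroupClass σ' A']
  {𝒜' : ℕ → σ'} [GradedRing 𝒜']
  [CommRing B'] [SetLike τ' B'] [AddSubgroupClass τ' B'] {ℬ' : ℕ → τ'} [GradedRing ℬ']

/-- in a commutative square of graded homomorphisms whose restriction maps generate the irrelevant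
ideals, the open of definition of the restricted homomorphism maps into the open of definition. -/
theorem map_mem_domOpen (ψ : 𝒜 →+*ᵍ ℬ) (ψ' : 𝒜' →+*ᵍ ℬ') (ρ : 𝒜 →+*ᵍ 𝒜') (ρ' : ℬ →+*ᵍ ℬ')
    (hcomm : ∀ a, ρ' (ψ a) = ψ' (ρ a))
    (hρ : HomogeneousIdeal.irrelevant 𝒜' ≤ (HomogeneousIdeal.irrelevant 𝒜).map ρ)
    (hρ' : HomogeneousIdeal.irrelevant ℬ' ≤ (HomogeneousIdeal.irrelevant ℬ).map ρ')
    (y' : Proj ℬ') (hy' : y' ∈ RelCone.domOpen ψ') :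
    (Proj.map ρ' hρ').base y' ∈ RelCone.domOpen ψ := by
  obtain ⟨f', hf', hfy'⟩ := (RelCone.mem_domOpen _ _).mp hy'
  rw [RelCone.mem_domOpen]
  by_contra hcon
  have hall : ∀ a ∈ (HomogeneousIdeal.irrelevant 𝒜).toIdeal,
      ψ' (ρ a) ∈ y'.asHomogeneousIdeal.toIdeal := by
    intro a ha
    by_contra h
    apply hcon
    refine ⟨a, ha, ?_⟩
    intro h2
    apply h
    rw [← hcomm]
    exact h2
  apply hfy'
  have h3 : (HomogeneousIdeal.irrelevant 𝒜).toIdeal.map ρ ≤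
      (y'.asHomogeneousIdeal.toIdeal).comap ψ' := by
    rw [Ideal.map_le_iff_le_comap]
    intro a ha
    exact hall a ha
  exact h3 (hρ hf')

/-- in a commutative square of graded homomorphisms, the standard opens correspond on a standard
chart of the restricted homomorphism. -/
theorem map_awayι_mem_basicOpen_iff (ψ : 𝒜 →+*ᵍ ℬ) (ψ' : 𝒜' →+*ᵍ ℬ') (ρ : 𝒜 →+*ᵍ 𝒜')
    (ρ' : ℬ →+*ᵍ ℬ') (hcomm : ∀ a, ρ' (ψ a) = ψ' (ρ a))
    (hρ : HomogeneousIdeal.irrelevant 𝒜' ≤ (HomogeneousIdeal.irrelevant 𝒜).map ρ)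
    (hρ' : HomogeneousIdeal.irrelevant ℬ' ≤ (HomogeneousIdeal.irrelevant ℬ).map ρ')
    {d e : ℕ} {f : A} {g : A'} (hg : g ∈ 𝒜' e) (he : 0 < e) (hf : f ∈ 𝒜 d) (hd : 0 < d)
    (z : Spec (CommRingCat.of (Away ℬ' (ψ' g)))) :
    (Proj.map ρ hρ).base ((Proj.awayι 𝒜' g hg he)
        ((Spec.map (CommRingCat.ofHom (Away.map ψ' g))) z)) ∈ Proj.basicOpen 𝒜 f ↔
      (Proj.map ρ' hρ').base ((Proj.awayι ℬ' (ψ' g) (ψ'.map_mem hg) he) z) ∈
        Proj.basicOpen ℬ (ψ f) := by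
  have h1 : (Proj.map ρ hρ).base ((Proj.awayι 𝒜' g hg he)
        ((Spec.map (CommRingCat.ofHom (Away.map ψ' g))) z)) ∈ Proj.basicOpen 𝒜 f ↔
      (Proj.awayι 𝒜' g hg he) ((Spec.map (CommRingCat.ofHom (Away.map ψ' g))) z) ∈
        Proj.map ρ hρ ⁻¹ᵁ Proj.basicOpen 𝒜 f := Iff.rfl
  have h2 : (Proj.map ρ' hρ').base ((Proj.awayι ℬ' (ψ' g) (ψ'.map_mem hg) he) z) ∈
        Proj.basicOpen ℬ (ψ f) ↔ (Proj.awayι ℬ' (ψ' g) (ψ'.map_mem hg) he) z ∈
        Proj.map ρ' hρ' ⁻¹ᵁ Proj.basicOpen ℬ (ψ f) := Iff.rfl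
  rw [h1, h2, Proj.map_preimage_basicOpen, Proj.map_preimage_basicOpen, hcomm]
  exact awayι_map_mem_basicOpen_iff ψ' hg he (ρ.map_mem hf) hd z

end Groth.Agent.Lib.Helper42.ProjDom

namespace Groth.Agent.Lib.Helper42.ProjQ

open CategoryTheory CategoryTheory.Limits AlgebraicGeometry TopologicalSpace Opposite
open HomogeneousLocalization

variable {Y Y' : Scheme.{u}} {g : Y' ⟶ Y} {𝒮 : RelProj.QCGrAlg Y} {𝒮' : RelProj.QCGrAlg Y'}
  {u : RelProj.QGrHom g 𝒮 𝒮'}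
  {P : Scheme.{u}} {p : P ⟶ Y}
  {chart : ∀ (U : Y.Opens) (hU : IsAffineOpen U), (((p ⁻¹ᵁ U : P.Opens) : Scheme.{u}) ≅ Proj (𝒮.deg U hU))}
  {P' : Scheme.{u}} {p' : P' ⟶ Y'}
  {chart' : ∀ (U' : Y'.Opens) (hU' : IsAffineOpen U'),
    (((p' ⁻¹ᵁ U' : P'.Opens) : Scheme.{u}) ≅ Proj (𝒮'.deg U' hU'))}

/-- going up from a pair of basic opens: the open of definition. -/
theorem exists_mem_domOpen_basic (hP' : RelProj.IsRelProj 𝒮' p' chart')
    (U : Y.Opens) (hU : IsAffineOpen U) (U' : Y'.Opens) (hU' : IsAffineOpen U')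
    (hle : U' ≤ g ⁻¹ᵁ U) (r : Γ(Y, U)) (r' : Γ(Y', U'))
    (hle' : Y'.basicOpen r' ≤ g ⁻¹ᵁ Y.basicOpen r)
    (y' : Proj (𝒮'.deg (Y'.basicOpen r') (hU'.basicOpen r')))
    (hy' : y' ∈ RelCone.domOpen (u.gradedAt _ (hU.basicOpen r) _ (hU'.basicOpen r') hle')) :
    ∃ y : Proj (𝒮'.deg U' hU'), y ∈ RelCone.domOpen (u.gradedAt U hU U' hU' hle) ∧
      (RelProj.emb p' chart' U' hU').base y =
        (RelProj.emb p' chart' (Y'.basicOpen r') (hU'.basicOpen r')).base y' := by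
  have hcomm := gradedAt_res (u := u) hU (hU.basicOpen r) (Y.basicOpen_le r) hU' (hU'.basicOpen r')
    (Y'.basicOpen_le r') hle hle'
  refine ⟨(Proj.map (𝒮'.res hU' (hU'.basicOpen r') (Y'.basicOpen_le r'))
      (𝒮'.irrelevant_le_map U' hU' r')).base y', ?_, ?_⟩
  · exact ProjDom.map_mem_domOpen (u.gradedAt U hU U' hU' hle)
      (u.gradedAt _ (hU.basicOpen r) _ (hU'.basicOpen r') hle')
      (𝒮.res hU (hU.basicOpen r) (Y.basicOpen_le r))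
      (𝒮'.res hU' (hU'.basicOpen r') (Y'.basicOpen_le r')) hcomm
      (𝒮.irrelevant_le_map U hU r) (𝒮'.irrelevant_le_map U' hU' r') y' hy'
  · rw [← RelProj.map_res_emb hP' U' hU' r']
    rfl

/-- going up from a pair of opens basic in both members: the open of definition. -/
theorem exists_mem_domOpen (hP' : RelProj.IsRelProj 𝒮' p' chart')
    (U : Y.Opens) (hU : IsAffineOpen U) (U' : Y'.Opens) (hU' : IsAffineOpen U')
    (hle : U' ≤ g ⁻¹ᵁ U) (W : Y.AffineZariskiSite) (W' : Y'.AffineZariskiSite)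
    (hWU : W ≤ (⟨U, hU⟩ : Y.AffineZariskiSite))
    (hWU' : W' ≤ (⟨U', hU'⟩ : Y'.AffineZariskiSite)) (hle' : W'.1 ≤ g ⁻¹ᵁ W.1)
    (y' : Proj (𝒮'.deg W'.1 W'.2))
    (hy' : y' ∈ RelCone.domOpen (u.gradedAt W.1 W.2 W'.1 W'.2 hle')) :
    ∃ y : Proj (𝒮'.deg U' hU'), y ∈ RelCone.domOpen (u.gradedAt U hU U' hU' hle) ∧
      (RelProj.emb p' chart' U' hU').base y = (RelProj.emb p' chart' W'.1 W'.2).base y' := by
  obtain ⟨W, hW⟩ := W
  obtain ⟨W', hW'⟩ := W'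
  obtain ⟨r, hr⟩ := hWU
  obtain ⟨r', hr'⟩ := hWU'
  change Y.basicOpen r = W at hr
  change Y'.basicOpen r' = W' at hr'
  subst hr
  subst hr'
  exact exists_mem_domOpen_basic hP' U hU U' hU' hle r r' hle' y' hy'

/-- a point of `G(u)` over the affine open `U'` comes from the open of definition of `u_{U,U'}`. -/
theorem exists_mem_domOpen_of_mem (hP' : RelProj.IsRelProj 𝒮' p' chart')
    (U : Y.Opens) (hU : IsAffineOpen U) (U' : Y'.Opens) (hU' : IsAffineOpen U')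
    (hle : U' ≤ g ⁻¹ᵁ U) (t : ((RelProj.domQ u p' chart' : P'.Opens) : Scheme.{u}))
    (ht : p'.base ((RelProj.domQ u p' chart').ι.base t) ∈ U') :
    ∃ y : Proj (𝒮'.deg U' hU'), y ∈ RelCone.domOpen (u.gradedAt U hU U' hU' hle) ∧
      (RelProj.emb p' chart' U' hU').base y = (RelProj.domQ u p' chart').ι.base t := by
  obtain ⟨j, hj⟩ := chart_covers (u := u) (p' := p') (chart' := chart') t
  have h1 := base_mem_of_mem_range_emb j t hj
  obtain ⟨U₁, hU₁, U₁', hU₁', hle₁, d₁, hd₁, f₁, hf₁⟩ := j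
  obtain ⟨W, W', hW₁, hW₂, hW₁', hW₂', hleW, hptW⟩ :=
    RelSpecQ.exists_refine g hU₁ hU hU₁' hU' hle₁ hle _ h1 ht
  have hWU₁ : W.1 ≤ U₁ := Scheme.AffineZariskiSite.toOpens_mono hW₁
  have m₁ := mem_range_emb_res' (u := u) hP' U₁ hU₁ U₁' hU₁' hle₁ hd₁ hf₁ W W' hW₁ hW₁' hleW hWU₁
    t hj hptW
  rw [mem_range_emb_iff] at m₁
  obtain ⟨y', hy', hyt'⟩ := m₁
  have hy'' : y' ∈ RelCone.domOpen (u.gradedAt W.1 W.2 W'.1 W'.2 hleW) :=
    (RelCone.mem_domOpen _ _).mpr ⟨_, HomogeneousIdeal.mem_irrelevant_of_mem _ hd₁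
      ((𝒮.res hU₁ W.2 hWU₁).map_mem hf₁), (ProjectiveSpectrum.mem_basicOpen _ _ _).mp hy'⟩
  obtain ⟨y, hy, hyy'⟩ := exists_mem_domOpen hP' U hU U' hU' hle W W' hW₂ hW₂' hleW y' hy''
  exact ⟨y, hy, hyy'.trans hyt'⟩

/-- the part of `G(u)` over an affine open `U' ⊆ g⁻¹(U)`, `U` affine, is the image under the chart
of the open of definition of `u_{U,U'}`. -/
theorem domQ_inf_preimage (hP' : RelProj.IsRelProj 𝒮' p' chart')
    (U : Y.Opens) (hU : IsAffineOpen U) (U' : Y'.Opens) (hU' : IsAffineOpen U')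
    (hle : U' ≤ g ⁻¹ᵁ U) :
    RelProj.domQ u p' chart' ⊓ p' ⁻¹ᵁ U' =
      (RelProj.emb p' chart' U' hU') ''ᵁ RelCone.domOpen (u.gradedAt U hU U' hU' hle) := by
  ext x
  constructor
  · rintro ⟨hx1, hx2⟩
    obtain ⟨y, hy, hyx⟩ := exists_mem_domOpen_of_mem (u := u) hP' U hU U' hU' hle ⟨x, hx1⟩ hx2
    exact ⟨y, hy, hyx⟩
  · rintro ⟨y, hy, rfl⟩
    refine ⟨?_, ?_⟩
    · refine Opens.mem_iSup.mpr ⟨⟨(⟨U, hU⟩, ⟨U', hU'⟩), hle⟩, ?_⟩
      exact ⟨y, hy, rfl⟩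
    · have h : (RelProj.emb p' chart' U' hU').base y ∈
          Set.range (RelProj.emb p' chart' U' hU').base := ⟨y, rfl⟩
      rw [range_emb] at h
      exact h

/-- going up from a pair of basic opens: standard opens. -/
theorem exists_mem_basicOpen_basic (hP : RelProj.IsRelProj 𝒮 p chart)
    (hP' : RelProj.IsRelProj 𝒮' p' chart')
    (U : Y.Opens) (hU : IsAffineOpen U) (U' : Y'.Opens) (hU' : IsAffineOpen U')
    (hle : U' ≤ g ⁻¹ᵁ U) (r : Γ(Y, U)) (r' : Γ(Y', U'))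
    (hle' : Y'.basicOpen r' ≤ g ⁻¹ᵁ Y.basicOpen r)
    {d₁ : ℕ} (hd₁ : 0 < d₁) {f₁ : 𝒮.presheaf.obj (op (Y.basicOpen r))}
    (hf₁ : f₁ ∈ 𝒮.deg (Y.basicOpen r) (hU.basicOpen r) d₁)
    {d : ℕ} (hd : 0 < d) {f : 𝒮.presheaf.obj (op U)} (hf : f ∈ 𝒮.deg U hU d)
    (z' : Spec (CommRingCat.of (Away (𝒮'.deg (Y'.basicOpen r') (hU'.basicOpen r'))
      (u.gradedAt _ (hU.basicOpen r) _ (hU'.basicOpen r') hle' f₁))))
    (y₀ : Proj (𝒮.deg U hU)) (hy₀ : y₀ ∈ Proj.basicOpen (𝒮.deg U hU) f)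
    (hy₀z : (RelProj.emb p chart U hU).base y₀ =
      (RelProj.emb p chart (Y.basicOpen r) (hU.basicOpen r)).base
        ((Proj.awayι (𝒮.deg (Y.basicOpen r) (hU.basicOpen r)) f₁ hf₁ hd₁).base
          ((Spec.map (CommRingCat.ofHom (Away.map
            (u.gradedAt _ (hU.basicOpen r) _ (hU'.basicOpen r') hle') f₁))).base z'))) :
    ∃ y : Proj (𝒮'.deg U' hU'),
      y ∈ Proj.basicOpen (𝒮'.deg U' hU') (u.gradedAt U hU U' hU' hle f) ∧
      (RelProj.emb p' chart' U' hU').base y =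
        (RelProj.emb p' chart' (Y'.basicOpen r') (hU'.basicOpen r')).base
          ((Proj.awayι (𝒮'.deg (Y'.basicOpen r') (hU'.basicOpen r'))
            (u.gradedAt _ (hU.basicOpen r) _ (hU'.basicOpen r') hle' f₁)
            ((u.gradedAt _ (hU.basicOpen r) _ (hU'.basicOpen r') hle').map_mem hf₁) hd₁).base z') := by
  have hcomm := gradedAt_res (u := u) hU (hU.basicOpen r) (Y.basicOpen_le r) hU' (hU'.basicOpen r')
    (Y'.basicOpen_le r') hle hle'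
  have h0 : y₀ = (Proj.map (𝒮.res hU (hU.basicOpen r) (Y.basicOpen_le r))
      (𝒮.irrelevant_le_map U hU r)).base
        ((Proj.awayι (𝒮.deg (Y.basicOpen r) (hU.basicOpen r)) f₁ hf₁ hd₁).base
          ((Spec.map (CommRingCat.ofHom (Away.map
            (u.gradedAt _ (hU.basicOpen r) _ (hU'.basicOpen r') hle') f₁))).base z')) := by
    apply emb_injective (p := p) (chart := chart) U hU
    rw [hy₀z, ← RelProj.map_res_emb hP U hU r]
    rfl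
  rw [h0] at hy₀
  refine ⟨(Proj.map (𝒮'.res hU' (hU'.basicOpen r') (Y'.basicOpen_le r'))
      (𝒮'.irrelevant_le_map U' hU' r')).base
        ((Proj.awayι (𝒮'.deg (Y'.basicOpen r') (hU'.basicOpen r'))
            (u.gradedAt _ (hU.basicOpen r) _ (hU'.basicOpen r') hle' f₁)
            ((u.gradedAt _ (hU.basicOpen r) _ (hU'.basicOpen r') hle').map_mem hf₁) hd₁).base z'),
      ?_, ?_⟩
  · exact (ProjDom.map_awayι_mem_basicOpen_iff (u.gradedAt U hU U' hU' hle)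
      (u.gradedAt _ (hU.basicOpen r) _ (hU'.basicOpen r') hle')
      (𝒮.res hU (hU.basicOpen r) (Y.basicOpen_le r))
      (𝒮'.res hU' (hU'.basicOpen r') (Y'.basicOpen_le r')) hcomm
      (𝒮.irrelevant_le_map U hU r) (𝒮'.irrelevant_le_map U' hU' r') hf₁ hd₁ hf hd z').mp hy₀
  · rw [← RelProj.map_res_emb hP' U' hU' r']
    rfl

/-- going up from a pair of opens basic in both members: standard opens. -/
theorem exists_mem_basicOpen' (hP : RelProj.IsRelProj 𝒮 p chart)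
    (hP' : RelProj.IsRelProj 𝒮' p' chart')
    (U : Y.Opens) (hU : IsAffineOpen U) (U' : Y'.Opens) (hU' : IsAffineOpen U')
    (hle : U' ≤ g ⁻¹ᵁ U) (W : Y.AffineZariskiSite) (W' : Y'.AffineZariskiSite)
    (hWU : W ≤ (⟨U, hU⟩ : Y.AffineZariskiSite))
    (hWU' : W' ≤ (⟨U', hU'⟩ : Y'.AffineZariskiSite)) (hle' : W'.1 ≤ g ⁻¹ᵁ W.1)
    {d₁ : ℕ} (hd₁ : 0 < d₁) {f₁ : 𝒮.presheaf.obj (op W.1)}
    (hf₁ : f₁ ∈ 𝒮.deg W.1 W.2 d₁)
    {d : ℕ} (hd : 0 < d) {f : 𝒮.presheaf.obj (op U)} (hf : f ∈ 𝒮.deg U hU d)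
    (z' : Spec (CommRingCat.of (Away (𝒮'.deg W'.1 W'.2)
      (u.gradedAt W.1 W.2 W'.1 W'.2 hle' f₁))))
    (y₀ : Proj (𝒮.deg U hU)) (hy₀ : y₀ ∈ Proj.basicOpen (𝒮.deg U hU) f)
    (hy₀z : (RelProj.emb p chart U hU).base y₀ =
      (RelProj.emb p chart W.1 W.2).base
        ((Proj.awayι (𝒮.deg W.1 W.2) f₁ hf₁ hd₁).base
          ((Spec.map (CommRingCat.ofHom (Away.map
            (u.gradedAt W.1 W.2 W'.1 W'.2 hle') f₁))).base z'))) :
    ∃ y : Proj (𝒮'.deg U' hU'),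
      y ∈ Proj.basicOpen (𝒮'.deg U' hU') (u.gradedAt U hU U' hU' hle f) ∧
      (RelProj.emb p' chart' U' hU').base y =
        (RelProj.emb p' chart' W'.1 W'.2).base
          ((Proj.awayι (𝒮'.deg W'.1 W'.2)
            (u.gradedAt W.1 W.2 W'.1 W'.2 hle' f₁)
            ((u.gradedAt W.1 W.2 W'.1 W'.2 hle').map_mem hf₁) hd₁).base z') := by
  obtain ⟨W, hW⟩ := W
  obtain ⟨W', hW'⟩ := W'
  obtain ⟨r, hr⟩ := hWU
  obtain ⟨r', hr'⟩ := hWU'
  change Y.basicOpen r = W at hr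
  change Y'.basicOpen r' = W' at hr'
  subst hr
  subst hr'
  exact exists_mem_basicOpen_basic hP hP' U hU U' hU' hle r r' hle' hd₁ hf₁ hd hf z' y₀ hy₀ hy₀z

/-- a point of `G(u)` over `U'` which `Proj(u)` sends into the standard open `D_+(f)` over `U` lies
in the standard chart at `(U, U', f)`. -/
theorem mem_range_emb_of_map_mem (hP : RelProj.IsRelProj 𝒮 p chart)
    (hP' : RelProj.IsRelProj 𝒮' p' chart')
    {v : ((RelProj.domQ u p' chart' : P'.Opens) : Scheme.{u}) ⟶ P}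
    (hv : RelProj.IsProjQMapOn u p chart p' chart' (RelProj.domQ u p' chart') v)
    (U : Y.Opens) (hU : IsAffineOpen U) (U' : Y'.Opens) (hU' : IsAffineOpen U')
    (hle : U' ≤ g ⁻¹ᵁ U) {d : ℕ} (hd : 0 < d) {f : 𝒮.presheaf.obj (op U)} (hf : f ∈ 𝒮.deg U hU d)
    (t : ((RelProj.domQ u p' chart' : P'.Opens) : Scheme.{u}))
    (ht : p'.base ((RelProj.domQ u p' chart').ι.base t) ∈ U')
    (y₀ : Proj (𝒮.deg U hU)) (hy₀ : y₀ ∈ Proj.basicOpen (𝒮.deg U hU) f)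
    (hvt : v.base t = (RelProj.emb p chart U hU).base y₀) :
    t ∈ Set.range (QIdx.emb u p' chart' ⟨U, hU, U', hU', hle, d, hd, f, hf⟩).base := by
  obtain ⟨j, hj⟩ := chart_covers (u := u) (p' := p') (chart' := chart') t
  have h1 := base_mem_of_mem_range_emb j t hj
  obtain ⟨U₁, hU₁, U₁', hU₁', hle₁, d₁, hd₁, f₁, hf₁⟩ := j
  obtain ⟨W, W', hW₁, hW₂, hW₁', hW₂', hleW, hptW⟩ :=
    RelSpecQ.exists_refine g hU₁ hU hU₁' hU' hle₁ hle _ h1 ht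
  have hWU₁ : W.1 ≤ U₁ := Scheme.AffineZariskiSite.toOpens_mono hW₁
  have m₁ := mem_range_emb_res' (u := u) hP' U₁ hU₁ U₁' hU₁' hle₁ hd₁ hf₁ W W' hW₁ hW₁' hleW hWU₁
    t hj hptW
  obtain ⟨z', hz'⟩ := m₁
  have hf₁W := (𝒮.res hU₁ W.2 hWU₁).map_mem hf₁
  have hvk := hv W.1 W.2 W'.1 W'.2 hleW d₁ hd₁ _ hf₁W
    (RelProj.range_awayEmb_subset_domQ u p' chart' W.1 W.2 W'.1 W'.2 hleW hd₁ _ hf₁W)
  have hvz : v.base t = (RelProj.emb p chart W.1 W.2).base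
        ((Proj.awayι (𝒮.deg W.1 W.2) _ hf₁W hd₁).base
          ((Spec.map (CommRingCat.ofHom (Away.map
            (u.gradedAt W.1 W.2 W'.1 W'.2 hleW) (𝒮.res hU₁ W.2 hWU₁ f₁)))).base z')) := by
    rw [← hz']
    exact congrArg (fun φ => φ.base z') hvk
  obtain ⟨y, hy, hyz⟩ := exists_mem_basicOpen' hP hP' U hU U' hU' hle W W' hW₂ hW₂' hleW hd₁ hf₁W
    hd hf z' y₀ hy₀ (hvt.symm.trans hvz)
  rw [mem_range_emb_iff]
  refine ⟨y, hy, hyz.trans ?_⟩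
  rw [← hz']
  have h2 := QIdx.emb_ι u p' chart' ⟨W.1, W.2, W'.1, W'.2, hleW, d₁, hd₁, _, hf₁W⟩
  exact (congrArg (fun φ => φ.base z') h2).symm

end Groth.Agent.Lib.Helper42.ProjQ
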