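import Groth.Agent.Lib.Helper42.RelProjBaseChange
import Groth.Agent.Lib.Helper42.IrrelevantBaseChange

/-!
# `Proj(u)` for a base change `𝒮' = ψ^* 𝒮` (helper42)

For a graded `ψ`-morphism `u : 𝒮 → ψ_* 𝒮'` which is a base change (`RelSpec.IsQBaseChange`):
the irrelevant-ideal condition holds on all affine pairs, `G(u) = Proj(𝒮')`, the morphism
`Proj(u)` exists, and it identifies `Proj(𝒮')` with `Proj(𝒮) ×_Y Y'`.

ns `Groth.Agent.Lib.Helper42.ProjQBC`.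
-/

set_option autoImplicit false

universe u

open CategoryTheory CategoryTheory.Limits AlgebraicGeometry TopologicalSpace Opposite
open scoped HomogeneousIdeal

namespace Groth.Agent.Lib.Helper42.ProjQBC

variable {Y Y' P P' : Scheme.{u}} {ψ : Y' ⟶ Y} {𝒮 : RelProj.QCGrAlg Y} {𝒮' : RelProj.QCGrAlg Y'}
  (u : RelProj.QGrHom ψ 𝒮 𝒮')
  {p : P ⟶ Y}
  {chart : ∀ (U : Y.Opens) (hU : IsAffineOpen U),
    (((p ⁻¹ᵁ U : P.Opens) : Scheme.{u}) ≅ Proj (𝒮.deg U hU))}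
  {p' : P' ⟶ Y'}
  {chart' : ∀ (U' : Y'.Opens) (hU' : IsAffineOpen U'),
    (((p' ⁻¹ᵁ U' : P'.Opens) : Scheme.{u}) ≅ Proj (𝒮'.deg U' hU'))}

/-- for a base change the irrelevant ideal of `𝒮'(U')` is generated by that of `𝒮(U)`. -/
theorem irrelevant_le_map (hu : RelSpec.IsQBaseChange u.toQHom) (U : Y.Opens)
    (hU : IsAffineOpen U) (U' : Y'.Opens) (hU' : IsAffineOpen U') (hle : U' ≤ ψ ⁻¹ᵁ U) :
    (𝒮'.deg U' hU')₊ ≤ ((𝒮.deg U hU)₊).map (u.gradedAt U hU U' hU' hle) :=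
  AwayBC.irrelevant_le_map (𝒮.deg U hU) (𝒮'.deg U' hU') (ψ.appLE U U' hle).hom
    (𝒮.str.app (op U)).hom (𝒮'.str.app (op U')).hom (𝒮'.str_mem U' hU')
    (u.gradedAt U hU U' hU' hle) (hu U hU U' hU' hle)

/-- a point of `Y'` lies in an affine open `U'` mapping into an affine open `U` of `Y`. -/
theorem exists_pair (y' : Y') :
    ∃ (U : Y.Opens) (_ : IsAffineOpen U) (U' : Y'.Opens) (_ : IsAffineOpen U')
      (_ : U' ≤ ψ ⁻¹ᵁ U), y' ∈ U' := by
  obtain ⟨U, hU, hxU⟩ : ∃ U : Y.Opens, IsAffineOpen U ∧ ψ.base y' ∈ U := by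
    obtain ⟨_, ⟨V, hV, rfl⟩, hxV, -⟩ := (Y.isBasis_affineOpens).exists_subset_of_mem_open
      (Set.mem_univ (ψ.base y')) isOpen_univ
    exact ⟨V, hV, hxV⟩
  obtain ⟨_, ⟨U', hU'0, rfl⟩, hxU', hU'le⟩ := (Y'.isBasis_affineOpens).exists_subset_of_mem_open
    (show y' ∈ ((ψ ⁻¹ᵁ U : Y'.Opens) : Set Y') from hxU) (ψ ⁻¹ᵁ U).2
  have hU' : IsAffineOpen U' := hU'0
  exact ⟨U, hU, U', hU', hU'le, hxU'⟩

/-- under the irrelevant-ideal condition `Proj(u)` is defined on the whole chart. -/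
theorem mem_domOpen_of_irrelevant_le (U : Y.Opens)
    (hU : IsAffineOpen U) (U' : Y'.Opens) (hU' : IsAffineOpen U') (hle : U' ≤ ψ ⁻¹ᵁ U)
    (hirr : (𝒮'.deg U' hU')₊ ≤ ((𝒮.deg U hU)₊).map (u.gradedAt U hU U' hU' hle))
    (y : Proj (𝒮'.deg U' hU')) : y ∈ RelCone.domOpen (u.gradedAt U hU U' hU' hle) := by
  have hy : ¬ ((𝒮'.deg U' hU')₊).toIdeal ≤ y.asHomogeneousIdeal.toIdeal := y.not_irrelevant_le
  have h1 : ¬ ((𝒮.deg U hU)₊).toIdeal ≤
      y.asHomogeneousIdeal.toIdeal.comap (u.gradedAt U hU U' hU' hle) := by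
    intro hle'
    apply hy
    refine le_trans (show ((𝒮'.deg U' hU')₊).toIdeal ≤
      (((𝒮.deg U hU)₊).map (u.gradedAt U hU U' hU' hle)).toIdeal from hirr) ?_
    exact Ideal.map_le_iff_le_comap.mpr hle'
  obtain ⟨a, ha, hay⟩ := SetLike.not_le_iff_exists.mp h1
  exact (RelCone.mem_domOpen _ _).mpr ⟨a, ha, hay⟩

/-- for a base change, `Proj(u)` is everywhere defined. -/
theorem domQ_eq_top (hu : RelSpec.IsQBaseChange u.toQHom) :
    RelProj.domQ u p' chart' = ⊤ := by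
  refine eq_top_iff.mpr (fun x _ => ?_)
  obtain ⟨U, hU, U', hU', hle, hx⟩ := exists_pair (ψ := ψ) (p'.base x)
  have hxr : x ∈ Set.range (RelProj.emb p' chart' U' hU').base := by
    rw [ProjQ.range_emb]; exact hx
  obtain ⟨y, rfl⟩ := hxr
  have hy := mem_domOpen_of_irrelevant_le u U hU U' hU' hle
    (irrelevant_le_map u hu U hU U' hU' hle) y
  refine Opens.mem_iSup.mpr ⟨⟨(⟨U, hU⟩, ⟨U', hU'⟩), hle⟩, ?_⟩
  exact ⟨_, hy, rfl⟩

/-- a morphism satisfying the chart equations of `Proj(u)` is, on a chart where the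
irrelevant-ideal condition holds, `Proj.map`. -/
theorem emb_comp_of_isProjQMap {h : P' ⟶ P} (hh : RelProj.IsProjQMap u p chart p' chart' h)
    (U : Y.Opens) (hU : IsAffineOpen U) (U' : Y'.Opens) (hU' : IsAffineOpen U')
    (hle : U' ≤ ψ ⁻¹ᵁ U)
    (hirr : (𝒮'.deg U' hU')₊ ≤ ((𝒮.deg U hU)₊).map (u.gradedAt U hU U' hU' hle)) :
    RelProj.emb p' chart' U' hU' ≫ h =
      Proj.map (u.gradedAt U hU U' hU' hle) hirr ≫ RelProj.emb p chart U hU := by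
  refine LocalGlue.hom_ext_of_family (J := ProjDom.Idx (𝒮.deg U hU))
    (fun j => Spec (CommRingCat.of (HomogeneousLocalization.Away (𝒮'.deg U' hU')
      (u.gradedAt U hU U' hU' hle j.f))))
    (fun j => Proj.awayι (𝒮'.deg U' hU') (u.gradedAt U hU U' hU' hle j.f)
      (GradedFunLike.map_mem (u.gradedAt U hU U' hU' hle) j.hf) j.hd)
    (RelProjBC.awayι_map_covers (u.gradedAt U hU U' hU' hle) hirr) (fun j => ?_)
  obtain ⟨d, f, hd, hf⟩ := j
  dsimp only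
  have h1 := hh.2 U hU U' hU' hle d hd f hf
  have h2 := Proj.awayι_comp_map (u.gradedAt U hU U' hU' hle) hirr hd f hf
  show RelProj.awayEmb u p' chart' U hU U' hU' hle hd f hf ≫ h = _
  rw [h1, ← Category.assoc, ← h2, Category.assoc]

/-- for a base change, `Proj(u)` identifies `Proj(𝒮')` with `Proj(𝒮) ×_Y Y'`. -/
theorem isPullback_of_isProjQMap (hu : RelSpec.IsQBaseChange u.toQHom)
    (hP : RelProj.IsRelProj 𝒮 p chart) (hP' : RelProj.IsRelProj 𝒮' p' chart') {h : P' ⟶ P}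
    (hh : RelProj.IsProjQMap u p chart p' chart' h) : IsPullback h p' p ψ := by
  refine RelProjBC.isPullback_of_charts ψ hP hP' h
    (J := {V : Y.affineOpens × Y'.affineOpens // (V.2 : Y'.Opens) ≤ ψ ⁻¹ᵁ (V.1 : Y.Opens)})
    (fun j => j.1.1.1) (fun j => j.1.1.2) (fun j => j.1.2.1) (fun j => j.1.2.2) (fun j => j.2)
    ?_ (fun j => u.gradedAt j.1.1.1 j.1.1.2 j.1.2.1 j.1.2.2 j.2) ?_
    (fun j => irrelevant_le_map u hu j.1.1.1 j.1.1.2 j.1.2.1 j.1.2.2 j.2) ?_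
  · intro y'
    obtain ⟨U, hU, U', hU', hle, hx⟩ := exists_pair (ψ := ψ) y'
    exact ⟨⟨(⟨U, hU⟩, ⟨U', hU'⟩), hle⟩, hx⟩
  · intro j
    exact hu j.1.1.1 j.1.1.2 j.1.2.1 j.1.2.2 j.2
  · intro j
    exact emb_comp_of_isProjQMap u hh j.1.1.1 j.1.1.2 j.1.2.1 j.1.2.2 j.2 _

/-- for a base change, `Proj(u)` exists. -/
theorem exists_isProjQMap (hu : RelSpec.IsQBaseChange u.toQHom)
    (hP : RelProj.IsRelProj 𝒮 p chart) (hP' : RelProj.IsRelProj 𝒮' p' chart') :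
    ∃ h : P' ⟶ P, RelProj.IsProjQMap u p chart p' chart' h := by
  obtain ⟨v, hv, -⟩ := ProjQ.existsUnique_isProjQMapOn (u := u) hP hP'
  have e : RelProj.domQ u p' chart' = ⊤ := domQ_eq_top u hu
  have hiso : IsIso (RelProj.domQ u p' chart').ι := by
    rw [e]
    exact (inferInstance : IsIso P'.topIso.hom)
  refine ⟨inv (RelProj.domQ u p' chart').ι ≫ v, e, ?_⟩
  intro U hU U' hU' hle d hd f hf
  have hW := RelProj.range_awayEmb_subset_domQ u p' chart' U hU U' hU' hle hd f hf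
  have h1 := hv U hU U' hU' hle d hd f hf hW
  rw [← h1, ← Category.assoc]
  congr 1
  rw [IsIso.comp_inv_eq, IsOpenImmersion.lift_fac]

end Groth.Agent.Lib.Helper42.ProjQBC
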