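import Groth.Agent.Lib.Helper42.ProjLoc

/-!
# Existence of the relative homogeneous spectrum (helper42)

The schemes `Proj 𝒮(U)`, `U` affine open in `Y`, glue along the open immersions
`Proj 𝒮(D(r)) ⟶ Proj 𝒮(U)` to a scheme over `Y` (Mathlib's relative glueing).
-/

set_option autoImplicit false

universe u

namespace Groth.Agent.Lib.Helper42.RelProjExists

open CategoryTheory CategoryTheory.Limits AlgebraicGeometry TopologicalSpace Opposite
open HomogeneousLocalization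

variable {Y : Scheme.{u}} (𝒮 : RelProj.QCGrAlg Y)

/-- the localization properties of the restriction to a basic open. -/
theorem res_loc (U : Y.Opens) (hU : IsAffineOpen U) (r : Γ(Y, U)) :
    IsUnit (𝒮.res hU (hU.basicOpen r) (Y.basicOpen_le r) ((𝒮.str.app (op U)).hom r)) ∧
    (∀ b : 𝒮.presheaf.obj (op (Y.basicOpen r)), ∃ (a : 𝒮.presheaf.obj (op U)) (m : ℕ),
      b * 𝒮.res hU (hU.basicOpen r) (Y.basicOpen_le r) ((𝒮.str.app (op U)).hom r) ^ m =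
        𝒮.res hU (hU.basicOpen r) (Y.basicOpen_le r) a) ∧
    (∀ a : 𝒮.presheaf.obj (op U), 𝒮.res hU (hU.basicOpen r) (Y.basicOpen_le r) a = 0 →
      ∃ m : ℕ, (𝒮.str.app (op U)).hom r ^ m * a = 0) := by
  letI := (𝒮.presheaf.map (homOfLE (Y.basicOpen_le r)).op).hom.toAlgebra
  have hloc : IsLocalization.Away ((𝒮.str.app (op U)).hom r)
      (𝒮.presheaf.obj (op (Y.basicOpen r))) := 𝒮.isQC U hU r
  refine ⟨IsLocalization.Away.algebraMap_isUnit _, fun b => ?_, fun a ha => ?_⟩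
  · obtain ⟨n, a, h⟩ := IsLocalization.Away.surj ((𝒮.str.app (op U)).hom r) b
    exact ⟨a, n, h⟩
  · have h0 : algebraMap (𝒮.presheaf.obj (op U)) (𝒮.presheaf.obj (op (Y.basicOpen r))) a =
        algebraMap (𝒮.presheaf.obj (op U)) (𝒮.presheaf.obj (op (Y.basicOpen r))) 0 := by
      rw [map_zero]
      exact ha
    obtain ⟨n, h⟩ := IsLocalization.Away.exists_of_eq (x := (𝒮.str.app (op U)).hom r) h0
    exact ⟨n, by rw [h, mul_zero]⟩

/-- restriction along an arrow of the affine Zariski site, as a graded homomorphism. -/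
noncomputable def resHom {U V : Y.AffineZariskiSite} (f : V ⟶ U) :
    𝒮.deg U.1 U.2 →+*ᵍ 𝒮.deg V.1 V.2 :=
  𝒮.res U.2 V.2 (Scheme.AffineZariskiSite.toOpens_mono f.le)

theorem irr_le {U V : Y.AffineZariskiSite} (f : V ⟶ U) :
    HomogeneousIdeal.irrelevant (𝒮.deg V.1 V.2) ≤
      (HomogeneousIdeal.irrelevant (𝒮.deg U.1 U.2)).map (resHom 𝒮 f) := by
  obtain ⟨V, hV⟩ := V
  obtain ⟨r, hr⟩ := f.le
  change Y.basicOpen r = V at hr
  subst hr
  exact 𝒮.irrelevant_le_map U.1 U.2 r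

theorem proj_map_congr {A B σ τ : Type u} [CommRing A] [SetLike σ A] [AddSubgroupClass σ A]
    {𝒜 : ℕ → σ} [GradedRing 𝒜] [CommRing B] [SetLike τ B] [AddSubgroupClass τ B] {ℬ : ℕ → τ}
    [GradedRing ℬ] {ψ ψ' : 𝒜 →+*ᵍ ℬ} (h : ψ = ψ')
    (hirr : HomogeneousIdeal.irrelevant ℬ ≤ (HomogeneousIdeal.irrelevant 𝒜).map ψ)
    (hirr' : HomogeneousIdeal.irrelevant ℬ ≤ (HomogeneousIdeal.irrelevant 𝒜).map ψ') :
    Proj.map ψ hirr = Proj.map ψ' hirr' := by
  subst h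
  rfl

theorem resHom_id (U : Y.AffineZariskiSite) :
    resHom 𝒮 (𝟙 U) = GradedRingHom.id (𝒮.deg U.1 U.2) := by
  apply DFunLike.ext
  intro x
  change (𝒮.presheaf.map (homOfLE _).op).hom x = x
  have h1 : (homOfLE (Scheme.AffineZariskiSite.toOpens_mono (𝟙 U : U ⟶ U).le)).op =
      𝟙 (op U.1) := Subsingleton.elim _ _
  rw [h1]
  exact congrArg (fun φ => φ.hom x) (𝒮.presheaf.map_id (op U.1))

theorem resHom_comp {U V W : Y.AffineZariskiSite} (f : W ⟶ V) (g : V ⟶ U) :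
    resHom 𝒮 (f ≫ g) = (resHom 𝒮 f).comp (resHom 𝒮 g) := by
  apply DFunLike.ext
  intro x
  change (𝒮.presheaf.map (homOfLE _).op).hom x =
    (𝒮.presheaf.map (homOfLE _).op).hom ((𝒮.presheaf.map (homOfLE _).op).hom x)
  have h1 : (homOfLE (Scheme.AffineZariskiSite.toOpens_mono (f ≫ g).le)).op =
      (homOfLE (Scheme.AffineZariskiSite.toOpens_mono g.le)).op ≫
        (homOfLE (Scheme.AffineZariskiSite.toOpens_mono f.le)).op := Subsingleton.elim _ _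
  rw [h1, 𝒮.presheaf.map_comp]
  rfl

/-- the diagram of the `Proj 𝒮(U)`. -/
noncomputable def functor : Y.AffineZariskiSite ⥤ Scheme.{u} where
  obj U := Proj (𝒮.deg U.1 U.2)
  map f := Proj.map (resHom 𝒮 f) (irr_le 𝒮 f)
  map_id U := by
    refine (proj_map_congr (resHom_id 𝒮 U) _ (by simp)).trans ?_
    exact Proj.map_id
  map_comp f g := by
    refine (proj_map_congr (resHom_comp 𝒮 f g) _
      (HomogeneousIdeal.irrelevant_le_map_comp (irr_le 𝒮 g) (irr_le 𝒮 f))).trans ?_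
    exact Proj.map_comp (resHom 𝒮 g) (resHom 𝒮 f) (irr_le 𝒮 g) (irr_le 𝒮 f)

/-- the structure morphism `Proj 𝒮(U) ⟶ U`. -/
noncomputable def toBaseApp (U : Y.AffineZariskiSite) :
    Proj (𝒮.deg U.1 U.2) ⟶ ((U.1 : Y.Opens) : Scheme.{u}) :=
  Proj.toSpecZero (𝒮.deg U.1 U.2) ≫ Spec.map (𝒮.strZero U.1 U.2) ≫ U.2.isoSpec.inv

theorem toBaseApp_ι (U : Y.AffineZariskiSite) :
    toBaseApp 𝒮 U ≫ U.1.ι =
      Proj.toSpecZero (𝒮.deg U.1 U.2) ≫ Spec.map (𝒮.strZero U.1 U.2) ≫ U.2.fromSpec := by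
  unfold toBaseApp
  simp only [Category.assoc]
  rfl

theorem toBaseApp_naturality {U V : Y.AffineZariskiSite} (f : V ⟶ U) :
    (functor 𝒮).map f ≫ toBaseApp 𝒮 U =
      toBaseApp 𝒮 V ≫ Y.homOfLE (Scheme.AffineZariskiSite.toOpens_mono f.le) := by
  refine (cancel_mono (Scheme.Opens.ι U.toOpens)).mp ?_
  have e1 : (toBaseApp 𝒮 V ≫ Y.homOfLE (Scheme.AffineZariskiSite.toOpens_mono f.le)) ≫
      Scheme.Opens.ι U.toOpens = toBaseApp 𝒮 V ≫ Scheme.Opens.ι V.toOpens := by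
    rw [Category.assoc, Scheme.homOfLE_ι]
  refine ((Category.assoc _ _ _).trans ?_).trans e1.symm
  refine ((congrArg (fun m => (functor 𝒮).map f ≫ m) (toBaseApp_ι 𝒮 U)).trans ?_).trans
    (toBaseApp_ι 𝒮 V).symm
  have hs : ∀ r : Γ(Y, U.1), resHom 𝒮 f ((((𝒮.strZero U.1 U.2).hom r : 𝒮.deg U.1 U.2 0)) :
      𝒮.presheaf.obj (op U.1)) =
      ((((𝒮.strZero V.1 V.2).hom ((Y.presheaf.map
        (homOfLE (Scheme.AffineZariskiSite.toOpens_mono f.le)).op).hom r) : 𝒮.deg V.1 V.2 0)) :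
        𝒮.presheaf.obj (op V.1)) := by
    intro r
    exact (congrArg (fun φ => φ.hom r) (𝒮.str.naturality
      (homOfLE (Scheme.AffineZariskiSite.toOpens_mono f.le)).op)).symm
  have h1 : Proj.map (resHom 𝒮 f) (irr_le 𝒮 f) ≫ Proj.toSpecZero (𝒮.deg U.1 U.2) ≫
      Spec.map (𝒮.strZero U.1 U.2) =
      Proj.toSpecZero (𝒮.deg V.1 V.2) ≫ Spec.map (𝒮.strZero V.1 V.2) ≫
        Spec.map (Y.presheaf.map (homOfLE (Scheme.AffineZariskiSite.toOpens_mono f.le)).op) :=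
    ProjLoc.map_toSpecZero (resHom 𝒮 f) (irr_le 𝒮 f) (𝒮.strZero U.1 U.2).hom
      (𝒮.strZero V.1 V.2).hom
      (Y.presheaf.map (homOfLE (Scheme.AffineZariskiSite.toOpens_mono f.le)).op).hom hs
  have h2 : Spec.map (Y.presheaf.map (homOfLE (Scheme.AffineZariskiSite.toOpens_mono f.le)).op) ≫
      U.2.fromSpec = V.2.fromSpec :=
    U.2.map_fromSpec V.2 (homOfLE (Scheme.AffineZariskiSite.toOpens_mono f.le)).op
  change Proj.map (resHom 𝒮 f) (irr_le 𝒮 f) ≫ Proj.toSpecZero (𝒮.deg U.1 U.2) ≫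
    Spec.map (𝒮.strZero U.1 U.2) ≫ U.2.fromSpec =
    Proj.toSpecZero (𝒮.deg V.1 V.2) ≫ Spec.map (𝒮.strZero V.1 V.2) ≫ V.2.fromSpec
  have e2 : Proj.map (resHom 𝒮 f) (irr_le 𝒮 f) ≫ Proj.toSpecZero (𝒮.deg U.1 U.2) ≫
      Spec.map (𝒮.strZero U.1 U.2) ≫ U.2.fromSpec =
      (Proj.map (resHom 𝒮 f) (irr_le 𝒮 f) ≫ Proj.toSpecZero (𝒮.deg U.1 U.2) ≫
        Spec.map (𝒮.strZero U.1 U.2)) ≫ U.2.fromSpec := by
    simp only [Category.assoc]
  have e3 : (Proj.toSpecZero (𝒮.deg V.1 V.2) ≫ Spec.map (𝒮.strZero V.1 V.2) ≫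
      Spec.map (Y.presheaf.map (homOfLE (Scheme.AffineZariskiSite.toOpens_mono f.le)).op)) ≫
      U.2.fromSpec =
      Proj.toSpecZero (𝒮.deg V.1 V.2) ≫ Spec.map (𝒮.strZero V.1 V.2) ≫ V.2.fromSpec := by
    simp only [Category.assoc]
    rw [h2]
  exact e2.trans ((congrArg (fun m => m ≫ U.2.fromSpec) h1).trans e3)

/-- the morphisms to the affine opens, as a natural transformation. -/
noncomputable def natTrans :
    functor 𝒮 ⟶ (Scheme.AffineZariskiSite.directedCover Y).functorOfLocallyDirected where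
  app U := toBaseApp 𝒮 U
  naturality _ _ f := toBaseApp_naturality 𝒮 f

theorem isOpenImmersion_map {U V : Y.AffineZariskiSite} (f : V ⟶ U) :
    IsOpenImmersion ((functor 𝒮).map f) := by
  obtain ⟨V, hV⟩ := V
  obtain ⟨r, hr⟩ := f.le
  change Y.basicOpen r = V at hr
  subst hr
  obtain ⟨h1, h2, h3⟩ := res_loc 𝒮 U.1 U.2 r
  exact ProjLoc.isOpenImmersion_map (resHom 𝒮 f) (irr_le 𝒮 f) (𝒮.str_mem U.1 U.2 r) h1 h2 h3

theorem mem_range_map {U V : Y.AffineZariskiSite} (f : V ⟶ U) (x : Proj (𝒮.deg U.1 U.2))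
    (hx : (toBaseApp 𝒮 U ≫ Scheme.Opens.ι U.toOpens).base x ∈ V.toOpens) :
    x ∈ Set.range ((functor 𝒮).map f).base := by
  obtain ⟨V, hV⟩ := V
  obtain ⟨r, hr⟩ := f.le
  change Y.basicOpen r = V at hr
  subst hr
  obtain ⟨h1, h2, h3⟩ := res_loc 𝒮 U.1 U.2 r
  refine ProjLoc.mem_range_map (resHom 𝒮 f) (irr_le 𝒮 f) h1 h2 h3 (𝒮.strZero U.1 U.2).hom r rfl x ?_
  have e1 := toBaseApp_ι 𝒮 U
  have hx' : (Proj.toSpecZero (𝒮.deg U.1 U.2) ≫ Spec.map (𝒮.strZero U.1 U.2) ≫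
      U.2.fromSpec).base x ∈ Y.basicOpen r := by
    rw [← e1]
    exact hx
  have hx'' : (Proj.toSpecZero (𝒮.deg U.1 U.2) ≫ Spec.map (𝒮.strZero U.1 U.2)).base x ∈
      U.2.fromSpec ⁻¹ᵁ Y.basicOpen r := hx'
  rw [U.2.fromSpec_preimage_basicOpen] at hx''
  exact hx''

theorem equifibered : (natTrans 𝒮).Equifibered := by
  intro V U f
  have hoi : IsOpenImmersion ((functor 𝒮).map f) := isOpenImmersion_map 𝒮 f
  refine (IsOpenImmersion.isPullback ((natTrans 𝒮).app V) ((functor 𝒮).map f)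
    ((Scheme.AffineZariskiSite.directedCover Y).functorOfLocallyDirected.map f)
    ((natTrans 𝒮).app U) ((natTrans 𝒮).naturality f) ?_).flip
  apply le_antisymm
  · intro x hx
    refine mem_range_map 𝒮 f x ?_
    obtain ⟨v, hv⟩ := hx
    have h1 : (toBaseApp 𝒮 U ≫ Scheme.Opens.ι U.toOpens).base x =
        (Scheme.Opens.ι U.toOpens).base ((toBaseApp 𝒮 U).base x) := rfl
    rw [h1]
    have h2 : (toBaseApp 𝒮 U).base x =
        (Y.homOfLE (Scheme.AffineZariskiSite.toOpens_mono f.le)).base v := hv.symm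
    rw [h2]
    have h3 : (Scheme.Opens.ι U.toOpens).base
        ((Y.homOfLE (Scheme.AffineZariskiSite.toOpens_mono f.le)).base v) =
        (Scheme.Opens.ι V.toOpens).base v :=
      congrArg (fun φ => φ.base v) (Y.homOfLE_ι (Scheme.AffineZariskiSite.toOpens_mono f.le))
    rw [h3]
    exact v.2
  · rintro _ ⟨y, rfl⟩
    refine ⟨((natTrans 𝒮).app V).base y, ?_⟩
    exact (congrArg (fun φ => φ.base y) ((natTrans 𝒮).naturality f)).symm

/-- the relative glueing datum of the `Proj 𝒮(U)`. -/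
noncomputable def glueData : (Scheme.AffineZariskiSite.directedCover Y).RelativeGluingData where
  functor := functor 𝒮
  natTrans := natTrans 𝒮
  equifibered := equifibered 𝒮

instance : ((glueData 𝒮).functor ⋙ Scheme.forget).IsLocallyDirected :=
  Scheme.Cover.RelativeGluingData.instIsLocallyDirectedI₀CompFunctorForgetOfIsThin ..

/-- the glued scheme. -/
noncomputable def proj : Scheme.{u} := (glueData 𝒮).glued

/-- its structure morphism. -/
noncomputable def π : proj 𝒮 ⟶ Y := (glueData 𝒮).toBase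

/-- the canonical open immersions of the `Proj 𝒮(U)`. -/
noncomputable def ι (U : Y.Opens) (hU : IsAffineOpen U) : Proj (𝒮.deg U hU) ⟶ proj 𝒮 :=
  (glueData 𝒮).cover.f ⟨U, hU⟩

instance (U : Y.Opens) (hU : IsAffineOpen U) : IsOpenImmersion (ι 𝒮 U hU) :=
  (glueData 𝒮).cover.map_prop _

theorem ι_π (U : Y.Opens) (hU : IsAffineOpen U) :
    ι 𝒮 U hU ≫ π 𝒮 =
      Proj.toSpecZero (𝒮.deg U hU) ≫ Spec.map (𝒮.strZero U hU) ≫ hU.fromSpec := by
  have h := (glueData 𝒮).ι_toBase ⟨U, hU⟩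
  exact h.trans (toBaseApp_ι 𝒮 ⟨U, hU⟩)

theorem π_preimage (U : Y.Opens) (hU : IsAffineOpen U) :
    π 𝒮 ⁻¹ᵁ U = (ι 𝒮 U hU).opensRange := by
  simpa using! (glueData 𝒮).toBase_preimage_eq_opensRange_ι ⟨U, hU⟩

theorem ι_res (U : Y.Opens) (hU : IsAffineOpen U) (r : Γ(Y, U)) :
    Proj.map (𝒮.res hU (hU.basicOpen r) (Y.basicOpen_le r)) (𝒮.irrelevant_le_map U hU r) ≫
      ι 𝒮 U hU = ι 𝒮 (Y.basicOpen r) (hU.basicOpen r) := by
  let U' : Y.AffineZariskiSite := ⟨U, hU⟩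
  let V' : Y.AffineZariskiSite := ⟨Y.basicOpen r, hU.basicOpen r⟩
  have hle : V' ≤ U' := ⟨r, rfl⟩
  exact colimit.w (glueData 𝒮).functor (homOfLE hle)

/-- the charts of the glued scheme. -/
noncomputable def chart (U : Y.Opens) (hU : IsAffineOpen U) :
    (((π 𝒮 ⁻¹ᵁ U : (proj 𝒮).Opens) : Scheme.{u}) ≅ Proj (𝒮.deg U hU)) :=
  (proj 𝒮).isoOfEq (π_preimage 𝒮 U hU) ≪≫ (ι 𝒮 U hU).isoOpensRange.symm

theorem chart_hom_ι (U : Y.Opens) (hU : IsAffineOpen U) :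
    (chart 𝒮 U hU).hom ≫ ι 𝒮 U hU = (π 𝒮 ⁻¹ᵁ U).ι := by
  have e : (ι 𝒮 U hU).isoOpensRange.inv ≫ ι 𝒮 U hU = (ι 𝒮 U hU).opensRange.ι := by
    rw [Iso.inv_comp_eq]
    exact (Scheme.Hom.isoOpensRange_hom_ι (ι 𝒮 U hU)).symm
  unfold chart
  rw [Iso.trans_hom, Iso.symm_hom, Category.assoc, e, Scheme.isoOfEq_hom_ι]

/-- the glued scheme is the relative homogeneous spectrum. -/
theorem isRelProj : RelProj.IsRelProj 𝒮 (π 𝒮) (chart 𝒮) where
  chart_over U hU := by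
    rw [← ι_π 𝒮 U hU, ← Category.assoc, chart_hom_ι]
  chart_res U hU r := by
    rw [← cancel_mono (ι 𝒮 U hU), Category.assoc, chart_hom_ι, Scheme.homOfLE_ι, Category.assoc,
      ι_res, chart_hom_ι]

end Groth.Agent.Lib.Helper42.RelProjExists
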