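import Groth.Agent.Lib.Helper42.ProjQComp
import Groth.Agent.Lib.Helper42.RelProjExists

/-!
# `G(u)` for a filtered colimit of graded algebras (helper42)

`𝒮 = colim 𝒮ⁱ`, `u : 𝒮 → q_* 𝒮L`, `uᵢ = u ∘ φᵢ`: the opens `G(uᵢ)` increase with `i` and their union
is `G(u)`; if the source is quasi-compact, `G(u) = ⊤` iff some `G(uᵢ) = ⊤`.
-/

set_option autoImplicit false

universe u

namespace Groth.Agent.Lib.Helper42.ProjQColim

open CategoryTheory CategoryTheory.Limits AlgebraicGeometry TopologicalSpace Opposite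
open HomogeneousLocalization

variable {Y X : Scheme.{u}} {q : X ⟶ Y} {𝒮 𝒯 : RelProj.QCGrAlg Y} {𝒮L : RelProj.QCGrAlg X}
  {u : RelProj.QGrHom q 𝒮 𝒮L} {v : 𝒯.toQCAlg ⟶ 𝒮.toQCAlg} {hv : RelProj.IsGradedHom v}
  {u' : RelProj.QGrHom q 𝒯 𝒮L} (hu' : ∀ U : Y.Opens, u'.app U = v.hom.app (op U) ≫ u.app U)
  {PL : Scheme.{u}} {pL : PL ⟶ X}
  {chartL : ∀ (U : X.Opens) (hU : IsAffineOpen U),
    (((pL ⁻¹ᵁ U : PL.Opens) : Scheme.{u}) ≅ Proj (𝒮L.deg U hU))}

include hv hu' in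
/-- `G(u ∘ v) ⊆ G(u)`, without reference to the relative Proj of the sources. -/
theorem domQ_le (hPL : RelProj.IsRelProj 𝒮L pL chartL) :
    RelProj.domQ u' pL chartL ≤ RelProj.domQ u pL chartL :=
  ProjQComp.domQ_le (hv := hv) hu' (RelProjExists.isRelProj 𝒮) (RelProjExists.isRelProj 𝒯) hPL

include hv hu' in
/-- a point of a standard chart of `G(u)` at an element `f = v t` lies in `G(u ∘ v)`. -/
theorem mem_domQ_of_eq (U : Y.Opens) (hU : IsAffineOpen U) (U' : X.Opens) (hU' : IsAffineOpen U')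
    (hle : U' ≤ q ⁻¹ᵁ U) {d : ℕ} (hd : 0 < d) (t : 𝒯.presheaf.obj (op U)) (ht : t ∈ 𝒯.deg U hU d)
    (y : Proj (𝒮L.deg U' hU'))
    (hy : y ∈ Proj.basicOpen (𝒮L.deg U' hU') (u.gradedAt U hU U' hU' hle ((v.hom.app (op U)).hom t))) :
    (RelProj.emb pL chartL U' hU').base y ∈ RelProj.domQ u' pL chartL := by
  have h1 : u'.gradedAt U hU U' hU' hle t = u.gradedAt U hU U' hU' hle ((v.hom.app (op U)).hom t) := by
    have := congrArg (fun ψ => ψ t) (ProjQComp.gradedAt_comp u v hv u' hu' U hU U' hU' hle)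
    refine this.trans ?_
    change u.gradedAt U hU U' hU' hle
      ((RelProj.QGrHom.ofHom v hv).gradedAt U hU U hU (le_refl U) t) = _
    rw [Cone.ofHom_gradedAt_apply v hv U hU (le_refl U) t]
    rfl
  have h2 : y ∈ RelCone.domOpen (u'.gradedAt U hU U' hU' hle) := by
    rw [RelCone.mem_domOpen]
    refine ⟨t, HomogeneousIdeal.mem_irrelevant_of_mem _ hd ht, ?_⟩
    rw [h1]
    exact (Proj.mem_basicOpen _ _ _).mp hy
  unfold RelProj.domQ
  refine TopologicalSpace.Opens.mem_iSup.mpr ⟨⟨(⟨U, hU⟩, ⟨U', hU'⟩), hle⟩, ?_⟩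
  exact ⟨y, h2, rfl⟩

section colim

variable {Λ : Type u} [Preorder Λ]
  {𝒮i : Λ → RelProj.QCGrAlg Y} {φ : ∀ i, (𝒮i i).toQCAlg ⟶ 𝒮.toQCAlg}
  (hφ : ∀ i, RelProj.IsGradedHom (φ i))
  {t : ∀ i j, i ≤ j → ((𝒮i i).toQCAlg ⟶ (𝒮i j).toQCAlg)}
  (ht : ∀ i j (h : i ≤ j), RelProj.IsGradedHom (t i j h))
  (hφt : ∀ i j (h : i ≤ j), t i j h ≫ φ j = φ i)
  (hsurj : ∀ (U : Y.Opens), IsAffineOpen U → ∀ x : 𝒮.presheaf.obj (op U),
    ∃ (i : Λ) (y : (𝒮i i).presheaf.obj (op U)), ((φ i).hom.app (op U)).hom y = x)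
  {ui : ∀ i, RelProj.QGrHom q (𝒮i i) 𝒮L}
  (hui : ∀ i (U : Y.Opens), (ui i).app U = (φ i).hom.app (op U) ≫ u.app U)

include hφt hui in
theorem hui_trans (i j : Λ) (h : i ≤ j) (U : Y.Opens) :
    (ui i).app U = (t i j h).hom.app (op U) ≫ (ui j).app U := by
  rw [hui i U, hui j U, ← Category.assoc, ← NatTrans.comp_app, ← hφt i j h]
  rfl

include ht hφt hui in
theorem domQ_mono (hPL : RelProj.IsRelProj 𝒮L pL chartL) (i j : Λ) (h : i ≤ j) :
    RelProj.domQ (ui i) pL chartL ≤ RelProj.domQ (ui j) pL chartL :=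
  domQ_le (hv := ht i j h) (hui_trans hφt hui i j h) hPL

omit [Preorder Λ] in
include hφ hui in
theorem domQ_le_colim (hPL : RelProj.IsRelProj 𝒮L pL chartL) (i : Λ) :
    RelProj.domQ (ui i) pL chartL ≤ RelProj.domQ u pL chartL :=
  domQ_le (hv := hφ i) (hui i) hPL

omit [Preorder Λ] in
include hφ hsurj hui in
/-- every point of `G(u)` lies in some `G(uᵢ)`. -/
theorem exists_mem_domQ (x : PL) (hx : x ∈ RelProj.domQ u pL chartL) :
    ∃ i, x ∈ RelProj.domQ (ui i) pL chartL := by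
  classical
  obtain ⟨⟨U, hU, U', hU', hle, d, hd, f, hf⟩, hs⟩ :=
    ProjQ.chart_covers (u := u) (p' := pL) (chart' := chartL)
      (⟨x, hx⟩ : ((RelProj.domQ u pL chartL : PL.Opens) : Scheme.{u}))
  obtain ⟨y, hy, hyx⟩ := (ProjQ.mem_range_emb_iff _ _).mp hs
  obtain ⟨i, y0, hy0⟩ := hsurj U hU f
  refine ⟨i, ?_⟩
  have h1 : ((φ i).hom.app (op U)).hom
      ((DirectSum.decompose ((𝒮i i).deg U hU) y0 d : (𝒮i i).presheaf.obj (op U))) = f := by
    have h2 := GradedRingHom.map_directSumDecompose ((𝒮i i).deg U hU) (𝒮.deg U hU)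
      (RelProj.gradedHomAt (φ i) (hφ i) U hU) (x := y0) (i := d)
    have h3 : RelProj.gradedHomAt (φ i) (hφ i) U hU y0 = f := hy0
    rw [h3, DirectSum.decompose_of_mem_same _ hf] at h2
    exact h2
  have h4 := mem_domQ_of_eq (hv := hφ i) (hui i) (pL := pL) (chartL := chartL) U hU U' hU' hle hd
    (DirectSum.decompose ((𝒮i i).deg U hU) y0 d : (𝒮i i).presheaf.obj (op U))
    (SetLike.coe_mem _) y (by rw [h1]; exact hy)
  rw [hyx] at h4
  exact h4

include hφ ht hφt hsurj hui in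
/-- if the source is quasi-compact: `G(u) = ⊤` iff some `G(uᵢ) = ⊤`. -/
theorem domQ_eq_top_iff [IsDirected Λ (· ≤ ·)] [Nonempty Λ] [CompactSpace PL]
    (hPL : RelProj.IsRelProj 𝒮L pL chartL) :
    RelProj.domQ u pL chartL = ⊤ ↔ ∃ i, RelProj.domQ (ui i) pL chartL = ⊤ := by
  constructor
  · intro h
    have hcov : (Set.univ : Set PL) ⊆ ⋃ i, ((RelProj.domQ (ui i) pL chartL : PL.Opens) : Set PL) := by
      intro x _
      have hx : x ∈ RelProj.domQ u pL chartL := by rw [h]; trivial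
      obtain ⟨i, hi⟩ := exists_mem_domQ hφ hsurj hui x hx
      exact Set.mem_iUnion.mpr ⟨i, hi⟩
    have hdir : Directed (· ⊆ ·)
        (fun i => ((RelProj.domQ (ui i) pL chartL : PL.Opens) : Set PL)) := by
      intro i j
      obtain ⟨k, hik, hjk⟩ := exists_ge_ge i j
      exact ⟨k, domQ_mono ht hφt hui hPL i k hik, domQ_mono ht hφt hui hPL j k hjk⟩
    obtain ⟨i, hi⟩ := isCompact_univ.elim_directed_cover _
      (fun i => (RelProj.domQ (ui i) pL chartL).isOpen) hcov hdir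
    exact ⟨i, eq_top_iff.mpr (fun x _ => hi (Set.mem_univ x))⟩
  · rintro ⟨i, hi⟩
    exact eq_top_iff.mpr (hi ▸ domQ_le_colim hφ hui hPL i)

end colim

end Groth.Agent.Lib.Helper42.ProjQColim
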