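import Groth.Agent.Lib.Helper42.ProjQLocal
import Groth.Agent.Lib.Helper42.ConeBase
import Groth.Agent.Lib.Helper42.ProjClosed

/-!
# Composition of a graded morphism over a morphism of bases with a graded homomorphism (helper42)

For `q : X ⟶ Y`, a graded `q`-morphism `u : 𝒮 → q_* 𝒮L`, a graded homomorphism `v : 𝒯 → 𝒮` on `Y`
and `u' = u ∘ v`: `G(u') = G(u) ∩ r⁻¹(G(v))` and `r' = Proj(v) ∘ r` there, where `r = Proj(u)`,
`r' = Proj(u')`.
-/

set_option autoImplicit false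

universe u

namespace Groth.Agent.Lib.Helper42.ProjQComp

open CategoryTheory CategoryTheory.Limits AlgebraicGeometry TopologicalSpace Opposite
open HomogeneousLocalization

section algebra

variable {A B C σ τ υ : Type u} [CommRing A] [SetLike σ A] [AddSubgroupClass σ A]
  {𝒜 : ℕ → σ} [GradedRing 𝒜]
  [CommRing B] [SetLike τ B] [AddSubgroupClass τ B] {ℬ : ℕ → τ} [GradedRing ℬ]
  [CommRing C] [SetLike υ C] [AddSubgroupClass υ C] {𝒞 : ℕ → υ} [GradedRing 𝒞]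

/-- the standard charts of a composite of graded homomorphisms. -/
theorem exists_comp_bridge (ν : 𝒜 →+*ᵍ ℬ) (ψ : ℬ →+*ᵍ 𝒞) (ψ' : 𝒜 →+*ᵍ 𝒞) (h : ψ' = ψ.comp ν)
    {d : ℕ} (hd : 0 < d) {t : A} (ht : t ∈ 𝒜 d) :
    ∃ β : Spec (CommRingCat.of (Away 𝒞 (ψ' t))) ≅ Spec (CommRingCat.of (Away 𝒞 (ψ (ν t)))),
      β.hom ≫ Proj.awayι 𝒞 (ψ (ν t)) (GradedFunLike.map_mem ψ (GradedFunLike.map_mem ν ht)) hd =
        Proj.awayι 𝒞 (ψ' t) (GradedFunLike.map_mem ψ' ht) hd ∧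
      β.hom ≫ Spec.map (CommRingCat.ofHom (Away.map ψ (ν t))) ≫
          Spec.map (CommRingCat.ofHom (Away.map ν t)) =
        Spec.map (CommRingCat.ofHom (Away.map ψ' t)) := by
  subst h
  refine ⟨Iso.refl _, Category.id_comp _, ?_⟩
  have h1 : Spec.map (CommRingCat.ofHom (Away.map ψ (ν t))) ≫
      Spec.map (CommRingCat.ofHom (Away.map ν t)) =
      Spec.map (CommRingCat.ofHom (Away.map (ψ.comp ν) t)) := by
    rw [← Spec.map_comp, ← CommRingCat.ofHom_comp]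
    exact congrArg (fun m => Spec.map (CommRingCat.ofHom m)) (Away.map_comp ν ψ t).symm
  exact (Category.id_comp _).trans h1

end algebra

section sheaf

variable {Y X : Scheme.{u}} {q : X ⟶ Y} {𝒮 𝒯 : RelProj.QCGrAlg Y} {𝒮L : RelProj.QCGrAlg X}
  (u : RelProj.QGrHom q 𝒮 𝒮L) (v : 𝒯.toQCAlg ⟶ 𝒮.toQCAlg) (hv : RelProj.IsGradedHom v)
  (u' : RelProj.QGrHom q 𝒯 𝒮L) (hu' : ∀ U : Y.Opens, u'.app U = v.hom.app (op U) ≫ u.app U)
  {P P' PL : Scheme.{u}} (p : P ⟶ Y)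
  (chart : ∀ (U : Y.Opens) (hU : IsAffineOpen U),
    (((p ⁻¹ᵁ U : P.Opens) : Scheme.{u}) ≅ Proj (𝒮.deg U hU)))
  (p' : P' ⟶ Y)
  (chart' : ∀ (U : Y.Opens) (hU : IsAffineOpen U),
    (((p' ⁻¹ᵁ U : P'.Opens) : Scheme.{u}) ≅ Proj (𝒯.deg U hU)))
  (pL : PL ⟶ X)
  (chartL : ∀ (U : X.Opens) (hU : IsAffineOpen U),
    (((pL ⁻¹ᵁ U : PL.Opens) : Scheme.{u}) ≅ Proj (𝒮L.deg U hU)))

include hu' in
/-- the composite over an affine pair. -/
theorem gradedAt_comp (U : Y.Opens) (hU : IsAffineOpen U) (U' : X.Opens) (hU' : IsAffineOpen U')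
    (hle : U' ≤ q ⁻¹ᵁ U) :
    u'.gradedAt U hU U' hU' hle = (u.gradedAt U hU U' hU' hle).comp
      ((RelProj.QGrHom.ofHom v hv).gradedAt U hU U hU (le_refl U)) := by
  refine DFunLike.ext _ _ (fun t => ?_)
  change u'.gradedAt U hU U' hU' hle t = u.gradedAt U hU U' hU' hle
    ((RelProj.QGrHom.ofHom v hv).gradedAt U hU U hU (le_refl U) t)
  rw [Cone.ofHom_gradedAt_apply v hv U hU (le_refl U) t]
  change (u'.app U ≫ 𝒮L.presheaf.map (homOfLE hle).op).hom t = _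
  rw [hu' U]
  rfl

variable {u v hv u' p chart p' chart' pL chartL}

include hu' in
/-- the standard charts of `G(u')`, `G(u)`, `G(v)` at `t`, `v t`, `t` and the morphisms between
them. -/
theorem chart_step
    {r : ((RelProj.domQ u pL chartL : PL.Opens) : Scheme.{u}) ⟶ P}
    (hr : RelProj.IsProjQMapOn u p chart pL chartL (RelProj.domQ u pL chartL) r)
    {r' : ((RelProj.domQ u' pL chartL : PL.Opens) : Scheme.{u}) ⟶ P'}
    (hr' : RelProj.IsProjQMapOn u' p' chart' pL chartL (RelProj.domQ u' pL chartL) r')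
    {w : ((RelProj.domQ (RelProj.QGrHom.ofHom v hv) p chart : P.Opens) : Scheme.{u}) ⟶ P'}
    (hw : RelProj.IsProjQMapOn (RelProj.QGrHom.ofHom v hv) p' chart' p chart
      (RelProj.domQ (RelProj.QGrHom.ofHom v hv) p chart) w)
    (U : Y.Opens) (hU : IsAffineOpen U) (U' : X.Opens) (hU' : IsAffineOpen U')
    (hle : U' ≤ q ⁻¹ᵁ U) (d : ℕ) (hd : 0 < d) (t : 𝒯.presheaf.obj (op U))
    (ht : t ∈ 𝒯.deg U hU d) :
    ∃ β : ProjQ.QIdx.src u' (⟨U, hU, U', hU', hle, d, hd, t, ht⟩ : ProjQ.QIdx q 𝒯) ≅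
        ProjQ.QIdx.src u (⟨U, hU, U', hU', hle, d, hd,
          (RelProj.QGrHom.ofHom v hv).gradedAt U hU U hU (le_refl U) t,
          GradedFunLike.map_mem ((RelProj.QGrHom.ofHom v hv).gradedAt U hU U hU (le_refl U)) ht⟩ :
          ProjQ.QIdx q 𝒮),
      (β.hom ≫ ProjQ.QIdx.emb u pL chartL ⟨U, hU, U', hU', hle, d, hd,
          (RelProj.QGrHom.ofHom v hv).gradedAt U hU U hU (le_refl U) t,
          GradedFunLike.map_mem ((RelProj.QGrHom.ofHom v hv).gradedAt U hU U hU (le_refl U)) ht⟩ ≫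
          (RelProj.domQ u pL chartL).ι =
        ProjQ.QIdx.emb u' pL chartL ⟨U, hU, U', hU', hle, d, hd, t, ht⟩ ≫
          (RelProj.domQ u' pL chartL).ι) ∧
      (ProjQ.QIdx.emb u pL chartL ⟨U, hU, U', hU', hle, d, hd,
          (RelProj.QGrHom.ofHom v hv).gradedAt U hU U hU (le_refl U) t,
          GradedFunLike.map_mem ((RelProj.QGrHom.ofHom v hv).gradedAt U hU U hU (le_refl U)) ht⟩ ≫ r =
        Spec.map (CommRingCat.ofHom (Away.map (u.gradedAt U hU U' hU' hle)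
          ((RelProj.QGrHom.ofHom v hv).gradedAt U hU U hU (le_refl U) t))) ≫
          ProjQ.QIdx.emb (RelProj.QGrHom.ofHom v hv) p chart
            (⟨U, hU, U, hU, le_refl U, d, hd, t, ht⟩ : ProjQ.QIdx (𝟙 Y) 𝒯) ≫
          (RelProj.domQ (RelProj.QGrHom.ofHom v hv) p chart).ι) ∧
      (β.hom ≫ Spec.map (CommRingCat.ofHom (Away.map (u.gradedAt U hU U' hU' hle)
          ((RelProj.QGrHom.ofHom v hv).gradedAt U hU U hU (le_refl U) t))) ≫
          ProjQ.QIdx.emb (RelProj.QGrHom.ofHom v hv) p chart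
            (⟨U, hU, U, hU, le_refl U, d, hd, t, ht⟩ : ProjQ.QIdx (𝟙 Y) 𝒯) ≫ w =
        ProjQ.QIdx.emb u' pL chartL ⟨U, hU, U', hU', hle, d, hd, t, ht⟩ ≫ r') := by
  let ν : 𝒯.deg U hU →+*ᵍ 𝒮.deg U hU := (RelProj.QGrHom.ofHom v hv).gradedAt U hU U hU (le_refl U)
  let ψ : 𝒮.deg U hU →+*ᵍ 𝒮L.deg U' hU' := u.gradedAt U hU U' hU' hle
  let ψ' : 𝒯.deg U hU →+*ᵍ 𝒮L.deg U' hU' := u'.gradedAt U hU U' hU' hle
  have hcomp : ψ' = ψ.comp ν := gradedAt_comp u v hv u' hu' U hU U' hU' hle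
  have hνt : ν t ∈ 𝒮.deg U hU d := GradedFunLike.map_mem ν ht
  let k' : ProjQ.QIdx q 𝒯 := ⟨U, hU, U', hU', hle, d, hd, t, ht⟩
  let k : ProjQ.QIdx q 𝒮 := ⟨U, hU, U', hU', hle, d, hd, ν t, hνt⟩
  let kv : ProjQ.QIdx (𝟙 Y) 𝒯 := ⟨U, hU, U, hU, le_refl U, d, hd, t, ht⟩
  obtain ⟨β, hβ1, hβ2⟩ := exists_comp_bridge ν ψ ψ' hcomp hd ht
  have hk : k.emb u pL chartL ≫ (RelProj.domQ u pL chartL).ι =
      Proj.awayι (𝒮L.deg U' hU') (ψ (ν t)) (GradedFunLike.map_mem ψ hνt) hd ≫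
        RelProj.emb pL chartL U' hU' := ProjQ.QIdx.emb_ι u pL chartL k
  have hk' : k'.emb u' pL chartL ≫ (RelProj.domQ u' pL chartL).ι =
      Proj.awayι (𝒮L.deg U' hU') (ψ' t) (GradedFunLike.map_mem ψ' ht) hd ≫
        RelProj.emb pL chartL U' hU' := ProjQ.QIdx.emb_ι u' pL chartL k'
  have hkv : kv.emb (RelProj.QGrHom.ofHom v hv) p chart ≫
      (RelProj.domQ (RelProj.QGrHom.ofHom v hv) p chart).ι =
      Proj.awayι (𝒮.deg U hU) (ν t) hνt hd ≫ RelProj.emb p chart U hU :=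
    ProjQ.QIdx.emb_ι (RelProj.QGrHom.ofHom v hv) p chart kv
  have hrk : k.emb u pL chartL ≫ r =
      Spec.map (CommRingCat.ofHom (Away.map ψ (ν t))) ≫
        Proj.awayι (𝒮.deg U hU) (ν t) hνt hd ≫ RelProj.emb p chart U hU :=
    hr U hU U' hU' hle d hd (ν t) hνt _
  have hrk' : k'.emb u' pL chartL ≫ r' =
      Spec.map (CommRingCat.ofHom (Away.map ψ' t)) ≫
        Proj.awayι (𝒯.deg U hU) t ht hd ≫ RelProj.emb p' chart' U hU :=
    hr' U hU U' hU' hle d hd t ht _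
  have hwk : kv.emb (RelProj.QGrHom.ofHom v hv) p chart ≫ w =
      Spec.map (CommRingCat.ofHom (Away.map ν t)) ≫
        Proj.awayι (𝒯.deg U hU) t ht hd ≫ RelProj.emb p' chart' U hU :=
    hw U hU U hU (le_refl U) d hd t ht _
  refine ⟨β, ?_, ?_, ?_⟩
  · calc β.hom ≫ k.emb u pL chartL ≫ (RelProj.domQ u pL chartL).ι
        = β.hom ≫ (Proj.awayι (𝒮L.deg U' hU') (ψ (ν t)) (GradedFunLike.map_mem ψ hνt) hd ≫
            RelProj.emb pL chartL U' hU') := congrArg (fun m => β.hom ≫ m) hk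
      _ = (β.hom ≫ Proj.awayι (𝒮L.deg U' hU') (ψ (ν t)) (GradedFunLike.map_mem ψ hνt) hd) ≫
            RelProj.emb pL chartL U' hU' := (Category.assoc _ _ _).symm
      _ = Proj.awayι (𝒮L.deg U' hU') (ψ' t) (GradedFunLike.map_mem ψ' ht) hd ≫
            RelProj.emb pL chartL U' hU' :=
          congrArg (fun m => m ≫ RelProj.emb pL chartL U' hU') hβ1
      _ = k'.emb u' pL chartL ≫ (RelProj.domQ u' pL chartL).ι := hk'.symm
  · exact hrk.trans (congrArg (fun m => Spec.map (CommRingCat.ofHom (Away.map ψ (ν t))) ≫ m)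
      hkv.symm)
  · calc β.hom ≫ Spec.map (CommRingCat.ofHom (Away.map ψ (ν t))) ≫
          kv.emb (RelProj.QGrHom.ofHom v hv) p chart ≫ w
        = β.hom ≫ Spec.map (CommRingCat.ofHom (Away.map ψ (ν t))) ≫
            (Spec.map (CommRingCat.ofHom (Away.map ν t)) ≫
              Proj.awayι (𝒯.deg U hU) t ht hd ≫ RelProj.emb p' chart' U hU) :=
          congrArg (fun m => β.hom ≫ Spec.map (CommRingCat.ofHom (Away.map ψ (ν t))) ≫ m) hwk
      _ = (β.hom ≫ Spec.map (CommRingCat.ofHom (Away.map ψ (ν t))) ≫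
            Spec.map (CommRingCat.ofHom (Away.map ν t))) ≫
              Proj.awayι (𝒯.deg U hU) t ht hd ≫ RelProj.emb p' chart' U hU := by
          simp only [Category.assoc]
      _ = Spec.map (CommRingCat.ofHom (Away.map ψ' t)) ≫
              Proj.awayι (𝒯.deg U hU) t ht hd ≫ RelProj.emb p' chart' U hU :=
          congrArg (fun m => m ≫ Proj.awayι (𝒯.deg U hU) t ht hd ≫ RelProj.emb p' chart' U hU)
            hβ2
      _ = k'.emb u' pL chartL ≫ r' := hrk'.symm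

include hv hu' in
/-- `G(u ∘ v) ⊆ G(u)`. -/
theorem domQ_le (hP : RelProj.IsRelProj 𝒮 p chart) (hP' : RelProj.IsRelProj 𝒯 p' chart')
    (hPL : RelProj.IsRelProj 𝒮L pL chartL) :
    RelProj.domQ u' pL chartL ≤ RelProj.domQ u pL chartL := by
  obtain ⟨r, hr, -⟩ := ProjQ.existsUnique_isProjQMapOn (u := u) hP hPL
  obtain ⟨r', hr', -⟩ := ProjQ.existsUnique_isProjQMapOn (u := u') hP' hPL
  obtain ⟨w, hw, -⟩ := ProjQ.existsUnique_isProjQMapOn (u := RelProj.QGrHom.ofHom v hv) hP' hP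
  intro x hx
  obtain ⟨⟨U, hU, U', hU', hle, d, hd, t, ht⟩, s, hs⟩ :=
    ProjQ.chart_covers (u := u') (p' := pL) (chart' := chartL)
      (⟨x, hx⟩ : ((RelProj.domQ u' pL chartL : PL.Opens) : Scheme.{u}))
  obtain ⟨β, h1, -, -⟩ := chart_step hu' hr hr' hw U hU U' hU' hle d hd t ht
  have h2 := congrArg (fun ψ => ψ.base s) h1
  simp only [Scheme.Hom.comp_base, TopCat.comp_app] at h2
  rw [hs] at h2
  have h3 : (RelProj.domQ u' pL chartL).ι.base
      (⟨x, hx⟩ : ((RelProj.domQ u' pL chartL : PL.Opens) : Scheme.{u})) = x := rfl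
  rw [h3] at h2
  rw [← h2]
  exact Subtype.property _

include hu' in
/-- `Proj(u)` maps `G(u ∘ v)` into `G(v)`. -/
theorem map_mem_domQ (hP : RelProj.IsRelProj 𝒮 p chart) (hP' : RelProj.IsRelProj 𝒯 p' chart')
    (hPL : RelProj.IsRelProj 𝒮L pL chartL)
    {r : ((RelProj.domQ u pL chartL : PL.Opens) : Scheme.{u}) ⟶ P}
    (hr : RelProj.IsProjQMapOn u p chart pL chartL (RelProj.domQ u pL chartL) r)
    (x : ((RelProj.domQ u pL chartL : PL.Opens) : Scheme.{u}))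
    (hx : (RelProj.domQ u pL chartL).ι.base x ∈ RelProj.domQ u' pL chartL) :
    r.base x ∈ RelProj.domQ (RelProj.QGrHom.ofHom v hv) p chart := by
  obtain ⟨r', hr', -⟩ := ProjQ.existsUnique_isProjQMapOn (u := u') hP' hPL
  obtain ⟨w, hw, -⟩ := ProjQ.existsUnique_isProjQMapOn (u := RelProj.QGrHom.ofHom v hv) hP' hP
  obtain ⟨⟨U, hU, U', hU', hle, d, hd, t, ht⟩, s, hs⟩ :=
    ProjQ.chart_covers (u := u') (p' := pL) (chart' := chartL)
      (⟨_, hx⟩ : ((RelProj.domQ u' pL chartL : PL.Opens) : Scheme.{u}))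
  obtain ⟨β, h1, h2, -⟩ := chart_step hu' hr hr' hw U hU U' hU' hle d hd t ht
  have h3 := congrArg (fun ψ => ψ.base s) h1
  simp only [Scheme.Hom.comp_base, TopCat.comp_app] at h3
  rw [hs] at h3
  have h4 : (RelProj.domQ u' pL chartL).ι.base
      (⟨_, hx⟩ : ((RelProj.domQ u' pL chartL : PL.Opens) : Scheme.{u})) =
      (RelProj.domQ u pL chartL).ι.base x := rfl
  rw [h4] at h3
  have h5 := (RelProj.domQ u pL chartL).ι.isOpenEmbedding.injective h3
  have h6 := congrArg (fun ψ => ψ.base (β.hom.base s)) h2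
  simp only [Scheme.Hom.comp_base, TopCat.comp_app] at h6
  rw [h5] at h6
  rw [h6]
  exact Subtype.property _

include hu' in
/-- a point of `G(u)` which `Proj(u)` maps into `G(v)` lies in `G(u ∘ v)`. -/
theorem mem_domQ_of_map_mem (hP : RelProj.IsRelProj 𝒮 p chart)
    (hP' : RelProj.IsRelProj 𝒯 p' chart') (hPL : RelProj.IsRelProj 𝒮L pL chartL)
    {r : ((RelProj.domQ u pL chartL : PL.Opens) : Scheme.{u}) ⟶ P}
    (hr : RelProj.IsProjQMapOn u p chart pL chartL (RelProj.domQ u pL chartL) r)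
    (x : ((RelProj.domQ u pL chartL : PL.Opens) : Scheme.{u}))
    (hx : r.base x ∈ RelProj.domQ (RelProj.QGrHom.ofHom v hv) p chart) :
    (RelProj.domQ u pL chartL).ι.base x ∈ RelProj.domQ u' pL chartL := by
  obtain ⟨r', hr', -⟩ := ProjQ.existsUnique_isProjQMapOn (u := u') hP' hPL
  obtain ⟨w, hw, -⟩ := ProjQ.existsUnique_isProjQMapOn (u := RelProj.QGrHom.ofHom v hv) hP' hP
  have hcomp := ProjQ.isProjQMapOn_comp hP hPL hr
  obtain ⟨U, hU, hxU⟩ : ∃ U : Y.Opens, IsAffineOpen U ∧ p.base (r.base x) ∈ U := by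
    obtain ⟨_, ⟨V, hV, rfl⟩, hxV, -⟩ := (Y.isBasis_affineOpens).exists_subset_of_mem_open
      (Set.mem_univ (p.base (r.base x))) isOpen_univ
    exact ⟨V, hV, hxV⟩
  have hx2 : r.base x ∈ RelProj.domQ (RelProj.QGrHom.ofHom v hv) p chart ⊓ p ⁻¹ᵁ U := ⟨hx, hxU⟩
  rw [ProjQ.domQ_inf_preimage (u := RelProj.QGrHom.ofHom v hv) hP U hU U hU (le_refl U)] at hx2
  obtain ⟨y₀, hy₀, hy₀e⟩ := hx2
  obtain ⟨f, hf, hfy⟩ := (RelCone.mem_domOpen _ _).mp hy₀
  obtain ⟨d, hd, t, ht, hty⟩ := ProjQ.exists_homogeneous_notMem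
    ((RelProj.QGrHom.ofHom v hv).gradedAt U hU U hU (le_refl U)) y₀.asHomogeneousIdeal.toIdeal hf hfy
  have hpt : pL.base ((RelProj.domQ u pL chartL).ι.base x) ∈ q ⁻¹ᵁ U := by
    change q.base (pL.base ((RelProj.domQ u pL chartL).ι.base x)) ∈ U
    have h3 := congrArg (fun ψ => ψ.base x) hcomp
    simp only [Scheme.Hom.comp_base, TopCat.comp_app] at h3
    rw [← h3]
    exact hxU
  obtain ⟨_, ⟨U', hU'0, rfl⟩, hxU', hU'le⟩ := (X.isBasis_affineOpens).exists_subset_of_mem_open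
    hpt (q ⁻¹ᵁ U).2
  have hU' : IsAffineOpen U' := hU'0
  obtain ⟨s, hs⟩ := ProjQ.mem_range_emb_of_map_mem hP hPL hr U hU U' hU' hU'le hd
    (GradedFunLike.map_mem ((RelProj.QGrHom.ofHom v hv).gradedAt U hU U hU (le_refl U)) ht)
    x hxU' y₀ hty hy₀e.symm
  obtain ⟨β, h1, -, -⟩ := chart_step hu' hr hr' hw U hU U' hU' hU'le d hd t ht
  have h2 := congrArg (fun ψ => ψ.base (β.inv.base s)) h1
  simp only [Scheme.Hom.comp_base, TopCat.comp_app] at h2
  have h3 : β.hom.base (β.inv.base s) = s := by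
    rw [← Scheme.Hom.comp_apply, Iso.inv_hom_id]
    rfl
  rw [h3, hs] at h2
  rw [h2]
  exact Subtype.property _

include hu' in
/-- on `G(u ∘ v)`, `Proj(u ∘ v) = Proj(v) ∘ Proj(u)`, in terms of points with values in a
scheme `T`. -/
theorem comp_eq
    {r : ((RelProj.domQ u pL chartL : PL.Opens) : Scheme.{u}) ⟶ P}
    (hr : RelProj.IsProjQMapOn u p chart pL chartL (RelProj.domQ u pL chartL) r)
    {r' : ((RelProj.domQ u' pL chartL : PL.Opens) : Scheme.{u}) ⟶ P'}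
    (hr' : RelProj.IsProjQMapOn u' p' chart' pL chartL (RelProj.domQ u' pL chartL) r')
    {w : ((RelProj.domQ (RelProj.QGrHom.ofHom v hv) p chart : P.Opens) : Scheme.{u}) ⟶ P'}
    (hw : RelProj.IsProjQMapOn (RelProj.QGrHom.ofHom v hv) p' chart' p chart
      (RelProj.domQ (RelProj.QGrHom.ofHom v hv) p chart) w)
    {T : Scheme.{u}} (a : T ⟶ ((RelProj.domQ u' pL chartL : PL.Opens) : Scheme.{u}))
    (b : T ⟶ ((RelProj.domQ u pL chartL : PL.Opens) : Scheme.{u}))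
    (c : T ⟶ ((RelProj.domQ (RelProj.QGrHom.ofHom v hv) p chart : P.Opens) : Scheme.{u}))
    (hab : a ≫ (RelProj.domQ u' pL chartL).ι = b ≫ (RelProj.domQ u pL chartL).ι)
    (hbc : b ≫ r = c ≫ (RelProj.domQ (RelProj.QGrHom.ofHom v hv) p chart).ι) :
    a ≫ r' = c ≫ w := by
  refine Scheme.hom_ext_of_forall _ _ (fun τ => ?_)
  obtain ⟨⟨U, hU, U', hU', hle, d, hd, t, ht⟩, s, hs⟩ :=
    ProjQ.chart_covers (u := u') (p' := pL) (chart' := chartL) (a.base τ)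
  obtain ⟨β, h1, h2, h3⟩ := chart_step hu' hr hr' hw U hU U' hU' hle d hd t ht
  let k' : ProjQ.QIdx q 𝒯 := ⟨U, hU, U', hU', hle, d, hd, t, ht⟩
  let W : T.Opens := a ⁻¹ᵁ (k'.emb u' pL chartL).opensRange
  have hτW : τ ∈ W := ⟨s, hs⟩
  have hWr : Set.range (W.ι ≫ a).base ⊆ Set.range (k'.emb u' pL chartL).base := by
    rintro _ ⟨x, rfl⟩
    exact x.2
  let β₁ : (W : Scheme.{u}) ⟶ k'.src u' :=
    IsOpenImmersion.lift (k'.emb u' pL chartL) (W.ι ≫ a) hWr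
  have hβ₁ : β₁ ≫ k'.emb u' pL chartL = W.ι ≫ a := IsOpenImmersion.lift_fac _ _ _
  refine ⟨W, hτW, ?_⟩
  have hb : W.ι ≫ b = β₁ ≫ β.hom ≫ ProjQ.QIdx.emb u pL chartL ⟨U, hU, U', hU', hle, d, hd,
      (RelProj.QGrHom.ofHom v hv).gradedAt U hU U hU (le_refl U) t,
      GradedFunLike.map_mem ((RelProj.QGrHom.ofHom v hv).gradedAt U hU U hU (le_refl U)) ht⟩ := by
    rw [← cancel_mono (RelProj.domQ u pL chartL).ι]
    simp only [Category.assoc]
    rw [h1, ← hab, ← Category.assoc W.ι, ← hβ₁, Category.assoc]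
  have hc : W.ι ≫ c = β₁ ≫ β.hom ≫
      Spec.map (CommRingCat.ofHom (Away.map (u.gradedAt U hU U' hU' hle)
        ((RelProj.QGrHom.ofHom v hv).gradedAt U hU U hU (le_refl U) t))) ≫
      ProjQ.QIdx.emb (RelProj.QGrHom.ofHom v hv) p chart
        (⟨U, hU, U, hU, le_refl U, d, hd, t, ht⟩ : ProjQ.QIdx (𝟙 Y) 𝒯) := by
    rw [← cancel_mono (RelProj.domQ (RelProj.QGrHom.ofHom v hv) p chart).ι]
    simp only [Category.assoc]
    rw [← h2, ← hbc, ← Category.assoc W.ι, hb]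
    simp only [Category.assoc]
  rw [← Category.assoc W.ι c, hc, ← Category.assoc W.ι a, ← hβ₁]
  simp only [Category.assoc]
  rw [h3]

include hu' in
/-- `Proj(u ∘ v)` factors through `Proj(v)` via the restriction of `Proj(u)`. -/
theorem exists_factor (hP : RelProj.IsRelProj 𝒮 p chart)
    (hP' : RelProj.IsRelProj 𝒯 p' chart') (hPL : RelProj.IsRelProj 𝒮L pL chartL)
    {r : ((RelProj.domQ u pL chartL : PL.Opens) : Scheme.{u}) ⟶ P}
    (hr : RelProj.IsProjQMapOn u p chart pL chartL (RelProj.domQ u pL chartL) r)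
    {r' : ((RelProj.domQ u' pL chartL : PL.Opens) : Scheme.{u}) ⟶ P'}
    (hr' : RelProj.IsProjQMapOn u' p' chart' pL chartL (RelProj.domQ u' pL chartL) r')
    {w : ((RelProj.domQ (RelProj.QGrHom.ofHom v hv) p chart : P.Opens) : Scheme.{u}) ⟶ P'}
    (hw : RelProj.IsProjQMapOn (RelProj.QGrHom.ofHom v hv) p' chart' p chart
      (RelProj.domQ (RelProj.QGrHom.ofHom v hv) p chart) w)
    (hle : RelProj.domQ u' pL chartL ≤ RelProj.domQ u pL chartL) :
    ∃ c : ((RelProj.domQ u' pL chartL : PL.Opens) : Scheme.{u}) ⟶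
        ((RelProj.domQ (RelProj.QGrHom.ofHom v hv) p chart : P.Opens) : Scheme.{u}),
      c ≫ (RelProj.domQ (RelProj.QGrHom.ofHom v hv) p chart).ι = PL.homOfLE hle ≫ r ∧
        r' = c ≫ w := by
  have hrange : Set.range (PL.homOfLE hle ≫ r).base ⊆
      Set.range (RelProj.domQ (RelProj.QGrHom.ofHom v hv) p chart).ι.base := by
    rw [Scheme.Opens.range_ι]
    rintro _ ⟨x, rfl⟩
    rw [Scheme.Hom.comp_base, TopCat.comp_app]
    refine map_mem_domQ hu' hP hP' hPL hr ((PL.homOfLE hle).base x) ?_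
    rw [← Scheme.Hom.comp_apply, Scheme.homOfLE_ι]
    exact Subtype.property _
  let c := IsOpenImmersion.lift (RelProj.domQ (RelProj.QGrHom.ofHom v hv) p chart).ι
    (PL.homOfLE hle ≫ r) hrange
  have hc : c ≫ (RelProj.domQ (RelProj.QGrHom.ofHom v hv) p chart).ι = PL.homOfLE hle ≫ r :=
    IsOpenImmersion.lift_fac _ _ _
  refine ⟨c, hc, ?_⟩
  have h := comp_eq hu' hr hr' hw (𝟙 _) (PL.homOfLE hle) c
    (by rw [Category.id_comp, Scheme.homOfLE_ι]) hc.symm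
  rwa [Category.id_comp] at h

end sheaf

end Groth.Agent.Lib.Helper42.ProjQComp
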