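import Groth.Agent.Lib.Helper42.ProjQTN

/-!
# Dominance of the morphism induced by a graded morphism over a morphism of bases (helper42)

`Proj(u) : G(u) ⟶ Proj(𝒮)` is dominant iff every homogeneous section `g` of positive degree of
`𝒮` over an affine open `U`, all of whose images `u_{U,U'}(g)` are nilpotent, is nilpotent.
-/

set_option autoImplicit false

universe u

namespace Groth.Agent.Lib.Helper42.ProjQDom

open CategoryTheory CategoryTheory.Limits AlgebraicGeometry TopologicalSpace Opposite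
open HomogeneousLocalization

section algebra

variable {A σ : Type u} [CommRing A] [SetLike σ A] [AddSubgroupClass σ A]
  {𝒜 : ℕ → σ} [GradedRing 𝒜]

/-- the standard opens at homogeneous elements of positive degree form a basis of `Proj`. -/
theorem exists_basic_subset (y : Proj 𝒜) (O : (Proj 𝒜).Opens) (hy : y ∈ O) :
    ∃ (d : ℕ) (_ : 0 < d) (g : A) (_ : g ∈ 𝒜 d),
      y ∈ Proj.basicOpen 𝒜 g ∧ Proj.basicOpen 𝒜 g ≤ O := by
  obtain ⟨_, ⟨_, ⟨a, rfl⟩, rfl⟩, hya, haO⟩ :=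
    (Proj.isBasis_basicOpen 𝒜).exists_subset_of_mem_open hy O.2
  have hya' : y ∈ Proj.basicOpen 𝒜 a := hya
  rw [Proj.basicOpen_eq_iSup_proj] at hya'
  obtain ⟨i, hyi⟩ := TopologicalSpace.Opens.mem_iSup.mp hya'
  have hile : Proj.basicOpen 𝒜 (GradedRing.proj 𝒜 i a) ≤ Proj.basicOpen 𝒜 a := by
    rw [Proj.basicOpen_eq_iSup_proj 𝒜 a]
    exact le_iSup (fun i => Proj.basicOpen 𝒜 (GradedRing.proj 𝒜 i a)) i
  obtain ⟨d, hd, f, hf, hyf⟩ := ProjDom.exists_mem_basicOpen y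
  have hai : GradedRing.proj 𝒜 i a ∈ 𝒜 i := by
    rw [GradedRing.proj_apply]
    exact SetLike.coe_mem _
  refine ⟨i + d, Nat.add_pos_right i hd, GradedRing.proj 𝒜 i a * f,
    SetLike.mul_mem_graded hai hf, ?_, ?_⟩
  · rw [Proj.basicOpen_mul]
    exact ⟨hyi, hyf⟩
  · rw [Proj.basicOpen_mul]
    exact inf_le_left.trans (hile.trans haO)

/-- the degree-zero localization at a nilpotent element is trivial. -/
theorem isEmpty_spec_away_of_isNilpotent {g : A} (h : IsNilpotent g) :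
    IsEmpty (Spec (CommRingCat.of (Away 𝒜 g))) := by
  have h0 : (0 : A) ∈ Submonoid.powers g := by
    obtain ⟨n, hn⟩ := h
    exact ⟨n, hn⟩
  have hsub : Subsingleton (Localization.Away g) :=
    (IsLocalization.subsingleton_iff (M := Submonoid.powers g) (S := Localization.Away g)).mpr h0
  have hsub' : Subsingleton (Away 𝒜 g) :=
    ⟨fun a b => HomogeneousLocalization.val_injective _ (Subsingleton.elim _ _)⟩
  change IsEmpty (PrimeSpectrum (Away 𝒜 g))
  infer_instance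

/-- the degree-zero localization at a non-nilpotent element is not trivial. -/
theorem nonempty_spec_away_of_not_isNilpotent {g : A} (h : ¬ IsNilpotent g) :
    Nonempty (Spec (CommRingCat.of (Away 𝒜 g))) := by
  have hnt : Nontrivial (Away 𝒜 g) := by
    by_contra hcon
    rw [not_nontrivial_iff_subsingleton] at hcon
    apply h
    have h1 : (1 : Away 𝒜 g) = 0 := Subsingleton.elim _ _
    have h2 := congrArg HomogeneousLocalization.val h1
    rw [HomogeneousLocalization.val_one, HomogeneousLocalization.val_zero] at h2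
    have hsub : Subsingleton (Localization.Away g) := subsingleton_of_zero_eq_one h2.symm
    obtain ⟨n, hn⟩ := (IsLocalization.subsingleton_iff (M := Submonoid.powers g)
      (S := Localization.Away g)).mp hsub
    exact ⟨n, hn⟩
  change Nonempty (PrimeSpectrum (Away 𝒜 g))
  infer_instance

end algebra

section sheaf

variable {Y X : Scheme.{u}} {q : X ⟶ Y} {𝒮 : RelProj.QCGrAlg Y} {𝒮L : RelProj.QCGrAlg X}
  {u : RelProj.QGrHom q 𝒮 𝒮L}
  {P PL : Scheme.{u}} {p : P ⟶ Y}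
  {chart : ∀ (U : Y.Opens) (hU : IsAffineOpen U),
    (((p ⁻¹ᵁ U : P.Opens) : Scheme.{u}) ≅ Proj (𝒮.deg U hU))}
  {pL : PL ⟶ X}
  {chartL : ∀ (U : X.Opens) (hU : IsAffineOpen U),
    (((pL ⁻¹ᵁ U : PL.Opens) : Scheme.{u}) ≅ Proj (𝒮L.deg U hU))}

/-- if `Proj(u)` sends a point of `G(u)` over `U'` into `D_+(g)` over `U`, then `u_{U,U'}(g)` is
not nilpotent. -/
theorem not_isNilpotent_of_map_mem (hP : RelProj.IsRelProj 𝒮 p chart)
    (hPL : RelProj.IsRelProj 𝒮L pL chartL)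
    {r : ((RelProj.domQ u pL chartL : PL.Opens) : Scheme.{u}) ⟶ P}
    (hr : RelProj.IsProjQMapOn u p chart pL chartL (RelProj.domQ u pL chartL) r)
    (U : Y.Opens) (hU : IsAffineOpen U) (U' : X.Opens) (hU' : IsAffineOpen U')
    (hle : U' ≤ q ⁻¹ᵁ U) {d : ℕ} (hd : 0 < d) {g : 𝒮.presheaf.obj (op U)} (hg : g ∈ 𝒮.deg U hU d)
    (t : ((RelProj.domQ u pL chartL : PL.Opens) : Scheme.{u}))
    (ht : pL.base ((RelProj.domQ u pL chartL).ι.base t) ∈ U')
    (y₀ : Proj (𝒮.deg U hU)) (hy₀ : y₀ ∈ Proj.basicOpen (𝒮.deg U hU) g)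
    (hrt : r.base t = (RelProj.emb p chart U hU).base y₀) :
    ¬ IsNilpotent (u.gradedAt U hU U' hU' hle g) := by
  intro hnil
  obtain ⟨s, -⟩ := ProjQ.mem_range_emb_of_map_mem hP hPL hr U hU U' hU' hle hd hg t ht y₀ hy₀ hrt
  exact (isEmpty_spec_away_of_isNilpotent (𝒜 := 𝒮L.deg U' hU') hnil).false s

/-- if `u_{U,U'}(g)` is not nilpotent, `Proj(u)` sends some point of `G(u)` into `D_+(g)`. -/
theorem exists_map_mem_of_not_isNilpotent
    {r : ((RelProj.domQ u pL chartL : PL.Opens) : Scheme.{u}) ⟶ P}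
    (hr : RelProj.IsProjQMapOn u p chart pL chartL (RelProj.domQ u pL chartL) r)
    (U : Y.Opens) (hU : IsAffineOpen U) (U' : X.Opens) (hU' : IsAffineOpen U')
    (hle : U' ≤ q ⁻¹ᵁ U) {d : ℕ} (hd : 0 < d) {g : 𝒮.presheaf.obj (op U)} (hg : g ∈ 𝒮.deg U hU d)
    (hn : ¬ IsNilpotent (u.gradedAt U hU U' hU' hle g)) :
    ∃ (t : ((RelProj.domQ u pL chartL : PL.Opens) : Scheme.{u})) (y₀ : Proj (𝒮.deg U hU)),
      y₀ ∈ Proj.basicOpen (𝒮.deg U hU) g ∧
        pL.base ((RelProj.domQ u pL chartL).ι.base t) ∈ U' ∧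
        r.base t = (RelProj.emb p chart U hU).base y₀ := by
  obtain ⟨s⟩ := nonempty_spec_away_of_not_isNilpotent (𝒜 := 𝒮L.deg U' hU') hn
  let k : ProjQ.QIdx q 𝒮 := ⟨U, hU, U', hU', hle, d, hd, g, hg⟩
  have hk : k.emb u pL chartL ≫ r =
      Spec.map (CommRingCat.ofHom (Away.map (u.gradedAt U hU U' hU' hle) g)) ≫
        Proj.awayι (𝒮.deg U hU) g hg hd ≫ RelProj.emb p chart U hU :=
    hr U hU U' hU' hle d hd g hg _
  refine ⟨(k.emb u pL chartL).base s, (Proj.awayι (𝒮.deg U hU) g hg hd).base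
    ((Spec.map (CommRingCat.ofHom (Away.map (u.gradedAt U hU U' hU' hle) g))).base s), ?_, ?_, ?_⟩
  · exact (Proj.opensRange_awayι (𝒮.deg U hU) g hg hd).le ⟨_, rfl⟩
  · exact ProjQ.base_mem_of_mem_range_emb k _ ⟨s, rfl⟩
  · have h := congrArg (fun ψ => ψ.base s) hk
    simpa only [Scheme.Hom.comp_base, TopCat.comp_app] using h

/-- a standard open of `Proj` at a nilpotent element is empty. -/
theorem not_isNilpotent_of_mem_basicOpen {A σ : Type u} [CommRing A] [SetLike σ A]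
    [AddSubgroupClass σ A] {𝒜 : ℕ → σ} [GradedRing 𝒜] {d : ℕ} (hd : 0 < d) {g : A} (hg : g ∈ 𝒜 d)
    (y : Proj 𝒜) (hy : y ∈ Proj.basicOpen 𝒜 g) : ¬ IsNilpotent g := by
  intro hnil
  obtain ⟨s, -⟩ := (Proj.opensRange_awayι 𝒜 g hg hd).ge hy
  exact (isEmpty_spec_away_of_isNilpotent (𝒜 := 𝒜) hnil).false s

/-- the criterion for `Proj(u) : G(u) ⟶ Proj(𝒮)` to be dominant. -/
theorem isDominant_iff (hP : RelProj.IsRelProj 𝒮 p chart)
    (hPL : RelProj.IsRelProj 𝒮L pL chartL)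
    {r : ((RelProj.domQ u pL chartL : PL.Opens) : Scheme.{u}) ⟶ P}
    (hr : RelProj.IsProjQMapOn u p chart pL chartL (RelProj.domQ u pL chartL) r) :
    IsDominant r ↔ ∀ (U : Y.Opens) (hU : IsAffineOpen U) (d : ℕ), 0 < d →
      ∀ g ∈ 𝒮.deg U hU d,
        (∀ (U' : X.Opens) (hU' : IsAffineOpen U') (hle : U' ≤ q ⁻¹ᵁ U),
          IsNilpotent (u.gradedAt U hU U' hU' hle g)) → IsNilpotent g := by
  have hcomp := ProjQ.isProjQMapOn_comp hP hPL hr
  constructor
  · intro hdom U hU d hd g hg hall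
    by_contra hn
    obtain ⟨y₁⟩ := nonempty_spec_away_of_not_isNilpotent (𝒜 := 𝒮.deg U hU) hn
    have hy₀ : (Proj.awayι (𝒮.deg U hU) g hg hd).base y₁ ∈ Proj.basicOpen (𝒮.deg U hU) g :=
      (Proj.opensRange_awayι (𝒮.deg U hU) g hg hd).le ⟨_, rfl⟩
    let O : P.Opens := (RelProj.emb p chart U hU) ''ᵁ Proj.basicOpen (𝒮.deg U hU) g
    have hOne : (O : Set P).Nonempty := ⟨_, ⟨_, hy₀, rfl⟩⟩
    obtain ⟨t, ht⟩ := hdom.denseRange.exists_mem_open O.2 hOne
    obtain ⟨y₀, hy₀g, hy₀t⟩ := ht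
    have hpt : pL.base ((RelProj.domQ u pL chartL).ι.base t) ∈ q ⁻¹ᵁ U := by
      change q.base (pL.base ((RelProj.domQ u pL chartL).ι.base t)) ∈ U
      have h3 := congrArg (fun ψ => ψ.base t) hcomp
      simp only [Scheme.Hom.comp_base, TopCat.comp_app] at h3
      rw [← h3]
      have h4 : r.base t ∈ Set.range (RelProj.emb p chart U hU).base := ⟨y₀, hy₀t⟩
      rw [ProjQ.range_emb] at h4
      exact h4
    obtain ⟨_, ⟨U', hU'0, rfl⟩, hxU', hU'le⟩ := (X.isBasis_affineOpens).exists_subset_of_mem_open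
      hpt (q ⁻¹ᵁ U).2
    have hU' : IsAffineOpen U' := hU'0
    exact not_isNilpotent_of_map_mem hP hPL hr U hU U' hU' hU'le hd hg t hxU' y₀ hy₀g hy₀t.symm
      (hall U' hU' hU'le)
  · intro hcrit
    refine ⟨?_⟩
    rw [DenseRange, dense_iff_inter_open]
    intro O hO hOne
    obtain ⟨x, hx⟩ := hOne
    obtain ⟨U, hU, hxU⟩ : ∃ U : Y.Opens, IsAffineOpen U ∧ p.base x ∈ U := by
      obtain ⟨_, ⟨V, hV, rfl⟩, hxV, -⟩ := (Y.isBasis_affineOpens).exists_subset_of_mem_open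
        (Set.mem_univ (p.base x)) isOpen_univ
      exact ⟨V, hV, hxV⟩
    have hxr : x ∈ Set.range (RelProj.emb p chart U hU).base := by
      rw [ProjQ.range_emb]; exact hxU
    obtain ⟨y, rfl⟩ := hxr
    let O' : (Proj (𝒮.deg U hU)).Opens := (RelProj.emb p chart U hU) ⁻¹ᵁ ⟨O, hO⟩
    have hyO' : y ∈ O' := hx
    obtain ⟨d, hd, g, hg, hyg, hgO⟩ := exists_basic_subset y O' hyO'
    have hgn : ¬ IsNilpotent g := not_isNilpotent_of_mem_basicOpen hd hg y hyg
    have hex : ∃ (U' : X.Opens) (hU' : IsAffineOpen U') (hle : U' ≤ q ⁻¹ᵁ U),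
        ¬ IsNilpotent (u.gradedAt U hU U' hU' hle g) := by
      by_contra hcon
      apply hgn
      refine hcrit U hU d hd g hg (fun U' hU' hle => ?_)
      by_contra h
      exact hcon ⟨U', hU', hle, h⟩
    obtain ⟨U', hU', hle, hn⟩ := hex
    obtain ⟨t, y₀, hy₀, -, hrt⟩ := exists_map_mem_of_not_isNilpotent hr U hU U' hU' hle hd hg hn
    refine ⟨r.base t, ?_, ⟨t, rfl⟩⟩
    rw [hrt]
    exact hgO hy₀

end sheaf

end Groth.Agent.Lib.Helper42.ProjQDom
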