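import Groth.Agent.Lib.Helper42.ProjQComp

/-!
# Graded homomorphisms that are surjective or injective in large degrees (helper42)

A graded homomorphism `ψ : 𝒜 → ℬ` which is (TN)-surjective induces an everywhere defined closed
immersion `Proj ℬ ⟶ Proj 𝒜`; one which is (TN)-injective induces a dominant morphism
`G(ψ) ⟶ Proj 𝒜`.  The same over a base scheme.
-/

set_option autoImplicit false

universe u

namespace Groth.Agent.Lib.Helper42.ProjQTN

open CategoryTheory CategoryTheory.Limits AlgebraicGeometry TopologicalSpace Opposite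
open HomogeneousLocalization

section algebra

variable {A B σ τ : Type u} [CommRing A] [SetLike σ A] [AddSubgroupClass σ A]
  {𝒜 : ℕ → σ} [GradedRing 𝒜]
  [CommRing B] [SetLike τ B] [AddSubgroupClass τ B] {ℬ : ℕ → τ} [GradedRing ℬ]
  (ψ : 𝒜 →+*ᵍ ℬ)

/-- a (TN)-surjective graded homomorphism is surjective on the degree-zero localizations at
homogeneous elements of positive degree. -/
theorem awayMap_surjective_of_tn
    (hTN : ∃ n : ℕ, ∀ k, n ≤ k → ∀ s ∈ ℬ k, ∃ t ∈ 𝒜 k, ψ t = s)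
    {d : ℕ} (hd : 0 < d) {g : A} (hg : g ∈ 𝒜 d) :
    Function.Surjective (Away.map ψ g) := by
  obtain ⟨n, hn⟩ := hTN
  intro z
  obtain ⟨m, s, hs, rfl⟩ := Away.mk_surjective ℬ (GradedFunLike.map_mem ψ hg) z
  have hgn : ψ g ^ n ∈ ℬ (n • d) := SetLike.pow_mem_graded n (GradedFunLike.map_mem ψ hg)
  have hsg : s * ψ g ^ n ∈ ℬ ((m + n) • d) := by
    have h := SetLike.mul_mem_graded hs hgn
    have e : m • d + n • d = (m + n) • d := by rw [add_smul]
    rw [e] at h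
    exact h
  have hpos' : n ≤ (m + n) • d := by
    rw [smul_eq_mul]
    calc n ≤ m + n := Nat.le_add_left n m
      _ = (m + n) * 1 := (Nat.mul_one _).symm
      _ ≤ (m + n) * d := Nat.mul_le_mul_left _ hd
  obtain ⟨t, ht, hts⟩ := hn _ hpos' _ hsg
  refine ⟨Away.mk 𝒜 hg (m + n) t ht, ?_⟩
  rw [Away.map_mk]
  ext
  simp only [Away.val_mk]
  rw [Localization.mk_eq_mk_iff, Localization.r_iff_exists]
  refine ⟨1, ?_⟩
  simp only [OneMemClass.coe_one, one_mul, hts]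
  ring

/-- the morphism of homogeneous spectra induced by a (TN)-surjective graded homomorphism is
everywhere defined. -/
theorem domOpen_eq_top_of_tn
    (hTN : ∃ n : ℕ, ∀ k, n ≤ k → ∀ s ∈ ℬ k, ∃ t ∈ 𝒜 k, ψ t = s) :
    RelCone.domOpen ψ = ⊤ := by
  obtain ⟨n, hn⟩ := hTN
  rw [eq_top_iff]
  intro y _
  obtain ⟨d, hd, s, hs, hy⟩ := ProjDom.exists_mem_basicOpen y
  have hsn : s ^ (n + 1) ∈ ℬ ((n + 1) • d) := SetLike.pow_mem_graded (n + 1) hs
  have hle : n ≤ (n + 1) • d := by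
    rw [smul_eq_mul]
    calc n ≤ n + 1 := Nat.le_succ n
      _ = (n + 1) * 1 := (Nat.mul_one _).symm
      _ ≤ (n + 1) * d := Nat.mul_le_mul_left _ hd
  have hpos : 0 < (n + 1) • d := by
    rw [smul_eq_mul]
    exact Nat.mul_pos (Nat.succ_pos n) hd
  obtain ⟨t, ht, hts⟩ := hn _ hle _ hsn
  refine (RelCone.mem_domOpen ψ y).mpr ⟨t, HomogeneousIdeal.mem_irrelevant_of_mem _ hpos ht, ?_⟩
  rw [hts]
  have hy' : s ∉ y.asHomogeneousIdeal := (ProjectiveSpectrum.mem_basicOpen _ _ _).mp hy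
  intro hmem
  exact hy' (y.isPrime.mem_of_pow_mem _ hmem)

/-- a (TN)-injective graded homomorphism is injective on the degree-zero localizations at
homogeneous elements of positive degree. -/
theorem awayMap_injective_of_tn
    (hTN : ∃ n : ℕ, ∀ k, n ≤ k → ∀ x ∈ 𝒜 k, ψ x = 0 → x = 0)
    {d : ℕ} (hd : 0 < d) {g : A} (hg : g ∈ 𝒜 d) :
    Function.Injective (Away.map ψ g) := by
  obtain ⟨n, hn⟩ := hTN
  rw [injective_iff_map_eq_zero]
  intro z hz
  obtain ⟨m, a, ha, rfl⟩ := Away.mk_surjective 𝒜 hg z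
  rw [Away.map_mk] at hz
  have hz' := congrArg HomogeneousLocalization.val hz
  rw [Away.val_mk, HomogeneousLocalization.val_zero, Localization.mk_eq_mk',
    IsLocalization.mk'_eq_zero_iff] at hz'
  obtain ⟨⟨_, N, rfl⟩, hN⟩ := hz'
  change ψ g ^ N * ψ a = 0 at hN
  have hmem : g ^ (N + n) * a ∈ 𝒜 ((N + n) • d + m • d) :=
    SetLike.mul_mem_graded (SetLike.pow_mem_graded (N + n) hg) ha
  have hle : n ≤ (N + n) • d + m • d := by
    rw [smul_eq_mul, smul_eq_mul]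
    calc n ≤ N + n := Nat.le_add_left n N
      _ = (N + n) * 1 := (Nat.mul_one _).symm
      _ ≤ (N + n) * d := Nat.mul_le_mul_left _ hd
      _ ≤ (N + n) * d + m * d := Nat.le_add_right _ _
  have hzero : g ^ (N + n) * a = 0 := by
    refine hn _ hle _ hmem ?_
    rw [map_mul, map_pow, pow_add, mul_assoc, mul_comm (ψ g ^ n), ← mul_assoc, hN, zero_mul]
  apply HomogeneousLocalization.val_injective
  rw [Away.val_mk, HomogeneousLocalization.val_zero, Localization.mk_eq_mk',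
    IsLocalization.mk'_eq_zero_iff]
  exact ⟨⟨g ^ (N + n), N + n, rfl⟩, hzero⟩

end algebra

/-- `Spec` of an injective ring homomorphism is dominant. -/
theorem isDominant_SpecMap_of_injective {R S : CommRingCat.{u}} (φ : R ⟶ S)
    (h : Function.Injective φ.hom) : IsDominant (Spec.map φ) := by
  refine ⟨?_⟩
  have h1 : DenseRange (PrimeSpectrum.comap φ.hom) := by
    rw [PrimeSpectrum.denseRange_comap_iff_ker_le_nilRadical]
    rw [(RingHom.injective_iff_ker_eq_bot _).mp h]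
    exact bot_le
  exact h1

/-- if `f ≫ g` is an open immersion and `g` is a monomorphism, `f` is an open immersion. -/
theorem isOpenImmersion_of_comp_mono {X Y Z : Scheme.{u}} (f : X ⟶ Y) (g : Y ⟶ Z) [Mono g]
    [h : IsOpenImmersion (f ≫ g)] : IsOpenImmersion f :=
  MorphismProperty.of_isPullback (P := @IsOpenImmersion)
    (IsPullback.of_horiz_isIso_mono (fst := 𝟙 X) (snd := f) (f := f ≫ g) (g := g)
      ⟨Category.id_comp _⟩) h

section sheaf

variable {Y : Scheme.{u}} {𝒮 𝒯 : RelProj.QCGrAlg Y} (v : 𝒯.toQCAlg ⟶ 𝒮.toQCAlg)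
  (hv : RelProj.IsGradedHom v)
  {P P' : Scheme.{u}} {p : P ⟶ Y}
  {chart : ∀ (U : Y.Opens) (hU : IsAffineOpen U),
    (((p ⁻¹ᵁ U : P.Opens) : Scheme.{u}) ≅ Proj (𝒮.deg U hU))}
  {p' : P' ⟶ Y}
  {chart' : ∀ (U : Y.Opens) (hU : IsAffineOpen U),
    (((p' ⁻¹ᵁ U : P'.Opens) : Scheme.{u}) ≅ Proj (𝒯.deg U hU))}

/-- (TN)-surjectivity over an affine open. -/
theorem tn_surj_gradedAt
    (hTN : ∃ n : ℕ, ∀ k, n ≤ k → ∀ (U : Y.Opens) (hU : IsAffineOpen U), ∀ y ∈ 𝒮.deg U hU k,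
      ∃ x ∈ 𝒯.deg U hU k, (v.hom.app (op U)).hom x = y)
    (U : Y.Opens) (hU : IsAffineOpen U) (hle : U ≤ (𝟙 Y : Y ⟶ Y) ⁻¹ᵁ U) :
    ∃ n : ℕ, ∀ k, n ≤ k → ∀ s ∈ 𝒮.deg U hU k, ∃ t ∈ 𝒯.deg U hU k,
      (RelProj.QGrHom.ofHom v hv).gradedAt U hU U hU hle t = s := by
  obtain ⟨n, hn⟩ := hTN
  refine ⟨n, fun k hk s hs => ?_⟩
  obtain ⟨t, ht, hts⟩ := hn k hk U hU s hs
  exact ⟨t, ht, (Cone.ofHom_gradedAt_apply v hv U hU hle t).trans hts⟩

/-- (TN)-injectivity over an affine open. -/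
theorem tn_inj_gradedAt
    (hTN : ∃ n : ℕ, ∀ k, n ≤ k → ∀ (U : Y.Opens) (hU : IsAffineOpen U), ∀ x ∈ 𝒯.deg U hU k,
      (v.hom.app (op U)).hom x = 0 → x = 0)
    (U : Y.Opens) (hU : IsAffineOpen U) (hle : U ≤ (𝟙 Y : Y ⟶ Y) ⁻¹ᵁ U) :
    ∃ n : ℕ, ∀ k, n ≤ k → ∀ x ∈ 𝒯.deg U hU k,
      (RelProj.QGrHom.ofHom v hv).gradedAt U hU U hU hle x = 0 → x = 0 := by
  obtain ⟨n, hn⟩ := hTN
  refine ⟨n, fun k hk x hx h0 => ?_⟩
  exact hn k hk U hU x hx ((Cone.ofHom_gradedAt_apply v hv U hU hle x).symm.trans h0)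

/-- a (TN)-surjective graded homomorphism induces an everywhere defined morphism of relative
homogeneous spectra. -/
theorem domQ_eq_top_of_tn
    (hTN : ∃ n : ℕ, ∀ k, n ≤ k → ∀ (U : Y.Opens) (hU : IsAffineOpen U), ∀ y ∈ 𝒮.deg U hU k,
      ∃ x ∈ 𝒯.deg U hU k, (v.hom.app (op U)).hom x = y) :
    RelProj.domQ (RelProj.QGrHom.ofHom v hv) p chart = ⊤ :=
  ProjQ.domQ_eq_top_of_forall (u := RelProj.QGrHom.ofHom v hv) (fun _ hU => hU)
    (fun U hU => domOpen_eq_top_of_tn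
      ((RelProj.QGrHom.ofHom v hv).gradedAt U hU U hU (le_refl U))
      (tn_surj_gradedAt v hv hTN U hU (le_refl U)))

/-- a (TN)-surjective graded homomorphism induces a closed immersion of relative homogeneous
spectra. -/
theorem isClosedImmersion_of_tn (hP : RelProj.IsRelProj 𝒮 p chart)
    (hP' : RelProj.IsRelProj 𝒯 p' chart')
    (hTN : ∃ n : ℕ, ∀ k, n ≤ k → ∀ (U : Y.Opens) (hU : IsAffineOpen U), ∀ y ∈ 𝒮.deg U hU k,
      ∃ x ∈ 𝒯.deg U hU k, (v.hom.app (op U)).hom x = y)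
    {w : ((RelProj.domQ (RelProj.QGrHom.ofHom v hv) p chart : P.Opens) : Scheme.{u}) ⟶ P'}
    (hw : RelProj.IsProjQMapOn (RelProj.QGrHom.ofHom v hv) p' chart' p chart
      (RelProj.domQ (RelProj.QGrHom.ofHom v hv) p chart) w) : IsClosedImmersion w :=
  ProjQ.of_charts (Q := @IsClosedImmersion) hP' hP hw (fun _ hU => hU)
    (fun U hU _ hd _ hf => IsClosedImmersion.spec_of_surjective _
      (awayMap_surjective_of_tn _ (tn_surj_gradedAt v hv hTN U hU le_rfl) hd hf))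

/-- a (TN)-injective graded homomorphism induces a dominant morphism of relative homogeneous
spectra. -/
theorem isDominant_of_tn (hP : RelProj.IsRelProj 𝒮 p chart)
    (hP' : RelProj.IsRelProj 𝒯 p' chart')
    (hTN : ∃ n : ℕ, ∀ k, n ≤ k → ∀ (U : Y.Opens) (hU : IsAffineOpen U), ∀ x ∈ 𝒯.deg U hU k,
      (v.hom.app (op U)).hom x = 0 → x = 0)
    {w : ((RelProj.domQ (RelProj.QGrHom.ofHom v hv) p chart : P.Opens) : Scheme.{u}) ⟶ P'}
    (hw : RelProj.IsProjQMapOn (RelProj.QGrHom.ofHom v hv) p' chart' p chart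
      (RelProj.domQ (RelProj.QGrHom.ofHom v hv) p chart) w) : IsDominant w :=
  ProjQ.of_charts (Q := @IsDominant) hP' hP hw (fun _ hU => hU)
    (fun U hU _ hd _ hf => isDominant_SpecMap_of_injective _
      (awayMap_injective_of_tn _ (tn_inj_gradedAt v hv hTN U hU le_rfl) hd hf))

end sheaf

/-- if `f ≫ g` is dominant and `g` is a closed immersion, `f` is dominant. -/
theorem isDominant_of_comp_closedImmersion {X Y Z : Scheme.{u}} (f : X ⟶ Y) (g : Y ⟶ Z)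
    [h : IsDominant (f ≫ g)] [IsClosedImmersion g] : IsDominant f := by
  refine ⟨?_⟩
  have h1 : DenseRange (f ≫ g).base := h.denseRange
  have hg : Topology.IsClosedEmbedding g.base := g.isClosedEmbedding
  intro y
  have h2 : g.base y ∈ closure (Set.range (f ≫ g).base) := h1 (g.base y)
  have h3 : Set.range (f ≫ g).base = g.base '' Set.range f.base := by
    rw [Scheme.Hom.comp_base, TopCat.coe_comp, Set.range_comp]
  rw [h3] at h2
  rw [hg.closure_image_eq] at h2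
  obtain ⟨y', hy', hyy'⟩ := h2
  rw [← hg.injective hyy']
  exact hy'

section comp

variable {Y X : Scheme.{u}} {q : X ⟶ Y} {𝒮 𝒯 : RelProj.QCGrAlg Y} {𝒮L : RelProj.QCGrAlg X}
  {u : RelProj.QGrHom q 𝒮 𝒮L} {v : 𝒯.toQCAlg ⟶ 𝒮.toQCAlg} {hv : RelProj.IsGradedHom v}
  {u' : RelProj.QGrHom q 𝒯 𝒮L} (hu' : ∀ U : Y.Opens, u'.app U = v.hom.app (op U) ≫ u.app U)
  {P P' PL : Scheme.{u}} {p : P ⟶ Y}
  {chart : ∀ (U : Y.Opens) (hU : IsAffineOpen U),
    (((p ⁻¹ᵁ U : P.Opens) : Scheme.{u}) ≅ Proj (𝒮.deg U hU))}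
  {p' : P' ⟶ Y}
  {chart' : ∀ (U : Y.Opens) (hU : IsAffineOpen U),
    (((p' ⁻¹ᵁ U : P'.Opens) : Scheme.{u}) ≅ Proj (𝒯.deg U hU))}
  {pL : PL ⟶ X}
  {chartL : ∀ (U : X.Opens) (hU : IsAffineOpen U),
    (((pL ⁻¹ᵁ U : PL.Opens) : Scheme.{u}) ≅ Proj (𝒮L.deg U hU))}

include hu' in
/-- if `Proj(u)` is dominant, so is its restriction `G(u ∘ v) ⟶ G(v)`. -/
theorem isDominant_factor (hP : RelProj.IsRelProj 𝒮 p chart)
    (hP' : RelProj.IsRelProj 𝒯 p' chart') (hPL : RelProj.IsRelProj 𝒮L pL chartL)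
    {r : ((RelProj.domQ u pL chartL : PL.Opens) : Scheme.{u}) ⟶ P}
    (hr : RelProj.IsProjQMapOn u p chart pL chartL (RelProj.domQ u pL chartL) r)
    (hle : RelProj.domQ u' pL chartL ≤ RelProj.domQ u pL chartL)
    (c : ((RelProj.domQ u' pL chartL : PL.Opens) : Scheme.{u}) ⟶
        ((RelProj.domQ (RelProj.QGrHom.ofHom v hv) p chart : P.Opens) : Scheme.{u}))
    (hc : c ≫ (RelProj.domQ (RelProj.QGrHom.ofHom v hv) p chart).ι = PL.homOfLE hle ≫ r)
    [hdom : IsDominant r] : IsDominant c := by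
  have hd : Dense ((RelProj.domQ (RelProj.QGrHom.ofHom v hv) p chart).ι.base ⁻¹'
      Set.range r.base) :=
    Dense.preimage hdom.denseRange
      (RelProj.domQ (RelProj.QGrHom.ofHom v hv) p chart).ι.isOpenEmbedding.isOpenMap
  refine ⟨hd.mono ?_⟩
  rintro y ⟨x, hx⟩
  have hx' : r.base x ∈ RelProj.domQ (RelProj.QGrHom.ofHom v hv) p chart := by
    rw [hx]
    exact Subtype.property _
  have hmem := ProjQComp.mem_domQ_of_map_mem hu' hP hP' hPL hr x hx'
  let x' : ((RelProj.domQ u' pL chartL : PL.Opens) : Scheme.{u}) := ⟨_, hmem⟩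
  have h1 : (PL.homOfLE hle).base x' = x := by
    apply (RelProj.domQ u pL chartL).ι.isOpenEmbedding.injective
    rw [← Scheme.Hom.comp_apply, Scheme.homOfLE_ι]
    rfl
  refine ⟨x', ?_⟩
  apply (RelProj.domQ (RelProj.QGrHom.ofHom v hv) p chart).ι.isOpenEmbedding.injective
  rw [← Scheme.Hom.comp_apply, hc, Scheme.Hom.comp_apply, h1, hx]

end comp

end Groth.Agent.Lib.Helper42.ProjQTN
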