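import Groth.Agent.Lib.Helper42.ColimSections
import Groth.Agent.Lib.Helper94.ModSiteBasic
import Groth.Prelude.Def_RelSpec2

/-!
# Direct images along affine morphisms commute with filtered colimits (helper42)

* `preservesColimit_push`: for `f : X ⟶ S` affine, the direct image of abelian sheaves preserves
  filtered colimits.
* `preservesColimit_dirImg`: the direct image `AMod.dirImg f` with values in modules over the
  direct-image algebra preserves filtered colimits (no quasi-coherence needed).
-/

set_option autoImplicit false
set_option linter.unusedSectionVars false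
set_option linter.unusedVariables false

universe u

namespace Groth.Agent.Lib.Helper42.Internal.PushColim

open CategoryTheory CategoryTheory.Limits Opposite TopologicalSpace AlgebraicGeometry

variable {X S : Scheme.{u}} (f : X ⟶ S) [IsAffineHom f]
  {I : Type u} [SmallCategory I] [IsFiltered I]

/-- the direct image of abelian sheaves. -/
noncomputable abbrev push : Sheaf (Opens.grothendieckTopology X) AddCommGrpCat.{u} ⥤
    Sheaf (Opens.grothendieckTopology S) AddCommGrpCat.{u} :=
  (Opens.map f.base).sheafPushforwardContinuous AddCommGrpCat.{u}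
    (Opens.grothendieckTopology S) (Opens.grothendieckTopology X)

theorem isCompact_preimage (U : S.Opens) (hU : IsAffineOpen U) :
    IsCompact ((f ⁻¹ᵁ U : X.Opens) : Set X) :=
  (hU.preimage f).isCompact

theorem isQuasiSeparated_of_isAffineOpen {Y : Scheme.{u}} (U : Y.Opens) (hU : IsAffineOpen U) :
    IsQuasiSeparated ((U : Y.Opens) : Set Y) :=
  hU.isQuasiSeparated

theorem post_app (K : I ⥤ Sheaf (Opens.grothendieckTopology X) AddCommGrpCat.{u}) (i : I)
    (U : S.Opens) (t : (K.obj i).obj.obj (op (f ⁻¹ᵁ U))) :
    (colimit.post K (push f)).hom.app (op U)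
        ((colimit.ι (K ⋙ push f) i).hom.app (op U) t) =
      (colimit.ι K i).hom.app (op (f ⁻¹ᵁ U)) t := by
  have h := colimit.ι_post K (push f) i
  have h2 := congrArg (fun φ => φ.hom.app (op U) t) h
  exact h2

theorem bijective_post (K : I ⥤ Sheaf (Opens.grothendieckTopology X) AddCommGrpCat.{u})
    (U : S.Opens) (hU : IsAffineOpen U) :
    Function.Bijective ((colimit.post K (push f)).hom.app (op U)).hom := by
  have hc := isCompact_preimage f U hU
  have hq := isQuasiSeparated_of_isAffineOpen (f ⁻¹ᵁ U) (hU.preimage f)
  have : PrespectralSpace S.toTopCat := inferInstanceAs (PrespectralSpace S)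
  have : PrespectralSpace X.toTopCat := inferInstanceAs (PrespectralSpace X)
  constructor
  · rw [injective_iff_map_eq_zero]
    intro a ha
    obtain ⟨i, t, rfl⟩ := ColimSections.exists_rep_top (X := S.toTopCat) U hU.isCompact
      (isQuasiSeparated_of_isAffineOpen U hU) (K ⋙ push f) a
    have h1 : (colimit.ι K i).hom.app (op (f ⁻¹ᵁ U)) t = 0 :=
      (post_app f K i U t).symm.trans ha
    obtain ⟨k, g, hg⟩ := ColimSections.exists_map_eq_zero_top (X := X.toTopCat) (f ⁻¹ᵁ U) hc hq
      K i t h1
    have h2 : colimit.ι (K ⋙ push f) i = (K ⋙ push f).map g ≫ colimit.ι (K ⋙ push f) k :=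
      (colimit.w (K ⋙ push f) g).symm
    rw [h2]
    change (colimit.ι (K ⋙ push f) k).hom.app (op U) ((K.map g).hom.app (op (f ⁻¹ᵁ U)) t) = 0
    exact (congrArg ((colimit.ι (K ⋙ push f) k).hom.app (op U)).hom hg).trans
      (map_zero ((colimit.ι (K ⋙ push f) k).hom.app (op U)).hom)
  · intro s
    obtain ⟨i, t, ht⟩ := ColimSections.exists_rep_top (X := X.toTopCat) (f ⁻¹ᵁ U) hc hq K s
    exact ⟨(colimit.ι (K ⋙ push f) i).hom.app (op U) t, (post_app f K i U t).trans ht⟩

theorem isIso_post (K : I ⥤ Sheaf (Opens.grothendieckTopology X) AddCommGrpCat.{u}) :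
    IsIso (colimit.post K (push f)) := by
  have hB : Opens.IsBasis (Set.range (fun U : S.affineOpens => (U : S.Opens))) := by
    rw [Subtype.range_coe]
    exact S.isBasis_affineOpens
  refine TopCat.Sheaf.isIso_iff_isIso_basis (B := fun U : S.affineOpens => (U : S.Opens)) hB ?_
  intro U
  exact (ConcreteCategory.isIso_iff_bijective _).mpr (bijective_post f K U.1 U.2)

/-- the direct image of abelian sheaves along an affine morphism preserves filtered colimits. -/
theorem preservesColimit_push (K : I ⥤ Sheaf (Opens.grothendieckTopology X) AddCommGrpCat.{u}) :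
    PreservesColimit K (push f) :=
  haveI := isIso_post f K
  preservesColimit_of_isIso_post (F := K) (G := push f)

theorem dirImg_comp_toSheaf :
    AMod.dirImg f ⋙ SheafOfModules.toSheaf (AMod.ringSheaf (RelSpec.QCAlg.directImage f)) =
      SheafOfModules.toSheaf X.ringCatSheaf ⋙ push f :=
  rfl

/-- the direct image with values in modules over the direct-image algebra preserves filtered
colimits. -/
theorem preservesColimit_dirImg (D : I ⥤ X.Modules) : PreservesColimit D (AMod.dirImg f) := by
  have hX := Groth.Agent.Lib.Helper94.ModSiteBasic.toSheaf_preservesColimitsOfSize X.ringCatSheaf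
  have hS := Groth.Agent.Lib.Helper94.ModSiteBasic.toSheaf_preservesColimitsOfSize
    (AMod.ringSheaf (RelSpec.QCAlg.directImage f))
  have h1 : PreservesColimit (D ⋙ SheafOfModules.toSheaf X.ringCatSheaf) (push f) :=
    preservesColimit_push f _
  have h2 : PreservesColimit D (AMod.dirImg f ⋙
      SheafOfModules.toSheaf (AMod.ringSheaf (RelSpec.QCAlg.directImage f))) := by
    rw [dirImg_comp_toSheaf]
    have hD : PreservesColimit D (SheafOfModules.toSheaf X.ringCatSheaf) :=
      (hX.preservesColimitsOfShape (J := I)).preservesColimit (K := D)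
    exact comp_preservesColimit _ _
  have h3 : ReflectsColimitsOfShape I
      (SheafOfModules.toSheaf (AMod.ringSheaf (RelSpec.QCAlg.directImage f))) :=
    reflectsColimitsOfShape_of_reflectsIsomorphisms
  exact preservesColimit_of_reflects_of_preserves (AMod.dirImg f)
    (SheafOfModules.toSheaf (AMod.ringSheaf (RelSpec.QCAlg.directImage f)))

end Groth.Agent.Lib.Helper42.Internal.PushColim
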