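import Groth.Agent.Lib.Helper42.PushColim
import Mathlib.CategoryTheory.Preadditive.LiftToFinset

/-!
# Direct images along affine morphisms commute with direct sums (helper42)

* `exists_sum_rep`: a section of a coproduct of abelian sheaves over a compact quasi-separated open
  is a finite sum of sections of the summands.
* `preservesColimit_push_sigma`, `preservesColimit_dirImg_sigma`: the direct image along an affine
  morphism preserves arbitrary coproducts.
-/

set_option autoImplicit false
set_option linter.unusedSectionVars false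
set_option linter.unusedVariables false

universe u

namespace Groth.Agent.Lib.Helper42.Internal.PushSigma

open CategoryTheory CategoryTheory.Limits Opposite TopologicalSpace AlgebraicGeometry

section Top

variable {Y : TopCat.{u}} [PrespectralSpace Y] (U : Opens Y) (hU : IsCompact (U : Set Y))
  (hqs : IsQuasiSeparated (U : Set Y))

/-- evaluation of morphisms of abelian sheaves at a section, as an additive map. -/
def evalHom {P Q : Sheaf (Opens.grothendieckTopology Y) AddCommGrpCat.{u}}
    (x : P.obj.obj (op U)) : (P ⟶ Q) →+ Q.obj.obj (op U) where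
  toFun φ := φ.hom.app (op U) x
  map_zero' := rfl
  map_add' _ _ := rfl

include hU hqs in
theorem exists_rep_cocone {I : Type u} [SmallCategory I] [IsFiltered I]
    (F : I ⥤ Sheaf (Opens.grothendieckTopology Y) AddCommGrpCat.{u}) (c : Cocone F)
    (hc : IsColimit c) (s : c.pt.obj.obj (op U)) :
    ∃ (i : I) (t : (F.obj i).obj.obj (op U)), (c.ι.app i).hom.app (op U) t = s := by
  let e := (colimit.isColimit F).coconePointUniqueUpToIso hc
  obtain ⟨i, t, ht⟩ := ColimSections.exists_rep_top U hU hqs F (e.inv.hom.app (op U) s)
  refine ⟨i, t, ?_⟩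
  have h1 : colimit.ι F i ≫ e.hom = c.ι.app i :=
    IsColimit.comp_coconePointUniqueUpToIso_hom (colimit.isColimit F) hc i
  have h2 : e.inv ≫ e.hom = 𝟙 _ := e.inv_hom_id
  rw [← h1]
  change e.hom.hom.app (op U) ((colimit.ι F i).hom.app (op U) t) = s
  rw [ht]
  exact congrArg (fun φ => φ.hom.app (op U) s) h2

include hU hqs in
theorem exists_sum_rep {ι : Type u}
    (A : ι → Sheaf (Opens.grothendieckTopology Y) AddCommGrpCat.{u})
    (s : (∐ A).obj.obj (op U)) :
    ∃ (T : Finset (Discrete ι)) (t : ∀ a : T, (A a.1.as).obj.obj (op U)),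
      s = ∑ a ∈ T.attach, (Sigma.ι A a.1.as).hom.app (op U) (t a) := by
  classical
  obtain ⟨T, x, hx⟩ := exists_rep_cocone U hU hqs _ _
    (CoproductsFromFiniteFiltered.isColimitFiniteSubproductsCocone A) s
  rw [CoproductsFromFiniteFiltered.finiteSubcoproductsCocone_ι_app_eq_sum] at hx
  refine ⟨T, fun a => (Sigma.π (fun b : T => A b.1.as) a).hom.app (op U) x, ?_⟩
  rw [← hx]
  exact (map_sum (evalHom U x) _ _)

end Top

section Push

open PushColim

variable {X S : Scheme.{u}} (f : X ⟶ S) [IsAffineHom f] {ι : Type u}
  (A : ι → Sheaf (Opens.grothendieckTopology X) AddCommGrpCat.{u})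

theorem sigmaComparison_app (i : ι) (U : S.Opens) (t : (A i).obj.obj (op (f ⁻¹ᵁ U))) :
    (sigmaComparison (push f) A).hom.app (op U)
        ((Sigma.ι (fun j => (push f).obj (A j)) i).hom.app (op U) t) =
      (Sigma.ι A i).hom.app (op (f ⁻¹ᵁ U)) t := by
  have h := ι_comp_sigmaComparison (push f) A i
  exact congrArg (fun φ => φ.hom.app (op U) t) h

theorem bijective_sigmaComparison (U : S.Opens) (hU : IsAffineOpen U) :
    Function.Bijective ((sigmaComparison (push f) A).hom.app (op U)).hom := by
  classical
  have hc := isCompact_preimage f U hU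
  have hq := isQuasiSeparated_of_isAffineOpen (f ⁻¹ᵁ U) (hU.preimage f)
  have : PrespectralSpace S.toTopCat := inferInstanceAs (PrespectralSpace S)
  have : PrespectralSpace X.toTopCat := inferInstanceAs (PrespectralSpace X)
  constructor
  · rw [injective_iff_map_eq_zero]
    intro a ha
    obtain ⟨T, t, rfl⟩ := exists_sum_rep (Y := S.toTopCat) U hU.isCompact
      (isQuasiSeparated_of_isAffineOpen U hU) (fun j => (push f).obj (A j)) a
    rw [map_sum] at ha
    have ha' : ∑ a ∈ T.attach, (Sigma.ι A a.1.as).hom.app (op (f ⁻¹ᵁ U)) (t a) = 0 :=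
      (Finset.sum_congr rfl (fun (a : {x // x ∈ T}) _ =>
        (sigmaComparison_app f A a.1.as U (t a)).symm)).trans ha
    have ht : ∀ k : T, t k = 0 := by
      intro k
      have h1 := congrArg ((Sigma.π A k.1.as).hom.app (op (f ⁻¹ᵁ U))).hom ha'
      rw [map_sum, map_zero] at h1
      rw [Finset.sum_eq_single k] at h1
      · refine Eq.trans ?_ h1
        exact (congrArg (fun φ => φ.hom.app (op (f ⁻¹ᵁ U)) (t k))
          (Sigma.ι_π_eq_id A k.1.as)).symm
      · intro b _ hb
        have hne : b.1.as ≠ k.1.as := by
          intro h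
          exact hb (Subtype.ext (Discrete.ext h))
        exact congrArg (fun φ => φ.hom.app (op (f ⁻¹ᵁ U)) (t b)) (Sigma.ι_π_of_ne A hne)
      · intro h
        exact absurd (Finset.mem_attach T k) h
    refine Finset.sum_eq_zero ?_
    intro k _
    rw [ht k]
    exact map_zero ((Sigma.ι (fun j => (push f).obj (A j)) k.1.as).hom.app (op U)).hom
  · intro s
    obtain ⟨T, t, ht⟩ := exists_sum_rep (Y := X.toTopCat) (f ⁻¹ᵁ U) hc hq A s
    refine ⟨∑ a ∈ T.attach,
      (Sigma.ι (fun j => (push f).obj (A j)) a.1.as).hom.app (op U) (t a), ?_⟩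
    rw [map_sum, ht]
    exact Finset.sum_congr rfl (fun a _ => sigmaComparison_app f A a.1.as U (t a))

theorem isIso_sigmaComparison : IsIso (sigmaComparison (push f) A) := by
  have hB : Opens.IsBasis (Set.range (fun U : S.affineOpens => (U : S.Opens))) := by
    rw [Subtype.range_coe]
    exact S.isBasis_affineOpens
  refine TopCat.Sheaf.isIso_iff_isIso_basis (B := fun U : S.affineOpens => (U : S.Opens)) hB ?_
  intro U
  exact (ConcreteCategory.isIso_iff_bijective _).mpr (bijective_sigmaComparison f A U.1 U.2)

/-- the direct image of abelian sheaves along an affine morphism preserves coproducts. -/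
theorem preservesColimit_push_sigma : PreservesColimit (Discrete.functor A) (push f) :=
  haveI := isIso_sigmaComparison f A
  PreservesCoproduct.of_iso_comparison (push f) A

/-- the direct image with values in modules over the direct-image algebra preserves
coproducts. -/
theorem preservesColimit_dirImg_sigma (F : ι → X.Modules) :
    PreservesColimit (Discrete.functor F) (AMod.dirImg f) := by
  have hX := Groth.Agent.Lib.Helper94.ModSiteBasic.toSheaf_preservesColimitsOfSize X.ringCatSheaf
  have hS := Groth.Agent.Lib.Helper94.ModSiteBasic.toSheaf_preservesColimitsOfSize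
    (AMod.ringSheaf (RelSpec.QCAlg.directImage f))
  have h0 : PreservesColimit
      (Discrete.functor ((SheafOfModules.toSheaf X.ringCatSheaf).obj ∘ F)) (push f) :=
    preservesColimit_push_sigma f _
  have h1 : PreservesColimit (Discrete.functor F ⋙ SheafOfModules.toSheaf X.ringCatSheaf)
      (push f) :=
    (preservesColimit_iff_of_iso_diagram (push f)
      (Discrete.compNatIsoDiscrete F (SheafOfModules.toSheaf X.ringCatSheaf))).mpr h0
  have h2 : PreservesColimit (Discrete.functor F) (AMod.dirImg f ⋙
      SheafOfModules.toSheaf (AMod.ringSheaf (RelSpec.QCAlg.directImage f))) := by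
    rw [dirImg_comp_toSheaf]
    have hD : PreservesColimit (Discrete.functor F) (SheafOfModules.toSheaf X.ringCatSheaf) :=
      (hX.preservesColimitsOfShape (J := Discrete ι)).preservesColimit (K := Discrete.functor F)
    exact comp_preservesColimit _ _
  have h4 : HasColimitsOfShape (Discrete ι)
      (SheafOfModules.{u} (AMod.ringSheaf (RelSpec.QCAlg.directImage f))) := inferInstance
  have h5 : PreservesColimitsOfShape (Discrete ι)
      (SheafOfModules.toSheaf (AMod.ringSheaf (RelSpec.QCAlg.directImage f))) :=
    hS.preservesColimitsOfShape (J := Discrete ι)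
  have h3 : ReflectsColimitsOfShape (Discrete ι)
      (SheafOfModules.toSheaf (AMod.ringSheaf (RelSpec.QCAlg.directImage f))) :=
    reflectsColimitsOfShape_of_reflectsIsomorphisms
  exact preservesColimit_of_reflects_of_preserves (AMod.dirImg f)
    (SheafOfModules.toSheaf (AMod.ringSheaf (RelSpec.QCAlg.directImage f)))

end Push

end Groth.Agent.Lib.Helper42.Internal.PushSigma
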