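import Groth.Agent.Lib.Helper61.QCohSections
import Groth.Agent.Lib.QCoh.Helper50_BaseChange

/-!
# Isomorphisms of quasi-coherent modules detected on an affine cover (helper42)

* `bijective_app_basicOpen` : a morphism of quasi-coherent modules which is bijective on sections
  over an affine open `U` is bijective on sections over every basic open `D(g)`, `g ∈ Γ(X, U)`.
* `isIso_of_bijective_affine_cover` : a morphism of quasi-coherent modules which is bijective on
  the sections over each member of a cover by affine opens is an isomorphism.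
-/

set_option autoImplicit false
universe u

namespace Groth.Agent.Lib.Helper42.QCohIso

open AlgebraicGeometry CategoryTheory Opposite TopologicalSpace
open Groth.Agent.Lib.Helper61.QCohSections

variable {X : Scheme.{u}} {M N : X.Modules}

theorem app_res (φ : M ⟶ N) {U V : X.Opens} (h : V ≤ U) (x : Γ(M, U)) :
    φ.app V (M.presheaf.map (homOfLE h).op x) = N.presheaf.map (homOfLE h).op (φ.app U x) :=
  congr($(φ.mapPresheaf.naturality (homOfLE h).op) x)

theorem bijective_app_basicOpen [M.IsQuasicoherent] [N.IsQuasicoherent] (φ : M ⟶ N)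
    {U : X.Opens} (hU : IsAffineOpen U) (hφ : Function.Bijective (φ.app U)) (g : Γ(X, U)) :
    Function.Bijective (φ.app (X.basicOpen g)) := by
  let _ := resModule M (X.basicOpen_le g)
  let _ := resModule N (X.basicOpen_le g)
  have := isLocalizedModule_res_basicOpen M hU g
  have := isLocalizedModule_res_basicOpen N hU g
  let φU : Γ(M, U) →ₗ[Γ(X, U)] Γ(N, U) :=
    { toFun := φ.app U, map_add' := map_add _, map_smul' := fun r x => φ.app_smul r x }
  let φD : Γ(M, X.basicOpen g) →ₗ[Γ(X, U)] Γ(N, X.basicOpen g) :=
    { toFun := φ.app (X.basicOpen g), map_add' := map_add _,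
      map_smul' := fun r x =>
        φ.app_smul (X.presheaf.map (homOfLE (X.basicOpen_le g)).op r) x }
  have hcomp : φD ∘ₗ resLinear M (X.basicOpen_le g) =
      resLinear N (X.basicOpen_le g) ∘ₗ φU := by
    ext x
    exact app_res φ (X.basicOpen_le g) x
  have heq : IsLocalizedModule.map (Submonoid.powers g) (resLinear M (X.basicOpen_le g))
      (resLinear N (X.basicOpen_le g)) φU = φD := by
    apply IsLocalizedModule.linearMap_ext (Submonoid.powers g) (resLinear M (X.basicOpen_le g))
      (resLinear N (X.basicOpen_le g))
    rw [IsLocalizedModule.map_comp, hcomp]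
  constructor
  · have := IsLocalizedModule.map_injective (Submonoid.powers g)
      (resLinear M (X.basicOpen_le g)) (resLinear N (X.basicOpen_le g)) φU hφ.1
    rw [heq] at this
    exact this
  · have := IsLocalizedModule.map_surjective (Submonoid.powers g)
      (resLinear M (X.basicOpen_le g)) (resLinear N (X.basicOpen_le g)) φU hφ.2
    rw [heq] at this
    exact this

/-- A morphism of quasi-coherent modules which is bijective on sections over each member of an
affine open cover is an isomorphism. -/
theorem isIso_of_bijective_affine_cover [M.IsQuasicoherent] [N.IsQuasicoherent] (φ : M ⟶ N)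
    {ι : Type*} (U : ι → X.Opens) (hU : ∀ i, IsAffineOpen (U i))
    (hcov : ∀ x : X, ∃ i, x ∈ U i)
    (hφ : ∀ i, Function.Bijective (φ.app (U i))) : IsIso φ := by
  refine Groth.Agent.Lib.QCoh.isIso_of_bijective_app_of_isBasis φ
    (fun p : Σ i, Γ(X, U i) => X.basicOpen p.2) ?_ ?_
  · rw [Opens.isBasis_iff_nbhd]
    intro V x hx
    obtain ⟨i, hi⟩ := hcov x
    obtain ⟨g, hle, hxg⟩ := (hU i).exists_basicOpen_le (V := V) ⟨x, hx⟩ hi
    exact ⟨X.basicOpen g, ⟨⟨i, g⟩, rfl⟩, hxg, hle⟩
  · rintro ⟨i, g⟩
    exact bijective_app_basicOpen φ (hU i) (hφ i) g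

end Groth.Agent.Lib.Helper42.QCohIso
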