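import Groth.Prelude.Def_RelProj4
import Groth.Agent.Lib.Helper42.GrLift

/-!
# Replacing a local homogeneous section by a global one, over an affine base (helper42)

For `q : X ⟶ Y` with `Y` affine, a graded `q`-morphism `u : 𝒮 → 𝒮'` and a homogeneous section `f`
of `𝒮` over an affine open `U ⊆ Y`: near any point of an affine open `V ⊆ q⁻¹(U)`, the image of `f`
in `𝒮'` is a unit multiple of the image of a global homogeneous section of `𝒮` of the same degree.
-/

set_option autoImplicit false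

universe u

namespace Groth.Agent.Lib.Helper42.QGrGlobal

open CategoryTheory CategoryTheory.Limits AlgebraicGeometry TopologicalSpace Opposite

variable {X Y : Scheme.{u}} {q : X ⟶ Y} {𝒮 : RelProj.QCGrAlg Y} {𝒮' : RelProj.QCGrAlg X}

theorem exists_global_section (u : RelProj.QGrHom q 𝒮 𝒮') (hY : IsAffineOpen (⊤ : Y.Opens))
    (U : Y.Opens) (hU : IsAffineOpen U) (V : X.Opens) (hV : IsAffineOpen V)
    (hle : V ≤ q ⁻¹ᵁ U) {m : ℕ} {f : 𝒮.presheaf.obj (op U)} (hf : f ∈ 𝒮.deg U hU m)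
    (x : X) (hxV : x ∈ V) :
    ∃ (s : 𝒮.presheaf.obj (op ⊤)) (_ : s ∈ 𝒮.deg ⊤ hY m) (g : Γ(X, V)) (_ : x ∈ X.basicOpen g)
      (ε : 𝒮'.presheaf.obj (op (X.basicOpen g))) (_ : IsUnit ε),
      (u.appLE ⊤ (X.basicOpen g) (le_top.trans (Scheme.Hom.preimage_top q).ge)).hom s =
        (𝒮'.presheaf.map (homOfLE (X.basicOpen_le g)).op).hom ((u.appLE U V hle).hom f) * ε := by
  have hqx : q.base x ∈ U := hle hxV
  obtain ⟨a, haU, hxa⟩ := hY.exists_basicOpen_le (V := U) ⟨q.base x, hqx⟩ trivial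
  have hf₁ := (𝒮.res hU (hY.basicOpen a) haU).map_mem hf
  obtain ⟨k, s, hs, hres⟩ := GrLift.exists_homogeneous_lift 𝒮 ⊤ hY a hf₁
  have hxa' : x ∈ q ⁻¹ᵁ Y.basicOpen a := hxa
  obtain ⟨g, hga, hxg⟩ := hV.exists_basicOpen_le (V := q ⁻¹ᵁ Y.basicOpen a) ⟨x, hxa'⟩ hxV
  set c := 𝒮.res hY (hY.basicOpen a) (Y.basicOpen_le a) ((𝒮.str.app (op ⊤)).hom a) with hc
  have hcu : IsUnit c := GrLift.isUnit_res_str 𝒮 ⊤ hY a
  refine ⟨s, hs, g, hxg, ((u.appLE (Y.basicOpen a) (X.basicOpen g) hga).hom c) ^ k,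
    (hcu.map (u.appLE (Y.basicOpen a) (X.basicOpen g) hga).hom).pow k, ?_⟩
  have e1 : (u.appLE ⊤ (X.basicOpen g) (le_top.trans (Scheme.Hom.preimage_top q).ge)).hom s =
      (u.appLE (Y.basicOpen a) (X.basicOpen g) hga).hom
        (𝒮.res hY (hY.basicOpen a) (Y.basicOpen_le a) s) :=
    (congrArg (fun φ => φ.hom s) (u.map_appLE (Y.basicOpen_le a) hga)).symm
  have e2 : (u.appLE (Y.basicOpen a) (X.basicOpen g) hga).hom
        (𝒮.res hU (hY.basicOpen a) haU f) =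
      (u.appLE U (X.basicOpen g) ((X.basicOpen_le g).trans hle)).hom f :=
    congrArg (fun φ => φ.hom f) (u.map_appLE haU hga)
  have e3 : (𝒮'.presheaf.map (homOfLE (X.basicOpen_le g)).op).hom ((u.appLE U V hle).hom f) =
      (u.appLE U (X.basicOpen g) ((X.basicOpen_le g).trans hle)).hom f :=
    congrArg (fun φ => φ.hom f) (u.appLE_map hle (X.basicOpen_le g))
  rw [e1, hres, map_mul, map_pow]
  exact congrArg (fun w => w * _) (e2.trans e3.symm)

end Groth.Agent.Lib.Helper42.QGrGlobal
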