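import Groth.Agent.Lib.Helper42.ProjBaseChange
import Groth.Agent.Lib.Helper42.ProjQ
import Groth.Agent.Lib.Helper42.ProjLoc

/-!
# Relative `Proj` commutes with base change (helper42)

* `isPullback_emb_fromSpec`: the chart of a relative Proj over an affine open `U` is the pullback of
  `Spec Γ(Y, U) ⟶ Y`.
* `isPullback_of_charts`: a morphism `g : Proj(𝒮') ⟶ Proj(𝒮)` over `ψ : Y' ⟶ Y` which, over a family of
  affine pairs `U' ⊆ ψ⁻¹(U)` with the `U'` covering `Y'`, is `Proj.map` of graded homomorphisms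
  `𝒮(U) → 𝒮'(U')` that are pushouts of `O(U) → O(U')`, is the base change of `ψ`.

ns `Groth.Agent.Lib.Helper42.RelProjBC`.
-/

set_option autoImplicit false

universe u

open CategoryTheory CategoryTheory.Limits AlgebraicGeometry TopologicalSpace Opposite
open scoped HomogeneousIdeal

namespace Groth.Agent.Lib.Helper42.RelProjBC

section chart

variable {Y P : Scheme.{u}} {𝒮 : RelProj.QCGrAlg Y} {p : P ⟶ Y}
  {chart : ∀ (U : Y.Opens) (hU : IsAffineOpen U),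
    (((p ⁻¹ᵁ U : P.Opens) : Scheme.{u}) ≅ Proj (𝒮.deg U hU))}

/-- the chart of a relative Proj over an affine open is the pullback of `Spec Γ(Y, U) ⟶ Y`. -/
theorem isPullback_emb_fromSpec (hP : RelProj.IsRelProj 𝒮 p chart) (U : Y.Opens)
    (hU : IsAffineOpen U) :
    IsPullback (RelProj.emb p chart U hU)
      (Proj.toSpecZero (𝒮.deg U hU) ≫ Spec.map (𝒮.strZero U hU)) p hU.fromSpec := by
  refine (IsOpenImmersion.isPullback (Proj.toSpecZero (𝒮.deg U hU) ≫ Spec.map (𝒮.strZero U hU))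
    (RelProj.emb p chart U hU) hU.fromSpec p ?_ ?_).flip
  · rw [ProjQ.emb_comp hP, Category.assoc]
  · rw [hU.opensRange_fromSpec]
    ext x
    have h := ProjQ.range_emb (p := p) (chart := chart) U hU
    exact (Set.ext_iff.mp h x).symm

end chart

section cover

variable {A B σ τ : Type u} [CommRing A] [SetLike σ A] [AddSubgroupClass σ A] {𝒜 : ℕ → σ}
  [GradedRing 𝒜] [CommRing B] [SetLike τ B] [AddSubgroupClass τ B] {ℬ : ℕ → τ} [GradedRing ℬ]
  (ψ : 𝒜 →+*ᵍ ℬ) (hirr : HomogeneousIdeal.irrelevant ℬ ≤ (HomogeneousIdeal.irrelevant 𝒜).map ψ)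

include hirr in
/-- under the irrelevant-ideal condition the standard opens `D₊(ψ f)` cover `Proj ℬ`. -/
theorem awayι_map_covers (y : Proj ℬ) :
    ∃ j : ProjDom.Idx 𝒜,
      y ∈ Set.range (Proj.awayι ℬ (ψ j.f) (GradedFunLike.map_mem ψ j.hf) j.hd).base := by
  have hy : ¬ (HomogeneousIdeal.irrelevant ℬ).toIdeal ≤ y.asHomogeneousIdeal.toIdeal :=
    y.not_irrelevant_le
  have h1 : ¬ (HomogeneousIdeal.irrelevant 𝒜).toIdeal ≤
      y.asHomogeneousIdeal.toIdeal.comap ψ := by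
    intro hle
    apply hy
    refine le_trans (show (HomogeneousIdeal.irrelevant ℬ).toIdeal ≤
      ((HomogeneousIdeal.irrelevant 𝒜).map ψ).toIdeal from hirr) ?_
    exact Ideal.map_le_iff_le_comap.mpr hle
  obtain ⟨a, ha, hay⟩ := SetLike.not_le_iff_exists.mp h1
  obtain ⟨d, hd, fd, hfd, hfdy⟩ := ProjQ.exists_homogeneous_notMem ψ
    y.asHomogeneousIdeal.toIdeal ha hay
  refine ⟨⟨d, fd, hd, hfd⟩, ?_⟩
  have h := Proj.opensRange_awayι ℬ (ψ fd) (GradedFunLike.map_mem ψ hfd) hd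
  have hyb : y ∈ Proj.basicOpen ℬ (ψ fd) := hfdy
  exact (h.ge hyb : y ∈ (Proj.awayι ℬ (ψ fd) (GradedFunLike.map_mem ψ hfd) hd).opensRange)

end cover

section glue

variable {Y Y' P P' : Scheme.{u}} (ψ : Y' ⟶ Y) {𝒮 : RelProj.QCGrAlg Y} {𝒮' : RelProj.QCGrAlg Y'}
  {p : P ⟶ Y}
  {chart : ∀ (U : Y.Opens) (hU : IsAffineOpen U),
    (((p ⁻¹ᵁ U : P.Opens) : Scheme.{u}) ≅ Proj (𝒮.deg U hU))}
  {p' : P' ⟶ Y'}
  {chart' : ∀ (U' : Y'.Opens) (hU' : IsAffineOpen U'),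
    (((p' ⁻¹ᵁ U' : P'.Opens) : Scheme.{u}) ≅ Proj (𝒮'.deg U' hU'))}

/-- the affine-local square: `Proj 𝒮'(U') ⟶ Proj 𝒮(U)` is the base change of
`Spec O(U') ⟶ Spec O(U)`. -/
theorem isPullback_affine (U : Y.Opens) (hU : IsAffineOpen U) (U' : Y'.Opens)
    (hU' : IsAffineOpen U') (hle : U' ≤ ψ ⁻¹ᵁ U) (φ : 𝒮.deg U hU →+*ᵍ 𝒮'.deg U' hU')
    (hpo : IsPushout (ψ.appLE U U' hle) (𝒮.str.app (op U)) (𝒮'.str.app (op U'))
      (CommRingCat.ofHom φ.toRingHom))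
    (hirr : (𝒮'.deg U' hU')₊ ≤ ((𝒮.deg U hU)₊).map φ) :
    IsPullback (Proj.map φ hirr)
      (Proj.toSpecZero (𝒮'.deg U' hU') ≫ Spec.map (𝒮'.strZero U' hU'))
      (Proj.toSpecZero (𝒮.deg U hU) ≫ Spec.map (𝒮.strZero U hU))
      (Spec.map (ψ.appLE U U' hle)) :=
  AwayBC.isPullback_proj (𝒮.deg U hU) (𝒮'.deg U' hU') (ψ.appLE U U' hle).hom
    (𝒮.str.app (op U)).hom (𝒮.str_mem U hU) (𝒮'.str.app (op U')).hom (𝒮'.str_mem U' hU') φ hpo hirr

/-- **relative `Proj` commutes with base change**, from chartwise data. -/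
theorem isPullback_of_charts (hP : RelProj.IsRelProj 𝒮 p chart)
    (hP' : RelProj.IsRelProj 𝒮' p' chart') (g : P' ⟶ P)
    {J : Type u} (U : J → Y.Opens) (hU : ∀ j, IsAffineOpen (U j)) (U' : J → Y'.Opens)
    (hU' : ∀ j, IsAffineOpen (U' j)) (hle : ∀ j, U' j ≤ ψ ⁻¹ᵁ U j)
    (hcov : ∀ y' : Y', ∃ j, y' ∈ U' j)
    (φ : ∀ j, 𝒮.deg (U j) (hU j) →+*ᵍ 𝒮'.deg (U' j) (hU' j))
    (hpo : ∀ j, IsPushout (ψ.appLE (U j) (U' j) (hle j)) (𝒮.str.app (op (U j)))
      (𝒮'.str.app (op (U' j))) (CommRingCat.ofHom (φ j).toRingHom))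
    (hirr : ∀ j, (𝒮'.deg (U' j) (hU' j))₊ ≤ ((𝒮.deg (U j) (hU j))₊).map (φ j))
    (hg : ∀ j, RelProj.emb p' chart' (U' j) (hU' j) ≫ g =
      Proj.map (φ j) (hirr j) ≫ RelProj.emb p chart (U j) (hU j)) :
    IsPullback g p' p ψ := by
  refine IsPullback.flip ?_
  let 𝒰 : Y'.OpenCover := Scheme.Cover.mkOfCovers J (fun j => Spec Γ(Y', U' j))
    (fun j => (hU' j).fromSpec) (fun y' => by
      obtain ⟨j, hj⟩ := hcov y'
      have h1 : y' ∈ (hU' j).fromSpec.opensRange := by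
        rw [(hU' j).opensRange_fromSpec]
        exact hj
      obtain ⟨z, hz⟩ := h1
      exact ⟨j, z, hz⟩)
  apply Scheme.isPullback_of_openCover (𝒰 := 𝒰)
  intro j
  have sq1 := isPullback_affine ψ (U j) (hU j) (U' j) (hU' j) (hle j) (φ j) (hpo j) (hirr j)
  have sq2 := isPullback_emb_fromSpec hP (U j) (hU j)
  have sq3 := sq1.paste_horiz sq2
  have sq4 := isPullback_emb_fromSpec hP' (U' j) (hU' j)
  refine IsPullback.of_iso sq3.flip sq4.isoPullback (Iso.refl _) (Iso.refl _) (Iso.refl _)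
    ?_ ?_ ?_ ?_
  · refine Eq.trans (Category.comp_id _) ?_
    exact sq4.isoPullback_hom_snd.symm
  · refine Eq.trans (Category.comp_id _) ?_
    show _ = sq4.isoPullback.hom ≫ pullback.fst _ _ ≫ g
    rw [sq4.isoPullback_hom_fst_assoc, hg j]
  · refine Eq.trans (Category.comp_id _) (Eq.trans ?_ (Category.id_comp _).symm)
    exact IsAffineOpen.SpecMap_appLE_fromSpec ψ (hU j) (hU' j) (hle j)
  · exact Eq.trans (Category.comp_id _) (Category.id_comp _).symm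

end glue

end Groth.Agent.Lib.Helper42.RelProjBC
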