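import Groth.Agent.Lib.Helper42.ProjClosed

/-!
# Morphisms of relative homogeneous spectra induced by graded homomorphisms (helper42)

Properties local on the target of the morphism `Proj(ℬ) ⟶ Proj(𝒜)` induced chartwise by a graded
homomorphism `φ : 𝒜 → ℬ` (frozen `RelProj.IsRelProjMap`) can be checked on the charts.
-/

set_option autoImplicit false

universe u

namespace Groth.Agent.Lib.Helper42.RelProjMap

open CategoryTheory CategoryTheory.Limits AlgebraicGeometry TopologicalSpace Opposite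
open HomogeneousLocalization

variable {Y : Scheme.{u}} {𝒜 ℬ : RelProj.QCGrAlg Y} (φ : 𝒜.toQCAlg ⟶ ℬ.toQCAlg)
  (hφ : RelProj.IsGradedHom φ)
  (hirr : ∀ (U : Y.Opens) (hU : IsAffineOpen U),
    HomogeneousIdeal.irrelevant (ℬ.deg U hU) ≤
      (HomogeneousIdeal.irrelevant (𝒜.deg U hU)).map (RelProj.gradedHomAt φ hφ U hU))
  {PA PB : Scheme.{u}} {pA : PA ⟶ Y} {pB : PB ⟶ Y}
  {chartA : ∀ (U : Y.Opens) (hU : IsAffineOpen U),
    ((pA ⁻¹ᵁ U : PA.Opens) : Scheme.{u}) ≅ Proj (𝒜.deg U hU)}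
  {chartB : ∀ (U : Y.Opens) (hU : IsAffineOpen U),
    ((pB ⁻¹ᵁ U : PB.Opens) : Scheme.{u}) ≅ Proj (ℬ.deg U hU)}
  {h : PB ⟶ PA}

/-- the chart equations of `IsRelProjMap` in terms of the chart immersions. -/
theorem emb_comp_map (hh : RelProj.IsRelProjMap φ hφ hirr chartA chartB h)
    (U : Y.Opens) (hU : IsAffineOpen U) :
    RelProj.emb pB chartB U hU ≫ h =
      Proj.map (RelProj.gradedHomAt φ hφ U hU) (hirr U hU) ≫ RelProj.emb pA chartA U hU := by
  unfold RelProj.emb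
  rw [Category.assoc, hh U hU, Iso.inv_hom_id_assoc]

theorem emb_covers {𝒮 : RelProj.QCGrAlg Y} {P : Scheme.{u}} {p : P ⟶ Y}
    {chart : ∀ (U : Y.Opens) (hU : IsAffineOpen U),
      ((p ⁻¹ᵁ U : P.Opens) : Scheme.{u}) ≅ Proj (𝒮.deg U hU)} (x : P) :
    ∃ U : {U : Y.Opens // IsAffineOpen U}, x ∈ Set.range (RelProj.emb p chart U.1 U.2).base := by
  obtain ⟨_, ⟨V, hV, rfl⟩, hxV, -⟩ := (Y.isBasis_affineOpens).exists_subset_of_mem_open
    (Set.mem_univ (p.base x)) isOpen_univ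
  refine ⟨⟨V, hV⟩, ?_⟩
  rw [ProjQ.range_emb]
  exact hxV

/-- a morphism induced chartwise by a graded homomorphism lies over the base. -/
theorem comp_eq (hPA : RelProj.IsRelProj 𝒜 pA chartA) (hPB : RelProj.IsRelProj ℬ pB chartB)
    (hh : RelProj.IsRelProjMap φ hφ hirr chartA chartB h) : h ≫ pA = pB := by
  refine LocalGlue.hom_ext_of_family (J := {U : Y.Opens // IsAffineOpen U})
    (fun U => Proj (ℬ.deg U.1 U.2)) (fun U => RelProj.emb pB chartB U.1 U.2) emb_covers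
    (fun U => ?_)
  obtain ⟨U, hU⟩ := U
  dsimp only
  rw [← Category.assoc, emb_comp_map φ hφ hirr hh U hU, Category.assoc,
    ProjQ.emb_comp hPA U hU, ProjQ.emb_comp hPB U hU]
  have hs : ∀ r : Γ(Y, U), RelProj.gradedHomAt φ hφ U hU
      ((((𝒜.strZero U hU).hom r : 𝒜.deg U hU 0)) : 𝒜.presheaf.obj (op U)) =
      ((((ℬ.strZero U hU).hom ((RingHom.id Γ(Y, U)) r) : ℬ.deg U hU 0)) :
        ℬ.presheaf.obj (op U)) := by
    intro r
    exact congrArg (fun ψ => (ψ.app (op U)).hom r) φ.comm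
  have h1 : Proj.map (RelProj.gradedHomAt φ hφ U hU) (hirr U hU) ≫
      Proj.toSpecZero (𝒜.deg U hU) ≫ Spec.map (𝒜.strZero U hU) =
      Proj.toSpecZero (ℬ.deg U hU) ≫ Spec.map (ℬ.strZero U hU) ≫
        Spec.map (CommRingCat.ofHom (RingHom.id Γ(Y, U))) :=
    ProjLoc.map_toSpecZero (RelProj.gradedHomAt φ hφ U hU) (hirr U hU) (𝒜.strZero U hU).hom
      (ℬ.strZero U hU).hom (RingHom.id Γ(Y, U)) hs
  have h2 : Spec.map (ℬ.strZero U hU) ≫ Spec.map (CommRingCat.ofHom (RingHom.id Γ(Y, U))) =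
      Spec.map (ℬ.strZero U hU) := by
    have e : Spec.map (CommRingCat.ofHom (RingHom.id Γ(Y, U))) = 𝟙 (Spec Γ(Y, U)) :=
      Spec.map_id _
    exact (congrArg (fun m => Spec.map (ℬ.strZero U hU) ≫ m) e).trans (Category.comp_id _)
  have h3 : Proj.map (RelProj.gradedHomAt φ hφ U hU) (hirr U hU) ≫
      Proj.toSpecZero (𝒜.deg U hU) ≫ Spec.map (𝒜.strZero U hU) =
      Proj.toSpecZero (ℬ.deg U hU) ≫ Spec.map (ℬ.strZero U hU) :=
    h1.trans (congrArg (fun m => Proj.toSpecZero (ℬ.deg U hU) ≫ m) h2)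
  have e1 : Proj.map (RelProj.gradedHomAt φ hφ U hU) (hirr U hU) ≫
      Proj.toSpecZero (𝒜.deg U hU) ≫ Spec.map (𝒜.strZero U hU) ≫ hU.fromSpec =
      (Proj.map (RelProj.gradedHomAt φ hφ U hU) (hirr U hU) ≫
      Proj.toSpecZero (𝒜.deg U hU) ≫ Spec.map (𝒜.strZero U hU)) ≫ hU.fromSpec := by
    simp only [Category.assoc]
  have e2 : (Proj.toSpecZero (ℬ.deg U hU) ≫ Spec.map (ℬ.strZero U hU)) ≫ hU.fromSpec =
      Proj.toSpecZero (ℬ.deg U hU) ≫ Spec.map (ℬ.strZero U hU) ≫ hU.fromSpec :=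
    Category.assoc _ _ _
  exact e1.trans ((congrArg (fun m => m ≫ hU.fromSpec) h3).trans e2)

/-- the chart square of a morphism induced by a graded homomorphism is a pullback. -/
theorem isPullback_emb (hPA : RelProj.IsRelProj 𝒜 pA chartA) (hPB : RelProj.IsRelProj ℬ pB chartB)
    (hh : RelProj.IsRelProjMap φ hφ hirr chartA chartB h) (U : Y.Opens) (hU : IsAffineOpen U) :
    IsPullback (RelProj.emb pB chartB U hU)
      (Proj.map (RelProj.gradedHomAt φ hφ U hU) (hirr U hU)) h (RelProj.emb pA chartA U hU) := by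
  refine (IsOpenImmersion.isPullback _ (RelProj.emb pB chartB U hU) (RelProj.emb pA chartA U hU) h
    (emb_comp_map φ hφ hirr hh U hU) ?_).flip
  ext x
  have hc := comp_eq φ hφ hirr hPA hPB hh
  have h1 : x ∈ h ⁻¹ᵁ (RelProj.emb pA chartA U hU).opensRange ↔ pA.base (h.base x) ∈ U := by
    change h.base x ∈ Set.range (RelProj.emb pA chartA U hU).base ↔ _
    rw [ProjQ.range_emb]
    exact Iff.rfl
  have h2 : pA.base (h.base x) = pB.base x := congrArg (fun ψ => ψ.base x) hc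
  have h3 : x ∈ (RelProj.emb pB chartB U hU).opensRange ↔ pB.base x ∈ U := by
    change x ∈ Set.range (RelProj.emb pB chartB U hU).base ↔ _
    rw [ProjQ.range_emb]
    exact Iff.rfl
  change x ∈ h ⁻¹ᵁ (RelProj.emb pA chartA U hU).opensRange ↔
    x ∈ (RelProj.emb pB chartB U hU).opensRange
  rw [h1, h2, h3]

/-- a property local on the target holds for a morphism induced by a graded homomorphism when it
holds on the charts. -/
theorem of_charts {Q : MorphismProperty Scheme.{u}} [IsZariskiLocalAtTarget Q]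
    (hPA : RelProj.IsRelProj 𝒜 pA chartA) (hPB : RelProj.IsRelProj ℬ pB chartB)
    (hh : RelProj.IsRelProjMap φ hφ hirr chartA chartB h)
    (hw : ∀ (U : Y.Opens) (hU : IsAffineOpen U),
      Q (Proj.map (RelProj.gradedHomAt φ hφ U hU) (hirr U hU))) : Q h :=
  LocalGlue.of_family_isPullback (Q := Q) h (J := {U : Y.Opens // IsAffineOpen U})
    (fun U => Proj (𝒜.deg U.1 U.2)) (fun U => RelProj.emb pA chartA U.1 U.2) emb_covers
    (fun U => Proj (ℬ.deg U.1 U.2)) (fun U => RelProj.emb pB chartB U.1 U.2)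
    (fun U => Proj.map (RelProj.gradedHomAt φ hφ U.1 U.2) (hirr U.1 U.2))
    (fun U => isPullback_emb φ hφ hirr hPA hPB hh U.1 U.2) (fun U => hw U.1 U.2)

end Groth.Agent.Lib.Helper42.RelProjMap
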