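import Groth.Agent.Lib.Helper42.ProjLoc
import Groth.Prelude.Def_GrTwist

/-!
# The canonical map of twisting sheaves along a localization at an element of degree zero (helper42)

* `locMap_comp_val`, `locMap_id_val`: functoriality of the frozen `GrTwist.comap`, valuewise.
* For `ψ : 𝒜 → ℬ` a localization at `c ∈ 𝒜 0` (in the form of `ProjLoc`): `locMap_injective`,
  `comapApp_bijective`: `GrTwist.comapApp` is bijective on sections over the opens contained in the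
  image of `Proj ℬ`.
-/

set_option autoImplicit false
set_option linter.unusedSectionVars false
set_option linter.unusedVariables false

universe u

namespace Groth.Agent.Lib.Helper42.TwistLoc

open CategoryTheory AlgebraicGeometry TopologicalSpace Opposite
open scoped HomogeneousIdeal

variable {A B σ τ : Type u} [CommRing A] [SetLike σ A] [AddSubgroupClass σ A] {𝒜 : ℕ → σ}
  [GradedRing 𝒜] [CommRing B] [SetLike τ B] [AddSubgroupClass τ B] {ℬ : ℕ → τ} [GradedRing ℬ]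
  (ψ : 𝒜 →+*ᵍ ℬ) (hirr : ℬ₊ ≤ (𝒜₊).map ψ)

theorem mk_congr (x : ProjectiveSpectrum 𝒜) {a a' : A}
    {s s' : x.asHomogeneousIdeal.toIdeal.primeCompl} (ha : a = a') (hs : (s : A) = s') :
    (Localization.mk a s : GrTwist.Loc 𝒜 x) = Localization.mk a' s' := by
  subst ha
  have : s = s' := Subtype.ext hs
  rw [this]

section functoriality

variable {C ρ : Type u} [CommRing C] [SetLike ρ C] [AddSubgroupClass ρ C] {𝒞 : ℕ → ρ}
  [GradedRing 𝒞] (ψ' : ℬ →+*ᵍ 𝒞) (hirr' : 𝒞₊ ≤ (ℬ₊).map ψ')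
  (ψ'' : 𝒜 →+*ᵍ 𝒞) (hirr'' : 𝒞₊ ≤ (𝒜₊).map ψ'')

theorem comap_comp_pt (hcomp : ∀ a, ψ'' a = ψ' (ψ a)) (z : ProjectiveSpectrum 𝒞) :
    ProjectiveSpectrum.comap ψ'' hirr'' z =
      ProjectiveSpectrum.comap ψ hirr (ProjectiveSpectrum.comap ψ' hirr' z) := by
  apply ProjectiveSpectrum.ext
  apply HomogeneousIdeal.ext
  ext a
  change ψ'' a ∈ z.asHomogeneousIdeal ↔ ψ' (ψ a) ∈ z.asHomogeneousIdeal
  rw [hcomp]

/-- functoriality of the canonical map of twisting sheaves, valuewise. -/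
theorem locMap_comp_val (hcomp : ∀ a, ψ'' a = ψ' (ψ a)) (n : ℤ)
    (O : Opens (ProjectiveSpectrum.top 𝒜)) (s : GrTwist.sectN (𝒜 := 𝒜) n (op O))
    (z : ProjectiveSpectrum 𝒞) (h1 : ProjectiveSpectrum.comap ψ'' hirr'' z ∈ O)
    (h2 : ProjectiveSpectrum.comap ψ hirr (ProjectiveSpectrum.comap ψ' hirr' z) ∈ O) :
    GrTwist.locMap ψ'' hirr'' z (s.1 ⟨_, h1⟩).1 =
      GrTwist.locMap ψ' hirr' z (GrTwist.locMap ψ hirr _ (s.1 ⟨_, h2⟩).1) := by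
  have hpt := comap_comp_pt ψ hirr ψ' hirr' ψ'' hirr'' hcomp z
  obtain ⟨V', hxV', iV'O, i, j, a, f, hnin, hdeg, hfrac⟩ := s.2 ⟨_, h1⟩
  have hxV'2 : ProjectiveSpectrum.comap ψ hirr (ProjectiveSpectrum.comap ψ' hirr' z) ∈ V' :=
    hpt ▸ hxV'
  have e1 : (s.1 ⟨_, h1⟩).1 = Localization.mk (a : A) ⟨f, hnin ⟨_, hxV'⟩⟩ := hfrac ⟨_, hxV'⟩
  have e2 : (s.1 ⟨_, h2⟩).1 = Localization.mk (a : A) ⟨f, hnin ⟨_, hxV'2⟩⟩ := hfrac ⟨_, hxV'2⟩
  rw [e1, e2, GrTwist.locMap_mk, GrTwist.locMap_mk, GrTwist.locMap_mk]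
  exact mk_congr z (hcomp _) (hcomp _)

theorem comap_id_pt (χ : 𝒜 →+*ᵍ 𝒜) (hχ : 𝒜₊ ≤ (𝒜₊).map χ) (hid : ∀ a, χ a = a)
    (z : ProjectiveSpectrum 𝒜) : ProjectiveSpectrum.comap χ hχ z = z := by
  apply ProjectiveSpectrum.ext
  apply HomogeneousIdeal.ext
  ext a
  change χ a ∈ z.asHomogeneousIdeal ↔ a ∈ z.asHomogeneousIdeal
  rw [hid]

/-- the canonical map of twisting sheaves along the identity, valuewise. -/
theorem locMap_id_val (χ : 𝒜 →+*ᵍ 𝒜) (hχ : 𝒜₊ ≤ (𝒜₊).map χ) (hid : ∀ a, χ a = a) (n : ℤ)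
    (O : Opens (ProjectiveSpectrum.top 𝒜)) (s : GrTwist.sectN (𝒜 := 𝒜) n (op O))
    (z : ProjectiveSpectrum 𝒜) (h1 : ProjectiveSpectrum.comap χ hχ z ∈ O) (h2 : z ∈ O) :
    GrTwist.locMap χ hχ z (s.1 ⟨_, h1⟩).1 = (s.1 ⟨z, h2⟩).1 := by
  have hpt := comap_id_pt χ hχ hid z
  obtain ⟨V', hxV', iV'O, i, j, a, f, hnin, hdeg, hfrac⟩ := s.2 ⟨_, h1⟩
  have hxV'2 : z ∈ V' := hpt ▸ hxV'
  have e1 : (s.1 ⟨_, h1⟩).1 = Localization.mk (a : A) ⟨f, hnin ⟨_, hxV'⟩⟩ := hfrac ⟨_, hxV'⟩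
  have e2 : (s.1 ⟨z, h2⟩).1 = Localization.mk (a : A) ⟨f, hnin ⟨_, hxV'2⟩⟩ := hfrac ⟨_, hxV'2⟩
  rw [e1, e2, GrTwist.locMap_mk]
  exact mk_congr z (hid _) (hid _)

end functoriality

section loc

variable {c : A} (hc : c ∈ 𝒜 0) (hunit : IsUnit (ψ c))
  (hsurj : ∀ b : B, ∃ (a : A) (m : ℕ), b * ψ c ^ m = ψ a)
  (hker : ∀ a : A, ψ a = 0 → ∃ m : ℕ, c ^ m * a = 0)

include hc hsurj in
/-- homogeneous elements lift to homogeneous elements, up to a power of `c`. -/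
theorem exists_lift {i : ℕ} {b : B} (hb : b ∈ ℬ i) :
    ∃ (a : A) (_ : a ∈ 𝒜 i) (M : ℕ), ψ a = b * ψ c ^ M := by
  classical
  obtain ⟨a₀, m, h⟩ := hsurj b
  have hψc : ψ c ∈ ℬ 0 := GradedFunLike.map_mem ψ hc
  have hbm : b * ψ c ^ m ∈ ℬ i := by
    have h1 : ψ c ^ m ∈ ℬ (m • 0) := SetLike.pow_mem_graded m hψc
    have h2 := SetLike.mul_mem_graded hb h1
    simpa using h2
  refine ⟨(DirectSum.decompose 𝒜 a₀ i : 𝒜 i), SetLike.coe_mem _, m, ?_⟩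
  rw [GradedRingHom.map_directSumDecompose, ← h, DirectSum.decompose_of_mem_same _ hbm]

include hc hsurj in
/-- two homogeneous elements lift with a common power of `c`. -/
theorem exists_lift₂ {i j : ℕ} {b g : B} (hb : b ∈ ℬ i) (hg : g ∈ ℬ j) :
    ∃ (a : A) (_ : a ∈ 𝒜 i) (f : A) (_ : f ∈ 𝒜 j) (M : ℕ),
      ψ a = b * ψ c ^ M ∧ ψ f = g * ψ c ^ M := by
  obtain ⟨a, ha, M₁, h1⟩ := exists_lift ψ hc hsurj hb
  obtain ⟨f, hf, M₂, h2⟩ := exists_lift ψ hc hsurj hg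
  have hcp : ∀ k : ℕ, c ^ k ∈ 𝒜 0 := fun k => by
    have h := SetLike.pow_mem_graded k hc
    simpa using h
  refine ⟨a * c ^ M₂, ?_, f * c ^ M₁, ?_, M₁ + M₂, ?_, ?_⟩
  · have h := SetLike.mul_mem_graded ha (hcp M₂)
    simpa using h
  · have h := SetLike.mul_mem_graded hf (hcp M₁)
    simpa using h
  · rw [map_mul, map_pow, h1, pow_add, mul_assoc]
  · rw [map_mul, map_pow, h2, pow_add, mul_assoc, mul_comm (ψ c ^ M₁)]

include hunit in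
theorem psi_c_notMem (y : ProjectiveSpectrum ℬ) : ψ c ∉ y.asHomogeneousIdeal := fun h =>
  y.isPrime.ne_top (Ideal.eq_top_of_isUnit_mem _ h hunit)

include hunit in
theorem mul_pow_notMem (y : ProjectiveSpectrum ℬ) {g : B} (hg : g ∉ y.asHomogeneousIdeal)
    (M : ℕ) : g * ψ c ^ M ∉ y.asHomogeneousIdeal := fun h =>
  (y.isPrime.mem_or_mem h).elim hg
    (fun h' => psi_c_notMem ψ hunit y (y.isPrime.mem_of_pow_mem M h'))

include hunit hsurj hker in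
/-- the maps of localizations are injective. -/
theorem locMap_injective (y : ProjectiveSpectrum ℬ) :
    Function.Injective (GrTwist.locMap ψ hirr y) := by
  rw [injective_iff_map_eq_zero]
  intro q
  refine Localization.induction_on q ?_
  rintro ⟨a, s⟩ hq
  rw [GrTwist.locMap_mk, Localization.mk_eq_mk', IsLocalization.mk'_eq_zero_iff] at hq
  obtain ⟨⟨t, ht⟩, hta⟩ := hq
  change t * ψ a = 0 at hta
  obtain ⟨t', m, htm⟩ := hsurj t
  have h0 : ψ (t' * a) = 0 := by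
    rw [map_mul, ← htm, mul_right_comm, hta, zero_mul]
  obtain ⟨l, hl⟩ := hker _ h0
  have hnot : c ^ l * t' ∉ (ProjectiveSpectrum.comap ψ hirr y).asHomogeneousIdeal := by
    change ψ (c ^ l * t') ∉ y.asHomogeneousIdeal
    rw [map_mul, map_pow, ← htm, mul_comm]
    intro h
    rcases y.isPrime.mem_or_mem h with h' | h'
    · exact mul_pow_notMem ψ hunit y ht m h'
    · exact psi_c_notMem ψ hunit y (y.isPrime.mem_of_pow_mem l h')
  rw [Localization.mk_eq_mk', IsLocalization.mk'_eq_zero_iff]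
  exact ⟨⟨c ^ l * t', hnot⟩, by rw [← hl]; ring⟩

include hunit hsurj in
/-- `Proj ℬ → Proj 𝒜` is injective on points. -/
theorem comap_pt_injective {y₁ y₂ : ProjectiveSpectrum ℬ}
    (h : ProjectiveSpectrum.comap ψ hirr y₁ = ProjectiveSpectrum.comap ψ hirr y₂) : y₁ = y₂ := by
  have key : ∀ y y' : ProjectiveSpectrum ℬ,
      ProjectiveSpectrum.comap ψ hirr y = ProjectiveSpectrum.comap ψ hirr y' →
      ∀ b, b ∈ y.asHomogeneousIdeal → b ∈ y'.asHomogeneousIdeal := by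
    intro y y' hyy' b hb
    obtain ⟨a, m, ham⟩ := hsurj b
    have h1 : a ∈ (ProjectiveSpectrum.comap ψ hirr y).asHomogeneousIdeal := by
      change ψ a ∈ y.asHomogeneousIdeal
      rw [← ham]
      exact Ideal.mul_mem_right _ _ hb
    rw [hyy'] at h1
    have h2 : ψ a ∈ y'.asHomogeneousIdeal := h1
    rw [← ham] at h2
    rcases y'.isPrime.mem_or_mem h2 with h3 | h3
    · exact h3
    · exact absurd (y'.isPrime.mem_of_pow_mem m h3) (psi_c_notMem ψ hunit y')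
  apply ProjectiveSpectrum.ext
  apply HomogeneousIdeal.ext
  ext b
  exact ⟨key y₁ y₂ h b, key y₂ y₁ h.symm b⟩

section sections

variable (n : ℤ) (O : Opens (ProjectiveSpectrum.top 𝒜)) (V : Opens (ProjectiveSpectrum.top ℬ))
  (hUV : V.1 ⊆ ProjectiveSpectrum.comap ψ hirr ⁻¹' O.1)
  (hcov : ∀ x ∈ O, ∃ y ∈ V, ProjectiveSpectrum.comap ψ hirr y = x)

include hunit hsurj hker hcov in
theorem comapApp_injective : Function.Injective (GrTwist.comapApp ψ hirr n O V hUV) := by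
  rw [injective_iff_map_eq_zero]
  intro s hs
  refine Subtype.ext (funext fun x => Subtype.ext ?_)
  obtain ⟨x, hx⟩ := x
  obtain ⟨y, hyV, rfl⟩ := hcov x hx
  have h1 : ((GrTwist.comapApp ψ hirr n O V hUV s).1 ⟨y, hyV⟩).1 = 0 := by
    rw [hs]; rfl
  rw [GrTwist.comapApp_apply_coe] at h1
  exact (map_eq_zero_iff _ (locMap_injective ψ hirr hunit hsurj hker y)).mp h1

include hc hunit hsurj in
/-- a section of `O(n)` on `Proj ℬ` is locally a fraction of images of homogeneous elements. -/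
theorem exists_local_lift (t : GrTwist.sectN (𝒜 := ℬ) n (op V)) (y₀ : V) :
    ∃ (V' : Opens (ProjectiveSpectrum.top ℬ)) (_ : y₀.1 ∈ V') (hV'V : V' ≤ V) (i j : ℕ)
      (a : A) (_ : a ∈ 𝒜 i) (f : A) (_ : f ∈ 𝒜 j)
      (hnin : ∀ y' ∈ V', ψ f ∉ y'.asHomogeneousIdeal),
      ((i : ℤ) = j + n ∨ a = 0) ∧ ∀ (y' : ProjectiveSpectrum ℬ) (hy' : y' ∈ V'),
        (t.1 ⟨y', hV'V hy'⟩).1 = Localization.mk (ψ a) ⟨ψ f, hnin y' hy'⟩ := by
  obtain ⟨V', hy₀, iV', i, j, b, g, hnin, hdeg, hfrac⟩ := t.2 y₀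
  have key : ∃ (a : A) (_ : a ∈ 𝒜 i) (f : A) (_ : f ∈ 𝒜 j) (M : ℕ),
      ψ a = (b : B) * ψ c ^ M ∧ ψ f = (g : B) * ψ c ^ M ∧ ((i : ℤ) = j + n ∨ a = 0) := by
    rcases hdeg with hij | hb0
    · obtain ⟨a, ha, f, hf, M, h1, h2⟩ := exists_lift₂ ψ hc hsurj b.2 g.2
      exact ⟨a, ha, f, hf, M, h1, h2, Or.inl hij⟩
    · obtain ⟨f, hf, M, h2⟩ := exists_lift ψ hc hsurj g.2
      exact ⟨0, zero_mem _, f, hf, M, by rw [map_zero, hb0, zero_mul], h2, Or.inr rfl⟩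
  obtain ⟨a, ha, f, hf, M, h1, h2, hdeg'⟩ := key
  have hnin' : ∀ y' ∈ V', ψ f ∉ y'.asHomogeneousIdeal := fun y' hy' => by
    rw [h2]
    exact mul_pow_notMem ψ hunit y' (hnin ⟨y', hy'⟩) M
  refine ⟨V', hy₀, leOfHom iV', i, j, a, ha, f, hf, hnin', hdeg', fun y' hy' => ?_⟩
  have e1 : (t.1 ⟨y', leOfHom iV' hy'⟩).1 = Localization.mk (b : B) ⟨g, hnin ⟨y', hy'⟩⟩ :=
    hfrac ⟨y', hy'⟩
  rw [e1, Localization.mk_eq_mk_iff, Localization.r_iff_exists]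
  refine ⟨1, ?_⟩
  simp only [OneMemClass.coe_one, one_mul]
  rw [h1, h2]
  ring

include hc hunit hsurj hker hcov in
theorem comapApp_surjective (hopen : IsOpenMap (ProjectiveSpectrum.comap ψ hirr)) :
    Function.Surjective (GrTwist.comapApp ψ hirr n O V hUV) := by
  intro t
  -- pointwise lifts
  have hpt : ∀ x : O, ∃ q : GrTwist.twistAt 𝒜 n x.1, ∀ (y : V),
      ProjectiveSpectrum.comap ψ hirr y.1 = x.1 →
      ∃ (a f : A) (hf : f ∉ x.1.asHomogeneousIdeal) (hf' : ψ f ∉ y.1.asHomogeneousIdeal),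
        (q : GrTwist.Loc 𝒜 x.1) = Localization.mk a ⟨f, hf⟩ ∧
          (t.1 y).1 = Localization.mk (ψ a) ⟨ψ f, hf'⟩ := by
    rintro ⟨x, hx⟩
    obtain ⟨y, hyV, rfl⟩ := hcov x hx
    obtain ⟨V', hy₀, hV'V, i, j, a, ha, f, hf, hnin, hdeg, hfrac⟩ :=
      exists_local_lift ψ hc hunit hsurj n V t ⟨y, hyV⟩
    have hfx : f ∉ (ProjectiveSpectrum.comap ψ hirr y).asHomogeneousIdeal := hnin y hy₀
    have hmem : (Localization.mk a ⟨f, hfx⟩ :
        GrTwist.Loc 𝒜 (ProjectiveSpectrum.comap ψ hirr y)) ∈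
        GrTwist.twistAt 𝒜 n (ProjectiveSpectrum.comap ψ hirr y) := by
      rcases hdeg with hij | ha0
      · exact Submodule.subset_span ⟨i, j, ⟨a, ha⟩, ⟨f, hf⟩, hfx, hij, rfl⟩
      · rw [ha0, Localization.mk_zero]
        exact zero_mem _
    refine ⟨⟨_, hmem⟩, ?_⟩
    rintro ⟨y', hy'V⟩ hy'
    obtain rfl : y' = y := comap_pt_injective ψ hirr hunit hsurj hy'
    exact ⟨a, f, hfx, hnin y' hy₀, rfl, hfrac y' hy₀⟩
  choose s hs using hpt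
  have hloc : (GrTwist.isLocFracN 𝒜 n).pred s := by
    rintro ⟨x₀, hx₀⟩
    obtain ⟨y₀, hy₀V, rfl⟩ := hcov x₀ hx₀
    obtain ⟨V', hy₀, hV'V, i, j, a, ha, f, hf, hnin, hdeg, hfrac⟩ :=
      exists_local_lift ψ hc hunit hsurj n V t ⟨y₀, hy₀V⟩
    let O' : Opens (ProjectiveSpectrum.top 𝒜) :=
      ⟨ProjectiveSpectrum.comap ψ hirr '' V'.1, hopen _ V'.2⟩ ⊓ O
    have hnin' : ∀ x : O', f ∉ x.1.asHomogeneousIdeal := by
      rintro ⟨x, ⟨y', hy', rfl⟩, hxO⟩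
      exact hnin y' hy'
    refine ⟨O', ⟨⟨y₀, hy₀, rfl⟩, hx₀⟩, homOfLE inf_le_right, i, j, ⟨a, ha⟩, ⟨f, hf⟩, hnin',
      hdeg, ?_⟩
    rintro ⟨x, ⟨y', hy', rfl⟩, hxO⟩
    obtain ⟨a₁, f₁, hf₁, hf₁', hq, ht⟩ := hs ⟨_, hxO⟩ ⟨y', hV'V hy'⟩ rfl
    change (s ⟨_, hxO⟩).1 = Localization.mk a ⟨f, _⟩
    rw [hq]
    apply locMap_injective ψ hirr hunit hsurj hker y'
    rw [GrTwist.locMap_mk, GrTwist.locMap_mk]
    exact ht.symm.trans (hfrac y' hy')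
  refine ⟨⟨s, hloc⟩, ?_⟩
  refine Subtype.ext (funext fun y₀ => Subtype.ext ?_)
  rw [GrTwist.comapApp_apply_coe]
  obtain ⟨a, f, hf, hf', hq, ht⟩ := hs ⟨_, hUV y₀.2⟩ y₀ rfl
  change GrTwist.locMap ψ hirr y₀.1 (s ⟨_, hUV y₀.2⟩).1 = _
  rw [hq, GrTwist.locMap_mk, ht]

end sections

end loc

end Groth.Agent.Lib.Helper42.TwistLoc
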