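import Groth.Agent.Lib.Helper42.GlueMod
import Groth.Agent.Lib.Helper42.TwistLoc
import Groth.Agent.Lib.Helper42.RelProjExists
import Groth.Prelude.Def_RelProj2

/-!
# Existence of the twisting sheaves `O_P(n)` on a relative homogeneous spectrum (helper42)

The direct images of the twisting sheaves `O(n)` of the `Proj 𝒮(U)` along the chart immersions
form a diagram of modules on `P` indexed by the affine opens of the base; its limit is `O_P(n)`.
-/

set_option autoImplicit false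
set_option linter.unusedSectionVars false
set_option linter.unusedVariables false

universe u

namespace Groth.Agent.Lib.Helper42.RelTwistExists

open CategoryTheory CategoryTheory.Limits AlgebraicGeometry TopologicalSpace Opposite
open scoped HomogeneousIdeal

variable {Y P : Scheme.{u}} (𝒮 : RelProj.QCGrAlg Y) (p : P ⟶ Y)
  (chart : ∀ (U : Y.Opens) (hU : IsAffineOpen U),
    (((p ⁻¹ᵁ U : P.Opens) : Scheme.{u}) ≅ Proj (𝒮.deg U hU)))
  (hP : RelProj.IsRelProj 𝒮 p chart) (n : ℤ)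

/-- the chart immersions, indexed by the affine Zariski site. -/
noncomputable def e (i : Y.AffineZariskiSite) : Proj (𝒮.deg i.1 i.2) ⟶ P :=
  RelProj.emb p chart i.1 i.2

instance (i : Y.AffineZariskiSite) : IsOpenImmersion (e 𝒮 p chart i) := by
  unfold e; infer_instance

/-- the restriction homomorphisms. -/
noncomputable def rho {i j : Y.AffineZariskiSite} (h : j ≤ i) :
    𝒮.deg i.1 i.2 →+*ᵍ 𝒮.deg j.1 j.2 :=
  RelProjExists.resHom 𝒮 (homOfLE h)

theorem rho_irr {i j : Y.AffineZariskiSite} (h : j ≤ i) :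
    (𝒮.deg j.1 j.2)₊ ≤ ((𝒮.deg i.1 i.2)₊).map (rho 𝒮 h) :=
  RelProjExists.irr_le 𝒮 (homOfLE h)

/-- the transition morphisms. -/
noncomputable def m {i j : Y.AffineZariskiSite} (h : j ≤ i) :
    Proj (𝒮.deg j.1 j.2) ⟶ Proj (𝒮.deg i.1 i.2) :=
  Proj.map (rho 𝒮 h) (rho_irr 𝒮 h)

include hP in
theorem m_e {i j : Y.AffineZariskiSite} (h : j ≤ i) :
    m 𝒮 h ≫ e 𝒮 p chart i = e 𝒮 p chart j := by
  obtain ⟨V, hV⟩ := j
  obtain ⟨r, hr⟩ := h
  change Y.basicOpen r = V at hr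
  subst hr
  exact RelProj.map_res_emb hP i.1 i.2 r

/-- the twisting sheaves on the charts. -/
noncomputable abbrev N (i : Y.AffineZariskiSite) : (Proj (𝒮.deg i.1 i.2)).Modules :=
  GrTwist.twist (𝒮.deg i.1 i.2) n

/-- the transition maps of the direct images of the twisting sheaves. -/
noncomputable def Gmap {i j : Y.AffineZariskiSite} (h : j ≤ i) :
    (Scheme.Modules.pushforward (e 𝒮 p chart i)).obj (N 𝒮 n i) ⟶
      (Scheme.Modules.pushforward (e 𝒮 p chart j)).obj (N 𝒮 n j) :=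
  (Scheme.Modules.pushforward (e 𝒮 p chart i)).map (GrTwist.comap (rho 𝒮 h) (rho_irr 𝒮 h) n) ≫
    (Scheme.Modules.pushforwardComp (m 𝒮 h) (e 𝒮 p chart i)).hom.app (N 𝒮 n j) ≫
      (Scheme.Modules.pushforwardCongr (m_e 𝒮 p chart hP h)).hom.app (N 𝒮 n j)

include hP in
theorem preimage_le {i j : Y.AffineZariskiSite} (h : j ≤ i) (W : P.Opens) :
    (e 𝒮 p chart j ⁻¹ᵁ W).1 ⊆
      ProjectiveSpectrum.comap (rho 𝒮 h) (rho_irr 𝒮 h) ⁻¹' (e 𝒮 p chart i ⁻¹ᵁ W).1 := by
  intro y hy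
  have h1 : (e 𝒮 p chart i).base ((m 𝒮 h).base y) = (e 𝒮 p chart j).base y :=
    congrArg (fun φ => φ.base y) (m_e 𝒮 p chart hP h)
  change (e 𝒮 p chart i).base ((m 𝒮 h).base y) ∈ W
  rw [h1]
  exact hy

/-- the transition maps on sections are the canonical maps of twisting sheaves.  (A definition
rather than a theorem on purpose: collecting the constants of this statement, which is done for
every theorem when the compiled module is written, takes minutes.) -/
def Gmap_app {i j : Y.AffineZariskiSite} (h : j ≤ i) (W : P.Opens) :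
    ((Gmap 𝒮 p chart hP n h).app W).hom =
      GrTwist.comapApp (rho 𝒮 h) (rho_irr 𝒮 h) n (e 𝒮 p chart i ⁻¹ᵁ W) (e 𝒮 p chart j ⁻¹ᵁ W)
        (preimage_le 𝒮 p chart hP h W) := by
  rfl

theorem rho_refl (i : Y.AffineZariskiSite) (a : 𝒮.presheaf.obj (op i.1)) :
    rho 𝒮 (le_refl i) a = a := by
  change (𝒮.presheaf.map (homOfLE _).op).hom a = a
  have h1 : (homOfLE (Scheme.AffineZariskiSite.toOpens_mono
      (homOfLE (le_refl i) : i ⟶ i).le)).op = 𝟙 (op i.1) := Subsingleton.elim _ _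
  rw [h1]
  exact congrArg (fun φ => φ.hom a) (𝒮.presheaf.map_id (op i.1))

theorem rho_trans {i j k : Y.AffineZariskiSite} (h : j ≤ i) (h' : k ≤ j)
    (a : 𝒮.presheaf.obj (op i.1)) :
    rho 𝒮 (h'.trans h) a = rho 𝒮 h' (rho 𝒮 h a) := by
  change (𝒮.presheaf.map (homOfLE _).op).hom a =
    (𝒮.presheaf.map (homOfLE _).op).hom ((𝒮.presheaf.map (homOfLE _).op).hom a)
  have h1 : (homOfLE (Scheme.AffineZariskiSite.toOpens_mono
      (homOfLE (h'.trans h) : k ⟶ i).le)).op =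
      (homOfLE (Scheme.AffineZariskiSite.toOpens_mono (homOfLE h : j ⟶ i).le)).op ≫
        (homOfLE (Scheme.AffineZariskiSite.toOpens_mono (homOfLE h' : k ⟶ j).le)).op :=
    Subsingleton.elim _ _
  rw [h1, 𝒮.presheaf.map_comp]
  rfl

theorem Gmap_refl (i : Y.AffineZariskiSite) : Gmap 𝒮 p chart hP n (le_refl i) = 𝟙 _ := by
  refine Scheme.Modules.hom_ext _ _ (fun W => ?_)
  apply AddCommGrpCat.hom_ext
  rw [Gmap_app]
  ext s y
  have key := TwistLoc.locMap_id_val (rho 𝒮 (le_refl i)) (rho_irr 𝒮 (le_refl i)) (rho_refl 𝒮 i) n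
    (e 𝒮 p chart i ⁻¹ᵁ W) s y.1 (preimage_le 𝒮 p chart hP (le_refl i) W y.2) y.2
  exact key

theorem Gmap_trans {i j k : Y.AffineZariskiSite} (h : j ≤ i) (h' : k ≤ j) :
    Gmap 𝒮 p chart hP n h ≫ Gmap 𝒮 p chart hP n h' = Gmap 𝒮 p chart hP n (h'.trans h) := by
  refine Scheme.Modules.hom_ext _ _ (fun W => ?_)
  apply AddCommGrpCat.hom_ext
  rw [Scheme.Modules.Hom.comp_app, AddCommGrpCat.hom_comp, Gmap_app, Gmap_app, Gmap_app]
  ext s
  refine Subtype.ext (funext fun z => Subtype.ext ?_)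
  have key := TwistLoc.locMap_comp_val (rho 𝒮 h) (rho_irr 𝒮 h) (rho 𝒮 h') (rho_irr 𝒮 h')
    (rho 𝒮 (h'.trans h)) (rho_irr 𝒮 (h'.trans h)) (rho_trans 𝒮 h h') n
    (e 𝒮 p chart i ⁻¹ᵁ W) s z.1 (preimage_le 𝒮 p chart hP (h'.trans h) W z.2)
    (preimage_le 𝒮 p chart hP h W (preimage_le 𝒮 p chart hP h' W z.2))
  exact key.symm

/-- the objects of the diagram of the direct images. -/
noncomputable def Gobj (i : (Y.AffineZariskiSite)ᵒᵖ) : P.Modules :=
  (Scheme.Modules.pushforward (e 𝒮 p chart i.unop)).obj (N 𝒮 n i.unop)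

/-- the maps of the diagram of the direct images. -/
noncomputable def GmapF {i j : (Y.AffineZariskiSite)ᵒᵖ} (f : i ⟶ j) :
    Gobj 𝒮 p chart n i ⟶ Gobj 𝒮 p chart n j :=
  Gmap 𝒮 p chart hP n (leOfHom f.unop)

/-- (a definition rather than a theorem on purpose: collecting the constants of this statement,
which is done for every theorem when the compiled module is written, takes minutes.) -/
def GmapF_app {i j : (Y.AffineZariskiSite)ᵒᵖ} (f : i ⟶ j) (W : P.Opens) :
    ((GmapF 𝒮 p chart hP n f).app W).hom =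
      GrTwist.comapApp (rho 𝒮 (leOfHom f.unop)) (rho_irr 𝒮 (leOfHom f.unop)) n
        (e 𝒮 p chart i.unop ⁻¹ᵁ W) (e 𝒮 p chart j.unop ⁻¹ᵁ W)
        (preimage_le 𝒮 p chart hP (leOfHom f.unop) W) := by
  rfl

theorem GmapF_id (i : (Y.AffineZariskiSite)ᵒᵖ) :
    GmapF 𝒮 p chart hP n (𝟙 i) = 𝟙 (Gobj 𝒮 p chart n i) := by
  refine Scheme.Modules.hom_ext _ _ (fun W => ?_)
  apply AddCommGrpCat.hom_ext
  rw [GmapF_app]
  ext s y
  have key := TwistLoc.locMap_id_val (rho 𝒮 (le_refl i.unop)) (rho_irr 𝒮 (le_refl i.unop))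
    (rho_refl 𝒮 i.unop) n (e 𝒮 p chart i.unop ⁻¹ᵁ W) s y.1
    (preimage_le 𝒮 p chart hP (le_refl i.unop) W y.2) y.2
  exact key

theorem GmapF_comp {i j k : (Y.AffineZariskiSite)ᵒᵖ} (f : i ⟶ j) (g : j ⟶ k) :
    GmapF 𝒮 p chart hP n (f ≫ g) =
      GmapF 𝒮 p chart hP n f ≫ GmapF 𝒮 p chart hP n g := by
  refine Scheme.Modules.hom_ext _ _ (fun W => ?_)
  apply AddCommGrpCat.hom_ext
  rw [Scheme.Modules.Hom.comp_app, AddCommGrpCat.hom_comp, GmapF_app, GmapF_app,
    GmapF_app]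
  ext s z
  have key := TwistLoc.locMap_comp_val (rho 𝒮 (leOfHom f.unop)) (rho_irr 𝒮 (leOfHom f.unop))
    (rho 𝒮 (leOfHom g.unop)) (rho_irr 𝒮 (leOfHom g.unop))
    (rho 𝒮 ((leOfHom g.unop).trans (leOfHom f.unop)))
    (rho_irr 𝒮 ((leOfHom g.unop).trans (leOfHom f.unop)))
    (rho_trans 𝒮 (leOfHom f.unop) (leOfHom g.unop)) n
    (e 𝒮 p chart i.unop ⁻¹ᵁ W) s z.1
    (preimage_le 𝒮 p chart hP ((leOfHom g.unop).trans (leOfHom f.unop)) W z.2)
    (preimage_le 𝒮 p chart hP (leOfHom f.unop) W (preimage_le 𝒮 p chart hP (leOfHom g.unop) W z.2))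
  exact key

/-- the diagram of the direct images of the twisting sheaves of the charts. -/
noncomputable def G : (Y.AffineZariskiSite)ᵒᵖ ⥤ P.Modules :=
  CategoryTheory.Functor.mk (Gobj 𝒮 p chart n) (fun {_ _} f => GmapF 𝒮 p chart hP n f)
    (GmapF_id 𝒮 p chart hP n) (fun f g => GmapF_comp 𝒮 p chart hP n f g)

/-- the opens over which the members of the diagram live. -/
def R (i : Y.AffineZariskiSite) : P.Opens := p ⁻¹ᵁ i.1

theorem range_e (i : Y.AffineZariskiSite) :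
    Set.range (e 𝒮 p chart i).base = ((R p i : P.Opens) : Set P) :=
  ProjQ.range_emb (p := p) (chart := chart) i.1 i.2

/-- restriction along an inclusion of equal opens is bijective. -/
theorem bijective_map_of_le {X : Scheme.{u}} (M : X.Modules) {O O' : X.Opens} (f : O' ⟶ O)
    (h : O ≤ O') : Function.Bijective (M.presheaf.map f.op).hom := by
  have e1 : M.presheaf.map f.op ≫ M.presheaf.map (homOfLE h).op = 𝟙 _ := by
    rw [← M.presheaf.map_comp]
    have : f.op ≫ (homOfLE h).op = 𝟙 _ := Subsingleton.elim _ _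
    rw [this, M.presheaf.map_id]
  have e2 : M.presheaf.map (homOfLE h).op ≫ M.presheaf.map f.op = 𝟙 _ := by
    rw [← M.presheaf.map_comp]
    have : (homOfLE h).op ≫ f.op = 𝟙 _ := Subsingleton.elim _ _
    rw [this, M.presheaf.map_id]
  refine ⟨fun a b hab => ?_, fun b => ⟨(M.presheaf.map (homOfLE h).op).hom b, ?_⟩⟩
  · have h1 := congrArg (fun φ => φ.hom a) e1
    have h2 := congrArg (fun φ => φ.hom b) e1
    simp only [AddCommGrpCat.hom_comp, AddMonoidHom.comp_apply, AddCommGrpCat.hom_id,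
      AddMonoidHom.id_apply] at h1 h2
    rw [← h1, ← h2, hab]
  · have h1 := congrArg (fun φ => φ.hom b) e2
    simpa only [AddCommGrpCat.hom_comp, AddMonoidHom.comp_apply, AddCommGrpCat.hom_id,
      AddMonoidHom.id_apply] using h1

include hP in
theorem hyp : GlueMod.Hyp (R p) (G 𝒮 p chart hP n) where
  mono h := p.preimage_mono (Scheme.AffineZariskiSite.toOpens_mono h)
  supp i W := by
    refine bijective_map_of_le (N 𝒮 n i) _ ?_
    intro y hy
    refine ⟨hy, ?_⟩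
    have : (e 𝒮 p chart i).base y ∈ Set.range (e 𝒮 p chart i).base := ⟨y, rfl⟩
    rw [range_e] at this
    exact this
  iso {i j} h W hW := by
    change Function.Bijective ((Gmap 𝒮 p chart hP n _).app W).hom
    rw [Gmap_app]
    have hcov : ∀ x ∈ (e 𝒮 p chart i ⁻¹ᵁ W), ∃ y ∈ (e 𝒮 p chart j ⁻¹ᵁ W),
        ProjectiveSpectrum.comap (rho 𝒮 h) (rho_irr 𝒮 h) y = x := by
      intro x hx
      have h1 : (e 𝒮 p chart i).base x ∈ Set.range (e 𝒮 p chart j).base := by
        rw [range_e]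
        exact hW hx
      obtain ⟨y, hy⟩ := h1
      have h2 : (e 𝒮 p chart i).base ((m 𝒮 h).base y) = (e 𝒮 p chart j).base y :=
        congrArg (fun φ => φ.base y) (m_e 𝒮 p chart hP h)
      refine ⟨y, ?_, ?_⟩
      · change (e 𝒮 p chart j).base y ∈ W
        rw [hy]
        exact hx
      · exact (e 𝒮 p chart i).isOpenEmbedding.injective (h2.trans hy)
    have hoi : IsOpenImmersion (m 𝒮 h) := RelProjExists.isOpenImmersion_map 𝒮 (homOfLE h)
    have hopen : IsOpenMap (ProjectiveSpectrum.comap (rho 𝒮 h) (rho_irr 𝒮 h)) :=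
      (m 𝒮 h).isOpenEmbedding.isOpenMap
    obtain ⟨V, hV⟩ := j
    obtain ⟨r, hr⟩ := id h
    change Y.basicOpen r = V at hr
    subst hr
    obtain ⟨h1, h2, h3⟩ := RelProjExists.res_loc 𝒮 i.1 i.2 r
    exact ⟨TwistLoc.comapApp_injective (rho 𝒮 h) (rho_irr 𝒮 h) h1 h2 h3 n _ _ _ hcov,
      TwistLoc.comapApp_surjective (rho 𝒮 h) (rho_irr 𝒮 h) (𝒮.str_mem i.1 i.2 r) h1 h2 h3 n _ _ _
        hcov hopen⟩
  cover i k x hxi hxk := by
    obtain ⟨r, r', hrr', hx⟩ := exists_basicOpen_le_affine_inter i.2 k.2 (p.base x) ⟨hxi, hxk⟩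
    exact ⟨⟨Y.basicOpen r, i.2.basicOpen r⟩, ⟨r, rfl⟩, ⟨r', hrr'.symm⟩, hx⟩

include hP in
/-- **existence of the twisting sheaves on a relative homogeneous spectrum.** -/
theorem exists_isRelTwist :
    ∃ (L : P.Modules) (lam : ∀ (U : Y.Opens) (hU : IsAffineOpen U),
      L ⟶ (Scheme.Modules.pushforward (RelProj.emb p chart U hU)).obj
        (GrTwist.twist (𝒮.deg U hU) n)),
      RelProj.IsRelTwist 𝒮 p chart n L lam := by
  refine ⟨limit (G 𝒮 p chart hP n), fun U hU => limit.π (G 𝒮 p chart hP n) (op ⟨U, hU⟩), ?_, ?_⟩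
  · intro U hU W hW
    exact GlueMod.bijective_π (hyp 𝒮 p chart hP n) ⟨U, hU⟩ W hW
  · intro U hU r W s y hy hy'
    let i : Y.AffineZariskiSite := ⟨U, hU⟩
    let j : Y.AffineZariskiSite := ⟨Y.basicOpen r, hU.basicOpen r⟩
    have hji : j ≤ i := ⟨r, rfl⟩
    have hw := limit.w (G 𝒮 p chart hP n) (homOfLE hji).op
    have h1 := congrArg (fun φ => (φ.app W).hom s) hw
    simp only [Scheme.Modules.Hom.comp_app, AddCommGrpCat.hom_comp, AddMonoidHom.comp_apply] at h1
    have h2 : ((limit.π (G 𝒮 p chart hP n) (op j)).app W).hom s =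
        GrTwist.comapApp (rho 𝒮 hji) (rho_irr 𝒮 hji) n (e 𝒮 p chart i ⁻¹ᵁ W)
          (e 𝒮 p chart j ⁻¹ᵁ W) (preimage_le 𝒮 p chart hP hji W)
          (((limit.π (G 𝒮 p chart hP n) (op i)).app W).hom s) := h1.symm
    exact congrArg (fun t => (t.1 ⟨y, hy⟩).1) h2


end Groth.Agent.Lib.Helper42.RelTwistExists
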