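import Groth.Agent.Lib.Helper42.TwistLoc
import Groth.Prelude.Def_RelProj3

/-!
# The canonical map of the modules `M(n)~` along a localization at an element of degree zero (helper42)

Module analogue of `TwistLoc`.

* `locModMap_comp_val`, `locModMap_id_val`: functoriality of the frozen `GrMod.comap`, valuewise.
* For `ψ : 𝒜 → ℬ` a localization at `c ∈ 𝒜 0` and `v : M → N` a `ψ`-semilinear localization at `c`
  preserving degrees: `locModMap_injective`, `comapApp_injective`, `comapApp_surjective`.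
-/

set_option autoImplicit false
set_option linter.unusedSectionVars false
set_option linter.unusedVariables false

universe u

namespace Groth.Agent.Lib.Helper42.TildeLoc

open CategoryTheory AlgebraicGeometry TopologicalSpace Opposite
open scoped HomogeneousIdeal

variable {A B σ τ : Type u} [CommRing A] [SetLike σ A] [AddSubgroupClass σ A] {𝒜 : ℕ → σ}
  [GradedRing 𝒜] [CommRing B] [SetLike τ B] [AddSubgroupClass τ B] {ℬ : ℕ → τ} [GradedRing ℬ]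
  {M σM : Type u} [AddCommGroup M] [Module A M] [SetLike σM M] [AddSubgroupClass σM M]
  {ℳ : ℕ → σM} [SetLike.GradedSMul 𝒜 ℳ]
  {N τN : Type u} [AddCommGroup N] [Module B N] [SetLike τN N] [AddSubgroupClass τN N]
  {𝒩 : ℕ → τN} [SetLike.GradedSMul ℬ 𝒩]
  (ψ : 𝒜 →+*ᵍ ℬ) (hirr : ℬ₊ ≤ (𝒜₊).map ψ) (v : M →ₛₗ[ψ.toRingHom] N)
  (hv : ∀ (i : ℕ) (m : M), m ∈ ℳ i → v m ∈ 𝒩 i)

theorem mk_congr (x : ProjectiveSpectrum 𝒜) {a a' : M}
    {s s' : x.asHomogeneousIdeal.toIdeal.primeCompl} (ha : a = a') (hs : (s : A) = s') :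
    (LocalizedModule.mk a s : GrMod.LocMod 𝒜 (M := M) x) = LocalizedModule.mk a' s' := by
  subst ha
  have : s = s' := Subtype.ext hs
  rw [this]

section functoriality

variable {C ρ : Type u} [CommRing C] [SetLike ρ C] [AddSubgroupClass ρ C] {𝒞 : ℕ → ρ}
  [GradedRing 𝒞] {L ρL : Type u} [AddCommGroup L] [Module C L] [SetLike ρL L]
  [AddSubgroupClass ρL L] {ℒ : ℕ → ρL} [SetLike.GradedSMul 𝒞 ℒ]
  (ψ' : ℬ →+*ᵍ 𝒞) (hirr' : 𝒞₊ ≤ (ℬ₊).map ψ') (v' : N →ₛₗ[ψ'.toRingHom] L)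
  (ψ'' : 𝒜 →+*ᵍ 𝒞) (hirr'' : 𝒞₊ ≤ (𝒜₊).map ψ'') (v'' : M →ₛₗ[ψ''.toRingHom] L)

/-- functoriality of the canonical map of the modules `M(n)~`, valuewise. -/
theorem locModMap_comp_val (hcomp : ∀ a, ψ'' a = ψ' (ψ a)) (hvcomp : ∀ m, v'' m = v' (v m))
    (n : ℤ) (O : Opens (ProjectiveSpectrum.top 𝒜)) (s : GrMod.sect 𝒜 ℳ n (op O))
    (z : ProjectiveSpectrum 𝒞) (h1 : ProjectiveSpectrum.comap ψ'' hirr'' z ∈ O)
    (h2 : ProjectiveSpectrum.comap ψ hirr (ProjectiveSpectrum.comap ψ' hirr' z) ∈ O) :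
    GrMod.locModMap ψ'' hirr'' v'' z (s.1 ⟨_, h1⟩).1 =
      GrMod.locModMap ψ' hirr' v' z (GrMod.locModMap ψ hirr v _ (s.1 ⟨_, h2⟩).1) := by
  have hpt := TwistLoc.comap_comp_pt ψ hirr ψ' hirr' ψ'' hirr'' hcomp z
  obtain ⟨V', hxV', iV'O, i, j, a, f, hnin, hdeg, hfrac⟩ := s.2 ⟨_, h1⟩
  have hxV'2 : ProjectiveSpectrum.comap ψ hirr (ProjectiveSpectrum.comap ψ' hirr' z) ∈ V' :=
    hpt ▸ hxV'
  have e1 : (s.1 ⟨_, h1⟩).1 = LocalizedModule.mk (a : M) ⟨(f : A), hnin ⟨_, hxV'⟩⟩ := hfrac ⟨_, hxV'⟩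
  have e2 : (s.1 ⟨_, h2⟩).1 = LocalizedModule.mk (a : M) ⟨(f : A), hnin ⟨_, hxV'2⟩⟩ :=
    hfrac ⟨_, hxV'2⟩
  rw [e1, e2, GrMod.locModMap_mk, GrMod.locModMap_mk, GrMod.locModMap_mk]
  exact mk_congr z (hvcomp _) (hcomp _)

/-- the canonical map of the modules `M(n)~` along the identity, valuewise. -/
theorem locModMap_id_val (χ : 𝒜 →+*ᵍ 𝒜) (hχ : 𝒜₊ ≤ (𝒜₊).map χ) (hid : ∀ a, χ a = a)
    (w : M →ₛₗ[χ.toRingHom] M) (hw : ∀ m, w m = m) (n : ℤ)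
    (O : Opens (ProjectiveSpectrum.top 𝒜)) (s : GrMod.sect 𝒜 ℳ n (op O))
    (z : ProjectiveSpectrum 𝒜) (h1 : ProjectiveSpectrum.comap χ hχ z ∈ O) (h2 : z ∈ O) :
    GrMod.locModMap χ hχ w z (s.1 ⟨_, h1⟩).1 = (s.1 ⟨z, h2⟩).1 := by
  have hpt := TwistLoc.comap_id_pt χ hχ hid z
  obtain ⟨V', hxV', iV'O, i, j, a, f, hnin, hdeg, hfrac⟩ := s.2 ⟨_, h1⟩
  have hxV'2 : z ∈ V' := hpt ▸ hxV'
  have e1 : (s.1 ⟨_, h1⟩).1 = LocalizedModule.mk (a : M) ⟨(f : A), hnin ⟨_, hxV'⟩⟩ := hfrac ⟨_, hxV'⟩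
  have e2 : (s.1 ⟨z, h2⟩).1 = LocalizedModule.mk (a : M) ⟨(f : A), hnin ⟨_, hxV'2⟩⟩ :=
    hfrac ⟨_, hxV'2⟩
  rw [e1, e2, GrMod.locModMap_mk]
  exact mk_congr z (hw _) (hid _)

end functoriality

section loc

variable [DirectSum.Decomposition ℳ] [DirectSum.Decomposition 𝒩]

include hv in
/-- a degree-preserving semilinear map commutes with the homogeneous components. -/
theorem map_decompose (m : M) (i : ℕ) :
    v (DirectSum.decompose ℳ m i : M) = (DirectSum.decompose 𝒩 (v m) i : N) := by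
  classical
  induction m using DirectSum.Decomposition.inductionOn ℳ with
  | zero => simp
  | @homogeneous j m =>
    by_cases h : j = i
    · subst h
      rw [DirectSum.decompose_of_mem_same ℳ m.2, DirectSum.decompose_of_mem_same 𝒩 (hv _ _ m.2)]
    · rw [DirectSum.decompose_of_mem_ne ℳ m.2 h, DirectSum.decompose_of_mem_ne 𝒩 (hv _ _ m.2) h,
        map_zero]
  | add m m' h h' =>
    rw [DirectSum.decompose_add, map_add, DirectSum.decompose_add]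
    simp only [DirectSum.add_apply, AddMemClass.coe_add, map_add, h, h']

variable {c : A} (hc : c ∈ 𝒜 0) (hunit : IsUnit (ψ c))
  (hsurj : ∀ b : B, ∃ (a : A) (m : ℕ), b * ψ c ^ m = ψ a)
  (hker : ∀ a : A, ψ a = 0 → ∃ m : ℕ, c ^ m * a = 0)
  (hvsurj : ∀ b : N, ∃ (a : M) (k : ℕ), v a = ψ c ^ k • b)
  (hvker : ∀ a : M, v a = 0 → ∃ k : ℕ, c ^ k • a = 0)

include hc in
theorem pow_smul_mem (k : ℕ) {i : ℕ} {a : M} (ha : a ∈ ℳ i) : c ^ k • a ∈ ℳ i := by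
  have h1 : c ^ k ∈ 𝒜 (k • 0) := SetLike.pow_mem_graded k hc
  have h2 := SetLike.GradedSMul.smul_mem h1 ha
  simpa using h2

include hc in
theorem psi_pow_smul_mem (k : ℕ) {i : ℕ} {b : N} (hb : b ∈ 𝒩 i) : ψ c ^ k • b ∈ 𝒩 i := by
  have hψc : ψ c ∈ ℬ 0 := GradedFunLike.map_mem ψ hc
  have h1 : ψ c ^ k ∈ ℬ (k • 0) := SetLike.pow_mem_graded k hψc
  have h2 := SetLike.GradedSMul.smul_mem h1 hb
  simpa using h2

include hv hc hvsurj in
/-- homogeneous elements of the module lift to homogeneous elements, up to a power of `c`. -/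
theorem exists_liftM {i : ℕ} {b : N} (hb : b ∈ 𝒩 i) :
    ∃ (a : M) (_ : a ∈ ℳ i) (k : ℕ), v a = ψ c ^ k • b := by
  classical
  obtain ⟨a₀, k, h⟩ := hvsurj b
  refine ⟨(DirectSum.decompose ℳ a₀ i : ℳ i), SetLike.coe_mem _, k, ?_⟩
  rw [map_decompose ψ v hv, h, DirectSum.decompose_of_mem_same 𝒩 (psi_pow_smul_mem ψ hc k hb)]

include hv hc hsurj hvsurj in
/-- a homogeneous element of the module and one of the ring lift with a common power of `c`. -/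
theorem exists_liftM₂ {i j : ℕ} {b : N} {g : B} (hb : b ∈ 𝒩 i) (hg : g ∈ ℬ j) :
    ∃ (a : M) (_ : a ∈ ℳ i) (f : A) (_ : f ∈ 𝒜 j) (K : ℕ),
      v a = ψ c ^ K • b ∧ ψ f = g * ψ c ^ K := by
  obtain ⟨a, ha, k₁, h1⟩ := exists_liftM ψ v hv hc hvsurj hb
  obtain ⟨f, hf, k₂, h2⟩ := TwistLoc.exists_lift ψ hc hsurj hg
  have hcp : ∀ k : ℕ, c ^ k ∈ 𝒜 0 := fun k => by
    have h := SetLike.pow_mem_graded k hc
    simpa using h
  refine ⟨c ^ k₂ • a, pow_smul_mem hc k₂ ha, f * c ^ k₁, ?_, k₁ + k₂, ?_, ?_⟩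
  · have h := SetLike.mul_mem_graded hf (hcp k₁)
    simpa using h
  · rw [LinearMap.map_smulₛₗ, h1, smul_smul]
    change (ψ (c ^ k₂) * ψ c ^ k₁) • b = _
    rw [map_pow, ← pow_add, add_comm]
  · rw [map_mul, map_pow, h2, pow_add, mul_assoc, mul_comm (ψ c ^ k₁)]

include hunit hsurj hvker in
/-- the maps of localized modules are injective. -/
theorem locModMap_injective (y : ProjectiveSpectrum ℬ) :
    Function.Injective (GrMod.locModMap ψ hirr v y) := by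
  rw [injective_iff_map_eq_zero]
  intro q
  induction q using LocalizedModule.induction_on with
  | h a s =>
    intro hq
    rw [GrMod.locModMap_mk, ← LocalizedModule.zero_mk (1 : y.asHomogeneousIdeal.toIdeal.primeCompl),
      LocalizedModule.mk_eq] at hq
    obtain ⟨⟨t, ht⟩, hta⟩ := hq
    simp only [Submonoid.smul_def, smul_zero, one_smul] at hta
    obtain ⟨t', l, htl⟩ := hsurj t
    have h0 : v (t' • a) = 0 := by
      rw [LinearMap.map_smulₛₗ]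
      change ψ t' • v a = 0
      rw [← htl, mul_comm, mul_smul, hta, smul_zero]
    obtain ⟨k, hk⟩ := hvker _ h0
    have hnot : c ^ k * t' ∉ (ProjectiveSpectrum.comap ψ hirr y).asHomogeneousIdeal := by
      change ψ (c ^ k * t') ∉ y.asHomogeneousIdeal
      rw [map_mul, map_pow, ← htl, mul_comm]
      intro h
      rcases y.isPrime.mem_or_mem h with h' | h'
      · exact TwistLoc.mul_pow_notMem ψ hunit y ht l h'
      · exact TwistLoc.psi_c_notMem ψ hunit y (y.isPrime.mem_of_pow_mem k h')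
    rw [← LocalizedModule.zero_mk
      (1 : (ProjectiveSpectrum.comap ψ hirr y).asHomogeneousIdeal.toIdeal.primeCompl),
      LocalizedModule.mk_eq]
    refine ⟨⟨c ^ k * t', hnot⟩, ?_⟩
    simp only [Submonoid.smul_def, smul_zero, one_smul]
    rw [mul_smul, hk]

section sections

variable (n : ℤ) (O : Opens (ProjectiveSpectrum.top 𝒜)) (V : Opens (ProjectiveSpectrum.top ℬ))
  (hUV : V.1 ⊆ ProjectiveSpectrum.comap ψ hirr ⁻¹' O.1)
  (hcov : ∀ x ∈ O, ∃ y ∈ V, ProjectiveSpectrum.comap ψ hirr y = x)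

include hunit hsurj hvker hcov in
theorem comapApp_injective : Function.Injective (GrMod.comapApp ψ hirr v hv n O V hUV) := by
  rw [injective_iff_map_eq_zero]
  intro s hs
  refine Subtype.ext (funext fun x => Subtype.ext ?_)
  obtain ⟨x, hx⟩ := x
  obtain ⟨y, hyV, rfl⟩ := hcov x hx
  have h1 : ((GrMod.comapApp ψ hirr v hv n O V hUV s).1 ⟨y, hyV⟩).1 = 0 := by
    rw [hs]; rfl
  rw [GrMod.comapApp_apply_coe] at h1
  exact (map_eq_zero_iff _ (locModMap_injective ψ hirr v hunit hsurj hvker y)).mp h1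

include hv hc hunit hsurj hvsurj in
/-- a section of `N(n)~` on `Proj ℬ` is locally a fraction of images of homogeneous elements. -/
theorem exists_local_lift (t : GrMod.sect ℬ 𝒩 n (op V)) (y₀ : V) :
    ∃ (V' : Opens (ProjectiveSpectrum.top ℬ)) (_ : y₀.1 ∈ V') (hV'V : V' ≤ V) (i j : ℕ)
      (a : M) (_ : a ∈ ℳ i) (f : A) (_ : f ∈ 𝒜 j)
      (hnin : ∀ y' ∈ V', ψ f ∉ y'.asHomogeneousIdeal),
      ((i : ℤ) = j + n ∨ a = 0) ∧ ∀ (y' : ProjectiveSpectrum ℬ) (hy' : y' ∈ V'),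
        (t.1 ⟨y', hV'V hy'⟩).1 = LocalizedModule.mk (v a) ⟨ψ f, hnin y' hy'⟩ := by
  obtain ⟨V', hy₀, iV', i, j, b, g, hnin, hdeg, hfrac⟩ := t.2 y₀
  have key : ∃ (a : M) (_ : a ∈ ℳ i) (f : A) (_ : f ∈ 𝒜 j) (K : ℕ),
      v a = ψ c ^ K • (b : N) ∧ ψ f = (g : B) * ψ c ^ K ∧ ((i : ℤ) = j + n ∨ a = 0) := by
    rcases hdeg with hij | hb0
    · obtain ⟨a, ha, f, hf, K, h1, h2⟩ := exists_liftM₂ ψ v hv hc hsurj hvsurj b.2 g.2
      exact ⟨a, ha, f, hf, K, h1, h2, Or.inl hij⟩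
    · obtain ⟨f, hf, K, h2⟩ := TwistLoc.exists_lift ψ hc hsurj g.2
      exact ⟨0, zero_mem _, f, hf, K, by rw [map_zero, hb0, smul_zero], h2, Or.inr rfl⟩
  obtain ⟨a, ha, f, hf, K, h1, h2, hdeg'⟩ := key
  have hnin' : ∀ y' ∈ V', ψ f ∉ y'.asHomogeneousIdeal := fun y' hy' => by
    rw [h2]
    exact TwistLoc.mul_pow_notMem ψ hunit y' (hnin ⟨y', hy'⟩) K
  refine ⟨V', hy₀, leOfHom iV', i, j, a, ha, f, hf, hnin', hdeg', fun y' hy' => ?_⟩
  have e1 : (t.1 ⟨y', leOfHom iV' hy'⟩).1 = LocalizedModule.mk (b : N) ⟨(g : B), hnin ⟨y', hy'⟩⟩ :=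
    hfrac ⟨y', hy'⟩
  rw [e1, LocalizedModule.mk_eq]
  refine ⟨1, ?_⟩
  simp only [Submonoid.smul_def, one_smul]
  rw [h1, smul_smul, h2]

include hv hc hunit hsurj hvsurj hvker hcov in
theorem comapApp_surjective (hopen : IsOpenMap (ProjectiveSpectrum.comap ψ hirr)) :
    Function.Surjective (GrMod.comapApp ψ hirr v hv n O V hUV) := by
  intro t
  -- pointwise lifts
  have hpt : ∀ x : O, ∃ q : GrMod.tildeAt 𝒜 ℳ n x.1, ∀ (y : V),
      ProjectiveSpectrum.comap ψ hirr y.1 = x.1 →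
      ∃ (a : M) (f : A) (hf : f ∉ x.1.asHomogeneousIdeal) (hf' : ψ f ∉ y.1.asHomogeneousIdeal),
        (q : GrMod.LocMod 𝒜 (M := M) x.1) = LocalizedModule.mk a ⟨f, hf⟩ ∧
          (t.1 y).1 = LocalizedModule.mk (v a) ⟨ψ f, hf'⟩ := by
    rintro ⟨x, hx⟩
    obtain ⟨y, hyV, rfl⟩ := hcov x hx
    obtain ⟨V', hy₀, hV'V, i, j, a, ha, f, hf, hnin, hdeg, hfrac⟩ :=
      exists_local_lift ψ v hv hc hunit hsurj hvsurj n V t ⟨y, hyV⟩
    have hfx : f ∉ (ProjectiveSpectrum.comap ψ hirr y).asHomogeneousIdeal := hnin y hy₀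
    have hmem : (LocalizedModule.mk a ⟨f, hfx⟩ :
        GrMod.LocMod 𝒜 (M := M) (ProjectiveSpectrum.comap ψ hirr y)) ∈
        GrMod.tildeAt 𝒜 ℳ n (ProjectiveSpectrum.comap ψ hirr y) := by
      rcases hdeg with hij | ha0
      · exact Submodule.subset_span ⟨i, j, ⟨a, ha⟩, ⟨f, hf⟩, hfx, hij, rfl⟩
      · rw [ha0, LocalizedModule.zero_mk]
        exact zero_mem _
    refine ⟨⟨_, hmem⟩, ?_⟩
    rintro ⟨y', hy'V⟩ hy'
    obtain rfl : y' = y := TwistLoc.comap_pt_injective ψ hirr hunit hsurj hy'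
    exact ⟨a, f, hfx, hnin y' hy₀, rfl, hfrac y' hy₀⟩
  choose s hs using hpt
  have hloc : (GrMod.isLocFrac 𝒜 ℳ n).pred s := by
    rintro ⟨x₀, hx₀⟩
    obtain ⟨y₀, hy₀V, rfl⟩ := hcov x₀ hx₀
    obtain ⟨V', hy₀, hV'V, i, j, a, ha, f, hf, hnin, hdeg, hfrac⟩ :=
      exists_local_lift ψ v hv hc hunit hsurj hvsurj n V t ⟨y₀, hy₀V⟩
    let O' : Opens (ProjectiveSpectrum.top 𝒜) :=
      ⟨ProjectiveSpectrum.comap ψ hirr '' V'.1, hopen _ V'.2⟩ ⊓ O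
    have hnin' : ∀ x : O', f ∉ x.1.asHomogeneousIdeal := by
      rintro ⟨x, ⟨y', hy', rfl⟩, hxO⟩
      exact hnin y' hy'
    refine ⟨O', ⟨⟨y₀, hy₀, rfl⟩, hx₀⟩, homOfLE inf_le_right, i, j, ⟨a, ha⟩, ⟨f, hf⟩, hnin',
      hdeg, ?_⟩
    rintro ⟨x, ⟨y', hy', rfl⟩, hxO⟩
    obtain ⟨a₁, f₁, hf₁, hf₁', hq, ht⟩ := hs ⟨_, hxO⟩ ⟨y', hV'V hy'⟩ rfl
    change (s ⟨_, hxO⟩).1 = LocalizedModule.mk a ⟨f, _⟩
    rw [hq]
    apply locModMap_injective ψ hirr v hunit hsurj hvker y'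
    rw [GrMod.locModMap_mk, GrMod.locModMap_mk]
    exact ht.symm.trans (hfrac y' hy')
  refine ⟨⟨s, hloc⟩, ?_⟩
  refine Subtype.ext (funext fun y₀ => Subtype.ext ?_)
  rw [GrMod.comapApp_apply_coe]
  obtain ⟨a, f, hf, hf', hq, ht⟩ := hs ⟨_, hUV y₀.2⟩ y₀ rfl
  change GrMod.locModMap ψ hirr v y₀.1 (s ⟨_, hUV y₀.2⟩).1 = _
  rw [hq, GrMod.locModMap_mk, ht]

end sections

end loc

end Groth.Agent.Lib.Helper42.TildeLoc
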