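import Groth.Agent.Lib.Helper42.GlueMod
import Groth.Agent.Lib.Helper42.TildeLoc
import Groth.Agent.Lib.Helper42.RelProjExists
import Groth.Agent.Lib.Helper42.RelTwistExists
import Groth.Agent.Lib.Helper22.QCohLoc
import Groth.Prelude.Def_RelProj3

/-!
# Existence of the modules `(ℳ(n))~` on a relative homogeneous spectrum (helper42)

The direct images of the modules `(ℳ(U)(n))~` of the `Proj 𝒮(U)` along the chart immersions
form a diagram of modules on `P` indexed by the affine opens of the base; its limit is `(ℳ(n))~`.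
-/

set_option autoImplicit false
set_option linter.unusedSectionVars false
set_option linter.unusedVariables false

universe u

namespace Groth.Agent.Lib.Helper42.Internal.RelTildeExists

open CategoryTheory CategoryTheory.Limits AlgebraicGeometry TopologicalSpace Opposite
open scoped HomogeneousIdeal

variable {Y P : Scheme.{u}} (𝒮 : RelProj.QCGrAlg Y) (p : P ⟶ Y)
  (chart : ∀ (U : Y.Opens) (hU : IsAffineOpen U),
    (((p ⁻¹ᵁ U : P.Opens) : Scheme.{u}) ≅ Proj (𝒮.deg U hU)))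
  (hP : RelProj.IsRelProj 𝒮 p chart) (ℳ : RelProj.GrModule 𝒮) (n : ℤ)

/-- the localization properties of the restriction of a quasi-coherent module to a basic open. -/
theorem resM_loc (hℳ : Coh.IsQCoh ((AMod.toOS 𝒮.toQCAlg).obj ℳ.mod)) (U : Y.Opens)
    (hU : IsAffineOpen U) (r : Γ(Y, U)) :
    (∀ b : ℳ.mod.val.obj (op (Y.basicOpen r)), ∃ (a : ℳ.mod.val.obj (op U)) (k : ℕ),
      ℳ.res hU (hU.basicOpen r) (Y.basicOpen_le r) a =
        (𝒮.res hU (hU.basicOpen r) (Y.basicOpen_le r) ((𝒮.str.app (op U)).hom r)) ^ k • b) ∧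
    (∀ a : ℳ.mod.val.obj (op U), ℳ.res hU (hU.basicOpen r) (Y.basicOpen_le r) a = 0 →
      ∃ k : ℕ, ((𝒮.str.app (op U)).hom r) ^ k • a = 0) := by
  have : ((AMod.toOS 𝒮.toQCAlg).obj ℳ.mod).IsQuasicoherent := hℳ
  have hnat : (𝒮.str.app (op (Y.basicOpen r))).hom
      ((Y.presheaf.map (homOfLE (Y.basicOpen_le r)).op).hom r) =
      𝒮.res hU (hU.basicOpen r) (Y.basicOpen_le r) ((𝒮.str.app (op U)).hom r) :=
    congrArg (fun φ => φ.hom r) (𝒮.str.naturality (homOfLE (Y.basicOpen_le r)).op)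
  constructor
  · intro b
    obtain ⟨k, a, h⟩ := Groth.Agent.Lib.Helper22.exists_pow_smul_eq_map_of_isAffineOpen
      ((AMod.toOS 𝒮.toQCAlg).obj ℳ.mod) hU r b
    refine ⟨a, k, ?_⟩
    refine Eq.trans h ?_
    change (𝒮.str.app (op (Y.basicOpen r))).hom
      ((Y.presheaf.map (homOfLE (Y.basicOpen_le r)).op).hom r ^ k) • b = _
    rw [map_pow, hnat]
  · intro a ha
    obtain ⟨k, h⟩ := Groth.Agent.Lib.Helper22.exists_pow_smul_eq_zero_of_isAffineOpen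
      ((AMod.toOS 𝒮.toQCAlg).obj ℳ.mod) hU r a ha
    refine ⟨k, ?_⟩
    refine Eq.trans ?_ h
    change _ = (𝒮.str.app (op U)).hom (r ^ k) • a
    rw [map_pow]

open RelTwistExists (e rho rho_irr m m_e preimage_le rho_refl rho_trans R range_e
  bijective_map_of_le)

/-- the restriction maps of the graded module, semilinear over the restriction homomorphisms. -/
noncomputable def vres {i j : Y.AffineZariskiSite} (h : j ≤ i) :
    ℳ.mod.val.obj (op i.1) →ₛₗ[(rho 𝒮 h).toRingHom] ℳ.mod.val.obj (op j.1) :=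
  ℳ.res i.2 j.2 (Scheme.AffineZariskiSite.toOpens_mono h)

theorem vres_mem {i j : Y.AffineZariskiSite} (h : j ≤ i) (d : ℕ) (a : ℳ.mod.val.obj (op i.1))
    (ha : a ∈ ℳ.deg i.1 i.2 d) : vres 𝒮 ℳ h a ∈ ℳ.deg j.1 j.2 d :=
  ℳ.res_mem i.2 j.2 (Scheme.AffineZariskiSite.toOpens_mono h) d a ha

theorem vres_refl (i : Y.AffineZariskiSite) (a : ℳ.mod.val.obj (op i.1)) :
    vres 𝒮 ℳ (le_refl i) a = a := by
  change (ℳ.mod.val.presheaf.map (homOfLE _).op).hom a = a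
  have h1 : (homOfLE (Scheme.AffineZariskiSite.toOpens_mono (le_refl i))).op = 𝟙 (op i.1) :=
    Subsingleton.elim _ _
  rw [h1]
  exact congrArg (fun φ => φ.hom a) (ℳ.mod.val.presheaf.map_id (op i.1))

theorem vres_trans {i j k : Y.AffineZariskiSite} (h : j ≤ i) (h' : k ≤ j)
    (a : ℳ.mod.val.obj (op i.1)) :
    vres 𝒮 ℳ (h'.trans h) a = vres 𝒮 ℳ h' (vres 𝒮 ℳ h a) := by
  change (ℳ.mod.val.presheaf.map (homOfLE _).op).hom a =
    (ℳ.mod.val.presheaf.map (homOfLE _).op).hom ((ℳ.mod.val.presheaf.map (homOfLE _).op).hom a)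
  have h1 : (homOfLE (Scheme.AffineZariskiSite.toOpens_mono (h'.trans h))).op =
      (homOfLE (Scheme.AffineZariskiSite.toOpens_mono h)).op ≫
        (homOfLE (Scheme.AffineZariskiSite.toOpens_mono h')).op :=
    Subsingleton.elim _ _
  rw [h1, ℳ.mod.val.presheaf.map_comp]
  rfl

/-- the modules `(ℳ(U)(n))~` on the charts. -/
noncomputable abbrev N (i : Y.AffineZariskiSite) : (Proj (𝒮.deg i.1 i.2)).Modules :=
  GrMod.tilde (𝒮.deg i.1 i.2) (ℳ.deg i.1 i.2) n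

/-- the transition maps of the direct images of the modules on the charts. -/
noncomputable def Gmap {i j : Y.AffineZariskiSite} (h : j ≤ i) :
    (Scheme.Modules.pushforward (e 𝒮 p chart i)).obj (N 𝒮 ℳ n i) ⟶
      (Scheme.Modules.pushforward (e 𝒮 p chart j)).obj (N 𝒮 ℳ n j) :=
  (Scheme.Modules.pushforward (e 𝒮 p chart i)).map
      (GrMod.comap (rho 𝒮 h) (rho_irr 𝒮 h) (vres 𝒮 ℳ h) (vres_mem 𝒮 ℳ h) n) ≫
    (Scheme.Modules.pushforwardComp (m 𝒮 h) (e 𝒮 p chart i)).hom.app (N 𝒮 ℳ n j) ≫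
      (Scheme.Modules.pushforwardCongr (m_e 𝒮 p chart hP h)).hom.app (N 𝒮 ℳ n j)

/-- the transition maps on sections are the canonical maps. -/
theorem Gmap_app {i j : Y.AffineZariskiSite} (h : j ≤ i) (W : P.Opens) :
    ((Gmap 𝒮 p chart hP ℳ n h).app W).hom =
      GrMod.comapApp (rho 𝒮 h) (rho_irr 𝒮 h) (vres 𝒮 ℳ h) (vres_mem 𝒮 ℳ h) n
        (e 𝒮 p chart i ⁻¹ᵁ W) (e 𝒮 p chart j ⁻¹ᵁ W) (preimage_le 𝒮 p chart hP h W) := by
  rfl

/-- the objects of the diagram of the direct images. -/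
noncomputable def Gobj (i : (Y.AffineZariskiSite)ᵒᵖ) : P.Modules :=
  (Scheme.Modules.pushforward (e 𝒮 p chart i.unop)).obj (N 𝒮 ℳ n i.unop)

/-- the maps of the diagram of the direct images. -/
noncomputable def GmapF {i j : (Y.AffineZariskiSite)ᵒᵖ} (f : i ⟶ j) :
    Gobj 𝒮 p chart ℳ n i ⟶ Gobj 𝒮 p chart ℳ n j :=
  Gmap 𝒮 p chart hP ℳ n (leOfHom f.unop)

theorem GmapF_app {i j : (Y.AffineZariskiSite)ᵒᵖ} (f : i ⟶ j) (W : P.Opens) :
    ((GmapF 𝒮 p chart hP ℳ n f).app W).hom =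
      GrMod.comapApp (rho 𝒮 (leOfHom f.unop)) (rho_irr 𝒮 (leOfHom f.unop))
        (vres 𝒮 ℳ (leOfHom f.unop)) (vres_mem 𝒮 ℳ (leOfHom f.unop)) n
        (e 𝒮 p chart i.unop ⁻¹ᵁ W) (e 𝒮 p chart j.unop ⁻¹ᵁ W)
        (preimage_le 𝒮 p chart hP (leOfHom f.unop) W) := by
  rfl

theorem GmapF_id (i : (Y.AffineZariskiSite)ᵒᵖ) :
    GmapF 𝒮 p chart hP ℳ n (𝟙 i) = 𝟙 (Gobj 𝒮 p chart ℳ n i) := by
  refine Scheme.Modules.hom_ext _ _ (fun W => ?_)
  apply AddCommGrpCat.hom_ext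
  rw [GmapF_app]
  ext s y
  have key := TildeLoc.locModMap_id_val (rho 𝒮 (le_refl i.unop)) (rho_irr 𝒮 (le_refl i.unop))
    (rho_refl 𝒮 i.unop) (vres 𝒮 ℳ (le_refl i.unop)) (vres_refl 𝒮 ℳ i.unop) n
    (e 𝒮 p chart i.unop ⁻¹ᵁ W) s y.1
    (preimage_le 𝒮 p chart hP (le_refl i.unop) W y.2) y.2
  exact key

theorem GmapF_comp {i j k : (Y.AffineZariskiSite)ᵒᵖ} (f : i ⟶ j) (g : j ⟶ k) :
    GmapF 𝒮 p chart hP ℳ n (f ≫ g) =
      GmapF 𝒮 p chart hP ℳ n f ≫ GmapF 𝒮 p chart hP ℳ n g := by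
  refine Scheme.Modules.hom_ext _ _ (fun W => ?_)
  apply AddCommGrpCat.hom_ext
  rw [Scheme.Modules.Hom.comp_app, AddCommGrpCat.hom_comp, GmapF_app, GmapF_app,
    GmapF_app]
  ext s z
  have key := TildeLoc.locModMap_comp_val (rho 𝒮 (leOfHom f.unop)) (rho_irr 𝒮 (leOfHom f.unop))
    (vres 𝒮 ℳ (leOfHom f.unop))
    (rho 𝒮 (leOfHom g.unop)) (rho_irr 𝒮 (leOfHom g.unop)) (vres 𝒮 ℳ (leOfHom g.unop))
    (rho 𝒮 ((leOfHom g.unop).trans (leOfHom f.unop)))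
    (rho_irr 𝒮 ((leOfHom g.unop).trans (leOfHom f.unop)))
    (vres 𝒮 ℳ ((leOfHom g.unop).trans (leOfHom f.unop)))
    (rho_trans 𝒮 (leOfHom f.unop) (leOfHom g.unop))
    (vres_trans 𝒮 ℳ (leOfHom f.unop) (leOfHom g.unop)) n
    (e 𝒮 p chart i.unop ⁻¹ᵁ W) s z.1
    (preimage_le 𝒮 p chart hP ((leOfHom g.unop).trans (leOfHom f.unop)) W z.2)
    (preimage_le 𝒮 p chart hP (leOfHom f.unop) W (preimage_le 𝒮 p chart hP (leOfHom g.unop) W z.2))
  exact key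

/-- the diagram of the direct images of the modules of the charts. -/
noncomputable def G : (Y.AffineZariskiSite)ᵒᵖ ⥤ P.Modules :=
  CategoryTheory.Functor.mk (Gobj 𝒮 p chart ℳ n) (fun {_ _} f => GmapF 𝒮 p chart hP ℳ n f)
    (GmapF_id 𝒮 p chart hP ℳ n) (fun f g => GmapF_comp 𝒮 p chart hP ℳ n f g)

theorem G_map_app {i j : Y.AffineZariskiSite} (h : j ≤ i) (W : P.Opens) :
    (((G 𝒮 p chart hP ℳ n).map (homOfLE h).op).app W).hom =
      GrMod.comapApp (rho 𝒮 h) (rho_irr 𝒮 h) (vres 𝒮 ℳ h) (vres_mem 𝒮 ℳ h) n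
        (e 𝒮 p chart i ⁻¹ᵁ W) (e 𝒮 p chart j ⁻¹ᵁ W) (preimage_le 𝒮 p chart hP h W) :=
  Gmap_app 𝒮 p chart hP ℳ n h W

include hP in
theorem hyp (hℳ : Coh.IsQCoh ((AMod.toOS 𝒮.toQCAlg).obj ℳ.mod)) :
    GlueMod.Hyp (R p) (G 𝒮 p chart hP ℳ n) where
  mono h := p.preimage_mono (Scheme.AffineZariskiSite.toOpens_mono h)
  supp i W := by
    refine bijective_map_of_le (N 𝒮 ℳ n i) _ ?_
    intro y hy
    refine ⟨hy, ?_⟩
    have : (e 𝒮 p chart i).base y ∈ Set.range (e 𝒮 p chart i).base := ⟨y, rfl⟩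
    rw [range_e] at this
    exact this
  iso {i j} h W hW := by
    change Function.Bijective (((G 𝒮 p chart hP ℳ n).map (homOfLE h).op).app W).hom
    rw [G_map_app]
    have hcov : ∀ x ∈ (e 𝒮 p chart i ⁻¹ᵁ W), ∃ y ∈ (e 𝒮 p chart j ⁻¹ᵁ W),
        ProjectiveSpectrum.comap (rho 𝒮 h) (rho_irr 𝒮 h) y = x := by
      intro x hx
      have h1 : (e 𝒮 p chart i).base x ∈ Set.range (e 𝒮 p chart j).base := by
        rw [range_e]
        exact hW hx
      obtain ⟨y, hy⟩ := h1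
      have h2 : (e 𝒮 p chart i).base ((m 𝒮 h).base y) = (e 𝒮 p chart j).base y :=
        congrArg (fun φ => φ.base y) (m_e 𝒮 p chart hP h)
      refine ⟨y, ?_, ?_⟩
      · change (e 𝒮 p chart j).base y ∈ W
        rw [hy]
        exact hx
      · exact (e 𝒮 p chart i).isOpenEmbedding.injective (h2.trans hy)
    have hoi : IsOpenImmersion (m 𝒮 h) := RelProjExists.isOpenImmersion_map 𝒮 (homOfLE h)
    have hopen : IsOpenMap (ProjectiveSpectrum.comap (rho 𝒮 h) (rho_irr 𝒮 h)) :=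
      (m 𝒮 h).isOpenEmbedding.isOpenMap
    obtain ⟨V, hV⟩ := j
    obtain ⟨r, hr⟩ := id h
    change Y.basicOpen r = V at hr
    subst hr
    obtain ⟨h1, h2, h3⟩ := RelProjExists.res_loc 𝒮 i.1 i.2 r
    obtain ⟨hv1, hv2⟩ := resM_loc 𝒮 ℳ hℳ i.1 i.2 r
    exact ⟨TildeLoc.comapApp_injective (rho 𝒮 h) (rho_irr 𝒮 h) (vres 𝒮 ℳ h) (vres_mem 𝒮 ℳ h)
        h1 h2 hv2 n _ _ _ hcov,
      TildeLoc.comapApp_surjective (rho 𝒮 h) (rho_irr 𝒮 h) (vres 𝒮 ℳ h) (vres_mem 𝒮 ℳ h)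
        (𝒮.str_mem i.1 i.2 r) h1 h2 hv1 hv2 n _ _ _ hcov hopen⟩
  cover i k x hxi hxk := by
    obtain ⟨r, r', hrr', hx⟩ := exists_basicOpen_le_affine_inter i.2 k.2 (p.base x) ⟨hxi, hxk⟩
    exact ⟨⟨Y.basicOpen r, i.2.basicOpen r⟩, ⟨r, rfl⟩, ⟨r', hrr'.symm⟩, hx⟩

include hP in
/-- **existence of the modules `(ℳ(n))~` on a relative homogeneous spectrum.** -/
theorem exists_isRelTilde (hℳ : Coh.IsQCoh ((AMod.toOS 𝒮.toQCAlg).obj ℳ.mod)) :
    ∃ (F : P.Modules) (lam : ∀ (U : Y.Opens) (hU : IsAffineOpen U),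
      F ⟶ (Scheme.Modules.pushforward (RelProj.emb p chart U hU)).obj
        (GrMod.tilde (𝒮.deg U hU) (ℳ.deg U hU) n)),
      RelProj.IsRelTilde 𝒮 p chart ℳ n F lam := by
  refine ⟨limit (G 𝒮 p chart hP ℳ n),
    fun U hU => limit.π (G 𝒮 p chart hP ℳ n) (op ⟨U, hU⟩), ?_, ?_⟩
  · intro U hU W hW
    exact GlueMod.bijective_π (hyp 𝒮 p chart hP ℳ n hℳ) ⟨U, hU⟩ W hW
  · intro U hU r W s y hy hy'
    let i : Y.AffineZariskiSite := ⟨U, hU⟩
    let j : Y.AffineZariskiSite := ⟨Y.basicOpen r, hU.basicOpen r⟩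
    have hji : j ≤ i := ⟨r, rfl⟩
    have hw := limit.w (G 𝒮 p chart hP ℳ n) (homOfLE hji).op
    have h1 := congrArg (fun φ => (φ.app W).hom s) hw
    simp only [Scheme.Modules.Hom.comp_app, AddCommGrpCat.hom_comp, AddMonoidHom.comp_apply] at h1
    have h2 : ((limit.π (G 𝒮 p chart hP ℳ n) (op j)).app W).hom s =
        GrMod.comapApp (rho 𝒮 hji) (rho_irr 𝒮 hji) (vres 𝒮 ℳ hji) (vres_mem 𝒮 ℳ hji) n
          (e 𝒮 p chart i ⁻¹ᵁ W) (e 𝒮 p chart j ⁻¹ᵁ W) (preimage_le 𝒮 p chart hP hji W)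
          (((limit.π (G 𝒮 p chart hP ℳ n) (op i)).app W).hom s) := h1.symm
    exact congrArg (fun t => (t.1 ⟨y, hy⟩).1) h2

end Groth.Agent.Lib.Helper42.Internal.RelTildeExists

/-! Public names.  (The working namespace above contains the component `Internal` on purpose: when
the compiled module is written, the constants occurring in the statement of every theorem outside
such namespaces are collected, which takes many minutes for the statements about the diagram `G`.) -/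

namespace Groth.Agent.Lib.Helper42.RelTildeExists

open CategoryTheory CategoryTheory.Limits AlgebraicGeometry TopologicalSpace Opposite
open scoped HomogeneousIdeal

/-- the localization properties of the restriction of a quasi-coherent module to a basic open. -/
theorem resM_loc {Y : Scheme.{u}} (𝒮 : RelProj.QCGrAlg Y) (ℳ : RelProj.GrModule 𝒮)
    (hℳ : Coh.IsQCoh ((AMod.toOS 𝒮.toQCAlg).obj ℳ.mod)) (U : Y.Opens)
    (hU : IsAffineOpen U) (r : Γ(Y, U)) :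
    (∀ b : ℳ.mod.val.obj (op (Y.basicOpen r)), ∃ (a : ℳ.mod.val.obj (op U)) (k : ℕ),
      ℳ.res hU (hU.basicOpen r) (Y.basicOpen_le r) a =
        (𝒮.res hU (hU.basicOpen r) (Y.basicOpen_le r) ((𝒮.str.app (op U)).hom r)) ^ k • b) ∧
    (∀ a : ℳ.mod.val.obj (op U), ℳ.res hU (hU.basicOpen r) (Y.basicOpen_le r) a = 0 →
      ∃ k : ℕ, ((𝒮.str.app (op U)).hom r) ^ k • a = 0) :=
  Internal.RelTildeExists.resM_loc 𝒮 ℳ hℳ U hU r

/-- **existence of the modules `(ℳ(n))~` on a relative homogeneous spectrum.** -/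
theorem exists_isRelTilde {Y P : Scheme.{u}} (𝒮 : RelProj.QCGrAlg Y) (p : P ⟶ Y)
    (chart : ∀ (U : Y.Opens) (hU : IsAffineOpen U),
      (((p ⁻¹ᵁ U : P.Opens) : Scheme.{u}) ≅ Proj (𝒮.deg U hU)))
    (hP : RelProj.IsRelProj 𝒮 p chart) (ℳ : RelProj.GrModule 𝒮) (n : ℤ)
    (hℳ : Coh.IsQCoh ((AMod.toOS 𝒮.toQCAlg).obj ℳ.mod)) :
    ∃ (F : P.Modules) (lam : ∀ (U : Y.Opens) (hU : IsAffineOpen U),
      F ⟶ (Scheme.Modules.pushforward (RelProj.emb p chart U hU)).obj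
        (GrMod.tilde (𝒮.deg U hU) (ℳ.deg U hU) n)),
      RelProj.IsRelTilde 𝒮 p chart ℳ n F lam :=
  Internal.RelTildeExists.exists_isRelTilde 𝒮 p chart hP ℳ n hℳ

end Groth.Agent.Lib.Helper42.RelTildeExists
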