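import Groth.Prelude
import Groth.Agent.Lib.Helper42.ProjQLocal

/-!
# Local properties of the morphism of relative spectra `Spec(B) ⟶ Spec(A)` (helper42)

For a homomorphism `ψ : A ⟶ B` of quasi-coherent algebras on `S`, the chart `Spec B(U)` of `Spec(B)`
over an affine open `U` is the pullback of the chart `Spec A(U)` of `Spec(A)`; hence a property
local on the target holds for `specMap ψ` as soon as it holds for all `Spec B(U) ⟶ Spec A(U)`.
-/

set_option autoImplicit false

universe u

namespace Groth.Agent.Lib.Helper42.SpecMapLocal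

open CategoryTheory CategoryTheory.Limits AlgebraicGeometry TopologicalSpace Opposite

variable {S : Scheme.{u}} {A B : RelSpec.QCAlg S} (ψ : A ⟶ B)

theorem specMap_preimage (U : S.Opens) (hU : IsAffineOpen U) :
    RelSpec.QCAlg.specMap ψ ⁻¹ᵁ (A.ι U hU).opensRange = (B.ι U hU).opensRange := by
  rw [← A.π_preimage U hU, ← Scheme.Hom.comp_preimage, RelSpec.QCAlg.specMap_π, B.π_preimage U hU]

/-- the chart of `Spec(B)` over `U` is the pullback of the chart of `Spec(A)`. -/
theorem isPullback_ι (U : S.Opens) (hU : IsAffineOpen U) :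
    IsPullback (B.ι U hU) (Spec.map (ψ.hom.app (op U))) (RelSpec.QCAlg.specMap ψ) (A.ι U hU) :=
  (IsOpenImmersion.isPullback (Spec.map (ψ.hom.app (op U))) (B.ι U hU) (A.ι U hU)
    (RelSpec.QCAlg.specMap ψ) (RelSpec.QCAlg.ι_specMap U hU ψ) (specMap_preimage ψ U hU)).flip

theorem exists_mem_range_ι (A : RelSpec.QCAlg S) (z : A.spec) :
    ∃ j : {U : S.Opens // IsAffineOpen U}, z ∈ Set.range (A.ι j.1 j.2).base := by
  obtain ⟨i, y, hy⟩ := A.glueData.cover.exists_eq z
  exact ⟨⟨i.1, i.2⟩, y, hy⟩

/-- a property local on the target holds for `Spec(B) ⟶ Spec(A)` when it holds over all affine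
opens of the base. -/
theorem of_charts {Q : MorphismProperty Scheme.{u}} [IsZariskiLocalAtTarget Q]
    (h : ∀ (U : S.Opens) (_ : IsAffineOpen U), Q (Spec.map (ψ.hom.app (op U)))) :
    Q (RelSpec.QCAlg.specMap ψ) :=
  LocalGlue.of_family_isPullback (Q := Q) (RelSpec.QCAlg.specMap ψ)
    (J := {U : S.Opens // IsAffineOpen U})
    (fun j => Spec (A.presheaf.obj (op j.1))) (fun j => A.ι j.1 j.2)
    (exists_mem_range_ι A)
    (fun j => Spec (B.presheaf.obj (op j.1))) (fun j => B.ι j.1 j.2)
    (fun j => Spec.map (ψ.hom.app (op j.1)))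
    (fun j => isPullback_ι ψ j.1 j.2) (fun j => h j.1 j.2)

/-- `Spec(B) ⟶ Spec(A)` is a closed immersion when `A(U) → B(U)` is surjective for all affine
opens `U`. -/
theorem isClosedImmersion_specMap
    (h : ∀ (U : S.Opens) (_ : IsAffineOpen U), Function.Surjective (ψ.hom.app (op U)).hom) :
    IsClosedImmersion (RelSpec.QCAlg.specMap ψ) :=
  of_charts (Q := @IsClosedImmersion) ψ
    (fun U hU => IsClosedImmersion.spec_of_surjective _ (h U hU))

/-- `Spec(B) ⟶ Spec(A)` is an isomorphism when `A(U) → B(U)` is bijective for all affine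
opens `U`. -/
theorem isIso_specMap
    (h : ∀ (U : S.Opens) (_ : IsAffineOpen U), Function.Bijective (ψ.hom.app (op U)).hom) :
    IsIso (RelSpec.QCAlg.specMap ψ) := by
  have : MorphismProperty.isomorphisms Scheme.{u} (RelSpec.QCAlg.specMap ψ) :=
    of_charts (Q := MorphismProperty.isomorphisms Scheme.{u}) ψ (fun U hU => by
      have : IsIso (ψ.hom.app (op U)) :=
        (ConcreteCategory.isIso_iff_bijective (ψ.hom.app (op U))).mpr (h U hU)
      change IsIso (Spec.map (ψ.hom.app (op U)))
      infer_instance)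
  exact this

end Groth.Agent.Lib.Helper42.SpecMapLocal
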