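import Groth.Agent.Lib.Helper42.SymLoc
import Groth.Agent.Lib.Helper42.AffAlg
import Groth.Agent.Lib.Helper42.ModAff
import Groth.Agent.Lib.Helper61.QCohSections

/-!
# The symmetric algebra of a quasi-coherent module (helper42)

For a quasi-coherent module `E` on a scheme `S`: the quasi-coherent algebra `Sym(E)` (in the sense
of the frozen `RelSpec.QCAlg`), glued from the symmetric algebras `Sym_{O(U)}(E(U))` over the
affine opens `U`, its universal property (the frozen `RelSpec.IsSymAlg`), and the structure of
any symmetric algebra of `E` over the affine opens.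
-/

set_option autoImplicit false

universe u

namespace Groth.Agent.Lib.Helper42.SymAlg

open CategoryTheory CategoryTheory.Limits AlgebraicGeometry TopologicalSpace Opposite

variable {S : Scheme.{u}} (E : S.Modules)

/-- restriction of sections of `E`, as an additive map. -/
noncomputable def resE {U W : S.Opens} (h : W ≤ U) : Γ(E, U) →+ Γ(E, W) :=
  (E.presheaf.map (homOfLE h).op).hom

/-- restriction of functions, as a ring homomorphism. -/
noncomputable def resO {U W : S.Opens} (h : W ≤ U) : Γ(S, U) →+* Γ(S, W) :=
  (S.presheaf.map (homOfLE h).op).hom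

theorem resE_smul {U W : S.Opens} (h : W ≤ U) (r : Γ(S, U)) (x : Γ(E, U)) :
    resE E h (r • x) = resO h r • resE E h x :=
  E.map_smul (homOfLE h) r x

theorem resO_refl (U : S.Opens) : resO (le_refl U) = RingHom.id Γ(S, U) := by
  have h : (homOfLE (le_refl U)).op = 𝟙 (op U) := Subsingleton.elim _ _
  unfold resO
  rw [h, S.presheaf.map_id]
  rfl

theorem resE_refl (U : S.Opens) : resE E (le_refl U) = AddMonoidHom.id Γ(E, U) := by
  have h : (homOfLE (le_refl U)).op = 𝟙 (op U) := Subsingleton.elim _ _
  unfold resE
  rw [h, E.presheaf.map_id]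
  rfl

theorem resO_trans {U W Z : S.Opens} (h : W ≤ U) (h' : Z ≤ W) :
    (resO h').comp (resO h) = resO (h'.trans h) := by
  have e : (homOfLE (h'.trans h)).op = (homOfLE h).op ≫ (homOfLE h').op := Subsingleton.elim _ _
  unfold resO
  rw [e, S.presheaf.map_comp]
  rfl

theorem resE_trans {U W Z : S.Opens} (h : W ≤ U) (h' : Z ≤ W) :
    (resE E h').comp (resE E h) = resE E (h'.trans h) := by
  have e : (homOfLE (h'.trans h)).op = (homOfLE h).op ≫ (homOfLE h').op := Subsingleton.elim _ _
  unfold resE
  rw [e, E.presheaf.map_comp]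
  rfl

/-- the symmetric algebra of the sections of `E` over an open. -/
abbrev SymU (U : S.Opens) : Type u := SymmetricAlgebra Γ(S, U) Γ(E, U)

/-- restriction on the symmetric algebras of sections. -/
noncomputable def symRes {U W : S.Opens} (h : W ≤ U) : SymU E U →+* SymU E W :=
  SymLoc.symMap (resO h) (resE E h) (resE_smul E h)

theorem symRes_refl (U : S.Opens) : symRes E (le_refl U) = RingHom.id (SymU E U) :=
  (SymLoc.symMap_congr (resO_refl U) (resE_refl E U) _ (fun _ _ => rfl)).trans SymLoc.symMap_id

theorem symRes_trans {U W Z : S.Opens} (h : W ≤ U) (h' : Z ≤ W) :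
    (symRes E h').comp (symRes E h) = symRes E (h'.trans h) :=
  (SymLoc.symMap_comp _ _ _ _ _ _).trans
    (SymLoc.symMap_congr (resO_trans h h') (resE_trans E h h') _ _)

/-- the presheaf of symmetric algebras on the affine opens. -/
noncomputable def F : S.AffineZariskiSiteᵒᵖ ⥤ CommRingCat.{u} where
  obj U := CommRingCat.of (SymU E U.unop.1)
  map i := CommRingCat.ofHom (symRes E (Scheme.AffineZariskiSite.toOpens_mono i.unop.le))
  map_id U := by
    rw [← CommRingCat.ofHom_id]
    exact congrArg CommRingCat.ofHom (symRes_refl E U.unop.1)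
  map_comp i j := by
    rw [← CommRingCat.ofHom_comp]
    exact congrArg CommRingCat.ofHom (symRes_trans E _ _).symm

/-- the structure map. -/
noncomputable def α : (Scheme.AffineZariskiSite.toOpensFunctor S).op ⋙ S.presheaf ⟶ F E where
  app U := CommRingCat.ofHom (algebraMap Γ(S, U.unop.1) (SymU E U.unop.1))
  naturality U W i := by
    ext r
    change algebraMap Γ(S, W.unop.1) (SymU E W.unop.1)
        (resO (Scheme.AffineZariskiSite.toOpens_mono i.unop.le) r) =
      symRes E (Scheme.AffineZariskiSite.toOpens_mono i.unop.le)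
        (algebraMap Γ(S, U.unop.1) (SymU E U.unop.1) r)
    exact (SymLoc.symMap_algebraMap (resO (Scheme.AffineZariskiSite.toOpens_mono i.unop.le))
      (resE E (Scheme.AffineZariskiSite.toOpens_mono i.unop.le)) (resE_smul E _) r).symm

open Groth.Agent.Lib.Helper61 in
/-- the presheaf of symmetric algebras of a quasi-coherent module has the localization property. -/
theorem coequifibered [E.IsQuasicoherent] : (α E).Coequifibered := by
  refine Scheme.AffineZariskiSite.coequifibered_iff_forall_isLocalizationAway.mpr (fun U f => ?_)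
  letI := QCohSections.resModule E (S.basicOpen_le f)
  haveI := QCohSections.isScalarTower_res E (S.basicOpen_le f)
  haveI := U.2.isLocalization_basicOpen f
  haveI := QCohSections.isLocalizedModule_res_basicOpen E U.2 f
  exact SymLoc.isLocalization_away_symMapLin (R' := Γ(S, S.basicOpen f)) f
    (QCohSections.resLinear E (S.basicOpen_le f))

variable [E.IsQuasicoherent]

/-- the symmetric algebra of a quasi-coherent module, as a quasi-coherent algebra. -/
noncomputable def symAlg : RelSpec.QCAlg S := AffAlg.alg (coequifibered E)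

/-- over an affine open: `Sym(E)(U) → Sym_{O(U)}(E(U))`. -/
noncomputable def secU (U : S.Opens) (hU : IsAffineOpen U) :
    (symAlg E).presheaf.obj (op U) →+* SymU E U :=
  (AffAlg.sec (coequifibered E) U hU).hom

/-- over an affine open: `Sym_{O(U)}(E(U)) → Sym(E)(U)`. -/
noncomputable def secInvU (U : S.Opens) (hU : IsAffineOpen U) :
    SymU E U →+* (symAlg E).presheaf.obj (op U) :=
  haveI := AffAlg.isIso_sec (coequifibered E) U hU
  (inv (AffAlg.sec (coequifibered E) U hU)).hom

theorem secU_secInvU (U : S.Opens) (hU : IsAffineOpen U) (x : SymU E U) :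
    secU E U hU (secInvU E U hU x) = x := by
  haveI := AffAlg.isIso_sec (coequifibered E) U hU
  have h := IsIso.inv_hom_id (AffAlg.sec (coequifibered E) U hU)
  exact congrArg (fun f => f.hom x) h

theorem secInvU_secU (U : S.Opens) (hU : IsAffineOpen U) (y : (symAlg E).presheaf.obj (op U)) :
    secInvU E U hU (secU E U hU y) = y := by
  haveI := AffAlg.isIso_sec (coequifibered E) U hU
  have h := IsIso.hom_inv_id (AffAlg.sec (coequifibered E) U hU)
  exact congrArg (fun f => f.hom y) h

theorem secU_injective (U : S.Opens) (hU : IsAffineOpen U) :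
    Function.Injective (secU E U hU) :=
  Function.LeftInverse.injective (secInvU_secU E U hU)

theorem secU_str (U : S.Opens) (hU : IsAffineOpen U) (r : Γ(S, U)) :
    secU E U hU (((symAlg E).str.app (op U)).hom r) = algebraMap Γ(S, U) (SymU E U) r := by
  have h := AffAlg.π_app_sec (coequifibered E) U hU
  exact congrArg (fun f => f.hom r) h

theorem secInvU_algebraMap (U : S.Opens) (hU : IsAffineOpen U) (r : Γ(S, U)) :
    secInvU E U hU (algebraMap Γ(S, U) (SymU E U) r) = ((symAlg E).str.app (op U)).hom r := by
  rw [← secU_str E U hU r, secInvU_secU]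

theorem secU_res {U W : S.AffineZariskiSite} (i : W ⟶ U)
    (y : (symAlg E).presheaf.obj (op U.1)) :
    secU E W.1 W.2 (((symAlg E).presheaf.map
        (homOfLE (Scheme.AffineZariskiSite.toOpens_mono i.le)).op).hom y) =
      symRes E (Scheme.AffineZariskiSite.toOpens_mono i.le) (secU E U.1 U.2 y) := by
  have h := AffAlg.sec_naturality (coequifibered E) i
  exact congrArg (fun f => f.hom y) h

/-- the canonical map `E → Sym(E)` over the affine opens. -/
noncomputable def jData : ModAff.AffData E (symAlg E).toModule where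
  f U hU := (secInvU E U hU).toAddMonoidHom.comp
    (SymmetricAlgebra.ι Γ(S, U) Γ(E, U)).toAddMonoidHom
  nat {U W} i x := by
    apply secU_injective E W.1 W.2
    change secU E W.1 W.2 (((symAlg E).presheaf.map
        (homOfLE (Scheme.AffineZariskiSite.toOpens_mono i.le)).op).hom
        (secInvU E U.1 U.2 (SymmetricAlgebra.ι Γ(S, U.1) Γ(E, U.1) x))) =
      secU E W.1 W.2 (secInvU E W.1 W.2 (SymmetricAlgebra.ι Γ(S, W.1) Γ(E, W.1)
        (resE E (Scheme.AffineZariskiSite.toOpens_mono i.le) x)))
    rw [secU_res E i, secU_secInvU, secU_secInvU]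
    exact SymLoc.symMap_ι _ _ _ x
  lin U hU r x := by
    change secInvU E U hU (SymmetricAlgebra.ι Γ(S, U) Γ(E, U) (r • x)) =
      ((symAlg E).str.app (op U)).hom r * secInvU E U hU (SymmetricAlgebra.ι Γ(S, U) Γ(E, U) x)
    rw [LinearMap.map_smul, Algebra.smul_def, map_mul, secInvU_algebraMap]

/-- the canonical map `E → Sym(E)`. -/
noncomputable def jSym : E ⟶ (symAlg E).toModule := (jData E).hom

theorem jSym_app (U : S.Opens) (hU : IsAffineOpen U) (x : Γ(E, U)) :
    (jSym E).app U x = secInvU E U hU (SymmetricAlgebra.ι Γ(S, U) Γ(E, U) x) :=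
  (jData E).hom_app U hU x

section universal

variable (B : RelSpec.QCAlg S) (φ : E ⟶ B.toModule)

/-- a module map to a quasi-coherent algebra, over an open, as an additive map to the ring of
sections. -/
noncomputable def phiU (U : S.Opens) : Γ(E, U) →+ B.presheaf.obj (op U) :=
  (φ.app U).hom

omit [E.IsQuasicoherent] in
theorem phiU_smul (U : S.Opens) (r : Γ(S, U)) (x : Γ(E, U)) :
    phiU E B φ U (r • x) = (B.str.app (op U)).hom r * phiU E B φ U x :=
  φ.app_smul r x

omit [E.IsQuasicoherent] in
theorem phiU_res {U W : S.Opens} (h : W ≤ U) (x : Γ(E, U)) :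
    (B.presheaf.map (homOfLE h).op).hom (phiU E B φ U x) = phiU E B φ W (resE E h x) := by
  have n1 := congrArg (fun f => f x) (φ.mapPresheaf.naturality (homOfLE h).op)
  exact n1.symm

/-- the extension over an open of a module map to a ring homomorphism on the symmetric algebra. -/
noncomputable def tauU (U : S.Opens) : SymU E U →+* B.presheaf.obj (op U) :=
  SymLoc.liftRing (B.str.app (op U)).hom (phiU E B φ U) (phiU_smul E B φ U)

omit [E.IsQuasicoherent] in
theorem tauU_res {U W : S.Opens} (h : W ≤ U) :
    (tauU E B φ W).comp (symRes E h) = (B.presheaf.map (homOfLE h).op).hom.comp (tauU E B φ U) := by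
  refine SymLoc.ringHom_ext (fun r => ?_) (fun x => ?_)
  · rw [RingHom.comp_apply, RingHom.comp_apply]
    unfold symRes tauU
    rw [SymLoc.symMap_algebraMap, SymLoc.liftRing_algebraMap, SymLoc.liftRing_algebraMap]
    exact congrArg (fun f => f.hom r) (B.str.naturality (homOfLE h).op)
  · rw [RingHom.comp_apply, RingHom.comp_apply]
    unfold symRes tauU
    rw [SymLoc.symMap_ι, SymLoc.liftRing_ι, SymLoc.liftRing_ι]
    exact (phiU_res E B φ h x).symm

/-- the family of extensions as a natural transformation on the affine opens. -/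
noncomputable def tau : F E ⟶ (Scheme.AffineZariskiSite.toOpensFunctor S).op ⋙ B.presheaf where
  app U := CommRingCat.ofHom (tauU E B φ U.unop.1)
  naturality U W i := by
    ext x
    exact congrArg (fun f => f x)
      (tauU_res E B φ (Scheme.AffineZariskiSite.toOpens_mono i.unop.le))

theorem alpha_tau :
    α E ≫ tau E B φ = (Scheme.AffineZariskiSite.toOpensFunctor S).op.whiskerLeft B.str := by
  ext U r
  change tauU E B φ U.unop.1 (algebraMap Γ(S, U.unop.1) (SymU E U.unop.1) r) =
    (B.str.app (op U.unop.1)).hom r
  exact SymLoc.liftRing_algebraMap (B.str.app (op U.unop.1)).hom (phiU E B φ U.unop.1)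
    (phiU_smul E B φ U.unop.1) r

/-- the homomorphism of algebras `Sym(E) ⟶ B` extending a module map `E ⟶ B`. -/
noncomputable def symLift : symAlg E ⟶ B :=
  AffAlg.algHom (coequifibered E) B (tau E B φ) (alpha_tau E B φ)

theorem symLift_app (U : S.Opens) (hU : IsAffineOpen U) (y : (symAlg E).presheaf.obj (op U)) :
    ((symLift E B φ).hom.app (op U)).hom y = tauU E B φ U (secU E U hU y) := by
  have h := AffAlg.algHom_app (coequifibered E) U hU B (tau E B φ) (alpha_tau E B φ)
  exact congrArg (fun f => f.hom y) h

theorem jSym_symLift : jSym E ≫ RelSpec.QCAlg.Hom.toModuleMap (symLift E B φ) = φ := by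
  refine ModAff.hom_ext_affine (fun U hU x => ?_)
  change ((symLift E B φ).hom.app (op U)).hom ((jSym E).app U x) = φ.app U x
  rw [jSym_app E U hU, symLift_app E B φ U hU, secU_secInvU]
  exact SymLoc.liftRing_ι _ _ _ x

theorem symLift_unique (ψ : symAlg E ⟶ B)
    (hψ : jSym E ≫ RelSpec.QCAlg.Hom.toModuleMap ψ = φ) : ψ = symLift E B φ := by
  refine AffAlg.hom_ext_affine (fun U hU => ?_)
  ext y
  rw [symLift_app E B φ U hU]
  have key : (ψ.hom.app (op U)).hom.comp (secInvU E U hU) = tauU E B φ U := by
    refine SymLoc.ringHom_ext (fun r => ?_) (fun x => ?_)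
    · rw [RingHom.comp_apply, secInvU_algebraMap]
      unfold tauU
      rw [SymLoc.liftRing_algebraMap]
      exact congrArg (fun f => f.hom r) (NatTrans.congr_app ψ.comm (op U))
    · rw [RingHom.comp_apply]
      unfold tauU
      rw [SymLoc.liftRing_ι, ← jSym_app E U hU]
      exact congrArg (fun f => f.app U x) hψ
  have h2 := congrArg (fun f => f (secU E U hU y)) key
  simp only [RingHom.comp_apply] at h2
  rw [secInvU_secU] at h2
  exact h2

/-- `Sym(E)` with `E → Sym(E)` is a symmetric algebra of `E` in the sense of the frozen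
`RelSpec.IsSymAlg`. -/
theorem isSymAlg : RelSpec.IsSymAlg E (symAlg E) (jSym E) := fun B φ =>
  ⟨symLift E B φ, jSym_symLift E B φ, fun ψ hψ => symLift_unique E B φ ψ hψ⟩

end universal

end Groth.Agent.Lib.Helper42.SymAlg
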