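import Groth.Agent.Lib.Helper42.SymAlg

/-!
# Structure of a symmetric algebra of a quasi-coherent module over the affine opens (helper42)

If `(A, j)` is a symmetric algebra of the quasi-coherent module `E` in the sense of the frozen
`RelSpec.IsSymAlg`, then over every affine open `U` the ring `A(U)` is the symmetric algebra of the
`O(U)`-module `E(U)`: the canonical ring homomorphism `Sym_{O(U)}(E(U)) → A(U)` is bijective.
-/

set_option autoImplicit false

universe u

namespace Groth.Agent.Lib.Helper42.SymAlg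

open CategoryTheory CategoryTheory.Limits AlgebraicGeometry TopologicalSpace Opposite

variable {S : Scheme.{u}} (E : S.Modules)

theorem toModuleMap_comp {A B C : RelSpec.QCAlg S} (f : A ⟶ B) (g : B ⟶ C) :
    RelSpec.QCAlg.Hom.toModuleMap (f ≫ g) =
      RelSpec.QCAlg.Hom.toModuleMap f ≫ RelSpec.QCAlg.Hom.toModuleMap g := by
  refine Scheme.Modules.hom_ext _ _ (fun U => ?_)
  ext x
  rfl

theorem toModuleMap_id (A : RelSpec.QCAlg S) :
    RelSpec.QCAlg.Hom.toModuleMap (𝟙 A) = 𝟙 A.toModule := by
  refine Scheme.Modules.hom_ext _ _ (fun U => ?_)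
  ext x
  rfl

variable [E.IsQuasicoherent] {A : RelSpec.QCAlg S} {j : E ⟶ A.toModule}

/-- a symmetric algebra of `E` is isomorphic to the constructed one, via `symLift`. -/
theorem exists_iso' (hA : RelSpec.IsSymAlg E A j) :
    ∃ e : symAlg E ≅ A, e.hom = symLift E A j := by
  obtain ⟨ψ, hψ, -⟩ := hA (symAlg E) (jSym E)
  have hψ' : j ≫ RelSpec.QCAlg.Hom.toModuleMap ψ = jSym E := hψ
  have h1 : symLift E A j ≫ ψ = 𝟙 (symAlg E) := by
    have u1 := symLift_unique E (symAlg E) (jSym E) (symLift E A j ≫ ψ) (by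
      rw [toModuleMap_comp, ← Category.assoc, jSym_symLift, hψ'])
    have u2 := symLift_unique E (symAlg E) (jSym E) (𝟙 (symAlg E)) (by
      rw [toModuleMap_id, Category.comp_id])
    rw [u1, u2]
  have h2 : ψ ≫ symLift E A j = 𝟙 A := by
    obtain ⟨χ, -, huniq⟩ := hA A j
    have e1 : j ≫ RelSpec.QCAlg.Hom.toModuleMap (ψ ≫ symLift E A j) = j := by
      rw [toModuleMap_comp, ← Category.assoc, hψ', jSym_symLift]
    have e2 : j ≫ RelSpec.QCAlg.Hom.toModuleMap (𝟙 A) = j := by
      rw [toModuleMap_id, Category.comp_id]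
    have u1 := huniq (ψ ≫ symLift E A j) e1
    have u2 := huniq (𝟙 A) e2
    rw [u1, u2]
  exact ⟨⟨symLift E A j, ψ, h1, h2⟩, rfl⟩

/-- a symmetric algebra of `E` is isomorphic to the constructed one, compatibly with the maps from
`E`. -/
theorem exists_iso (hA : RelSpec.IsSymAlg E A j) :
    ∃ e : symAlg E ≅ A, jSym E ≫ RelSpec.QCAlg.Hom.toModuleMap e.hom = j := by
  obtain ⟨e, he⟩ := exists_iso' E hA
  exact ⟨e, by rw [he]; exact jSym_symLift E A j⟩

/-- over an affine open `U`, a symmetric algebra `A` of `E` is the symmetric algebra of the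
`O(U)`-module `E(U)`. -/
theorem bijective_tauU (hA : RelSpec.IsSymAlg E A j) (U : S.Opens) (hU : IsAffineOpen U) :
    Function.Bijective (tauU E A j U) := by
  obtain ⟨e, he⟩ := exists_iso' E hA
  have hcomp : ∀ y : (symAlg E).presheaf.obj (op U),
      tauU E A j U (secU E U hU y) = (e.hom.hom.app (op U)).hom y := by
    intro y
    rw [he]
    exact (symLift_app E A j U hU y).symm
  have hbij2 : Function.Bijective (e.hom.hom.app (op U)).hom := by
    have hiso : IsIso (e.hom.hom.app (op U)) := by
      refine ⟨⟨e.inv.hom.app (op U), ?_, ?_⟩⟩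
      · have := congrArg (fun f => f.hom.app (op U)) e.hom_inv_id
        exact this
      · have := congrArg (fun f => f.hom.app (op U)) e.inv_hom_id
        exact this
    exact ConcreteCategory.bijective_of_isIso (e.hom.hom.app (op U))
  have hfun : (tauU E A j U : SymU E U → A.presheaf.obj (op U)) =
      (e.hom.hom.app (op U)).hom ∘ (secInvU E U hU) := by
    funext x
    have := hcomp (secInvU E U hU x)
    rw [secU_secInvU] at this
    exact this
  rw [hfun]
  exact hbij2.comp ⟨Function.LeftInverse.injective (secU_secInvU E U hU),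
    fun y => ⟨secU E U hU y, secInvU_secU E U hU y⟩⟩

end Groth.Agent.Lib.Helper42.SymAlg
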