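import Groth.Agent.Lib.Helper42.SymAlg2

/-!
# Functoriality of the symmetric algebra over the affine opens (helper42)

For symmetric algebras `(A, j)` of `E` and `(B, k)` of `F`, a module map `u : E ⟶ F` and an algebra
map `ψ : A ⟶ B` extending it, over an affine open `U` the map `ψ(U)` is identified with
`Sym(u(U)) : Sym(E(U)) → Sym(F(U))`.
-/

set_option autoImplicit false

universe u

namespace Groth.Agent.Lib.Helper42.SymLoc

variable {R R' : Type u} [CommRing R] [CommRing R']
  {M M' : Type u} [AddCommGroup M] [Module R M] [AddCommGroup M'] [Module R' M']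

theorem symMap_surjective (ρ : R →+* R') (l : M →+ M')
    (hl : ∀ (a : R) (m : M), l (a • m) = ρ a • l m) (hρ : Function.Surjective ρ)
    (hls : Function.Surjective l) : Function.Surjective (symMap ρ l hl) := by
  intro y
  induction y using SymmetricAlgebra.induction with
  | algebraMap r =>
    obtain ⟨a, rfl⟩ := hρ r
    exact ⟨algebraMap R (SymmetricAlgebra R M) a, symMap_algebraMap ρ l hl a⟩
  | ι m =>
    obtain ⟨x, rfl⟩ := hls m
    exact ⟨SymmetricAlgebra.ι R M x, symMap_ι ρ l hl x⟩
  | mul a b ha hb =>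
    obtain ⟨a', rfl⟩ := ha
    obtain ⟨b', rfl⟩ := hb
    exact ⟨a' * b', map_mul _ _ _⟩
  | add a b ha hb =>
    obtain ⟨a', rfl⟩ := ha
    obtain ⟨b', rfl⟩ := hb
    exact ⟨a' + b', map_add _ _ _⟩

end Groth.Agent.Lib.Helper42.SymLoc

namespace Groth.Agent.Lib.Helper42.SymAlg

open CategoryTheory CategoryTheory.Limits AlgebraicGeometry TopologicalSpace Opposite

variable {S : Scheme.{u}} {E F : S.Modules} (u : E ⟶ F)

/-- the map on sections of a module map, as an additive map. -/
noncomputable def appAdd (U : S.Opens) : Γ(E, U) →+ Γ(F, U) := (u.app U).hom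

theorem appAdd_smul (U : S.Opens) (r : Γ(S, U)) (x : Γ(E, U)) :
    appAdd u U (r • x) = (RingHom.id Γ(S, U)) r • appAdd u U x :=
  u.app_smul r x

/-- `Sym(u(U)) : Sym(E(U)) → Sym(F(U))`. -/
noncomputable def symAppU (U : S.Opens) : SymU E U →+* SymU F U :=
  SymLoc.symMap (RingHom.id Γ(S, U)) (appAdd u U) (appAdd_smul u U)

theorem symAppU_surjective (U : S.Opens) (h : Function.Surjective (u.app U)) :
    Function.Surjective (symAppU u U) :=
  SymLoc.symMap_surjective _ _ _ Function.surjective_id h

variable {A B : RelSpec.QCAlg S} {j : E ⟶ A.toModule} {k : F ⟶ B.toModule}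

/-- an algebra map extending `u` is `Sym(u(U))` over `U`, after the canonical maps from the
symmetric algebras of sections. -/
theorem comp_tauU (ψ : A ⟶ B) (hψ : j ≫ RelSpec.QCAlg.Hom.toModuleMap ψ = u ≫ k) (U : S.Opens) :
    (ψ.hom.app (op U)).hom.comp (tauU E A j U) = (tauU F B k U).comp (symAppU u U) := by
  refine SymLoc.ringHom_ext (fun r => ?_) (fun x => ?_)
  · rw [RingHom.comp_apply, RingHom.comp_apply]
    unfold tauU symAppU
    rw [SymLoc.liftRing_algebraMap, SymLoc.symMap_algebraMap, SymLoc.liftRing_algebraMap]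
    exact congrArg (fun f => f.hom r) (NatTrans.congr_app ψ.comm (op U))
  · rw [RingHom.comp_apply, RingHom.comp_apply]
    unfold tauU symAppU
    rw [SymLoc.liftRing_ι, SymLoc.symMap_ι, SymLoc.liftRing_ι]
    exact congrArg (fun f => f.app U x) hψ

variable [E.IsQuasicoherent] [F.IsQuasicoherent]

/-- surjectivity of `u` on the sections over an affine open gives surjectivity of the extension
`ψ` there. -/
theorem surjective_of_surjective (hA : RelSpec.IsSymAlg E A j) (hB : RelSpec.IsSymAlg F B k)
    (ψ : A ⟶ B) (hψ : j ≫ RelSpec.QCAlg.Hom.toModuleMap ψ = u ≫ k) (U : S.Opens)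
    (hU : IsAffineOpen U) (h : Function.Surjective (u.app U)) :
    Function.Surjective (ψ.hom.app (op U)).hom := by
  have h1 := bijective_tauU E hA U hU
  have h2 := bijective_tauU F hB U hU
  have key := comp_tauU u ψ hψ U
  intro y
  obtain ⟨z, rfl⟩ := h2.2 y
  obtain ⟨w, rfl⟩ := symAppU_surjective u U h z
  refine ⟨tauU E A j U w, ?_⟩
  exact congrArg (fun f => f w) key

omit [E.IsQuasicoherent] [F.IsQuasicoherent] in
theorem comp_tauU_apply (ψ : A ⟶ B) (hψ : j ≫ RelSpec.QCAlg.Hom.toModuleMap ψ = u ≫ k)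
    (U : S.Opens) (w : SymU E U) :
    (ψ.hom.app (op U)).hom (tauU E A j U w) = tauU F B k U (symAppU u U w) :=
  congrArg (fun f => f w) (comp_tauU u ψ hψ U)

end Groth.Agent.Lib.Helper42.SymAlg
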