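import Groth.Agent.Lib.Helper42.SymAlg3

/-!
# Recognizing symmetric algebras over the affine opens (helper42)

* `AffAlg.isIso_of_bijective_affine`: a homomorphism of quasi-coherent algebras which is bijective
  over every affine open is an isomorphism.
* `SymAlg.isSymAlg_of_bijective_tauU`: if `Sym_{O(U)}(E(U)) → A(U)` is bijective over every affine
  open `U`, then `(A, j)` is a symmetric algebra of `E` (converse of `SymAlg.bijective_tauU`).
-/

set_option autoImplicit false

universe u

namespace Groth.Agent.Lib.Helper42.AffAlg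

open CategoryTheory CategoryTheory.Limits AlgebraicGeometry TopologicalSpace Opposite

variable {S : Scheme.{u}} {A B : RelSpec.QCAlg S}

/-- a homomorphism of quasi-coherent algebras which is bijective over every affine open is an
isomorphism. -/
theorem isIso_of_bijective_affine (ψ : A ⟶ B)
    (h : ∀ (U : S.Opens) (_ : IsAffineOpen U), Function.Bijective (ψ.hom.app (op U)).hom) :
    IsIso ψ := by
  have hiso : ∀ U : S.AffineZariskiSite, IsIso (ψ.hom.app (op U.1)) := fun U =>
    (ConcreteCategory.isIso_iff_bijective _).mpr (h U.1 U.2)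
  let e : ∀ U : S.AffineZariskiSite, A.presheaf.obj (op U.1) ≅ B.presheaf.obj (op U.1) := fun U =>
    @asIso _ _ _ _ (ψ.hom.app (op U.1)) (hiso U)
  have he : ∀ U : S.AffineZariskiSite, (e U).hom = ψ.hom.app (op U.1) := fun _ => rfl
  let τ : (Scheme.AffineZariskiSite.toOpensFunctor S).op ⋙ B.presheaf ⟶
      (Scheme.AffineZariskiSite.toOpensFunctor S).op ⋙ A.presheaf :=
    { app := fun U => (e U.unop).inv
      naturality := fun U V i => by
        have h1 := ψ.hom.naturality ((Scheme.AffineZariskiSite.toOpensFunctor S).op.map i)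
        have h2 : (e U.unop).hom ≫
            B.presheaf.map ((Scheme.AffineZariskiSite.toOpensFunctor S).op.map i) =
            A.presheaf.map ((Scheme.AffineZariskiSite.toOpensFunctor S).op.map i) ≫
              (e V.unop).hom := h1.symm
        change B.presheaf.map ((Scheme.AffineZariskiSite.toOpensFunctor S).op.map i) ≫
            (e V.unop).inv =
          (e U.unop).inv ≫
            A.presheaf.map ((Scheme.AffineZariskiSite.toOpensFunctor S).op.map i)
        exact ((Iso.inv_comp_eq (e U.unop)).mpr
          ((Category.assoc _ _ _).symm.trans ((Iso.comp_inv_eq (e V.unop)).mpr h2)).symm).symm }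
  have hτ : ∀ U : S.AffineZariskiSite, B.str.app (op U.1) ≫ τ.app (op U) = A.str.app (op U.1) := by
    intro U
    change B.str.app (op U.1) ≫ (e U).inv = A.str.app (op U.1)
    rw [Iso.comp_inv_eq, he, ← NatTrans.comp_app, ψ.comm]
  refine ⟨⟨homOfAffine B A τ hτ, ?_, ?_⟩⟩
  · refine hom_ext_affine (fun U hU => ?_)
    change ψ.hom.app (op U) ≫ (homOfAffine B A τ hτ).hom.app (op U) = 𝟙 _
    rw [homOfAffine_app B A τ hτ ⟨U, hU⟩]
    exact (e ⟨U, hU⟩).hom_inv_id
  · refine hom_ext_affine (fun U hU => ?_)
    change (homOfAffine B A τ hτ).hom.app (op U) ≫ ψ.hom.app (op U) = 𝟙 _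
    rw [homOfAffine_app B A τ hτ ⟨U, hU⟩]
    exact (e ⟨U, hU⟩).inv_hom_id

end Groth.Agent.Lib.Helper42.AffAlg

namespace Groth.Agent.Lib.Helper42.SymAlg

open CategoryTheory CategoryTheory.Limits AlgebraicGeometry TopologicalSpace Opposite

variable {S : Scheme.{u}} (E : S.Modules) [E.IsQuasicoherent]
  {A : RelSpec.QCAlg S} {j : E ⟶ A.toModule}

/-- if `Sym_{O(U)}(E(U)) → A(U)` is bijective over every affine open `U`, then `(A, j)` is a
symmetric algebra of `E`. -/
theorem isSymAlg_of_bijective_tauU
    (h : ∀ (U : S.Opens) (_ : IsAffineOpen U), Function.Bijective (tauU E A j U)) :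
    RelSpec.IsSymAlg E A j := by
  have hiso : IsIso (symLift E A j) := by
    refine AffAlg.isIso_of_bijective_affine _ (fun U hU => ?_)
    have hfun : (((symLift E A j).hom.app (op U)).hom : _ → _) = tauU E A j U ∘ secU E U hU := by
      funext y
      exact symLift_app E A j U hU y
    rw [hfun]
    exact (h U hU).comp ⟨secU_injective E U hU, fun x => ⟨secInvU E U hU x, secU_secInvU E U hU x⟩⟩
  intro B φ
  have hj : j ≫ RelSpec.QCAlg.Hom.toModuleMap (inv (symLift E A j)) = jSym E := by
    calc j ≫ RelSpec.QCAlg.Hom.toModuleMap (inv (symLift E A j))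
        = (jSym E ≫ RelSpec.QCAlg.Hom.toModuleMap (symLift E A j)) ≫
            RelSpec.QCAlg.Hom.toModuleMap (inv (symLift E A j)) := by rw [jSym_symLift]
      _ = jSym E := by
          rw [Category.assoc, ← toModuleMap_comp, IsIso.hom_inv_id, toModuleMap_id,
            Category.comp_id]
  refine ⟨inv (symLift E A j) ≫ symLift E B φ, ?_, ?_⟩
  · change j ≫ RelSpec.QCAlg.Hom.toModuleMap (inv (symLift E A j) ≫ symLift E B φ) = φ
    rw [toModuleMap_comp, ← Category.assoc, hj, jSym_symLift]
  · intro ψ hψ
    have hψ' : j ≫ RelSpec.QCAlg.Hom.toModuleMap ψ = φ := hψ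
    have h1 : symLift E A j ≫ ψ = symLift E B φ := by
      refine symLift_unique E B φ _ ?_
      rw [toModuleMap_comp, ← Category.assoc, jSym_symLift, hψ']
    rw [← h1, IsIso.inv_hom_id_assoc]

end Groth.Agent.Lib.Helper42.SymAlg
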