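import Groth.Agent.Lib.Helper42.SymLoc
import Mathlib.Algebra.Category.Ring.Constructions
import Mathlib.LinearAlgebra.TensorProduct.Tower

/-!
# The symmetric algebra commutes with base change (helper42)

`SymLoc.isPushout_of_baseChange` : if `M' ≅ R' ⊗_R M`, `AU ≅ Sym_R M`, `BU ≅ Sym_{R'} M'` and
`w : AU → BU` is compatible with the structure maps and the maps from the modules, then the square
`R → R'`, `R → AU`, `R' → BU`, `AU → BU` is a pushout of commutative rings.
-/

set_option autoImplicit false

universe u

namespace Groth.Agent.Lib.Helper42.SymLoc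

open TensorProduct CategoryTheory CategoryTheory.Limits

section

variable {R R' : Type u} [CommRing R] [CommRing R'] [Algebra R R']
  {M M' : Type u} [AddCommGroup M] [Module R M] [AddCommGroup M'] [Module R' M']
  (κ : R' ⊗[R] M ≃ₗ[R'] M')
  {AU BU : Type u} [CommRing AU] [CommRing BU]
  (strA : R →+* AU) (phiA : M →+ AU) (hphiA : ∀ (r : R) (m : M), phiA (r • m) = strA r * phiA m)
  (strB : R' →+* BU) (phiB : M' →+ BU)
  (hphiB : ∀ (r : R') (m : M'), phiB (r • m) = strB r * phiB m)

section desc

variable {T : Type u} [CommRing T] (α : R' →+* T) (β : AU →+* T)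
  (hαβ : ∀ r : R, α (algebraMap R R' r) = β (strA r))

/-- the biadditive map `(r', m) ↦ α r' * β (phiA m)`. -/
noncomputable def descBil : R' →+ M →+ T :=
  ((AddMonoidHom.mul : T →+ T →+ T).comp (α : R' →+ T)).compl₂ ((β : AU →+ T).comp phiA)

omit [Algebra R R'] [Module R M] in
theorem descBil_apply (r' : R') (m : M) : descBil phiA α β r' m = α r' * β (phiA m) := rfl

include hphiA hαβ in
theorem descBil_balanced (r : R) (r' : R') (m : M) :
    descBil phiA α β (r • r') m = descBil phiA α β r' (r • m) := by
  rw [descBil_apply, descBil_apply, hphiA, Algebra.smul_def, map_mul, map_mul, hαβ]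
  ring

/-- the additive map `R' ⊗ M → T`. -/
noncomputable def descTensor : R' ⊗[R] M →+ T :=
  TensorProduct.liftAddHom (descBil phiA α β) (descBil_balanced strA phiA hphiA α β hαβ)

theorem descTensor_tmul (r' : R') (m : M) :
    descTensor strA phiA hphiA α β hαβ (r' ⊗ₜ m) = α r' * β (phiA m) := rfl

theorem descTensor_smul (r' : R') (x : R' ⊗[R] M) :
    descTensor strA phiA hphiA α β hαβ (r' • x) =
      α r' * descTensor strA phiA hphiA α β hαβ x := by
  induction x with
  | zero => simp
  | add x y hx hy => rw [smul_add, map_add, map_add, hx, hy, mul_add]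
  | tmul a m =>
    rw [TensorProduct.smul_tmul', descTensor_tmul, descTensor_tmul, smul_eq_mul, map_mul,
      mul_assoc]

/-- the additive map `M' → T`. -/
noncomputable def descMod : M' →+ T :=
  (descTensor strA phiA hphiA α β hαβ).comp (κ.symm : M' →+ R' ⊗[R] M)

theorem descMod_smul (r' : R') (x : M') :
    descMod κ strA phiA hphiA α β hαβ (r' • x) =
      α r' * descMod κ strA phiA hphiA α β hαβ x := by
  change descTensor strA phiA hphiA α β hαβ (κ.symm (r' • x)) =
    α r' * descTensor strA phiA hphiA α β hαβ (κ.symm x)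
  rw [map_smul, descTensor_smul]

theorem descMod_kappa (r' : R') (m : M) :
    descMod κ strA phiA hphiA α β hαβ (κ (r' ⊗ₜ m)) = α r' * β (phiA m) := by
  change descTensor strA phiA hphiA α β hαβ (κ.symm (κ (r' ⊗ₜ m))) = _
  rw [LinearEquiv.symm_apply_apply, descTensor_tmul]

end desc

variable (hA : Function.Bijective (liftRing strA phiA hphiA))
  (hB : Function.Bijective (liftRing strB phiB hphiB))
  (w : AU →+* BU) (hw1 : ∀ r : R, w (strA r) = strB (algebraMap R R' r))
  (hw2 : ∀ m : M, w (phiA m) = phiB (κ (1 ⊗ₜ m)))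

include hA hB hw1 hw2 in
theorem isPushout_of_baseChange :
    IsPushout (CommRingCat.ofHom (algebraMap R R')) (CommRingCat.ofHom strA)
      (CommRingCat.ofHom strB) (CommRingCat.ofHom w) := by
  have hwsq : CommRingCat.ofHom (algebraMap R R') ≫ CommRingCat.ofHom strB =
      CommRingCat.ofHom strA ≫ CommRingCat.ofHom w := by
    ext r
    exact (hw1 r).symm
  let eB := RingEquiv.ofBijective _ hB
  have heB : ∀ x, liftRing strB phiB hphiB (eB.symm x) = x := fun x => eB.apply_symm_apply x
  have heB' : ∀ y, eB.symm (liftRing strB phiB hphiB y) = y := fun y => eB.symm_apply_apply y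
  -- the data extracted from a cocone
  have hcond : ∀ s : PushoutCocone (CommRingCat.ofHom (algebraMap R R')) (CommRingCat.ofHom strA),
      ∀ r : R, s.inl.hom (algebraMap R R' r) = s.inr.hom (strA r) := by
    intro s r
    exact congrArg (fun φ => φ.hom r) s.condition
  let γ₀ : ∀ s : PushoutCocone (CommRingCat.ofHom (algebraMap R R')) (CommRingCat.ofHom strA),
      SymmetricAlgebra R' M' →+* s.pt := fun s =>
    liftRing s.inl.hom (descMod κ strA phiA hphiA s.inl.hom s.inr.hom (hcond s))
      (descMod_smul κ strA phiA hphiA s.inl.hom s.inr.hom (hcond s))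
  let γ : ∀ s : PushoutCocone (CommRingCat.ofHom (algebraMap R R')) (CommRingCat.ofHom strA),
      BU →+* s.pt := fun s => (γ₀ s).comp eB.symm.toRingHom
  have hγstr : ∀ s r', γ s (strB r') = s.inl.hom r' := by
    intro s r'
    change γ₀ s (eB.symm (strB r')) = _
    rw [← liftRing_algebraMap strB phiB hphiB r', heB']
    exact liftRing_algebraMap _ _ _ r'
  have hγphi : ∀ s (x : M'), γ s (phiB x) =
      descMod κ strA phiA hphiA s.inl.hom s.inr.hom (hcond s) x := by
    intro s x
    change γ₀ s (eB.symm (phiB x)) = _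
    rw [← liftRing_ι strB phiB hphiB x, heB']
    exact liftRing_ι _ _ _ x
  refine IsPushout.of_isColimit' ⟨hwsq⟩
    (PushoutCocone.IsColimit.mk hwsq (fun s => CommRingCat.ofHom (γ s)) ?_ ?_ ?_)
  · intro s
    ext r'
    exact hγstr s r'
  · intro s
    -- check after composing with the surjection from `Sym_R M`
    have h1 : ((γ s).comp w).comp (liftRing strA phiA hphiA) =
        s.inr.hom.comp (liftRing strA phiA hphiA) := by
      refine ringHom_ext (fun r => ?_) (fun m => ?_)
      · simp only [RingHom.comp_apply, liftRing_algebraMap]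
        rw [hw1, hγstr, hcond]
      · simp only [RingHom.comp_apply, liftRing_ι]
        rw [hw2, hγphi, descMod_kappa, map_one, one_mul]
    ext a
    obtain ⟨y, rfl⟩ := hA.2 a
    exact congrArg (fun φ => φ y) h1
  · intro s m hm1 hm2
    have hm1' : ∀ r', m.hom (strB r') = s.inl.hom r' := fun r' =>
      congrArg (fun φ => φ.hom r') hm1
    have hm2' : ∀ a, m.hom (w a) = s.inr.hom a := fun a => congrArg (fun φ => φ.hom a) hm2
    have h1 : m.hom.comp (liftRing strB phiB hphiB) = (γ s).comp (liftRing strB phiB hphiB) := by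
      refine ringHom_ext (fun r' => ?_) (fun x => ?_)
      · simp only [RingHom.comp_apply, liftRing_algebraMap]
        rw [hm1', hγstr]
      · simp only [RingHom.comp_apply, liftRing_ι]
        rw [hγphi]
        obtain ⟨y, rfl⟩ := κ.surjective x
        induction y with
        | zero => simp
        | add y z hy hz => rw [map_add, map_add, map_add, map_add, hy, hz]
        | tmul a m₀ =>
          have e1 : κ (a ⊗ₜ[R] m₀) = a • κ ((1 : R') ⊗ₜ[R] m₀) := by
            rw [← map_smul, TensorProduct.smul_tmul', smul_eq_mul, mul_one]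
          rw [descMod_kappa, e1, hphiB, map_mul, hm1', ← hw2, hm2']
    ext b
    obtain ⟨y, rfl⟩ := hB.2 b
    exact congrArg (fun φ => φ y) h1

end

end Groth.Agent.Lib.Helper42.SymLoc
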