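import Groth.Agent.Lib.Helper42.SymAlg3
import Groth.Agent.Lib.Helper42.SpecMapLocal
import Groth.Agent.Lib.Helper42.LocalPullback
import Mathlib.AlgebraicGeometry.Pullbacks

/-!
# The symmetric algebra of a direct sum (helper42)

For symmetric algebras `AE`, `AF`, `A` of `E`, `F`, `E ⊞ F`, over every affine open `U` the ring
`A(U)` is the pushout of `AE(U)` and `AF(U)` over `O(U)`; hence `Spec(A) = Spec(AE) ×_S Spec(AF)`.
-/

set_option autoImplicit false

universe u

namespace Groth.Agent.Lib.Helper42.SymAlg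

open CategoryTheory CategoryTheory.Limits AlgebraicGeometry TopologicalSpace Opposite

variable {S : Scheme.{u}} {E F : S.Modules}
  {AE AF A : RelSpec.QCAlg S} {jE : E ⟶ AE.toModule} {jF : F ⟶ AF.toModule}
  {j : E ⊞ F ⟶ A.toModule}
  (ψE : AE ⟶ A) (ψF : AF ⟶ A)
  (hψE : jE ≫ RelSpec.QCAlg.Hom.toModuleMap ψE = biprod.inl ≫ j)
  (hψF : jF ≫ RelSpec.QCAlg.Hom.toModuleMap ψF = biprod.inr ≫ j)

section ring

variable (U : S.Opens) {T : Type u} [CommRing T]
  (a : AE.presheaf.obj (op U) →+* T) (b : AF.presheaf.obj (op U) →+* T)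
  (hab : a.comp (AE.str.app (op U)).hom = b.comp (AF.str.app (op U)).hom)

/-- the additive map `(E ⊞ F)(U) → T` induced by `a` and `b`. -/
noncomputable def sumAdd : Γ(E ⊞ F, U) →+ T :=
  (a.toAddMonoidHom.comp (phiU E AE jE U)).comp (appAdd (biprod.fst : E ⊞ F ⟶ E) U) +
    (b.toAddMonoidHom.comp (phiU F AF jF U)).comp (appAdd (biprod.snd : E ⊞ F ⟶ F) U)

theorem sumAdd_apply (x : Γ(E ⊞ F, U)) :
    sumAdd (jE := jE) (jF := jF) U a b x =
      a (phiU E AE jE U ((biprod.fst : E ⊞ F ⟶ E).app U x)) +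
        b (phiU F AF jF U ((biprod.snd : E ⊞ F ⟶ F).app U x)) := rfl

include hab in
theorem sumAdd_smul (r : Γ(S, U)) (x : Γ(E ⊞ F, U)) :
    sumAdd (jE := jE) (jF := jF) U a b (r • x) =
      (a.comp (AE.str.app (op U)).hom) r * sumAdd (jE := jE) (jF := jF) U a b x := by
  rw [sumAdd_apply, sumAdd_apply, Scheme.Modules.Hom.app_smul, Scheme.Modules.Hom.app_smul,
    phiU_smul, phiU_smul, map_mul, map_mul, mul_add]
  have h := congrArg (fun f => f r) hab
  simp only [RingHom.comp_apply] at h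
  rw [RingHom.comp_apply, ← h]

/-- the ring homomorphism `Sym((E ⊞ F)(U)) → T` induced by `a` and `b`. -/
noncomputable def sumLift : SymU (E ⊞ F) U →+* T :=
  SymLoc.liftRing (a.comp (AE.str.app (op U)).hom) (sumAdd (jE := jE) (jF := jF) U a b)
    (sumAdd_smul U a b hab)

theorem app_inl_fst (x : Γ(E, U)) :
    (biprod.fst : E ⊞ F ⟶ E).app U ((biprod.inl : E ⟶ E ⊞ F).app U x) = x := by
  have h : (biprod.inl : E ⟶ E ⊞ F) ≫ biprod.fst = 𝟙 E := biprod.inl_fst
  exact congrArg (fun f => f.app U x) h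

theorem app_inl_snd (x : Γ(E, U)) :
    (biprod.snd : E ⊞ F ⟶ F).app U ((biprod.inl : E ⟶ E ⊞ F).app U x) = 0 := by
  have h : (biprod.inl : E ⟶ E ⊞ F) ≫ biprod.snd = 0 := biprod.inl_snd
  exact congrArg (fun f => f.app U x) h

theorem app_inr_fst (x : Γ(F, U)) :
    (biprod.fst : E ⊞ F ⟶ E).app U ((biprod.inr : F ⟶ E ⊞ F).app U x) = 0 := by
  have h : (biprod.inr : F ⟶ E ⊞ F) ≫ biprod.fst = 0 := biprod.inr_fst
  exact congrArg (fun f => f.app U x) h

theorem app_inr_snd (x : Γ(F, U)) :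
    (biprod.snd : E ⊞ F ⟶ F).app U ((biprod.inr : F ⟶ E ⊞ F).app U x) = x := by
  have h : (biprod.inr : F ⟶ E ⊞ F) ≫ biprod.snd = 𝟙 F := biprod.inr_snd
  exact congrArg (fun f => f.app U x) h

theorem app_total (x : Γ(E ⊞ F, U)) :
    (biprod.inl : E ⟶ E ⊞ F).app U ((biprod.fst : E ⊞ F ⟶ E).app U x) +
      (biprod.inr : F ⟶ E ⊞ F).app U ((biprod.snd : E ⊞ F ⟶ F).app U x) = x := by
  have h : (biprod.fst : E ⊞ F ⟶ E) ≫ biprod.inl + biprod.snd ≫ biprod.inr = 𝟙 (E ⊞ F) :=
    biprod.total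
  exact congrArg (fun f => f.app U x) h

include hψE in
theorem j_inl (x : Γ(E, U)) :
    phiU (E ⊞ F) A j U ((biprod.inl : E ⟶ E ⊞ F).app U x) =
      (ψE.hom.app (op U)).hom (phiU E AE jE U x) :=
  (congrArg (fun f => f.app U x) hψE).symm

include hψF in
theorem j_inr (x : Γ(F, U)) :
    phiU (E ⊞ F) A j U ((biprod.inr : F ⟶ E ⊞ F).app U x) =
      (ψF.hom.app (op U)).hom (phiU F AF jF U x) :=
  (congrArg (fun f => f.app U x) hψF).symm

theorem str_ψ {A' : RelSpec.QCAlg S} (ψ : A' ⟶ A) (r : Γ(S, U)) :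
    (ψ.hom.app (op U)).hom ((A'.str.app (op U)).hom r) = (A.str.app (op U)).hom r :=
  congrArg (fun f => f.hom r) (NatTrans.congr_app ψ.comm (op U))

include hab in
/-- the lift restricts to `a` on the first factor. -/
theorem sumLift_inl :
    (sumLift (jE := jE) (jF := jF) U a b hab).comp (symAppU (biprod.inl : E ⟶ E ⊞ F) U) =
      a.comp (tauU E AE jE U) := by
  refine SymLoc.ringHom_ext (fun r => ?_) (fun x => ?_)
  · rw [RingHom.comp_apply, RingHom.comp_apply]
    unfold sumLift symAppU tauU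
    rw [SymLoc.symMap_algebraMap, SymLoc.liftRing_algebraMap, SymLoc.liftRing_algebraMap]
    rfl
  · rw [RingHom.comp_apply, RingHom.comp_apply]
    unfold sumLift symAppU tauU
    rw [SymLoc.symMap_ι, SymLoc.liftRing_ι, SymLoc.liftRing_ι]
    change sumAdd (jE := jE) (jF := jF) U a b ((biprod.inl : E ⟶ E ⊞ F).app U x) = _
    rw [sumAdd_apply, app_inl_fst, app_inl_snd, map_zero, map_zero, add_zero]

include hab in
/-- the lift restricts to `b` on the second factor. -/
theorem sumLift_inr :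
    (sumLift (jE := jE) (jF := jF) U a b hab).comp (symAppU (biprod.inr : F ⟶ E ⊞ F) U) =
      b.comp (tauU F AF jF U) := by
  refine SymLoc.ringHom_ext (fun r => ?_) (fun x => ?_)
  · rw [RingHom.comp_apply, RingHom.comp_apply]
    unfold sumLift symAppU tauU
    rw [SymLoc.symMap_algebraMap, SymLoc.liftRing_algebraMap, SymLoc.liftRing_algebraMap]
    exact congrArg (fun f => f r) hab
  · rw [RingHom.comp_apply, RingHom.comp_apply]
    unfold sumLift symAppU tauU
    rw [SymLoc.symMap_ι, SymLoc.liftRing_ι, SymLoc.liftRing_ι]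
    change sumAdd (jE := jE) (jF := jF) U a b ((biprod.inr : F ⟶ E ⊞ F).app U x) = _
    rw [sumAdd_apply, app_inr_fst, app_inr_snd, map_zero, map_zero, zero_add]

include hψE hψF hab in
/-- a ring homomorphism out of `A(U)` restricting to `a` and `b` is the lift, after the canonical
map from the symmetric algebra of sections. -/
theorem eq_sumLift (c : A.presheaf.obj (op U) →+* T)
    (hca : c.comp (ψE.hom.app (op U)).hom = a) (hcb : c.comp (ψF.hom.app (op U)).hom = b) :
    c.comp (tauU (E ⊞ F) A j U) = sumLift (jE := jE) (jF := jF) U a b hab := by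
  refine SymLoc.ringHom_ext (fun r => ?_) (fun x => ?_)
  · rw [RingHom.comp_apply]
    unfold sumLift tauU
    rw [SymLoc.liftRing_algebraMap, SymLoc.liftRing_algebraMap, ← str_ψ U ψE r, ← hca]
    rfl
  · rw [RingHom.comp_apply]
    unfold sumLift tauU
    rw [SymLoc.liftRing_ι, SymLoc.liftRing_ι, sumAdd_apply]
    conv_lhs => rw [← app_total U x]
    rw [map_add, map_add, j_inl ψE hψE, j_inr ψF hψF, ← hca, ← hcb]
    rfl

end ring

section pushout

variable [E.IsQuasicoherent] [F.IsQuasicoherent] [(E ⊞ F).IsQuasicoherent]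
  (hAE : RelSpec.IsSymAlg E AE jE) (hAF : RelSpec.IsSymAlg F AF jF)
  (hA : RelSpec.IsSymAlg (E ⊞ F) A j) (U : S.Opens) (hU : IsAffineOpen U)

include hψE hψF hAE hAF hA hU in
/-- over an affine open, `A(U)` has the universal property of the pushout of `AE(U)` and `AF(U)`
over `O(U)`. -/
theorem existsUnique_desc {T : Type u} [CommRing T]
    (a : AE.presheaf.obj (op U) →+* T) (b : AF.presheaf.obj (op U) →+* T)
    (hab : a.comp (AE.str.app (op U)).hom = b.comp (AF.str.app (op U)).hom) :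
    ∃! c : A.presheaf.obj (op U) →+* T,
      c.comp (ψE.hom.app (op U)).hom = a ∧ c.comp (ψF.hom.app (op U)).hom = b := by
  have hbA := bijective_tauU (E ⊞ F) hA U hU
  have hbE := bijective_tauU E hAE U hU
  have hbF := bijective_tauU F hAF U hU
  let eA : SymU (E ⊞ F) U ≃+* A.presheaf.obj (op U) := RingEquiv.ofBijective _ hbA
  have heA : ∀ w, eA w = tauU (E ⊞ F) A j U w := fun _ => rfl
  let c : A.presheaf.obj (op U) →+* T :=
    (sumLift (jE := jE) (jF := jF) U a b hab).comp eA.symm.toRingHom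
  have hc : c.comp (tauU (E ⊞ F) A j U) = sumLift (jE := jE) (jF := jF) U a b hab := by
    refine RingHom.ext (fun w => ?_)
    change sumLift (jE := jE) (jF := jF) U a b hab (eA.symm (tauU (E ⊞ F) A j U w)) = _
    rw [← heA, RingEquiv.symm_apply_apply]
  refine ⟨c, ⟨?_, ?_⟩, ?_⟩
  · ext y
    obtain ⟨w, rfl⟩ := hbE.2 y
    rw [RingHom.comp_apply, comp_tauU_apply (biprod.inl : E ⟶ E ⊞ F) ψE hψE U w]
    have h1 := congrArg (fun f => f (symAppU (biprod.inl : E ⟶ E ⊞ F) U w)) hc
    have h2 := congrArg (fun f => f w) (sumLift_inl (jE := jE) (jF := jF) U a b hab)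
    simp only [RingHom.comp_apply] at h1 h2
    rw [h1, h2]
  · ext y
    obtain ⟨w, rfl⟩ := hbF.2 y
    rw [RingHom.comp_apply, comp_tauU_apply (biprod.inr : F ⟶ E ⊞ F) ψF hψF U w]
    have h1 := congrArg (fun f => f (symAppU (biprod.inr : F ⟶ E ⊞ F) U w)) hc
    have h2 := congrArg (fun f => f w) (sumLift_inr (jE := jE) (jF := jF) U a b hab)
    simp only [RingHom.comp_apply] at h1 h2
    rw [h1, h2]
  · rintro c' ⟨hca, hcb⟩
    have h1 := eq_sumLift ψE ψF hψE hψF U a b hab c' hca hcb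
    ext y
    obtain ⟨w, rfl⟩ := hbA.2 y
    have h2 := congrArg (fun f => f w) h1
    have h3 := congrArg (fun f => f w) hc
    simp only [RingHom.comp_apply] at h2 h3
    rw [h2, h3]

include hψE hψF hAE hAF hA hU in
/-- over an affine open, `A(U)` is the pushout of `AE(U)` and `AF(U)` over `O(U)`. -/
theorem isPushout_app :
    IsPushout (AE.str.app (op U)) (AF.str.app (op U)) (ψE.hom.app (op U)) (ψF.hom.app (op U)) := by
  have w : AE.str.app (op U) ≫ ψE.hom.app (op U) = AF.str.app (op U) ≫ ψF.hom.app (op U) := by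
    rw [← NatTrans.comp_app, ← NatTrans.comp_app, ψE.comm, ψF.comm]
  have hex := fun (s : PushoutCocone (AE.str.app (op U)) (AF.str.app (op U))) =>
    existsUnique_desc ψE ψF hψE hψF hAE hAF hA U hU s.inl.hom s.inr.hom (by
      have := s.condition
      exact congrArg (fun f => f.hom) this)
  refine ⟨⟨w⟩, ⟨PushoutCocone.IsColimit.mk w (fun s => CommRingCat.ofHom (hex s).choose) ?_ ?_ ?_⟩⟩
  · intro s
    ext y
    exact congrArg (fun f => f y) (hex s).choose_spec.1.1
  · intro s
    ext y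
    exact congrArg (fun f => f y) (hex s).choose_spec.1.2
  · intro s m hm1 hm2
    have := (hex s).choose_spec.2 m.hom ⟨congrArg (fun f => f.hom) hm1, congrArg (fun f => f.hom) hm2⟩
    ext y
    exact congrArg (fun f => f y) this

end pushout

end Groth.Agent.Lib.Helper42.SymAlg

namespace Groth.Agent.Lib.Helper42.SpecMapLocal

open CategoryTheory CategoryTheory.Limits AlgebraicGeometry TopologicalSpace Opposite

variable {S : Scheme.{u}}

/-- the chart of `Spec(A)` over an affine open `U` is the pullback of `U ⟶ S`. -/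
theorem isPullback_ι_π (A : RelSpec.QCAlg S) (U : S.Opens) (hU : IsAffineOpen U) :
    IsPullback (A.ι U hU) (Spec.map (A.str.app (op U))) A.π hU.fromSpec := by
  refine (IsOpenImmersion.isPullback (Spec.map (A.str.app (op U))) (A.ι U hU) hU.fromSpec A.π
    (A.ι_π U hU) ?_).flip
  rw [hU.opensRange_fromSpec, A.π_preimage U hU]

/-- a square of relative spectra over `S` is a pullback as soon as over every affine open of `S`
the square of rings of sections is a pushout. -/
theorem isPullback_specMap {AE AF A : RelSpec.QCAlg S} (ψE : AE ⟶ A) (ψF : AF ⟶ A)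
    (h : ∀ (U : S.Opens) (_ : IsAffineOpen U),
      IsPushout (AE.str.app (op U)) (AF.str.app (op U)) (ψE.hom.app (op U)) (ψF.hom.app (op U))) :
    IsPullback (RelSpec.QCAlg.specMap ψE) (RelSpec.QCAlg.specMap ψF) AE.π AF.π := by
  have w : RelSpec.QCAlg.specMap ψE ≫ AE.π = RelSpec.QCAlg.specMap ψF ≫ AF.π := by
    rw [RelSpec.QCAlg.specMap_π, RelSpec.QCAlg.specMap_π]
  refine LocalGlue.isPullback_of_local (J := {U : S.Opens // IsAffineOpen U})
    (RelSpec.QCAlg.specMap ψE) (RelSpec.QCAlg.specMap ψF) AE.π AF.π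
    (S' := fun U => Spec Γ(S, U.1)) (X' := fun U => Spec (AE.presheaf.obj (op U.1)))
    (Y' := fun U => Spec (AF.presheaf.obj (op U.1))) (P' := fun U => Spec (A.presheaf.obj (op U.1)))
    (fun U => U.2.fromSpec) (fun U => AE.ι U.1 U.2) (fun U => AF.ι U.1 U.2)
    (fun U => A.ι U.1 U.2) ?_
    (fun U => Spec.map (AE.str.app (op U.1))) (fun U => Spec.map (AF.str.app (op U.1)))
    (fun U => Spec.map (ψE.hom.app (op U.1))) (fun U => Spec.map (ψF.hom.app (op U.1)))
    (fun U => isPullback_ι_π AE U.1 U.2) (fun U => isPullback_ι_π AF U.1 U.2) ?_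
    (fun U => RelSpec.QCAlg.ι_specMap U.1 U.2 ψE) (fun U => RelSpec.QCAlg.ι_specMap U.1 U.2 ψF)
    ?_ w
  · intro s
    obtain ⟨_, ⟨V, hV', rfl⟩, hsV, -⟩ := (S.isBasis_affineOpens).exists_subset_of_mem_open
      (Set.mem_univ s) isOpen_univ
    have hV : IsAffineOpen V := hV'
    refine ⟨⟨V, hV⟩, ?_⟩
    change s ∈ ((hV.fromSpec.opensRange : S.Opens) : Set S)
    rw [hV.opensRange_fromSpec]
    exact hsV
  · intro U
    have h1 : Spec.map (ψE.hom.app (op U.1)) ≫ Spec.map (AE.str.app (op U.1)) =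
        Spec.map (A.str.app (op U.1)) := by
      rw [← Spec.map_comp, ← NatTrans.comp_app, ψE.comm]
    rw [h1, RelSpec.QCAlg.specMap_π]
    exact isPullback_ι_π A U.1 U.2
  · intro U
    exact isPullback_SpecMap_of_isPushout _ _ _ _ (h U.1 U.2)

end Groth.Agent.Lib.Helper42.SpecMapLocal
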