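import Groth.Agent.Lib.Helper42.SymLoc
import Mathlib.Algebra.Polynomial.AlgebraMap

/-!
# `Sym(M ⊕ R) = Sym(M)[X]` (helper42)
-/

set_option autoImplicit false
set_option linter.unusedSectionVars false

universe u

namespace Groth.Agent.Lib.Helper42.SymLoc

variable {R M N : Type u} [CommRing R] [AddCommGroup M] [Module R M] [AddCommGroup N] [Module R N]
  (inl : M →+ N) (hinl : ∀ (r : R) (m : M), inl (r • m) = (RingHom.id R) r • inl m)
  (fst : N →+ M) (hfst : ∀ (r : R) (n : N), fst (r • n) = r • fst n)
  (snd : N →+ R) (hsnd : ∀ (r : R) (n : N), snd (r • n) = r * snd n)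
  (e : N) (h1 : ∀ m, fst (inl m) = m) (h2 : ∀ m, snd (inl m) = 0) (h3 : fst e = 0)
  (h4 : snd e = 1) (h5 : ∀ n, inl (fst n) + snd n • e = n)

/-- the additive map `N → Sym(M)[X]`, `n ↦ fst n + (snd n) X`. -/
noncomputable def polyAdd : N →+ Polynomial (SymmetricAlgebra R M) :=
  ((Polynomial.C : SymmetricAlgebra R M →+* _).toAddMonoidHom.comp
      ((SymmetricAlgebra.ι R M).toAddMonoidHom.comp fst)) +
    (AddMonoidHom.mulRight (Polynomial.X : Polynomial (SymmetricAlgebra R M))).comp
      ((Polynomial.C : SymmetricAlgebra R M →+* _).toAddMonoidHom.comp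
        ((algebraMap R (SymmetricAlgebra R M)).toAddMonoidHom.comp snd))

theorem polyAdd_apply (n : N) :
    polyAdd fst snd n = Polynomial.C (SymmetricAlgebra.ι R M (fst n)) +
      Polynomial.C (algebraMap R (SymmetricAlgebra R M) (snd n)) * Polynomial.X := rfl

include hfst hsnd in
theorem polyAdd_smul (r : R) (n : N) :
    polyAdd fst snd (r • n) =
      ((Polynomial.C : SymmetricAlgebra R M →+* _).comp (algebraMap R (SymmetricAlgebra R M))) r *
        polyAdd fst snd n := by
  rw [polyAdd_apply, polyAdd_apply, hfst, hsnd, LinearMap.map_smul, Algebra.smul_def, map_mul,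
    map_mul, map_mul, RingHom.comp_apply]
  ring

/-- `Sym(N) → Sym(M)[X]`. -/
noncomputable def toPoly : SymmetricAlgebra R N →+* Polynomial (SymmetricAlgebra R M) :=
  liftRing ((Polynomial.C : SymmetricAlgebra R M →+* _).comp (algebraMap R (SymmetricAlgebra R M)))
    (polyAdd fst snd) (polyAdd_smul fst hfst snd hsnd)

/-- `Sym(M)[X] → Sym(N)`. -/
noncomputable def ofPoly : Polynomial (SymmetricAlgebra R M) →+* SymmetricAlgebra R N :=
  Polynomial.eval₂RingHom (symMap (RingHom.id R) inl hinl) (SymmetricAlgebra.ι R N e)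

include h1 h2 h3 h4 in
theorem toPoly_ofPoly :
    (toPoly fst hfst snd hsnd).comp (ofPoly inl hinl e) =
      RingHom.id (Polynomial (SymmetricAlgebra R M)) := by
  refine Polynomial.ringHom_ext (fun s => ?_) ?_
  · have key : ((toPoly fst hfst snd hsnd).comp (ofPoly inl hinl e)).comp Polynomial.C =
        (Polynomial.C : SymmetricAlgebra R M →+* _) := by
      refine ringHom_ext (fun r => ?_) (fun m => ?_)
      · simp only [RingHom.comp_apply]
        unfold ofPoly toPoly
        rw [Polynomial.coe_eval₂RingHom, Polynomial.eval₂_C, symMap_algebraMap,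
          liftRing_algebraMap]
        rfl
      · simp only [RingHom.comp_apply]
        unfold ofPoly toPoly
        rw [Polynomial.coe_eval₂RingHom, Polynomial.eval₂_C, symMap_ι, liftRing_ι, polyAdd_apply,
          h1, h2, map_zero, map_zero, zero_mul, add_zero]
    exact congrArg (fun f => f s) key
  · rw [RingHom.comp_apply, RingHom.id_apply]
    unfold ofPoly toPoly
    rw [Polynomial.coe_eval₂RingHom, Polynomial.eval₂_X, liftRing_ι, polyAdd_apply, h3, h4,
      map_zero, map_zero, map_one, map_one, one_mul, zero_add]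

include h5 in
theorem ofPoly_toPoly :
    (ofPoly inl hinl e).comp (toPoly fst hfst snd hsnd) = RingHom.id (SymmetricAlgebra R N) := by
  refine ringHom_ext (fun r => ?_) (fun n => ?_)
  · rw [RingHom.comp_apply, RingHom.id_apply]
    unfold ofPoly toPoly
    rw [liftRing_algebraMap, RingHom.comp_apply, Polynomial.coe_eval₂RingHom, Polynomial.eval₂_C,
      symMap_algebraMap]
    rfl
  · rw [RingHom.comp_apply, RingHom.id_apply]
    unfold ofPoly toPoly
    rw [liftRing_ι, polyAdd_apply, Polynomial.coe_eval₂RingHom, Polynomial.eval₂_add,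
      Polynomial.eval₂_mul, Polynomial.eval₂_C, Polynomial.eval₂_C, Polynomial.eval₂_X, symMap_ι,
      symMap_algebraMap, RingHom.id_apply, ← Algebra.smul_def, ← LinearMap.map_smul, ← map_add, h5]

include hfst hsnd h1 h2 h3 h4 h5 in
/-- `Sym(M)[X] → Sym(N)` is bijective. -/
theorem bijective_ofPoly : Function.Bijective (ofPoly inl hinl e) := by
  have hA := toPoly_ofPoly inl hinl fst hfst snd hsnd e h1 h2 h3 h4
  have hB := ofPoly_toPoly inl hinl fst hfst snd hsnd e h5
  refine ⟨fun a b hab => ?_, fun y => ⟨toPoly fst hfst snd hsnd y, congrArg (fun f => f y) hB⟩⟩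
  have ha := congrArg (fun f => f a) hA
  have hb := congrArg (fun f => f b) hA
  simp only [RingHom.comp_apply, RingHom.id_apply] at ha hb
  rw [← ha, ← hb, hab]

end Groth.Agent.Lib.Helper42.SymLoc
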