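import Groth.Prelude.Def_RelProj2
import Groth.Prelude.Def_RelSpec2
import Groth.Agent.Lib.Helper42.SymAlg4
import Groth.Agent.Lib.Helper42.SymBiprod
import Groth.Agent.Lib.Helper42.SymPoly

/-!
# `Sym(E)[z]` is the symmetric algebra of `E ⊕ O` (helper42)
-/

set_option autoImplicit false

universe u

namespace Groth.Agent.Lib.Helper42.SymAlg

open CategoryTheory CategoryTheory.Limits AlgebraicGeometry TopologicalSpace Opposite

variable {Y : Scheme.{u}} {E : Y.Modules}
  {𝒮 𝒮h : RelProj.QCGrAlg Y} {j : E ⟶ 𝒮.toModule}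
  {ι : 𝒮.toQCAlg ⟶ 𝒮h.toQCAlg} {z : 𝒮h.presheaf.obj (op ⊤)}
  (k : Coh.structureModule Y ⟶ 𝒮h.toModule)
  (hk : ∀ U : Y.Opens, (k.app U) (1 : Γ(Y, U)) = RelCone.restrictTop 𝒮h z U)

/-- the map `E ⊕ O → 𝒮[z]`. -/
noncomputable abbrev coneJ (j : E ⟶ 𝒮.toModule) (ι : 𝒮.toQCAlg ⟶ 𝒮h.toQCAlg)
    (k : Coh.structureModule Y ⟶ 𝒮h.toModule) : E ⊞ Coh.structureModule Y ⟶ 𝒮h.toModule :=
  biprod.desc (j ≫ RelSpec.QCAlg.Hom.toModuleMap ι) k

/-- the second projection on sections, with values in the ring of functions. -/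
noncomputable def sndO (U : Y.Opens) : Γ(E ⊞ Coh.structureModule Y, U) →+ Γ(Y, U) :=
  appAdd (biprod.snd : E ⊞ Coh.structureModule Y ⟶ Coh.structureModule Y) U

/-- the section `(0, 1)`. -/
noncomputable def eO (U : Y.Opens) : Γ(E ⊞ Coh.structureModule Y, U) :=
  (biprod.inr : Coh.structureModule Y ⟶ E ⊞ Coh.structureModule Y).app U (1 : Γ(Y, U))

theorem sndO_smul (U : Y.Opens) (r : Γ(Y, U)) (n : Γ(E ⊞ Coh.structureModule Y, U)) :
    sndO U (r • n) = r * sndO U n :=
  (biprod.snd : E ⊞ Coh.structureModule Y ⟶ Coh.structureModule Y).app_smul r n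

theorem total_O (U : Y.Opens) (n : Γ(E ⊞ Coh.structureModule Y, U)) :
    appAdd (biprod.inl : E ⟶ E ⊞ Coh.structureModule Y) U
        (appAdd (biprod.fst : E ⊞ Coh.structureModule Y ⟶ E) U n) + sndO U n • eO U = n := by
  have h1 := app_total (E := E) (F := Coh.structureModule Y) U n
  have h2 : sndO U n • eO (E := E) U =
      (biprod.inr : Coh.structureModule Y ⟶ E ⊞ Coh.structureModule Y).app U
        ((biprod.snd : E ⊞ Coh.structureModule Y ⟶ Coh.structureModule Y).app U n) := by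
    have h3 := (biprod.inr : Coh.structureModule Y ⟶ E ⊞ Coh.structureModule Y).app_smul
      (sndO U n) (show Γ(Coh.structureModule Y, U) from (1 : Γ(Y, U)))
    have h4 : (sndO U n) • (show Γ(Coh.structureModule Y, U) from (1 : Γ(Y, U))) =
        (biprod.snd : E ⊞ Coh.structureModule Y ⟶ Coh.structureModule Y).app U n :=
      mul_one (sndO U n)
    rw [h4] at h3
    exact h3.symm
  rw [h2]
  exact h1

/-- `Sym(E(U))[X] → Sym((E ⊕ O)(U))`. -/
noncomputable def thetaU (U : Y.Opens) :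
    Polynomial (SymU E U) →+* SymU (E ⊞ Coh.structureModule Y) U :=
  SymLoc.ofPoly (appAdd (biprod.inl : E ⟶ E ⊞ Coh.structureModule Y) U)
    (appAdd_smul (biprod.inl : E ⟶ E ⊞ Coh.structureModule Y) U) (eO U)

theorem bijective_thetaU (U : Y.Opens) : Function.Bijective (thetaU (E := E) U) :=
  SymLoc.bijective_ofPoly (appAdd (biprod.inl : E ⟶ E ⊞ Coh.structureModule Y) U)
    (appAdd_smul (biprod.inl : E ⟶ E ⊞ Coh.structureModule Y) U)
    (appAdd (biprod.fst : E ⊞ Coh.structureModule Y ⟶ E) U)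
    (fun r n => (biprod.fst : E ⊞ Coh.structureModule Y ⟶ E).app_smul r n)
    (sndO U) (sndO_smul U) (eO U)
    (fun m => app_inl_fst (E := E) (F := Coh.structureModule Y) U m)
    (fun m => app_inl_snd (E := E) (F := Coh.structureModule Y) U m)
    (app_inr_fst (E := E) (F := Coh.structureModule Y) U _)
    (app_inr_snd (E := E) (F := Coh.structureModule Y) U _)
    (total_O U)

include hk in
/-- the canonical map from the symmetric algebra of `(E ⊕ O)(U)` corresponds to the presentation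
of `𝒮[z](U)` as a polynomial ring over `𝒮(U)`. -/
theorem tauU_comp_thetaU (U : Y.Opens) :
    (tauU (E ⊞ Coh.structureModule Y) 𝒮h.toQCAlg (coneJ j ι k) U).comp (thetaU U) =
      (Polynomial.eval₂RingHom (ι.hom.app (op U)).hom (RelCone.restrictTop 𝒮h z U)).comp
        (Polynomial.mapRingHom (tauU E 𝒮.toQCAlg j U)) := by
  have hψ : j ≫ RelSpec.QCAlg.Hom.toModuleMap ι =
      (biprod.inl : E ⟶ E ⊞ Coh.structureModule Y) ≫ coneJ j ι k := (biprod.inl_desc _ _).symm
  refine Polynomial.ringHom_ext (fun s => ?_) ?_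
  · rw [RingHom.comp_apply, RingHom.comp_apply, Polynomial.coe_mapRingHom, Polynomial.map_C,
      Polynomial.coe_eval₂RingHom, Polynomial.eval₂_C]
    unfold thetaU SymLoc.ofPoly
    rw [Polynomial.coe_eval₂RingHom, Polynomial.eval₂_C]
    exact (comp_tauU_apply (biprod.inl : E ⟶ E ⊞ Coh.structureModule Y) ι hψ U s).symm
  · rw [RingHom.comp_apply, RingHom.comp_apply, Polynomial.coe_mapRingHom, Polynomial.map_X,
      Polynomial.coe_eval₂RingHom, Polynomial.eval₂_X]
    unfold thetaU SymLoc.ofPoly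
    rw [Polynomial.coe_eval₂RingHom, Polynomial.eval₂_X]
    unfold tauU
    rw [SymLoc.liftRing_ι, ← hk U]
    have h1 : (biprod.inr : Coh.structureModule Y ⟶ E ⊞ Coh.structureModule Y) ≫ coneJ j ι k = k :=
      biprod.inr_desc _ _
    exact congrArg (fun f => f.app U (1 : Γ(Y, U))) h1

variable [E.IsQuasicoherent]

include hk in
theorem bijective_tauU_cone (hS : RelProj.IsGrSymAlg E 𝒮 j) (hz : RelCone.IsPolyOver 𝒮 𝒮h ι z)
    (U : Y.Opens) (hU : IsAffineOpen U) :
    Function.Bijective (tauU (E ⊞ Coh.structureModule Y) 𝒮h.toQCAlg (coneJ j ι k) U) := by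
  have h1 := tauU_comp_thetaU (j := j) (ι := ι) k hk U
  have h2 : Function.Bijective (Polynomial.mapRingHom (tauU E 𝒮.toQCAlg j U)) := by
    have hb := bijective_tauU E hS.1 U hU
    exact ⟨Polynomial.map_injective _ hb.1, Polynomial.map_surjective _ hb.2⟩
  have h3 : Function.Bijective
      ((tauU (E ⊞ Coh.structureModule Y) 𝒮h.toQCAlg (coneJ j ι k) U) ∘ (thetaU U)) := by
    have h4 : ((tauU (E ⊞ Coh.structureModule Y) 𝒮h.toQCAlg (coneJ j ι k) U) ∘ (thetaU U)) =
        (Polynomial.eval₂RingHom (ι.hom.app (op U)).hom (RelCone.restrictTop 𝒮h z U)) ∘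
          (Polynomial.mapRingHom (tauU E 𝒮.toQCAlg j U)) := by
      funext w
      exact congrArg (fun f => f w) h1
    rw [h4]
    exact (hz.bij U hU).comp h2
  exact (Function.Bijective.of_comp_iff _ (bijective_thetaU U)).mp h3

end Groth.Agent.Lib.Helper42.SymAlg
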