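import Mathlib.LinearAlgebra.SymmetricAlgebra.Basic
import Mathlib.RingTheory.FiniteType

/-!
# The symmetric algebra of a finite module is an algebra of finite type (helper42)
-/

set_option autoImplicit false

namespace Groth.Agent.Lib.Helper42.SymFin

variable {R : Type*} [CommRing R] {M : Type*} [AddCommGroup M] [Module R M]

/-- the symmetric algebra is generated by the image of a spanning set. -/
theorem adjoin_ι_eq_top (s : Set M) (hs : Submodule.span R s = ⊤) :
    Algebra.adjoin R (SymmetricAlgebra.ι R M '' s) = ⊤ := by
  have key : ∀ x : SymmetricAlgebra R M, x ∈ Algebra.adjoin R (SymmetricAlgebra.ι R M '' s) := by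
    intro x
    induction x using SymmetricAlgebra.induction with
    | algebraMap r => exact Subalgebra.algebraMap_mem _ r
    | ι m =>
      have hm : m ∈ Submodule.span R s := hs ▸ Submodule.mem_top
      induction hm using Submodule.span_induction with
      | mem y hy => exact Algebra.subset_adjoin ⟨y, hy, rfl⟩
      | zero => rw [map_zero]; exact Subalgebra.zero_mem _
      | add y z _ _ hy hz => rw [map_add]; exact Subalgebra.add_mem _ hy hz
      | smul a y _ hy => rw [map_smul]; exact Subalgebra.smul_mem _ hy a
    | mul a b ha hb => exact Subalgebra.mul_mem _ ha hb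
    | add a b ha hb => exact Subalgebra.add_mem _ ha hb
  exact eq_top_iff.mpr (fun x _ => key x)

instance finiteType [Module.Finite R M] : Algebra.FiniteType R (SymmetricAlgebra R M) := by
  classical
  obtain ⟨s, hs⟩ := (Module.Finite.fg_top : (⊤ : Submodule R M).FG)
  refine ⟨⟨s.image (SymmetricAlgebra.ι R M), ?_⟩⟩
  rw [Finset.coe_image]
  exact adjoin_ι_eq_top (s : Set M) hs

end Groth.Agent.Lib.Helper42.SymFin
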