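import Groth.Agent.Lib.Helper42.SymLoc
import Mathlib.LinearAlgebra.SymmetricAlgebra.Basis
import Mathlib.Algebra.MvPolynomial.Equiv

/-!
# The symmetric algebra of a free module of rank one is a polynomial ring (helper42)
-/

set_option autoImplicit false

universe u

namespace Groth.Agent.Lib.Helper42.SymLoc

variable {R M B : Type u} [CommRing R] [AddCommGroup M] [Module R M] [CommRing B]

/-- if `e` is a free generator of `M` and `Sym_R(M) → B` is bijective, then `R[X] → B`,
`X ↦ l e`, is bijective. -/
theorem bijective_eval₂_of_generator (ρ : R →+* B) (l : M →+ B)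
    (hl : ∀ (r : R) (m : M), l (r • m) = ρ r * l m) (e : M)
    (he : Function.Bijective (fun r : R => r • e))
    (hb : Function.Bijective (liftRing ρ l hl)) :
    Function.Bijective (Polynomial.eval₂RingHom ρ (l e)) := by
  let f : R ≃ₗ[R] M := LinearEquiv.ofBijective (LinearMap.toSpanSingleton R M e) he
  let b : Module.Basis Unit R M := (Module.Basis.singleton Unit R).map f
  have hb1 : b () = e := by
    change f ((Module.Basis.singleton Unit R) ()) = e
    rw [Module.Basis.singleton_apply]
    change (1 : R) • e = e
    exact one_smul R e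
  let e1 : Polynomial R ≃+* MvPolynomial Unit R :=
    (MvPolynomial.uniqueAlgEquiv R Unit).symm.toRingEquiv
  let e2 : MvPolynomial Unit R ≃+* SymmetricAlgebra R M :=
    (SymmetricAlgebra.equivMvPolynomial b).symm.toRingEquiv
  let Φ : Polynomial R →+* B := (liftRing ρ l hl).comp (e2.toRingHom.comp e1.toRingHom)
  have hΦ : Φ = Polynomial.eval₂RingHom ρ (l e) := by
    refine Polynomial.ringHom_ext (fun r => ?_) ?_
    · have h1 : e1 (Polynomial.C r) = algebraMap R (MvPolynomial Unit R) r :=
        (MvPolynomial.uniqueAlgEquiv R Unit).symm.commutes r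
      have h2 : e2 (algebraMap R (MvPolynomial Unit R) r) =
          algebraMap R (SymmetricAlgebra R M) r :=
        (SymmetricAlgebra.equivMvPolynomial b).symm.commutes r
      change liftRing ρ l hl (e2 (e1 (Polynomial.C r))) = Polynomial.eval₂ ρ (l e) (Polynomial.C r)
      rw [h1, h2, liftRing_algebraMap, Polynomial.eval₂_C]
    · have h1 : e1 Polynomial.X = MvPolynomial.X () := by
        change Polynomial.eval₂ MvPolynomial.C (MvPolynomial.X default) Polynomial.X = _
        rw [Polynomial.eval₂_X]
      have h2 : e2 (MvPolynomial.X ()) = SymmetricAlgebra.ι R M (b ()) :=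
        SymmetricAlgebra.equivMvPolynomial_symm_X b ()
      change liftRing ρ l hl (e2 (e1 Polynomial.X)) = Polynomial.eval₂ ρ (l e) Polynomial.X
      rw [h1, h2, liftRing_ι, Polynomial.eval₂_X, hb1]
  rw [← hΦ]
  exact hb.comp (e2.bijective.comp e1.bijective)

end Groth.Agent.Lib.Helper42.SymLoc
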