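import Groth.Prelude.Def_RelProj2
import Groth.Agent.Lib.Helper42.SymAlg2
import Groth.Agent.Lib.Helper42.SymRankOne
import Groth.Agent.Lib.Helper42.PolyZero2
import Groth.Agent.Lib.Ample.Helper50_LocalGen

/-!
# The graded symmetric algebra of an invertible module (helper42)

Over an affine open `U` on which the invertible module `L` has a free generator `e`, the graded
symmetric algebra `𝒮L(U)` is the polynomial ring `O(U)[z]`, `z = j(e)` of degree one; hence
`Proj 𝒮L(U) → Spec O(U)` is an isomorphism, and `Proj(𝒮L) → X` is an isomorphism.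
-/

set_option autoImplicit false

universe u

namespace Groth.Agent.Lib.Helper42.SymInv

open CategoryTheory CategoryTheory.Limits AlgebraicGeometry TopologicalSpace Opposite

variable {X : Scheme.{u}} {L : X.Modules} {𝒮L : RelProj.QCGrAlg X} {j : L ⟶ 𝒮L.toModule}

/-- the image of a section of `L` in `𝒮L`. -/
noncomputable def zOf (j : L ⟶ 𝒮L.toModule) (U : X.Opens) (e : Γ(L, U)) : 𝒮L.presheaf.obj (op U) :=
  SymAlg.phiU L 𝒮L.toQCAlg j U e

theorem zOf_mem (hj : RelProj.IsGrSymAlg L 𝒮L j) (U : X.Opens) (hU : IsAffineOpen U)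
    (e : Γ(L, U)) : zOf j U e ∈ 𝒮L.deg U hU 1 :=
  hj.2 U hU e

theorem bijective_smul_of_isGenerator {U : X.Opens} {e : Γ(L, U)}
    (he : Groth.Agent.Lib.Ample.IsGenerator L U e) :
    Function.Bijective (fun r : Γ(X, U) => r • e) := by
  have h := he U (le_refl U)
  have h2 : Groth.Agent.Lib.Ample.resSec L (le_refl U) e = e := by
    have h3 : (homOfLE (le_refl U)).op = 𝟙 (op U) := Subsingleton.elim _ _
    change (L.presheaf.map (homOfLE (le_refl U)).op).hom e = e
    rw [h3, L.presheaf.map_id]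
    rfl
  rw [h2] at h
  exact h

variable [L.IsQuasicoherent]

/-- over an affine open with a free generator `e` of `L`: `𝒮L(U) = O(U)[z]`, `z = j(e)`. -/
theorem bijective_eval₂ (hj : RelProj.IsGrSymAlg L 𝒮L j) (U : X.Opens) (hU : IsAffineOpen U)
    (e : Γ(L, U)) (he : Function.Bijective (fun r : Γ(X, U) => r • e)) :
    Function.Bijective (Polynomial.eval₂RingHom (𝒮L.str.app (op U)).hom (zOf j U e)) :=
  SymLoc.bijective_eval₂_of_generator (𝒮L.str.app (op U)).hom (SymAlg.phiU L 𝒮L.toQCAlg j U)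
    (SymAlg.phiU_smul L 𝒮L.toQCAlg j U) e he (SymAlg.bijective_tauU L hj.1 U hU)

/-- over an affine open with a free generator of `L`: `Proj 𝒮L(U) → Spec O(U)` is an
isomorphism. -/
theorem isIso_toSpecZero_comp (hj : RelProj.IsGrSymAlg L 𝒮L j) (U : X.Opens) (hU : IsAffineOpen U)
    (e : Γ(L, U)) (he : Function.Bijective (fun r : Γ(X, U) => r • e)) :
    IsIso (Proj.toSpecZero (𝒮L.deg U hU) ≫ Spec.map (𝒮L.strZero U hU)) :=
  PolyZero.isIso_toSpecZero_comp (ℬ := 𝒮L.deg U hU) (𝒮L.str.app (op U)).hom (𝒮L.str_mem U hU)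
    (zOf_mem hj U hU e) (bijective_eval₂ hj U hU e he) (𝒮L.strZero U hU).hom (fun _ => rfl)

end Groth.Agent.Lib.Helper42.SymInv
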