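import Groth.Agent.Lib.Helper42.GrLift
import Groth.Agent.Lib.Helper42.SymInvertible
import Groth.Agent.Lib.Helper42.ProjQ

/-!
# Non-vanishing loci of homogeneous sections in `Proj(Sym L)`, `L` invertible (helper42)

For an invertible quasi-coherent `L` on `X` with graded symmetric algebra `𝒮L` and relative
homogeneous spectrum `pL : PL ⟶ X`: a point `y` of `Proj 𝒮L(V)` lies in `D₊(t)`, `t ∈ 𝒮L(V)_n`,
iff the image of `y` in `X` has an affine neighbourhood `V' ⊆ V` over which `𝒮L(V')_n` lies in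
the ideal generated by `t|V'`.
-/

set_option autoImplicit false

universe u

namespace Groth.Agent.Lib.Helper42.SymInvProj

open CategoryTheory CategoryTheory.Limits AlgebraicGeometry TopologicalSpace Opposite
open HomogeneousLocalization

variable {X PL : Scheme.{u}} {L : X.Modules} [L.IsQuasicoherent] {𝒮L : RelProj.QCGrAlg X}
  {j : L ⟶ 𝒮L.toModule} {pL : PL ⟶ X}
  {chartL : ∀ (U : X.Opens) (hU : IsAffineOpen U),
    (((pL ⁻¹ᵁ U : PL.Opens) : Scheme.{u}) ≅ Proj (𝒮L.deg U hU))}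

/-- over an affine open with a free generator: if `𝒮L(V)_n ⊆ (t)` then `D₊(t)` is everything. -/
theorem notMem_of_span_of_generator (hj : RelProj.IsGrSymAlg L 𝒮L j) (V : X.Opens)
    (hV : IsAffineOpen V) (e : Γ(L, V)) (he : Function.Bijective (fun r : Γ(X, V) => r • e))
    {n : ℕ} {t : 𝒮L.presheaf.obj (op V)}
    (hc : ∀ x ∈ 𝒮L.deg V hV n, x ∈ Ideal.span ({t} : Set (𝒮L.presheaf.obj (op V))))
    (y : Proj (𝒮L.deg V hV)) : t ∉ y.asHomogeneousIdeal := by
  have hz := SymInv.zOf_mem hj V hV e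
  have hzn : SymInv.zOf j V e ^ n ∈ 𝒮L.deg V hV n := by
    have := SetLike.pow_mem_graded n hz
    rwa [smul_eq_mul, mul_one] at this
  obtain ⟨m, hm⟩ := Ideal.mem_span_singleton'.mp (hc _ hzn)
  intro hty
  have h1 : SymInv.zOf j V e ^ n ∈ y.asHomogeneousIdeal.toIdeal := by
    rw [← hm]
    exact Ideal.mul_mem_left _ m hty
  have h2 := y.isPrime.mem_of_pow_mem n h1
  exact PolyZero.z_notMem (ℬ := 𝒮L.deg V hV) (𝒮L.str.app (op V)).hom (𝒮L.str_mem V hV) hz
    (SymInv.bijective_eval₂ hj V hV e he) y h2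

/-- over an affine open with a free generator: a point of `D₊(t)` lies over a basic open `D(b)`
over which `𝒮L_n ⊆ (t)`. -/
theorem exists_basicOpen_span_of_generator (hj : RelProj.IsGrSymAlg L 𝒮L j)
    (hPL : RelProj.IsRelProj 𝒮L pL chartL) (V : X.Opens)
    (hV : IsAffineOpen V) (e : Γ(L, V)) (he : Function.Bijective (fun r : Γ(X, V) => r • e))
    {n : ℕ} {t : 𝒮L.presheaf.obj (op V)} (ht : t ∈ 𝒮L.deg V hV n)
    (y : Proj (𝒮L.deg V hV)) (hty : t ∉ y.asHomogeneousIdeal) :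
    ∃ b : Γ(X, V), pL.base ((RelProj.emb pL chartL V hV).base y) ∈ X.basicOpen b ∧
      ∀ x ∈ 𝒮L.deg (X.basicOpen b) (hV.basicOpen b) n,
        x ∈ Ideal.span ({𝒮L.res hV (hV.basicOpen b) (X.basicOpen_le b) t} :
          Set (𝒮L.presheaf.obj (op (X.basicOpen b)))) := by
  have hz := SymInv.zOf_mem hj V hV e
  have hbij := SymInv.bijective_eval₂ hj V hV e he
  obtain ⟨b, rfl⟩ := PolyZero.exists_eq_mul_pow (ℬ := 𝒮L.deg V hV) (𝒮L.str.app (op V)).hom
    (𝒮L.str_mem V hV) hz hbij ht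
  refine ⟨b, ?_, ?_⟩
  · have h1 := ProjQ.emb_comp hPL V hV
    have h2 : pL.base ((RelProj.emb pL chartL V hV).base y) =
        hV.fromSpec.base ((Proj.toSpecZero (𝒮L.deg V hV) ≫
          Spec.map (CommRingCat.ofHom (𝒮L.strZero V hV).hom)).base y) :=
      congrArg (fun φ => φ.base y) h1
    rw [h2]
    have h3 := hV.fromSpec_preimage_basicOpen b
    have h4 : (Proj.toSpecZero (𝒮L.deg V hV) ≫
          Spec.map (CommRingCat.ofHom (𝒮L.strZero V hV).hom)).base y ∈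
        PrimeSpectrum.basicOpen b := by
      rw [GrLift.toSpecZero_mem_basicOpen_iff (𝒮L.deg V hV) (𝒮L.strZero V hV).hom b y]
      intro hb
      exact hty (Ideal.mul_mem_right _ _ hb)
    have h5 : (Proj.toSpecZero (𝒮L.deg V hV) ≫
          Spec.map (CommRingCat.ofHom (𝒮L.strZero V hV).hom)).base y ∈
        hV.fromSpec ⁻¹ᵁ X.basicOpen b := by
      rw [h3]; exact h4
    exact h5
  · intro x hx
    obtain ⟨k, x₀, hx₀, hres⟩ := GrLift.exists_homogeneous_lift 𝒮L V hV b hx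
    obtain ⟨c, rfl⟩ := PolyZero.exists_eq_mul_pow (ℬ := 𝒮L.deg V hV) (𝒮L.str.app (op V)).hom
      (𝒮L.str_mem V hV) hz hbij hx₀
    obtain ⟨w, hw⟩ := isUnit_iff_exists_inv'.mp (GrLift.isUnit_res_str 𝒮L V hV b)
    rw [Ideal.mem_span_singleton']
    set ψ := 𝒮L.res hV (hV.basicOpen b) (X.basicOpen_le b) with hψ
    rw [map_mul, map_pow] at hres
    have h1 : (w * ψ ((𝒮L.str.app (op V)).hom b)) ^ k = 1 := by rw [hw, one_pow]
    refine ⟨ψ ((𝒮L.str.app (op V)).hom c) * w ^ k * w, ?_⟩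
    rw [map_mul, map_pow]
    calc ψ ((𝒮L.str.app (op V)).hom c) * w ^ k * w *
          (ψ ((𝒮L.str.app (op V)).hom b) * ψ (SymInv.zOf j V e) ^ n)
        = (ψ ((𝒮L.str.app (op V)).hom c) * ψ (SymInv.zOf j V e) ^ n) * w ^ k *
          (w * ψ ((𝒮L.str.app (op V)).hom b)) := by ring
      _ = x * ψ ((𝒮L.str.app (op V)).hom b) ^ k * w ^ k * 1 := by rw [hres, hw]
      _ = x * (w * ψ ((𝒮L.str.app (op V)).hom b)) ^ k := by ring
      _ = x := by rw [h1, mul_one]


omit [L.IsQuasicoherent] in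
/-- a point of a chart `Proj 𝒮L(V)` comes from the chart over a basic open `D(a) ⊆ V` on which `L`
has a free generator. -/
theorem exists_generator_basicOpen (hL : PicF.IsInvertible L)
    (hPL : RelProj.IsRelProj 𝒮L pL chartL) (V : X.Opens) (hV : IsAffineOpen V)
    (y : Proj (𝒮L.deg V hV)) :
    ∃ (a : Γ(X, V)) (e : Γ(L, X.basicOpen a))
      (_ : Function.Bijective (fun r : Γ(X, X.basicOpen a) => r • e))
      (y₁ : Proj (𝒮L.deg (X.basicOpen a) (hV.basicOpen a))),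
      (Proj.map (𝒮L.res hV (hV.basicOpen a) (X.basicOpen_le a))
        (𝒮L.irrelevant_le_map V hV a)).base y₁ = y := by
  have hxV : pL.base ((RelProj.emb pL chartL V hV).base y) ∈ V := by
    have h : (RelProj.emb pL chartL V hV).base y ∈
        Set.range (RelProj.emb pL chartL V hV).base := ⟨y, rfl⟩
    rw [ProjQ.range_emb] at h
    exact h
  obtain ⟨W, hW, hxW, hWV, e, he⟩ :=
    Groth.Agent.Lib.Ample.exists_isAffineOpen_isGenerator_of_isInvertible hL _ V hxV
  obtain ⟨a, haW, hxa⟩ := hV.exists_basicOpen_le (V := W) ⟨_, hxW⟩ hxV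
  have he' := he.res haW
  have hy₁ : (RelProj.emb pL chartL V hV).base y ∈
      Set.range (RelProj.emb pL chartL (X.basicOpen a) (hV.basicOpen a)).base := by
    rw [ProjQ.range_emb]
    exact hxa
  obtain ⟨y₁, hy₁⟩ := hy₁
  refine ⟨a, _, SymInv.bijective_smul_of_isGenerator he', y₁, ?_⟩
  apply ProjQ.emb_injective (p := pL) (chart := chartL) V hV
  rw [← hy₁, ← RelProj.map_res_emb hPL V hV a]
  rfl

/-- if `𝒮L(V)_n ⊆ (t)` then every point of `Proj 𝒮L(V)` lies in `D₊(t)`. -/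
theorem notMem_of_span (hL : PicF.IsInvertible L) (hj : RelProj.IsGrSymAlg L 𝒮L j)
    (hPL : RelProj.IsRelProj 𝒮L pL chartL) (V : X.Opens) (hV : IsAffineOpen V)
    {n : ℕ} {t : 𝒮L.presheaf.obj (op V)}
    (hc : ∀ x ∈ 𝒮L.deg V hV n, x ∈ Ideal.span ({t} : Set (𝒮L.presheaf.obj (op V))))
    (y : Proj (𝒮L.deg V hV)) : t ∉ y.asHomogeneousIdeal := by
  obtain ⟨a, e, he, y₁, rfl⟩ := exists_generator_basicOpen hL hPL V hV y
  have h1 := notMem_of_span_of_generator hj (X.basicOpen a) (hV.basicOpen a) e he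
    (GrLift.span_basicOpen 𝒮L V hV a hc) y₁
  intro h2
  exact h1 h2

/-- a point of `D₊(t) ⊆ Proj 𝒮L(V)` lies over an affine open `V' ⊆ V` with `𝒮L(V')_n ⊆ (t|V')`. -/
theorem exists_affine_span (hL : PicF.IsInvertible L) (hj : RelProj.IsGrSymAlg L 𝒮L j)
    (hPL : RelProj.IsRelProj 𝒮L pL chartL) (V : X.Opens) (hV : IsAffineOpen V)
    {n : ℕ} {t : 𝒮L.presheaf.obj (op V)} (ht : t ∈ 𝒮L.deg V hV n)
    (y : Proj (𝒮L.deg V hV)) (hty : t ∉ y.asHomogeneousIdeal) :
    ∃ (V' : X.Opens) (hV' : IsAffineOpen V') (hle : V' ≤ V),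
      pL.base ((RelProj.emb pL chartL V hV).base y) ∈ V' ∧
      ∀ x ∈ 𝒮L.deg V' hV' n,
        x ∈ Ideal.span ({(𝒮L.presheaf.map (homOfLE hle).op).hom t} :
          Set (𝒮L.presheaf.obj (op V'))) := by
  obtain ⟨a, e, he, y₁, rfl⟩ := exists_generator_basicOpen hL hPL V hV y
  have ht₁ : 𝒮L.res hV (hV.basicOpen a) (X.basicOpen_le a) t ∈
      𝒮L.deg (X.basicOpen a) (hV.basicOpen a) n :=
    (𝒮L.res hV (hV.basicOpen a) (X.basicOpen_le a)).map_mem ht
  have hty₁ : 𝒮L.res hV (hV.basicOpen a) (X.basicOpen_le a) t ∉ y₁.asHomogeneousIdeal :=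
    fun h => hty h
  obtain ⟨b, hb, hc⟩ := exists_basicOpen_span_of_generator hj hPL (X.basicOpen a)
    (hV.basicOpen a) e he ht₁ y₁ hty₁
  refine ⟨X.basicOpen b, (hV.basicOpen a).basicOpen b,
    (X.basicOpen_le b).trans (X.basicOpen_le a), ?_, ?_⟩
  · have h1 : (RelProj.emb pL chartL V hV).base
        ((Proj.map (𝒮L.res hV (hV.basicOpen a) (X.basicOpen_le a))
          (𝒮L.irrelevant_le_map V hV a)).base y₁) =
        (RelProj.emb pL chartL (X.basicOpen a) (hV.basicOpen a)).base y₁ := by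
      rw [← RelProj.map_res_emb hPL V hV a]
      rfl
    rw [h1]
    exact hb
  · intro x hx
    have h2 := hc x hx
    have h3 : (𝒮L.res (hV.basicOpen a) ((hV.basicOpen a).basicOpen b) (X.basicOpen_le b))
        (𝒮L.res hV (hV.basicOpen a) (X.basicOpen_le a) t) =
        (𝒮L.presheaf.map (homOfLE ((X.basicOpen_le b).trans (X.basicOpen_le a))).op).hom t := by
      change (𝒮L.presheaf.map (homOfLE (X.basicOpen_le b)).op).hom
        ((𝒮L.presheaf.map (homOfLE (X.basicOpen_le a)).op).hom t) = _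
      rw [← CommRingCat.comp_apply, ← Functor.map_comp]
      rfl
    rw [h3] at h2
    exact h2

end Groth.Agent.Lib.Helper42.SymInvProj
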