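import Mathlib.LinearAlgebra.SymmetricAlgebra.Basic
import Mathlib.RingTheory.Localization.Away.Basic
import Mathlib.Algebra.Module.LocalizedModule.IsLocalization
import Mathlib.Algebra.Module.LocalizedModule.Away

/-!
# The symmetric algebra and change of rings (helper42)

Ring homomorphisms out of a symmetric algebra along a ring homomorphism of the bases, and the
symmetric algebra of a localized module as a localization of the symmetric algebra.
-/

set_option autoImplicit false

universe u

namespace Groth.Agent.Lib.Helper42.SymLoc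

section ext

variable {R : Type u} [CommRing R] {M : Type u} [AddCommGroup M] [Module R M]

/-- ring homomorphisms out of a symmetric algebra are determined by their values on scalars and on
the module. -/
theorem ringHom_ext {B : Type*} [Semiring B] {f g : SymmetricAlgebra R M →+* B}
    (h1 : ∀ r : R, f (algebraMap R (SymmetricAlgebra R M) r) =
      g (algebraMap R (SymmetricAlgebra R M) r))
    (h2 : ∀ m : M, f (SymmetricAlgebra.ι R M m) = g (SymmetricAlgebra.ι R M m)) : f = g := by
  refine RingHom.ext (fun x => ?_)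
  induction x using SymmetricAlgebra.induction with
  | algebraMap r => exact h1 r
  | ι m => exact h2 m
  | mul a b ha hb => rw [map_mul, map_mul, ha, hb]
  | add a b ha hb => rw [map_add, map_add, ha, hb]

end ext

section lift

variable {R : Type u} [CommRing R] {M : Type u} [AddCommGroup M] [Module R M]
  {B : Type u} [CommRing B]

/-- the ring homomorphism out of a symmetric algebra given by a ring homomorphism on scalars and a
compatible additive map on the module. -/
noncomputable def liftRing (ρ : R →+* B) (l : M →+ B) (hl : ∀ (r : R) (m : M), l (r • m) = ρ r * l m) :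
    SymmetricAlgebra R M →+* B :=
  letI : Algebra R B := ρ.toAlgebra
  (SymmetricAlgebra.lift (R := R) (M := M) (A := B)
    { toFun := l
      map_add' := l.map_add
      map_smul' := fun r m => by
        rw [hl, RingHom.id_apply, Algebra.smul_def]
        rfl }).toRingHom

theorem liftRing_algebraMap (ρ : R →+* B) (l : M →+ B)
    (hl : ∀ (r : R) (m : M), l (r • m) = ρ r * l m) (r : R) :
    liftRing ρ l hl (algebraMap R (SymmetricAlgebra R M) r) = ρ r := by
  letI : Algebra R B := ρ.toAlgebra
  exact AlgHom.commutes _ r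

theorem liftRing_ι (ρ : R →+* B) (l : M →+ B)
    (hl : ∀ (r : R) (m : M), l (r • m) = ρ r * l m) (m : M) :
    liftRing ρ l hl (SymmetricAlgebra.ι R M m) = l m := by
  letI : Algebra R B := ρ.toAlgebra
  exact SymmetricAlgebra.lift_ι_apply _ m

end lift

section map

variable {R R' R'' : Type u} [CommRing R] [CommRing R'] [CommRing R'']
  {M M' M'' : Type u} [AddCommGroup M] [Module R M] [AddCommGroup M'] [Module R' M']
  [AddCommGroup M''] [Module R'' M'']

/-- the ring homomorphism of symmetric algebras induced by a ring homomorphism of the bases and a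
semilinear map of the modules. -/
noncomputable def symMap (ρ : R →+* R') (l : M →+ M') (hl : ∀ (a : R) (m : M), l (a • m) = ρ a • l m) :
    SymmetricAlgebra R M →+* SymmetricAlgebra R' M' :=
  liftRing ((algebraMap R' (SymmetricAlgebra R' M')).comp ρ)
    ((SymmetricAlgebra.ι R' M').toAddMonoidHom.comp l) (fun a m => by
      change SymmetricAlgebra.ι R' M' (l (a • m)) =
        algebraMap R' (SymmetricAlgebra R' M') (ρ a) * SymmetricAlgebra.ι R' M' (l m)
      rw [hl, LinearMap.map_smul, Algebra.smul_def])

theorem symMap_algebraMap (ρ : R →+* R') (l : M →+ M')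
    (hl : ∀ (a : R) (m : M), l (a • m) = ρ a • l m) (a : R) :
    symMap ρ l hl (algebraMap R (SymmetricAlgebra R M) a) =
      algebraMap R' (SymmetricAlgebra R' M') (ρ a) :=
  liftRing_algebraMap _ _ _ a

theorem symMap_ι (ρ : R →+* R') (l : M →+ M')
    (hl : ∀ (a : R) (m : M), l (a • m) = ρ a • l m) (m : M) :
    symMap ρ l hl (SymmetricAlgebra.ι R M m) = SymmetricAlgebra.ι R' M' (l m) :=
  liftRing_ι _ _ _ m

theorem symMap_id :
    symMap (RingHom.id R) (AddMonoidHom.id M) (fun _ _ => rfl) =
      RingHom.id (SymmetricAlgebra R M) :=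
  ringHom_ext (fun a => symMap_algebraMap _ _ _ a) (fun m => symMap_ι _ _ _ m)

theorem symMap_comp (ρ : R →+* R') (l : M →+ M')
    (hl : ∀ (a : R) (m : M), l (a • m) = ρ a • l m)
    (ρ' : R' →+* R'') (l' : M' →+ M'')
    (hl' : ∀ (a : R') (m : M'), l' (a • m) = ρ' a • l' m) :
    (symMap ρ' l' hl').comp (symMap ρ l hl) =
      symMap (ρ'.comp ρ) (l'.comp l) (fun a m => by
        change l' (l (a • m)) = ρ' (ρ a) • l' (l m)
        rw [hl, hl']) := by
  refine ringHom_ext (fun a => ?_) (fun m => ?_)
  · rw [RingHom.comp_apply, symMap_algebraMap, symMap_algebraMap, symMap_algebraMap]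
    rfl
  · rw [RingHom.comp_apply, symMap_ι, symMap_ι, symMap_ι]
    rfl

/-- `symMap` with propositionally equal data. -/
theorem symMap_congr {ρ₁ ρ₂ : R →+* R'} {l₁ l₂ : M →+ M'} (hρ : ρ₁ = ρ₂) (hll : l₁ = l₂)
    (h₁ : ∀ (a : R) (m : M), l₁ (a • m) = ρ₁ a • l₁ m)
    (h₂ : ∀ (a : R) (m : M), l₂ (a • m) = ρ₂ a • l₂ m) :
    symMap ρ₁ l₁ h₁ = symMap ρ₂ l₂ h₂ := by
  subst hρ
  subst hll
  rfl

end map

section loc

variable {R R' : Type u} [CommRing R] [CommRing R'] [Algebra R R'] (r : R)
  [IsLocalization.Away r R']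
  {M M' : Type u} [AddCommGroup M] [Module R M] [AddCommGroup M'] [Module R' M'] [Module R M']
  [IsScalarTower R R' M'] (l : M →ₗ[R] M') [IsLocalizedModule (Submonoid.powers r) l]

/-- the ring homomorphism of symmetric algebras induced by a linear map to a module over an
algebra. -/
noncomputable def symMapLin : SymmetricAlgebra R M →+* SymmetricAlgebra R' M' :=
  symMap (algebraMap R R') l.toAddMonoidHom (fun a m => by
    change l (a • m) = algebraMap R R' a • l m
    rw [l.map_smul, algebraMap_smul])

theorem symMapLin_algebraMap (a : R) :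
    symMapLin l (algebraMap R (SymmetricAlgebra R M) a) =
      algebraMap R' (SymmetricAlgebra R' M') (algebraMap R R' a) :=
  symMap_algebraMap _ _ _ a

theorem symMapLin_ι (m : M) :
    symMapLin l (SymmetricAlgebra.ι R M m) = SymmetricAlgebra.ι R' M' (l m) :=
  symMap_ι _ _ _ m

/-- a ring homomorphism out of the symmetric algebra of `M` inverting `r` factors through the
symmetric algebra of the localization of `M` at `r`. -/
theorem exists_retraction {T : Type u} [CommRing T] (κ : SymmetricAlgebra R M →+* T)
    (hκr : IsUnit (κ (algebraMap R (SymmetricAlgebra R M) r))) :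
    ∃ Ψ : SymmetricAlgebra R' M' →+* T, ∀ x : SymmetricAlgebra R M, Ψ (symMapLin l x) = κ x := by
  have hκr' : IsUnit ((κ.comp (algebraMap R (SymmetricAlgebra R M))) r) := hκr
  let ρ' : R' →+* T := IsLocalization.Away.lift r hκr'
  have hρ' : ∀ a : R, ρ' (algebraMap R R' a) = κ (algebraMap R (SymmetricAlgebra R M) a) :=
    fun a => IsLocalization.Away.lift_eq r hκr' a
  letI algRT : Algebra R T := (κ.comp (algebraMap R (SymmetricAlgebra R M))).toAlgebra
  letI algR'T : Algebra R' T := ρ'.toAlgebra
  haveI : IsScalarTower R R' T := IsScalarTower.of_algebraMap_eq (fun a => (hρ' a).symm)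
  have hsmul : ∀ (a : R) (t : T), a • t = κ (algebraMap R (SymmetricAlgebra R M) a) * t :=
    fun a t => Algebra.smul_def a t
  let g : M →ₗ[R] T :=
    { toFun := fun m => κ (SymmetricAlgebra.ι R M m)
      map_add' := fun m₁ m₂ => by rw [map_add, map_add]
      map_smul' := fun a m => by
        rw [LinearMap.map_smul, Algebra.smul_def, map_mul, RingHom.id_apply, hsmul] }
  have hg : ∀ s : Submonoid.powers r, IsUnit (algebraMap R (Module.End R T) s) := by
    rintro ⟨_, n, rfl⟩
    have h1 : IsUnit (κ (algebraMap R (SymmetricAlgebra R M) (r ^ n))) := by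
      rw [map_pow, map_pow]
      exact hκr.pow n
    rw [Module.End.isUnit_iff]
    obtain ⟨w, hw⟩ := h1
    constructor
    · intro x y hxy
      simp only [Module.algebraMap_end_apply] at hxy
      rw [hsmul, hsmul, ← hw] at hxy
      exact w.isUnit.mul_left_cancel hxy
    · intro y
      refine ⟨(↑w⁻¹ : T) * y, ?_⟩
      simp only [Module.algebraMap_end_apply]
      rw [hsmul, ← hw, ← mul_assoc, Units.mul_inv, one_mul]
  let l' : M' →ₗ[R] T := IsLocalizedModule.lift (Submonoid.powers r) l g hg
  have hl' : ∀ m : M, l' (l m) = κ (SymmetricAlgebra.ι R M m) :=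
    fun m => IsLocalizedModule.lift_apply (Submonoid.powers r) l g hg m
  have hl'R' : ∀ (a : R') (y : M'), l'.toAddMonoidHom (a • y) = ρ' a * l'.toAddMonoidHom y := by
    intro a y
    have h1 := (IsLocalization.linearMap_compatibleSMul (Submonoid.powers r) R'
      (N₁ := M') (N₂ := T)).map_smul l' a y
    change l' (a • y) = ρ' a * l' y
    rw [h1, Algebra.smul_def]
    rfl
  refine ⟨liftRing ρ' l'.toAddMonoidHom hl'R', ?_⟩
  have h : (liftRing ρ' l'.toAddMonoidHom hl'R').comp (symMapLin (R' := R') l) = κ := by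
    refine ringHom_ext (fun a => ?_) (fun m => ?_)
    · rw [RingHom.comp_apply, symMapLin_algebraMap, liftRing_algebraMap, hρ']
    · rw [RingHom.comp_apply, symMapLin_ι, liftRing_ι]
      exact hl' m
  exact fun x => congrArg (fun f => f x) h

/-- the symmetric algebra of a localized module is the localization of the symmetric algebra. -/
theorem isLocalization_away_symMapLin :
    letI := (symMapLin (R' := R') l).toAlgebra
    IsLocalization.Away (algebraMap R (SymmetricAlgebra R M) r) (SymmetricAlgebra R' M') := by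
  letI algS : Algebra (SymmetricAlgebra R M) (SymmetricAlgebra R' M') :=
    (symMapLin (R' := R') l).toAlgebra
  have halg : ∀ x : SymmetricAlgebra R M,
      algebraMap (SymmetricAlgebra R M) (SymmetricAlgebra R' M') x = symMapLin l x := fun _ => rfl
  have hunit : IsUnit (algebraMap R R' r) := IsLocalization.Away.algebraMap_isUnit r
  have hφrb : ∀ n : ℕ, symMapLin (R' := R') l (algebraMap R (SymmetricAlgebra R M) r ^ n) =
      algebraMap R' (SymmetricAlgebra R' M') (algebraMap R R' r ^ n) := by
    intro n
    rw [map_pow, symMapLin_algebraMap, map_pow]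
  obtain ⟨Ψ, hΨφ⟩ := exists_retraction (R' := R') r l
    (algebraMap (SymmetricAlgebra R M)
      (Localization.Away (algebraMap R (SymmetricAlgebra R M) r)))
    (IsLocalization.Away.algebraMap_isUnit (algebraMap R (SymmetricAlgebra R M) r))
  rw [IsLocalization.Away, isLocalization_iff]
  refine ⟨?_, ?_, ?_⟩
  · rintro ⟨_, n, rfl⟩
    rw [halg, hφrb]
    exact (hunit.pow n).map _
  · intro z
    induction z using SymmetricAlgebra.induction with
    | algebraMap a' =>
      obtain ⟨⟨a, ⟨_, n, rfl⟩⟩, ha⟩ := IsLocalization.surj (Submonoid.powers r) a'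
      refine ⟨(algebraMap R (SymmetricAlgebra R M) a,
        ⟨algebraMap R (SymmetricAlgebra R M) r ^ n, n, rfl⟩), ?_⟩
      change algebraMap R' (SymmetricAlgebra R' M') a' *
        symMapLin l (algebraMap R (SymmetricAlgebra R M) r ^ n) =
        symMapLin l (algebraMap R (SymmetricAlgebra R M) a)
      rw [hφrb, symMapLin_algebraMap, ← map_mul, ← map_pow]
      exact congrArg _ ha
    | ι y =>
      obtain ⟨⟨m, ⟨_, n, rfl⟩⟩, hm⟩ := IsLocalizedModule.surj (Submonoid.powers r) l y
      refine ⟨(SymmetricAlgebra.ι R M m,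
        ⟨algebraMap R (SymmetricAlgebra R M) r ^ n, n, rfl⟩), ?_⟩
      change SymmetricAlgebra.ι R' M' y *
        symMapLin l (algebraMap R (SymmetricAlgebra R M) r ^ n) =
        symMapLin l (SymmetricAlgebra.ι R M m)
      rw [hφrb, symMapLin_ι, ← hm, mul_comm, ← Algebra.smul_def, ← LinearMap.map_smul]
      congr 1
      change algebraMap R R' r ^ n • y = (r ^ n) • y
      rw [← map_pow, algebraMap_smul]
    | mul z₁ z₂ h₁ h₂ =>
      obtain ⟨⟨x₁, s₁⟩, e₁⟩ := h₁
      obtain ⟨⟨x₂, s₂⟩, e₂⟩ := h₂
      refine ⟨(x₁ * x₂, s₁ * s₂), ?_⟩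
      change z₁ * z₂ * algebraMap _ _ ((s₁ : SymmetricAlgebra R M) * s₂) =
        algebraMap _ _ (x₁ * x₂)
      change z₁ * algebraMap _ _ (s₁ : SymmetricAlgebra R M) = algebraMap _ _ x₁ at e₁
      change z₂ * algebraMap _ _ (s₂ : SymmetricAlgebra R M) = algebraMap _ _ x₂ at e₂
      rw [map_mul, map_mul, ← e₁, ← e₂]
      ring
    | add z₁ z₂ h₁ h₂ =>
      obtain ⟨⟨x₁, s₁⟩, e₁⟩ := h₁
      obtain ⟨⟨x₂, s₂⟩, e₂⟩ := h₂
      refine ⟨(x₁ * s₂ + x₂ * s₁, s₁ * s₂), ?_⟩
      change (z₁ + z₂) * algebraMap _ _ ((s₁ : SymmetricAlgebra R M) * s₂) =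
        algebraMap _ _ (x₁ * s₂ + x₂ * s₁)
      change z₁ * algebraMap _ _ (s₁ : SymmetricAlgebra R M) = algebraMap _ _ x₁ at e₁
      change z₂ * algebraMap _ _ (s₂ : SymmetricAlgebra R M) = algebraMap _ _ x₂ at e₂
      rw [map_add, map_mul, map_mul, map_mul, ← e₁, ← e₂]
      ring
  · intro x y hxy
    rw [halg, halg] at hxy
    have h1 : algebraMap (SymmetricAlgebra R M)
        (Localization.Away (algebraMap R (SymmetricAlgebra R M) r)) x =
        algebraMap (SymmetricAlgebra R M)
        (Localization.Away (algebraMap R (SymmetricAlgebra R M) r)) y := by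
      rw [← hΨφ x, ← hΨφ y, hxy]
    exact (IsLocalization.eq_iff_exists
      (Submonoid.powers (algebraMap R (SymmetricAlgebra R M) r))
      (Localization.Away (algebraMap R (SymmetricAlgebra R M) r))).mp h1

end loc

end Groth.Agent.Lib.Helper42.SymLoc
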