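import Groth.Agent.Lib.Helper42.ProjDomAffine
import Mathlib.AlgebraicGeometry.Morphisms.IsIso

/-!
# `Proj` and ring homomorphisms multiplying degrees by `d` (helper42)

For graded rings `ℬ` on `B`, `𝒜` on `A` and a ring homomorphism `φ : B → A` with
`φ (ℬ n) ⊆ 𝒜 (n * d)`, `d > 0` (for instance the inclusion of the Veronese subring `A^(d)`):

* `theta φ hmem hg : ℬ_(g) → 𝒜_(φ g)`, `b / g^k ↦ φ b / φ g ^ k`;
* the induced morphism `Proj 𝒜 ⊇ G(φ) ⟶ Proj ℬ` when the `D₊(φ g)` cover (`existsUnique_map`);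
* it is an isomorphism when the `theta` are bijective (`isIso_of_bijective`), in particular for
  the Veronese subring.
-/

set_option autoImplicit false

universe u

namespace Groth.Agent.Lib.Helper42.Veronese

open CategoryTheory CategoryTheory.Limits AlgebraicGeometry TopologicalSpace Opposite
open HomogeneousLocalization

/-- a ring homomorphism whose image lies in the range of an injective one factors through it. -/
theorem exists_ringHom_of_range_le {S S' T : Type*} [CommRing S] [CommRing S'] [CommRing T]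
    (ι : S →+* T) (hι : Function.Injective ι) (h : S' →+* T) (hh : ∀ x, h x ∈ ι.range) :
    ∃ θ : S' →+* S, ∀ x, ι (θ x) = h x := by
  have hbij : Function.Bijective ι.rangeRestrict :=
    ⟨fun a b hab => hι (congrArg Subtype.val hab), ι.rangeRestrict_surjective⟩
  let e := RingEquiv.ofBijective ι.rangeRestrict hbij
  refine ⟨e.symm.toRingHom.comp (h.codRestrict ι.range hh), fun x => ?_⟩
  have h1 := e.apply_symm_apply ⟨h x, hh x⟩
  exact congrArg Subtype.val h1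

variable {A B σ τ : Type u} [CommRing A] [SetLike σ A] [AddSubgroupClass σ A]
  {𝒜 : ℕ → σ} [GradedRing 𝒜]
  [CommRing B] [SetLike τ B] [AddSubgroupClass τ B] {ℬ : ℕ → τ} [GradedRing ℬ]
  {d : ℕ} (φ : B →+* A) (hmem : ∀ (n : ℕ) (b : B), b ∈ ℬ n → φ b ∈ 𝒜 (n * d))

include hmem in
theorem map_mem_smul {n k : ℕ} {b : B} (hb : b ∈ ℬ (k • n)) : φ b ∈ 𝒜 (k • (n * d)) := by
  have h := hmem _ b hb
  rwa [smul_eq_mul, mul_assoc] at h

omit [AddSubgroupClass σ A] [GradedRing 𝒜] [AddSubgroupClass τ B] [GradedRing ℬ] in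
theorem awayMap_mk (g b : B) (k : ℕ) :
    Localization.awayMap φ g (Localization.mk b ⟨g ^ k, (Submonoid.mem_powers_iff _ _).mpr ⟨k, rfl⟩⟩) =
      Localization.mk (φ b) ⟨φ g ^ k, (Submonoid.mem_powers_iff _ _).mpr ⟨k, rfl⟩⟩ := by
  rw [Localization.mk_eq_mk'_apply, Localization.mk_eq_mk'_apply]
  unfold Localization.awayMap IsLocalization.Away.map
  rw [IsLocalization.map_mk']
  congr 1
  exact Subtype.ext (map_pow φ g k)

include hmem in
theorem awayMap_val_mem {n : ℕ} {g : B} (hg : g ∈ ℬ n) (x : Away ℬ g) :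
    Localization.awayMap φ g x.val ∈
      (algebraMap (Away 𝒜 (φ g)) (Localization.Away (φ g))).range := by
  obtain ⟨k, b, hb, rfl⟩ := Away.mk_surjective ℬ hg x
  refine ⟨Away.mk 𝒜 (hmem n g hg) k (φ b) (map_mem_smul φ hmem hb), ?_⟩
  rw [HomogeneousLocalization.algebraMap_apply, Away.val_mk, Away.val_mk, awayMap_mk]

/-- the homomorphism `ℬ_(g) → 𝒜_(φ g)`, `b / g^k ↦ φ b / φ g ^ k`. -/
noncomputable def theta {n : ℕ} {g : B} (hg : g ∈ ℬ n) : Away ℬ g →+* Away 𝒜 (φ g) :=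
  Classical.choose (exists_ringHom_of_range_le
    (algebraMap (Away 𝒜 (φ g)) (Localization.Away (φ g)))
    (fun a b hab => val_injective _ hab)
    ((Localization.awayMap φ g).comp (algebraMap (Away ℬ g) (Localization.Away g)))
    (fun x => awayMap_val_mem φ hmem hg x))

theorem val_theta {n : ℕ} {g : B} (hg : g ∈ ℬ n) (x : Away ℬ g) :
    (theta φ hmem hg x).val = Localization.awayMap φ g x.val :=
  Classical.choose_spec (exists_ringHom_of_range_le
    (algebraMap (Away 𝒜 (φ g)) (Localization.Away (φ g)))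
    (fun a b hab => val_injective _ hab)
    ((Localization.awayMap φ g).comp (algebraMap (Away ℬ g) (Localization.Away g)))
    (fun x => awayMap_val_mem φ hmem hg x)) x

theorem theta_mk {n : ℕ} {g : B} (hg : g ∈ ℬ n) (k : ℕ) (b : B) (hb : b ∈ ℬ (k • n)) :
    theta φ hmem hg (Away.mk ℬ hg k b hb) =
      Away.mk 𝒜 (hmem n g hg) k (φ b) (map_mem_smul φ hmem hb) := by
  apply val_injective
  rw [val_theta, Away.val_mk, Away.val_mk, awayMap_mk]

/-- `theta` is determined by its compatibility with the localization of `φ`. -/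
theorem eq_theta {n : ℕ} {g : B} (hg : g ∈ ℬ n) (θ : Away ℬ g →+* Away 𝒜 (φ g))
    (hθ : (algebraMap (Away 𝒜 (φ g)) (Localization.Away (φ g))).comp θ =
      (Localization.awayMap φ g).comp (algebraMap (Away ℬ g) (Localization.Away g))) :
    θ = theta φ hmem hg := by
  ext x
  rw [val_theta]
  exact congrArg (fun f => f x) hθ

/-- `theta` commutes with the localization maps `a / g^i ↦ a g'^i / (g g')^i`. -/
theorem awayMap_comp_theta {n n' : ℕ} {g g' x : B} (hg : g ∈ ℬ n) (hg' : g' ∈ ℬ n')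
    (hx : x = g * g') (hx' : φ x = φ g * φ g') (hxm : x ∈ ℬ (n + n')) :
    (awayMap 𝒜 (hmem n' g' hg') hx').comp (theta φ hmem hg) =
      (theta φ hmem hxm).comp (awayMap ℬ hg' hx) := by
  ext a
  obtain ⟨k, a, ha, rfl⟩ := a.mk_surjective _ hg
  simp only [RingHom.coe_comp, Function.comp_apply]
  rw [theta_mk, HomogeneousLocalization.awayMap_mk, HomogeneousLocalization.awayMap_mk]
  rw [val_theta, Away.val_mk, Away.val_mk, awayMap_mk]
  congr 1
  · rw [map_mul, map_pow]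

/-- `theta` does not depend on the degree witnessing homogeneity. -/
theorem theta_congr {n m : ℕ} {g : B} (hg : g ∈ ℬ n) (hg' : g ∈ ℬ m) :
    theta φ hmem hg = theta φ hmem hg' := rfl

/-- the chart morphisms `Spec 𝒜_(φ g) ⟶ Proj ℬ` are compatible with passing from `g` to `g g'`. -/
lemma chart_refine {n n' m : ℕ} {g g' x : B} (hg : g ∈ ℬ n) (hn : 0 < n) (hg' : g' ∈ ℬ n')
    (hx : x = g * g') (hx' : φ x = φ g * φ g') (hxm : x ∈ ℬ m) (hm : 0 < m) :
    Spec.map (CommRingCat.ofHom (awayMap 𝒜 (hmem n' g' hg') hx')) ≫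
      Spec.map (CommRingCat.ofHom (theta φ hmem hg)) ≫ Proj.awayι ℬ g hg hn =
    Spec.map (CommRingCat.ofHom (theta φ hmem hxm)) ≫ Proj.awayι ℬ x hxm hm := by
  have hxm' : x ∈ ℬ (n + n') := hx ▸ SetLike.mul_mem_graded hg hg'
  rw [← Category.assoc, ← Spec.map_comp, ← CommRingCat.ofHom_comp,
    awayMap_comp_theta φ hmem hg hg' hx hx' hxm', CommRingCat.ofHom_comp, Spec.map_comp,
    Category.assoc, Proj.SpecMap_awayMap_awayι ℬ hg hn hg' hx]
  rfl

open Groth.Agent.Lib.Helper42.ProjDom in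
/-- existence and uniqueness of the morphism `Proj 𝒜 ⟶ Proj ℬ` induced by `φ`, when the
`D₊(φ g)`, `g` homogeneous of positive degree, cover `Proj 𝒜`. -/
theorem existsUnique_map (hd : 0 < d)
    (hcov : ∀ x : Proj 𝒜, ∃ (n : ℕ) (g : B) (_ : g ∈ ℬ n) (_ : 0 < n),
      x ∈ Proj.basicOpen 𝒜 (φ g)) :
    ∃! e : Proj 𝒜 ⟶ Proj ℬ, ∀ (n : ℕ) (g : B) (hn : 0 < n) (hg : g ∈ ℬ n),
      Proj.awayι 𝒜 (φ g) (hmem n g hg) (Nat.mul_pos hn hd) ≫ e =
        Spec.map (CommRingCat.ofHom (theta φ hmem hg)) ≫ Proj.awayι ℬ g hg hn := by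
  have key := LocalGlue.existsUnique_glue (T := Proj 𝒜) (Z := Proj ℬ) (J := Idx ℬ)
    (fun j => Spec (CommRingCat.of (Away 𝒜 (φ j.f))))
    (fun j => Proj.awayι 𝒜 (φ j.f) (hmem j.d j.f j.hf) (Nat.mul_pos j.hd hd))
    (fun t => by
      obtain ⟨n, g, hg, hn, hx⟩ := hcov t
      refine ⟨⟨n, g, hn, hg⟩, ?_⟩
      rw [← Proj.opensRange_awayι 𝒜 (φ g) (hmem n g hg) (Nat.mul_pos hn hd)] at hx
      exact hx)
    (fun j => Spec.map (CommRingCat.ofHom (theta φ hmem j.hf)) ≫ Proj.awayι ℬ j.f j.hf j.hd)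
    (by
      rintro ⟨d₁, f₁, hd₁, hf₁⟩ ⟨d₂, f₂, hd₂, hf₂⟩ t ht₁ ht₂
      have hx₁ : φ (f₁ * f₂) = φ f₁ * φ f₂ := map_mul φ f₁ f₂
      have hx₂ : φ (f₁ * f₂) = φ f₂ * φ f₁ := (map_mul φ f₁ f₂).trans (mul_comm _ _)
      refine ⟨⟨d₁ + d₂, f₁ * f₂, Nat.add_pos_left hd₁ d₂, SetLike.mul_mem_graded hf₁ hf₂⟩,
        Spec.map (CommRingCat.ofHom (awayMap 𝒜 (hmem d₂ f₂ hf₂) hx₁)),
        Spec.map (CommRingCat.ofHom (awayMap 𝒜 (hmem d₁ f₁ hf₁) hx₂)), ?_, ?_, ?_, ?_⟩
      · have h1 : t ∈ Proj.basicOpen 𝒜 (φ f₁) := by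
          rw [← Proj.opensRange_awayι 𝒜 (φ f₁) (hmem d₁ f₁ hf₁) (Nat.mul_pos hd₁ hd)]; exact ht₁
        have h2 : t ∈ Proj.basicOpen 𝒜 (φ f₂) := by
          rw [← Proj.opensRange_awayι 𝒜 (φ f₂) (hmem d₂ f₂ hf₂) (Nat.mul_pos hd₂ hd)]; exact ht₂
        have h3 : t ∈ Proj.basicOpen 𝒜 (φ (f₁ * f₂)) := by
          rw [hx₁, Proj.basicOpen_mul]; exact ⟨h1, h2⟩
        rw [← Proj.opensRange_awayι 𝒜 (φ (f₁ * f₂))
          (hmem _ _ (SetLike.mul_mem_graded hf₁ hf₂)) (Nat.mul_pos (Nat.add_pos_left hd₁ d₂) hd)]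
          at h3
        exact h3
      · exact Proj.SpecMap_awayMap_awayι 𝒜 (hmem d₁ f₁ hf₁) (Nat.mul_pos hd₁ hd)
          (hmem d₂ f₂ hf₂) hx₁
      · exact Proj.SpecMap_awayMap_awayι 𝒜 (hmem d₂ f₂ hf₂) (Nat.mul_pos hd₂ hd)
          (hmem d₁ f₁ hf₁) hx₂
      · rw [chart_refine φ hmem hf₁ hd₁ hf₂ rfl hx₁ (SetLike.mul_mem_graded hf₁ hf₂)
            (Nat.add_pos_left hd₁ d₂),
          chart_refine φ hmem hf₂ hd₂ hf₁ (mul_comm f₁ f₂) hx₂ (SetLike.mul_mem_graded hf₁ hf₂)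
            (Nat.add_pos_left hd₁ d₂)])
  obtain ⟨e, he, huniq⟩ := key
  exact ⟨e, fun n g hn hg => he ⟨n, g, hn, hg⟩,
    fun e' he' => huniq e' (fun j => he' j.d j.f j.hd j.hf)⟩

/-- `theta` sends the localization element `f^m/g^n` to a `d`-th root of the corresponding
element. -/
lemma theta_isLocalizationElem {m n : ℕ} {g f : B} (hg : g ∈ ℬ m) (hf : f ∈ ℬ n) :
    Away.isLocalizationElem (hmem m g hg) (hmem n f hf) =
      (theta φ hmem hg (Away.isLocalizationElem hg hf)) ^ d := by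
  unfold Away.isLocalizationElem
  rw [theta_mk]
  apply val_injective
  rw [val_pow, Away.val_mk, Away.val_mk, Localization.mk_pow]
  congr 1
  · rw [map_pow, ← pow_mul]
  · exact Subtype.ext (by
      show φ g ^ (n * d) = (φ g ^ n) ^ d
      rw [← pow_mul])

/-- the preimage of `D₊(f)` under the morphism induced by `φ` is `D₊(φ f)`. -/
theorem preimage_basicOpen (hd : 0 < d)
    (hcov : ∀ x : Proj 𝒜, ∃ (n : ℕ) (g : B) (_ : g ∈ ℬ n) (_ : 0 < n),
      x ∈ Proj.basicOpen 𝒜 (φ g))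
    (e : Proj 𝒜 ⟶ Proj ℬ)
    (he : ∀ (n : ℕ) (g : B) (hn : 0 < n) (hg : g ∈ ℬ n),
      Proj.awayι 𝒜 (φ g) (hmem n g hg) (Nat.mul_pos hn hd) ≫ e =
        Spec.map (CommRingCat.ofHom (theta φ hmem hg)) ≫ Proj.awayι ℬ g hg hn)
    {n : ℕ} {f : B} (hf : f ∈ ℬ n) (hn : 0 < n) :
    e ⁻¹ᵁ Proj.basicOpen ℬ f = Proj.basicOpen 𝒜 (φ f) := by
  ext t
  constructor
  · intro ht
    obtain ⟨m, g, hg, hm, htg⟩ := hcov t
    rw [← Proj.opensRange_awayι 𝒜 (φ g) (hmem m g hg) (Nat.mul_pos hm hd)] at htg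
    obtain ⟨z, rfl⟩ := htg
    have h1 : e ((Proj.awayι 𝒜 (φ g) (hmem m g hg) (Nat.mul_pos hm hd)) z) =
        (Proj.awayι ℬ g hg hm) ((Spec.map (CommRingCat.ofHom (theta φ hmem hg))) z) := by
      rw [← Scheme.Hom.comp_apply, he m g hm hg, Scheme.Hom.comp_apply]
    have ht' : (Spec.map (CommRingCat.ofHom (theta φ hmem hg))) z ∈
        Proj.awayι ℬ g hg hm ⁻¹ᵁ Proj.basicOpen ℬ f := by
      change (Proj.awayι ℬ g hg hm) ((Spec.map (CommRingCat.ofHom (theta φ hmem hg))) z) ∈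
        Proj.basicOpen ℬ f
      rw [← h1]; exact ht
    rw [Proj.awayι_preimage_basicOpen ℬ hg hm hf hn] at ht'
    have ht'' : z ∈ PrimeSpectrum.basicOpen
        (theta φ hmem hg (Away.isLocalizationElem hg hf)) := ht'
    rw [← PrimeSpectrum.basicOpen_pow _ d hd, ← theta_isLocalizationElem φ hmem hg hf,
      ← Proj.awayι_preimage_basicOpen 𝒜 (hmem m g hg) (Nat.mul_pos hm hd) (hmem n f hf)
        (Nat.mul_pos hn hd)] at ht''
    exact ht''
  · intro ht
    rw [← Proj.opensRange_awayι 𝒜 (φ f) (hmem n f hf) (Nat.mul_pos hn hd)] at ht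
    obtain ⟨z, rfl⟩ := ht
    have h1 : e ((Proj.awayι 𝒜 (φ f) (hmem n f hf) (Nat.mul_pos hn hd)) z) =
        (Proj.awayι ℬ f hf hn) ((Spec.map (CommRingCat.ofHom (theta φ hmem hf))) z) := by
      rw [← Scheme.Hom.comp_apply, he n f hn hf, Scheme.Hom.comp_apply]
    change e _ ∈ Proj.basicOpen ℬ f
    rw [h1]
    exact (Proj.opensRange_awayι ℬ f hf hn).le ⟨_, rfl⟩

set_option backward.isDefEq.respectTransparency.types false in
/-- the morphism induced by `φ` is an isomorphism when all the `theta` are bijective. -/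
theorem isIso_of_bijective (hd : 0 < d)
    (hcov : ∀ x : Proj 𝒜, ∃ (n : ℕ) (g : B) (_ : g ∈ ℬ n) (_ : 0 < n),
      x ∈ Proj.basicOpen 𝒜 (φ g))
    (e : Proj 𝒜 ⟶ Proj ℬ)
    (he : ∀ (n : ℕ) (g : B) (hn : 0 < n) (hg : g ∈ ℬ n),
      Proj.awayι 𝒜 (φ g) (hmem n g hg) (Nat.mul_pos hn hd) ≫ e =
        Spec.map (CommRingCat.ofHom (theta φ hmem hg)) ≫ Proj.awayι ℬ g hg hn)
    (hbij : ∀ (n : ℕ) (g : B) (_ : 0 < n) (hg : g ∈ ℬ n),
      Function.Bijective (theta φ hmem hg)) : IsIso e := by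
  rw [← MorphismProperty.isomorphisms.iff,
    IsZariskiLocalAtTarget.iff_of_openCover (P := MorphismProperty.isomorphisms Scheme)
    (Proj.affineOpenCover ℬ).openCover]
  intro i
  have hpb := IsOpenImmersion.isPullback
    (Spec.map (CommRingCat.ofHom (theta φ hmem i.2.2)))
    (Proj.awayι 𝒜 (φ (i.2 : B)) (hmem _ _ i.2.2) (Nat.mul_pos i.1.2 hd))
    (Proj.awayι ℬ (i.2 : B) i.2.2 i.1.2) e
    (he i.1 (i.2 : B) i.1.2 i.2.2)
    (by
      rw [Proj.opensRange_awayι, preimage_basicOpen φ hmem hd hcov e he i.2.2 i.1.2,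
        Proj.opensRange_awayι])
  have hci : IsIso (Spec.map (CommRingCat.ofHom (theta φ hmem i.2.2))) := by
    rw [isIso_SpecMap_iff]
    exact hbij i.1 (i.2 : B) i.1.2 i.2.2
  change MorphismProperty.isomorphisms Scheme (pullback.snd e
    (Proj.awayι ℬ (i.2 : B) i.2.2 i.1.2))
  have h2 : hpb.flip.isoPullback.hom ≫ pullback.snd e
      (Proj.awayι ℬ (i.2 : B) i.2.2 i.1.2) =
      Spec.map (CommRingCat.ofHom (theta φ hmem i.2.2)) :=
    hpb.flip.isoPullback_hom_snd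
  rw [MorphismProperty.isomorphisms.iff]
  have h3 : pullback.snd e (Proj.awayι ℬ (i.2 : B) i.2.2 i.1.2) =
      hpb.flip.isoPullback.inv ≫ Spec.map (CommRingCat.ofHom (theta φ hmem i.2.2)) := by
    exact (Iso.eq_inv_comp _).2 h2
  rw [h3]
  infer_instance

section veronese

variable (hφ : Function.Injective φ)
  (hsurj : ∀ (n : ℕ) (a : A), a ∈ 𝒜 (n * d) → ∃ b ∈ ℬ n, φ b = a)

include hφ hsurj in
/-- for the Veronese subring the maps `theta` are bijective. -/
theorem theta_bijective {n : ℕ} {g : B} (hg : g ∈ ℬ n) :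
    Function.Bijective (theta φ hmem hg) := by
  constructor
  · rw [injective_iff_map_eq_zero]
    intro x hx
    obtain ⟨k, b, hb, rfl⟩ := Away.mk_surjective ℬ hg x
    rw [theta_mk] at hx
    have h1 := congrArg val hx
    rw [Away.val_mk, val_zero, Localization.mk_eq_mk'_apply, IsLocalization.mk'_eq_zero_iff] at h1
    obtain ⟨⟨c, N, rfl⟩, hc⟩ := h1
    have h2 : φ (g ^ N * b) = 0 := by
      rw [map_mul, map_pow]; exact hc
    have h3 : g ^ N * b = 0 := hφ (h2.trans (map_zero φ).symm)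
    apply val_injective
    rw [Away.val_mk, val_zero, Localization.mk_eq_mk'_apply, IsLocalization.mk'_eq_zero_iff]
    exact ⟨⟨g ^ N, N, rfl⟩, h3⟩
  · intro y
    obtain ⟨k, a, ha, rfl⟩ := Away.mk_surjective 𝒜 (hmem n g hg) y
    have ha' : a ∈ 𝒜 ((k * n) * d) := by
      rwa [smul_eq_mul, ← mul_assoc] at ha
    obtain ⟨b, hb, rfl⟩ := hsurj _ a ha'
    have hb' : b ∈ ℬ (k • n) := by rwa [smul_eq_mul]
    exact ⟨Away.mk ℬ hg k b hb', theta_mk φ hmem hg k b hb'⟩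

include hsurj in
/-- for the Veronese subring the `D₊(φ g)` cover `Proj 𝒜`. -/
theorem cover (hd : 0 < d) (x : Proj 𝒜) :
    ∃ (n : ℕ) (g : B) (_ : g ∈ ℬ n) (_ : 0 < n), x ∈ Proj.basicOpen 𝒜 (φ g) := by
  obtain ⟨m, hm, f, hf, hx⟩ := ProjDom.exists_mem_basicOpen (𝒜 := 𝒜) x
  have hfd : f ^ d ∈ 𝒜 (m * d) := by
    have h := SetLike.pow_mem_graded d hf
    rwa [smul_eq_mul, mul_comm] at h
  obtain ⟨g, hg, hgf⟩ := hsurj m _ hfd
  refine ⟨m, g, hg, hm, ?_⟩
  rw [hgf, Proj.basicOpen_pow _ _ _ hd]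
  exact hx

end veronese

section points

include hmem in
/-- `φ` commutes with taking homogeneous components. -/
theorem decompose_map (hd : 0 < d) (b : B) (j : ℕ) :
    ((DirectSum.decompose 𝒜 (φ b) (j * d) : 𝒜 (j * d)) : A) =
      φ ((DirectSum.decompose ℬ b j : ℬ j) : B) := by
  classical
  conv_lhs => rw [← DirectSum.sum_support_decompose ℬ b, map_sum, DirectSum.decompose_sum,
    DFinsupp.finsetSum_apply, AddSubmonoidClass.coe_finsetSum]
  rw [Finset.sum_eq_single j]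
  · rw [DirectSum.decompose_of_mem_same 𝒜 (hmem j _ (SetLike.coe_mem _))]
  · intro i _ hij
    rw [DirectSum.decompose_of_mem_ne 𝒜 (hmem i _ (SetLike.coe_mem _))]
    intro h
    exact hij (Nat.eq_of_mul_eq_mul_right hd h)
  · intro hj
    rw [DFinsupp.notMem_support_iff.mp hj, ZeroMemClass.coe_zero, map_zero,
      DirectSum.decompose_zero, DirectSum.zero_apply, ZeroMemClass.coe_zero]

/-- on points, the morphism induced by `φ` is `p ↦ φ⁻¹ p`. -/
theorem asIdeal_map (hd : 0 < d)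
    (hcov : ∀ x : Proj 𝒜, ∃ (n : ℕ) (g : B) (_ : g ∈ ℬ n) (_ : 0 < n),
      x ∈ Proj.basicOpen 𝒜 (φ g))
    (e : Proj 𝒜 ⟶ Proj ℬ)
    (he : ∀ (n : ℕ) (g : B) (hn : 0 < n) (hg : g ∈ ℬ n),
      Proj.awayι 𝒜 (φ g) (hmem n g hg) (Nat.mul_pos hn hd) ≫ e =
        Spec.map (CommRingCat.ofHom (theta φ hmem hg)) ≫ Proj.awayι ℬ g hg hn)
    (p : Proj 𝒜) :
    (e.base p).asHomogeneousIdeal.toIdeal = Ideal.comap φ p.asHomogeneousIdeal.toIdeal := by
  classical
  -- homogeneous elements of positive degree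
  have hpos : ∀ (j : ℕ) (b : B), 0 < j → b ∈ ℬ j →
      (b ∈ (e.base p).asHomogeneousIdeal ↔ φ b ∈ p.asHomogeneousIdeal) := by
    intro j b hj hb
    have h1 := preimage_basicOpen φ hmem hd hcov e he hb hj
    have h2 : p ∈ e ⁻¹ᵁ Proj.basicOpen ℬ b ↔ p ∈ Proj.basicOpen 𝒜 (φ b) := by rw [h1]
    have h3 : e.base p ∈ Proj.basicOpen ℬ b ↔ p ∈ Proj.basicOpen 𝒜 (φ b) := h2
    rw [Proj.mem_basicOpen, Proj.mem_basicOpen] at h3
    exact not_iff_not.mp h3
  -- all homogeneous elements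
  have hhom : ∀ (j : ℕ) (b : B), b ∈ ℬ j →
      (b ∈ (e.base p).asHomogeneousIdeal ↔ φ b ∈ p.asHomogeneousIdeal) := by
    intro j b hb
    rcases Nat.eq_zero_or_pos j with rfl | hj
    · obtain ⟨n, g, hg, hn, hpg⟩ := hcov p
      have hg1 : φ g ∉ p.asHomogeneousIdeal := (Proj.mem_basicOpen 𝒜 (φ g) p).mp hpg
      have hg2 : g ∉ (e.base p).asHomogeneousIdeal := fun h => hg1 ((hpos n g hn hg).mp h)
      have hbg : b * g ∈ ℬ n := by
        have h := SetLike.mul_mem_graded hb hg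
        rwa [zero_add] at h
      have h4 := hpos n (b * g) hn hbg
      rw [map_mul] at h4
      constructor
      · intro h
        have h5 : φ b * φ g ∈ p.asHomogeneousIdeal :=
          h4.mp (Ideal.mul_mem_right g (e.base p).asHomogeneousIdeal.toIdeal h)
        exact (p.isPrime.mem_or_mem h5).resolve_right hg1
      · intro h
        have h5 : b * g ∈ (e.base p).asHomogeneousIdeal :=
          h4.mpr (Ideal.mul_mem_right (φ g) p.asHomogeneousIdeal.toIdeal h)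
        exact ((e.base p).isPrime.mem_or_mem h5).resolve_right hg2
    · exact hpos j b hj hb
  ext b
  rw [Ideal.mem_comap]
  constructor
  · intro hb
    rw [← DirectSum.sum_support_decompose ℬ b, map_sum]
    refine Ideal.sum_mem _ (fun j _ => ?_)
    refine (hhom j _ (SetLike.coe_mem _)).mp ?_
    exact (e.base p).asHomogeneousIdeal.isHomogeneous j hb
  · intro hb
    rw [← DirectSum.sum_support_decompose ℬ b]
    refine Ideal.sum_mem _ (fun j _ => ?_)
    refine (hhom j _ (SetLike.coe_mem _)).mpr ?_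
    have h6 := p.asHomogeneousIdeal.isHomogeneous (j * d) hb
    rw [decompose_map φ hmem hd b j] at h6
    exact h6

end points

end Groth.Agent.Lib.Helper42.Veronese
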